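import Groth.Agent.Lib.Helper29.DepthCM2
import Groth.Agent.Lib.Helper85.RegularLocal

/-!
helper28: regular local rings are Cohen–Macaulay (a maximal regular sequence), and the
consequence `Ext^i(M, A) = 0` for `i < codim Supp M` over a Cohen–Macaulay local ring.
-/

set_option autoImplicit false
universe u

namespace Groth.Agent.Lib.Helper28

open IsLocalRing RingTheory.Sequence Groth.Agent.Lib.Helper29 Groth.Agent.Lib.Helper85
open scoped Pointwise

/-- `R ⧸ x • ⊤` (as a module) is `R ⧸ (x)`. -/
noncomputable def quotSMulTopSelfEquiv {R : Type u} [CommRing R] (x : R) :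
    QuotSMulTop x R ≃ₗ[R] (R ⧸ Ideal.span ({x} : Set R)) :=
  Submodule.quotEquivOfEq _ _ (by
    ext y
    rw [Submodule.mem_smul_pointwise_iff_exists, Ideal.mem_span_singleton']
    constructor
    · rintro ⟨z, -, rfl⟩; exact ⟨z, by rw [smul_eq_mul, mul_comm]⟩
    · rintro ⟨z, rfl⟩; exact ⟨z, trivial, by rw [smul_eq_mul, mul_comm]⟩)

/-- A regular local ring of embedding dimension `d` has a (weakly) regular sequence of length `d`
inside its maximal ideal. -/
theorem exists_isWeaklyRegular_of_spanFinrank_eq : ∀ (d : ℕ) (R : Type u) [CommRing R]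
    [IsRegularLocalRing R], (maximalIdeal R).spanFinrank = d →
    ∃ rs : List R, rs.length = d ∧ (∀ r ∈ rs, r ∈ maximalIdeal R) ∧ IsWeaklyRegular R rs := by
  intro d
  induction d with
  | zero =>
    intro R _ _ _
    exact ⟨[], rfl, by simp, IsWeaklyRegular.nil R R⟩
  | succ d ih =>
    intro R _ _ hd
    obtain ⟨x, hxm, hx2, -⟩ := exists_mem_notMem_sq_notMem_minimalPrimes (R := R) (by omega)
    have hdom := isDomain_of_isRegularLocalRing R
    have hx0 : x ≠ 0 := by rintro rfl; exact hx2 (zero_mem _)
    have hxreg : IsSMulRegular R x := by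
      intro a b hab
      exact mul_left_cancel₀ hx0 hab
    obtain ⟨hreg', hd'⟩ := isRegularLocalRing_quotient_span_singleton x hxm hx2
    obtain ⟨rs', hlen, hmem, hwr⟩ := ih (R ⧸ Ideal.span ({x} : Set R)) (by omega)
    obtain ⟨rs, rfl⟩ : ∃ rs : List R, rs.map (Ideal.Quotient.mk (Ideal.span ({x} : Set R))) = rs' :=
      List.map_surjective_iff.mpr Ideal.Quotient.mk_surjective rs'
    refine ⟨x :: rs, by simpa using hlen, ?_, ?_⟩
    · intro r hr
      rcases List.mem_cons.mp hr with rfl | hr
      · exact hxm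
      · have h1 := hmem _ (List.mem_map_of_mem (f := Ideal.Quotient.mk (Ideal.span ({x} : Set R))) hr)
        rw [mem_maximalIdeal, mem_nonunits_iff] at h1 ⊢
        exact fun hu => h1 (hu.map _)
    · rw [isWeaklyRegular_cons_iff]
      refine ⟨hxreg, ?_⟩
      have h1 : IsWeaklyRegular (R ⧸ Ideal.span ({x} : Set R)) rs :=
        (isWeaklyRegular_map_algebraMap_iff (R := R) (S := R ⧸ Ideal.span ({x} : Set R))
          (M := R ⧸ Ideal.span ({x} : Set R)) rs).mp hwr
      exact ((quotSMulTopSelfEquiv x).isWeaklyRegular_congr rs).mpr h1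

/-- A regular local ring is Cohen–Macaulay as a module over itself. -/
theorem isCohenMacaulayModule_self_of_isRegularLocalRing (R : Type u) [CommRing R]
    [IsRegularLocalRing R] : LocCoh.IsCohenMacaulayModule R R := by
  unfold LocCoh.IsCohenMacaulayModule
  obtain ⟨rs, hlen, hmem, hreg⟩ := exists_isWeaklyRegular_of_spanFinrank_eq _ R rfl
  have h1 : ((maximalIdeal R).spanFinrank : ℕ∞) ≤ LocCoh.depth R R := by
    rw [← hlen]
    exact length_le_idealDepth _ R rs hreg hmem
  have h2 := depth_le_supportDim R R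
  rw [Module.supportDim_self_eq_ringKrullDim] at h2 ⊢
  refine le_antisymm ?_ h2
  rw [← IsRegularLocalRing.spanFinrank_maximalIdeal]
  exact_mod_cast h1

/-- A regular local ring is a Cohen–Macaulay local ring. -/
theorem isCohenMacaulayLocalRing_of_isRegularLocalRing (R : Type u) [CommRing R]
    [IsRegularLocalRing R] : LocCoh.IsCohenMacaulayLocalRing R where
  supportDim_eq_depth := isCohenMacaulayModule_self_of_isRegularLocalRing R

section ExtVanishing

open CategoryTheory Abelian

variable (A : Type u) [CommRing A]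

theorem ext_subsingleton_of_isZero_left {X : ModuleCat.{u} A} (hX : Limits.IsZero X)
    (Y : ModuleCat.{u} A) (n : ℕ) : Subsingleton (Ext X Y n) := by
  have key : ∀ c : Ext X Y n, c = 0 := fun c => by
    have h := Ext.mk₀_id_comp c
    rw [← h, hX.eq_of_src (𝟙 X) 0, Ext.mk₀_zero, Ext.zero_comp]
  exact ⟨fun a b => by rw [key a, key b]⟩

/-- Over a Cohen–Macaulay local ring `A`, `Ext^i(M, A) = 0` for `i < dim A - dim Supp M`
(`M` finite). -/
theorem ext_self_subsingleton_of_supportDim_add_le [IsLocalRing A] [IsNoetherianRing A]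
    (hA : LocCoh.IsCohenMacaulayModule A A) (p : ℕ) (M : Type u) [AddCommGroup M] [Module A M]
    [hfin : Module.Finite A M] (hdim : Module.supportDim A M + p ≤ ringKrullDim A)
    (i : ℕ) (hi : i < p) :
    Subsingleton (Ext (ModuleCat.of A M) (ModuleCat.of A A) i) := by
  refine IsNoetherianRing.induction_on_isQuotientEquivQuotientPrime A hfin
    (motive := fun N _ _ _ => Module.supportDim A N + p ≤ ringKrullDim A →
      ∀ i < p, Subsingleton (Ext (ModuleCat.of A N) (ModuleCat.of A A) i)) ?_ ?_ ?_ hdim i hi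
  · intro N _ _ _ _ _ i _
    exact ext_subsingleton_of_isZero_left A (ModuleCat.isZero_of_subsingleton _) _ i
  · intro N _ _ _ q e hd i hi
    have hsd : Module.supportDim A N = ringKrullDim (A ⧸ q.asIdeal) := by
      rw [Module.supportDim_eq_of_equiv e, Module.supportDim_quotient_eq_ringKrullDim]
    rw [hsd] at hd
    obtain ⟨a, ha⟩ := exists_nat_ringKrullDim_quotient_eq A q
    obtain ⟨n, hn⟩ := exists_nat_supportDim_eq A A
    rw [Module.supportDim_self_eq_ringKrullDim] at hn
    have hapn : a + p ≤ n := by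
      rw [ha, hn] at hd
      exact_mod_cast hd
    have hq : q ∈ Module.support A A := by
      rw [Module.support_eq_zeroLocus, PrimeSpectrum.mem_zeroLocus]
      intro r hr
      have h1 : r • (1 : A) = 0 := Module.mem_annihilator.mp hr 1
      rw [smul_eq_mul, mul_one] at h1
      rw [h1]
      exact zero_mem _
    obtain ⟨xs, hlen, hmem, hreg⟩ :=
      exists_isWeaklyRegular_mem_of_ringKrullDim_quotient_add_eq A (n - a) A hA q hq (by
        rw [Module.supportDim_self_eq_ringKrullDim, ha, hn]
        exact_mod_cast (by omega : a + (n - a) = n))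
    have hdepth : (p : ℕ∞) ≤ LocCoh.idealDepth q.asIdeal A := by
      refine le_trans ?_ (length_le_idealDepth q.asIdeal A xs hreg hmem)
      rw [hlen]
      exact_mod_cast (by omega : p ≤ n - a)
    have hIM : q.asIdeal • (⊤ : Submodule A A) ≠ ⊤ := by
      rw [smul_eq_mul, Ideal.mul_top]
      exact q.isPrime.ne_top
    have h2 := (le_idealDepth_iff_ext q.asIdeal A hIM p).mp hdepth i hi
    exact ext_subsingleton_of_iso_left (ModuleCat.of A A) i e.symm.toModuleIso h2
  · intro N₁ _ _ _ N₂ _ _ _ N₃ _ _ _ f g hf hg hfg h₁ h₃ hd i hi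
    have hd₁ : Module.supportDim A N₁ + p ≤ ringKrullDim A :=
      le_trans (add_le_add_left (Module.supportDim_le_of_injective f hf) _) hd
    have hd₃ : Module.supportDim A N₃ + p ≤ ringKrullDim A :=
      le_trans (add_le_add_left (Module.supportDim_le_of_surjective g hg) _) hd
    have s₁ := h₁ hd₁ i hi
    have s₃ := h₃ hd₃ i hi
    let S : ShortComplex (ModuleCat.{u} A) :=
      ShortComplex.mk (ModuleCat.ofHom f) (ModuleCat.ofHom g) (by
        ext x
        exact hfg.apply_apply_eq_zero x)
    have hS : S.ShortExact :=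
      { exact := (ShortComplex.ShortExact.moduleCat_exact_iff_function_exact S).mpr hfg
        mono_f := (ModuleCat.mono_iff_injective _).mpr hf
        epi_g := (ModuleCat.epi_iff_surjective _).mpr hg }
    refine subsingleton_of_forall_eq 0 (fun x₂ => ?_)
    obtain ⟨x₃, hx₃⟩ := Ext.contravariant_sequence_exact₂ hS (ModuleCat.of A A) x₂
      (Subsingleton.elim _ _)
    rw [← hx₃, Subsingleton.elim x₃ 0]
    exact Ext.comp_zero _ _ _ _ _

end ExtVanishing

end Groth.Agent.Lib.Helper28
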