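import Mathlib.Algebra.Category.ModuleCat.Ext.HasExt
import Mathlib.Algebra.Homology.DerivedCategory.Ext.Linear
import Mathlib.Algebra.Homology.DerivedCategory.Ext.ExactSequences
import Mathlib.Algebra.Homology.DerivedCategory.Ext.EnoughProjectives
import Mathlib.RingTheory.Regular.RegularSequence
import Mathlib.RingTheory.Regular.Category

/-!
# Ext of a quotient by a regular sequence (helper28)

`Ext^{d+p}(N/(x_1..x_p)N, M) ≅ Ext^d(N, M)/(x_1..x_p)` when `Ext^i(N, M) = 0` for `i > d` and
`x_1..x_p` is `N`-regular.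
-/

set_option autoImplicit false
universe u
open CategoryTheory Abelian Pointwise RingTheory.Sequence

namespace Groth.Agent.Lib.Helper28

variable {A : Type u} [CommRing A]

/-- Ext congruence in the first variable -/
noncomputable def extCongrLeft {X Y : ModuleCat.{u} A} (e : X ≅ Y) (Z : ModuleCat.{u} A) (n : ℕ) :
    Ext Y Z n ≃ₗ[A] Ext X Z n where
  toFun α := (Ext.mk₀ e.hom).comp α (zero_add n)
  invFun β := (Ext.mk₀ e.inv).comp β (zero_add n)
  map_add' := by simp
  map_smul' := by simp
  left_inv α := by simp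
  right_inv β := by simp

/-- congruence of quotients by `I • ⊤` -/
noncomputable def quotSMulTopCongr {E E' : Type*} [AddCommGroup E] [Module A E] [AddCommGroup E']
    [Module A E'] (I : Ideal A) (f : E ≃ₗ[A] E') :
    (E ⧸ (I • ⊤ : Submodule A E)) ≃ₗ[A] (E' ⧸ (I • ⊤ : Submodule A E')) :=
  Submodule.Quotient.equiv _ _ f (by
    rw [Submodule.map_smul'', Submodule.map_top, LinearEquiv.range])

/-- the step: one regular element -/
theorem ext_quotSMulTop (M : ModuleCat.{u} A) (N : ModuleCat.{u} A) (r : A)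
    (hr : IsSMulRegular N r) (d : ℕ)
    (hvan : ∀ i, d < i → Subsingleton (Ext N M i)) :
    (∀ i, d + 1 < i → Subsingleton (Ext (ModuleCat.of A (QuotSMulTop r N)) M i)) ∧
    Nonempty (Ext (ModuleCat.of A (QuotSMulTop r N)) M (d + 1) ≃ₗ[A]
      QuotSMulTop r (Ext N M d)) := by
  have hS : (ModuleCat.smulShortComplex N r).ShortExact := hr.smulShortComplex_shortExact
  constructor
  · intro i hi
    obtain ⟨j, rfl⟩ : ∃ j, i = j + 1 := ⟨i - 1, by omega⟩
    refine subsingleton_of_forall_eq 0 (fun x₃ => ?_)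
    obtain ⟨x₁, hx₁⟩ := Ext.contravariant_sequence_exact₃ hS M x₃
      (@Subsingleton.elim _ (hvan (j + 1) (by omega)) _ _) (add_comm 1 j)
    rw [← hx₁, @Subsingleton.elim _ (hvan j (by omega)) x₁ 0]
    exact Ext.comp_zero _ _ _ _ _
  · -- the connecting map
    let δ : Ext N M d →ₗ[A] Ext (ModuleCat.of A (QuotSMulTop r N)) M (d + 1) :=
      Ext.precompOfLinear hS.extClass A M (add_comm 1 d)
    have hδ : ∀ x, δ x = hS.extClass.comp x (add_comm 1 d) := fun x => rfl
    have hsurj : Function.Surjective δ := by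
      intro x₃
      obtain ⟨x₁, hx₁⟩ := Ext.contravariant_sequence_exact₃ hS M x₃
        (@Subsingleton.elim _ (hvan (d + 1) (by omega)) _ _) (add_comm 1 d)
      exact ⟨x₁, hx₁⟩
    have hker : LinearMap.ker δ = r • (⊤ : Submodule A (Ext N M d)) := by
      ext x
      rw [LinearMap.mem_ker, hδ, Submodule.mem_smul_pointwise_iff_exists]
      constructor
      · intro hx
        obtain ⟨x₂, hx₂⟩ := Ext.contravariant_sequence_exact₁ hS M x (add_comm 1 d) hx
        refine ⟨x₂, trivial, ?_⟩
        rw [← hx₂]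
        change r • x₂ = (Ext.mk₀ (r • 𝟙 N)).comp x₂ (zero_add d)
        rw [Ext.mk₀_smul, Ext.smul_comp, Ext.mk₀_id_comp]
        rfl
      · rintro ⟨x₂, -, rfl⟩
        have : r • x₂ = (Ext.mk₀ (ModuleCat.smulShortComplex N r).f).comp x₂ (zero_add d) := by
          change r • x₂ = (Ext.mk₀ (r • 𝟙 N)).comp x₂ (zero_add d)
          rw [Ext.mk₀_smul, Ext.smul_comp, Ext.mk₀_id_comp]
        rw [this, ← Ext.comp_assoc_of_second_deg_zero, hS.extClass_comp, Ext.zero_comp]
        rfl
    exact ⟨((Submodule.quotEquivOfEq _ _ hker).symm.trans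
      (LinearMap.quotKerEquivOfSurjective δ hsurj)).symm⟩

/-- `Ext` of a quotient by a weakly regular sequence -/
theorem ext_quot_regular (M : ModuleCat.{u} A) : ∀ (xs : List A) (N : Type u) [AddCommGroup N]
    [Module A N] (d : ℕ), IsWeaklyRegular N xs →
    (∀ i, d < i → Subsingleton (Ext (ModuleCat.of A N) M i)) →
    (∀ i, d + xs.length < i → Subsingleton
      (Ext (ModuleCat.of A (N ⧸ (Ideal.ofList xs • ⊤ : Submodule A N))) M i)) ∧
    ∀ n, n = d + xs.length → Nonempty
      (Ext (ModuleCat.of A (N ⧸ (Ideal.ofList xs • ⊤ : Submodule A N))) M n ≃ₗ[A]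
        (Ext (ModuleCat.of A N) M d ⧸
          (Ideal.ofList xs • ⊤ : Submodule A (Ext (ModuleCat.of A N) M d)))) := by
  intro xs
  induction xs with
  | nil =>
    intro N _ _ d _ hvan
    have hbot : (Ideal.ofList ([] : List A) • ⊤ : Submodule A N) = ⊥ := by
      rw [Ideal.ofList_nil, Submodule.bot_smul]
    have hbot' : (Ideal.ofList ([] : List A) • ⊤ : Submodule A (Ext (ModuleCat.of A N) M d)) = ⊥ := by
      rw [Ideal.ofList_nil, Submodule.bot_smul]
    let e₀ : (N ⧸ (Ideal.ofList ([] : List A) • ⊤ : Submodule A N)) ≃ₗ[A] N :=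
      Submodule.quotEquivOfEqBot _ hbot
    constructor
    · intro i hi
      haveI := hvan i (by simpa using hi)
      exact (extCongrLeft e₀.toModuleIso M i).symm.toEquiv.subsingleton
    · intro n hn
      obtain rfl : n = d := by simpa using hn
      exact ⟨(extCongrLeft e₀.toModuleIso M n).symm.trans
        (Submodule.quotEquivOfEqBot _ hbot').symm⟩
  | cons r rs ih =>
    intro N _ _ d hreg hvan
    obtain ⟨hr, hrs⟩ := (isWeaklyRegular_cons_iff N r rs).mp hreg
    obtain ⟨hstep1, ⟨φ⟩⟩ := ext_quotSMulTop M (ModuleCat.of A N) r hr d hvan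
    obtain ⟨hih1, hih2⟩ := ih (QuotSMulTop r N) (d + 1) hrs hstep1
    let e₁ := Submodule.quotOfListConsSMulTopEquivQuotSMulTopInner N r rs
    constructor
    · intro i hi
      haveI := hih1 i (by rw [List.length_cons] at hi; omega)
      exact (extCongrLeft e₁.toModuleIso M i).symm.toEquiv.subsingleton
    · intro n hn
      obtain ⟨ψ⟩ := hih2 n (by rw [List.length_cons] at hn; omega)
      exact ⟨(extCongrLeft e₁.toModuleIso M n).symm.trans (ψ.trans
        ((quotSMulTopCongr (Ideal.ofList rs) φ).trans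
          (Submodule.quotOfListConsSMulTopEquivQuotSMulTopInner
            (Ext (ModuleCat.of A N) M d) r rs).symm))⟩

end Groth.Agent.Lib.Helper28
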