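import Groth.Agent.Lib.Helper28.RegularCM
import Groth.Agent.Lib.Helper28.ExtReg
import Groth.Agent.Lib.Helper60.ExtBridge2

/-!
helper28: regular local rings: the maximal ideal is generated by a regular sequence
(`exists_isWeaklyRegular_ofList_eq_maximalIdeal`); `Ext^i(k, A)` (`ext_residueField_self`);
duality for finite length modules `ext_self_of_isFiniteLength`:
`Ext^i(M, A) = 0` for `i ≠ dim A` and `length Ext^n(M, A) = length M`.
-/

set_option autoImplicit false
universe u

namespace Groth.Agent.Lib.Helper28

open IsLocalRing RingTheory.Sequence Groth.Agent.Lib.Helper29 Groth.Agent.Lib.Helper85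
open scoped Pointwise

/-- A regular local ring of embedding dimension `d`: the maximal ideal is generated by a (weakly)
regular sequence of length `d`. -/
theorem exists_isWeaklyRegular_ofList_eq_maximalIdeal : ∀ (d : ℕ) (R : Type u) [CommRing R]
    [IsRegularLocalRing R], (maximalIdeal R).spanFinrank = d →
    ∃ rs : List R, rs.length = d ∧ Ideal.ofList rs = maximalIdeal R ∧ IsWeaklyRegular R rs := by
  intro d
  induction d with
  | zero =>
    intro R _ _ hd
    refine ⟨[], rfl, ?_, IsWeaklyRegular.nil R R⟩
    rw [Ideal.ofList_nil]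
    have hfg : (maximalIdeal R).FG := IsNoetherian.noetherian _
    exact ((Submodule.spanFinrank_eq_zero_iff_eq_bot hfg).mp hd).symm
  | succ d ih =>
    intro R _ _ hd
    obtain ⟨x, hxm, hx2, -⟩ := exists_mem_notMem_sq_notMem_minimalPrimes (R := R) (by omega)
    have hdom := isDomain_of_isRegularLocalRing R
    have hx0 : x ≠ 0 := by rintro rfl; exact hx2 (zero_mem _)
    have hxreg : IsSMulRegular R x := by
      intro a b hab
      exact mul_left_cancel₀ hx0 hab
    obtain ⟨hreg', hd'⟩ := isRegularLocalRing_quotient_span_singleton x hxm hx2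
    obtain ⟨rs', hlen, hgen, hwr⟩ := ih (R ⧸ Ideal.span ({x} : Set R)) (by omega)
    obtain ⟨rs, rfl⟩ : ∃ rs : List R, rs.map (Ideal.Quotient.mk (Ideal.span ({x} : Set R))) = rs' :=
      List.map_surjective_iff.mpr Ideal.Quotient.mk_surjective rs'
    refine ⟨x :: rs, by simpa using hlen, ?_, ?_⟩
    · rw [Ideal.ofList_cons]
      have hmap : (Ideal.ofList rs).map (Ideal.Quotient.mk (Ideal.span ({x} : Set R))) =
          (maximalIdeal R).map (Ideal.Quotient.mk (Ideal.span ({x} : Set R))) := by
        rw [Ideal.map_ofList, hgen]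
        exact (maximalIdeal_map_of_surjective _ Ideal.Quotient.mk_surjective).symm
      have h2 := congrArg (Ideal.comap (Ideal.Quotient.mk (Ideal.span ({x} : Set R)))) hmap
      rw [Ideal.comap_map_of_surjective _ Ideal.Quotient.mk_surjective,
        Ideal.comap_map_of_surjective _ Ideal.Quotient.mk_surjective,
        ← RingHom.ker_eq_comap_bot, Ideal.mk_ker] at h2
      have hle : Ideal.span ({x} : Set R) ≤ maximalIdeal R :=
        (Ideal.span_singleton_le_iff_mem _).mpr hxm
      rw [sup_eq_left.mpr hle] at h2
      rw [sup_comm]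
      exact h2
    · rw [isWeaklyRegular_cons_iff]
      refine ⟨hxreg, ?_⟩
      have h1 : IsWeaklyRegular (R ⧸ Ideal.span ({x} : Set R)) rs :=
        (isWeaklyRegular_map_algebraMap_iff (R := R) (S := R ⧸ Ideal.span ({x} : Set R))
          (M := R ⧸ Ideal.span ({x} : Set R)) rs).mp hwr
      exact ((quotSMulTopSelfEquiv x).isWeaklyRegular_congr rs).mpr h1

section ExtDual

open CategoryTheory Abelian

variable (A : Type u) [CommRing A] [IsRegularLocalRing A]

/-- `Ext^i(k, A)` for a regular local ring of dimension `n`. -/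
theorem ext_residueField_self (n : ℕ) (hn : ringKrullDim A = n) :
    (∀ i : ℕ, i ≠ n → Subsingleton
      (Ext (ModuleCat.of A (A ⧸ maximalIdeal A)) (ModuleCat.of A A) i)) ∧
    Nonempty (Ext (ModuleCat.of A (A ⧸ maximalIdeal A)) (ModuleCat.of A A) n ≃ₗ[A]
      (A ⧸ maximalIdeal A)) := by
  have hsf : (maximalIdeal A).spanFinrank = n := by
    have := IsRegularLocalRing.spanFinrank_maximalIdeal (R := A)
    rw [hn] at this
    exact_mod_cast this
  obtain ⟨rs, hlen, hgen, hreg⟩ := exists_isWeaklyRegular_ofList_eq_maximalIdeal n A hsf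
  have hvan : ∀ i, 0 < i → Subsingleton (Ext (ModuleCat.of A A) (ModuleCat.of A A) i) := by
    intro i hi
    obtain ⟨j, rfl⟩ : ∃ j, i = j + 1 := ⟨i - 1, by omega⟩
    exact subsingleton_of_forall_eq 0 (fun x => Ext.eq_zero_of_projective x)
  obtain ⟨h1, h2⟩ := ext_quot_regular (ModuleCat.of A A) rs A 0 hreg hvan
  have heq : (Ideal.ofList rs • ⊤ : Submodule A A) = maximalIdeal A := by
    rw [smul_eq_mul, Ideal.mul_top, hgen]
  let e : (A ⧸ (Ideal.ofList rs • ⊤ : Submodule A A)) ≃ₗ[A] (A ⧸ maximalIdeal A) :=
    Submodule.quotEquivOfEq _ _ heq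
  constructor
  · intro i hi
    rcases lt_or_gt_of_ne hi with hlt | hgt
    · have hCM := isCohenMacaulayModule_self_of_isRegularLocalRing A
      refine ext_self_subsingleton_of_supportDim_add_le A hCM n (A ⧸ maximalIdeal A) ?_ i hlt
      rw [Module.supportDim_quotient_eq_ringKrullDim, hn]
      have : ringKrullDim (A ⧸ maximalIdeal A) = 0 := ringKrullDim_eq_zero_of_isField
        ((Ideal.Quotient.maximal_ideal_iff_isField_quotient _).mp (maximalIdeal.isMaximal A))
      rw [this, zero_add]
    · have := h1 i (by omega)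
      exact (extCongrLeft e.toModuleIso (ModuleCat.of A A) i).toEquiv.subsingleton
  · obtain ⟨ψ⟩ := h2 n (by omega)
    let e0 : Ext (ModuleCat.of A A) (ModuleCat.of A A) 0 ≃ₗ[A] A :=
      Ext.linearEquiv₀.trans ((ModuleCat.homLinearEquiv (S := A)).trans
        (LinearMap.ringLmapEquivSelf A A A))
    exact ⟨(extCongrLeft e.toModuleIso (ModuleCat.of A A) n).trans (ψ.trans
      ((quotSMulTopCongr (Ideal.ofList rs) e0).trans e))⟩

omit [IsRegularLocalRing A] in
/-- length of `Ext^n` is invariant under isomorphism in the first variable -/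
lemma length_ext_congr {X Y : ModuleCat.{u} A} (e : X ≅ Y) (Z : ModuleCat.{u} A) (n : ℕ) :
    Module.length A (Ext Y Z n) = Module.length A (Ext X Z n) :=
  (extCongrLeft e Z n).length_eq

/-- **Duality for finite length modules over a regular local ring** (new `Ext`). -/
theorem ext_self_of_isFiniteLength (n : ℕ) (hn : ringKrullDim A = n) (M : Type u)
    [AddCommGroup M] [Module A M] (hM : IsFiniteLength A M) :
    (∀ i : ℕ, i ≠ n → Subsingleton (Ext (ModuleCat.of A M) (ModuleCat.of A A) i)) ∧
    Module.length A (Ext (ModuleCat.of A M) (ModuleCat.of A A) n) = Module.length A M := by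
  obtain ⟨hk1, ⟨ek⟩⟩ := ext_residueField_self A n hn
  induction hM with
  | @of_subsingleton M _ _ _ =>
    refine ⟨fun i _ => ext_subsingleton_of_isZero_left A (ModuleCat.isZero_of_subsingleton _) _ i,
      ?_⟩
    have := ext_subsingleton_of_isZero_left A
      (ModuleCat.isZero_of_subsingleton (ModuleCat.of A M)) (ModuleCat.of A A) n
    rw [Module.length_eq_zero, Module.length_eq_zero]
  | @of_simple_quotient M _ _ N hsimple hN ih =>
    obtain ⟨ih1, ih2⟩ := ih
    -- the simple quotient is the residue field
    obtain ⟨I, hI, ⟨eq⟩⟩ := isSimpleModule_iff_quot_maximal.mp hsimple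
    obtain rfl : I = maximalIdeal A := IsLocalRing.eq_maximalIdeal hI
    -- the short exact sequence
    let S : ShortComplex (ModuleCat.{u} A) :=
      ShortComplex.mk (ModuleCat.ofHom N.subtype) (ModuleCat.ofHom N.mkQ) (by
        ext x
        exact (Submodule.Quotient.mk_eq_zero N).mpr x.2)
    have hS : S.ShortExact :=
      { exact := (ShortComplex.ShortExact.moduleCat_exact_iff_function_exact S).mpr
          (LinearMap.exact_subtype_mkQ N)
        mono_f := (ModuleCat.mono_iff_injective _).mpr N.injective_subtype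
        epi_g := (ModuleCat.epi_iff_surjective _).mpr N.mkQ_surjective }
    -- `Ext` of the quotient
    have hq1 : ∀ i : ℕ, i ≠ n → Subsingleton (Ext S.X₃ (ModuleCat.of A A) i) := by
      intro i hi
      have := hk1 i hi
      exact (extCongrLeft eq.toModuleIso (ModuleCat.of A A) i).symm.toEquiv.subsingleton
    have hq2 : Module.length A (Ext S.X₃ (ModuleCat.of A A) n) = 1 := by
      refine (length_ext_congr A eq.toModuleIso (ModuleCat.of A A) n).symm.trans
        (ek.length_eq.trans (eq.length_eq.symm.trans ?_))
      exact Module.length_eq_one A (M ⧸ N)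
    constructor
    · intro i hi
      have s₁ := ih1 i hi
      have s₃ := hq1 i hi
      refine subsingleton_of_forall_eq 0 (fun x₂ => ?_)
      obtain ⟨x₃, hx₃⟩ := Ext.contravariant_sequence_exact₂ hS (ModuleCat.of A A) x₂
        (Subsingleton.elim _ _)
      rw [← hx₃, Subsingleton.elim x₃ 0]
      exact Ext.comp_zero _ _ _ _ _
    · -- the short exact sequence of `Ext^n`
      let f : Ext S.X₃ (ModuleCat.of A A) n →ₗ[A] Ext S.X₂ (ModuleCat.of A A) n :=
        (Ext.mk₀ S.g).precompOfLinear A (ModuleCat.of A A) (zero_add n)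
      let g : Ext S.X₂ (ModuleCat.of A A) n →ₗ[A] Ext S.X₁ (ModuleCat.of A A) n :=
        (Ext.mk₀ S.f).precompOfLinear A (ModuleCat.of A A) (zero_add n)
      have hf : Function.Injective f := by
        rcases Nat.eq_zero_or_pos n with h0 | hpos
        · subst h0
          exact Ext.precomp_mk₀_injective_of_epi (ModuleCat.of A A) S.g (hg := hS.epi_g)
        · obtain ⟨m, rfl⟩ : ∃ m, n = m + 1 := ⟨n - 1, by omega⟩
          rw [injective_iff_map_eq_zero]
          intro x hx
          obtain ⟨x₁, hx₁⟩ := Ext.contravariant_sequence_exact₃ hS (ModuleCat.of A A) x hx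
            (add_comm 1 m)
          have := ih1 m (by omega)
          rw [← hx₁, Subsingleton.elim x₁ 0]
          exact Ext.comp_zero _ _ _ _ _
      have hg : Function.Surjective g := by
        intro y
        have := hq1 (n + 1) (by omega)
        exact Ext.contravariant_sequence_exact₁ hS (ModuleCat.of A A) y (add_comm 1 n)
          (Subsingleton.elim _ _)
      have hfg : Function.Exact f g := by
        intro y
        constructor
        · intro hy
          obtain ⟨x, hx⟩ := Ext.contravariant_sequence_exact₂ hS (ModuleCat.of A A) y hy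
          exact ⟨x, hx⟩
        · rintro ⟨x, rfl⟩
          change (Ext.mk₀ S.f).comp ((Ext.mk₀ S.g).comp x (zero_add n)) (zero_add n) = 0
          rw [← Ext.comp_assoc_of_second_deg_zero, Ext.mk₀_comp_mk₀, S.zero, Ext.mk₀_zero,
            Ext.zero_comp]
      have h := Module.length_eq_add_of_exact f g hf hg hfg
      have h' := Module.length_eq_add_of_exact N.subtype N.mkQ N.injective_subtype
        N.mkQ_surjective (LinearMap.exact_subtype_mkQ N)
      rw [Module.length_eq_one A (M ⧸ N)] at h'
      change Module.length A (Ext S.X₂ (ModuleCat.of A A) n) = _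
      rw [h, hq2, ih2, h', add_comm]

end ExtDual

end Groth.Agent.Lib.Helper28
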