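import Mathlib.CategoryTheory.Triangulated.LocalizingSubcategory
import Mathlib.CategoryTheory.Localization.DerivabilityStructure.Constructor
import Mathlib.CategoryTheory.Localization.DerivabilityStructure.Derives

/-!
# Left derivability structures from triangulated subcategories with left resolutions (helper28)

Dual of helper32's `TriDeriv`. Let `C` be a triangulated category, `A B : ObjectProperty C`
triangulated subcategories (`B` closed under isomorphisms) such that every object `X` of `C` admits a
morphism `Y ⟶ X` in `B.trW` with `A Y`. Then `A.triangulatedLocalizerMorphism B` is a localized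
equivalence and a left derivability structure.
-/

set_option autoImplicit false
open CategoryTheory CategoryTheory.Limits CategoryTheory.Pretriangulated

namespace Groth.Agent.Lib.Helper28.TriDerivLeft

variable {C : Type*} [Category C] [HasZeroObject C] [HasShift C ℤ] [Preadditive C]
  [∀ n : ℤ, (shiftFunctor C n).Additive] [Pretriangulated C] [IsTriangulated C]
  (A B : ObjectProperty C) [A.IsTriangulated] [B.IsTriangulated] [B.IsClosedUnderIsomorphisms]
  (hres : ∀ X : C, ∃ (Y : C) (w : Y ⟶ X), A Y ∧ B.trW w)

include hres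

lemma isVerdierLeftLocalizing : A.IsVerdierLeftLocalizing B := by
  rw [ObjectProperty.isVerdierLeftLocalizing_iff]
  intro X Y s hY hs
  obtain ⟨Z, b, hZ, hb⟩ := hres X
  obtain ⟨U, hU, e, f, hT⟩ := A.distinguished_cocone_triangle (b ≫ s) hZ hY
  refine ⟨Z, b ≫ s, b, hZ, ?_, rfl⟩
  have h : B.trW (b ≫ s) := MorphismProperty.comp_mem _ _ _ hb hs
  exact ⟨U, e, f, hT, hU, (B.trW_iff_of_distinguished _ hT).1 h⟩

lemma hasLeftResolutions : (A.triangulatedLocalizerMorphism B).HasLeftResolutions := fun X => by
  obtain ⟨Y, w, hY, hw⟩ := hres X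
  exact ⟨{ X₁ := ⟨Y, hY⟩, w := w, hw := hw }⟩

lemma isLocalizedEquivalence : (A.triangulatedLocalizerMorphism B).IsLocalizedEquivalence := by
  haveI := isVerdierLeftLocalizing A B hres
  haveI := hasLeftResolutions A B hres
  haveI : ((A.triangulatedLocalizerMorphism B).functor ⋙ B.trW.Q).EssSurj :=
    (A.triangulatedLocalizerMorphism B).essSurj_of_hasLeftResolutions B.trW.Q
  haveI : ((A.triangulatedLocalizerMorphism B).functor ⋙ B.trW.Q).IsLocalization
      (B.inverseImage A.ι).trW :=
    (A.triangulatedLocalizerMorphism B).isLocalization_of_isLocalizedFullyFaithful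
      (L₂ := B.trW.Q) (L₁ := (A.triangulatedLocalizerMorphism B).functor ⋙ B.trW.Q) (F := 𝟭 _)
      (Functor.rightUnitor _).symm
  exact LocalizerMorphism.IsLocalizedEquivalence.of_isLocalization_of_isLocalization
    (A.triangulatedLocalizerMorphism B) B.trW.Q

lemma isConnected_leftResolution (X : C) :
    IsConnected ((A.triangulatedLocalizerMorphism B).LeftResolution X) := by
  haveI : Nonempty ((A.triangulatedLocalizerMorphism B).LeftResolution X) :=
    hasLeftResolutions A B hres X
  have : IsPreconnected ((A.triangulatedLocalizerMorphism B).LeftResolution X) :=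
    zigzag_isPreconnected (fun R R' => by
      obtain ⟨ψ, hψ⟩ := (MorphismProperty.LeftFraction.mk R'.w R.w R.hw).exists_rightFraction
      dsimp at hψ
      obtain ⟨Z, r, hZ, hr⟩ := hres ψ.X'
      let R'' : (A.triangulatedLocalizerMorphism B).LeftResolution X :=
        { X₁ := ⟨Z, hZ⟩
          w := r ≫ ψ.s ≫ R'.w
          hw := MorphismProperty.comp_mem _ _ _ hr (MorphismProperty.comp_mem _ _ _ ψ.hs R'.hw) }
      have h1 : Zigzag R R'' := Zigzag.of_inv
        { f := A.homMk (r ≫ ψ.f)
          comm := by
            change (r ≫ ψ.f) ≫ R.w = r ≫ ψ.s ≫ R'.w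
            rw [Category.assoc, ← hψ] }
      have h2 : Zigzag R'' R' := Zigzag.of_hom
        { f := A.homMk (r ≫ ψ.s)
          comm := by
            change (r ≫ ψ.s) ≫ R'.w = r ≫ ψ.s ≫ R'.w
            rw [Category.assoc] }
      exact h1.trans h2)
  constructor

lemma hasLeftResolutions_arrow :
    (A.triangulatedLocalizerMorphism B).arrow.HasLeftResolutions := fun f => by
  obtain ⟨C₂, wY, hC₂, hwY⟩ := hres f.right
  obtain ⟨ψ, hψ⟩ := (MorphismProperty.LeftFraction.mk f.hom wY hwY).exists_rightFraction
  dsimp at hψ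
  obtain ⟨C₁, r, hC₁, hr⟩ := hres ψ.X'
  exact ⟨{ X₁ := Arrow.mk (A.homMk (r ≫ ψ.f) :
              (⟨C₁, hC₁⟩ : A.FullSubcategory) ⟶ ⟨C₂, hC₂⟩)
           w := Arrow.homMk (r ≫ ψ.s) wY (by
              change (r ≫ ψ.s) ≫ f.hom = (r ≫ ψ.f) ≫ wY
              rw [Category.assoc, Category.assoc, hψ])
           hw := ⟨MorphismProperty.comp_mem _ _ _ hr ψ.hs, hwY⟩ }⟩

theorem isLeftDerivabilityStructure :
    (A.triangulatedLocalizerMorphism B).IsLeftDerivabilityStructure := by
  haveI := isLocalizedEquivalence A B hres
  haveI := isConnected_leftResolution A B hres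
  haveI := hasLeftResolutions_arrow A B hres
  exact LocalizerMorphism.IsLeftDerivabilityStructure.mk' _

end Groth.Agent.Lib.Helper28.TriDerivLeft
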