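import Mathlib
import Groth.Agent.Lib.Helper28.TriDerivLeft

/-!
# Left derived functors via left derivability structures (helper28)

Mathlib derives functors on the right using right derivability structures. Here we dualize:
* `isLeftKanExtension_op`: if `LF` is a right Kan extension of `F` along `L` (via `α`), then
  `LF.op` is a left Kan extension of `F.op` along `L.op` (via `NatTrans.op α`).
* `isIso_app_of_isLeftDerivedFunctor`: if `Φ` is a left derivability structure such that
  `Φ.functor ⋙ F` inverts `W₁`, then for any left derived functor `(LF, α)` of `F`, the morphism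
  `α.app (Φ.functor.obj X₁)` is an isomorphism.
-/

set_option autoImplicit false
open CategoryTheory CategoryTheory.Limits Opposite

namespace Groth.Agent.Lib.Helper28.LeftDerivedOp

section Kan

variable {C D H : Type*} [Category C] [Category D] [Category H] {L : C ⥤ D} {F : C ⥤ H}
  (LF : D ⥤ H) (α : L ⋙ LF ⟶ F)

/-- the natural transformation `L ⋙ E.unop ⟶ F` associated to `F.op ⟶ L.op ⋙ E`. -/
@[simps]
def unopTrans (E : Dᵒᵖ ⥤ Hᵒᵖ) (β : F.op ⟶ L.op ⋙ E) : L ⋙ E.unop ⟶ F where
  app X := (β.app (op X)).unop
  naturality X Y f := by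
    have := β.naturality f.op
    exact (congrArg Quiver.Hom.unop this).symm

/-- the natural transformation `LF.op ⟶ E` associated to `E.unop ⟶ LF`. -/
@[simps]
def opTrans (E : Dᵒᵖ ⥤ Hᵒᵖ) (γ : E.unop ⟶ LF) : LF.op ⟶ E where
  app Y := (γ.app Y.unop).op
  naturality Y Y' f := by
    have := γ.naturality f.unop
    exact congrArg Quiver.Hom.op this.symm

/-- the natural transformation `E.unop ⟶ LF` associated to `LF.op ⟶ E`. -/
@[simps]
def unopTrans' (E : Dᵒᵖ ⥤ Hᵒᵖ) (γ : LF.op ⟶ E) : E.unop ⟶ LF where
  app Y := (γ.app (op Y)).unop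
  naturality Y Y' f := by
    have := γ.naturality f.op
    exact congrArg Quiver.Hom.unop this.symm

/-- `NatTrans.op α` with the expected type. -/
def opα : F.op ⟶ L.op ⋙ LF.op := NatTrans.op α

lemma isLeftKanExtension_op [LF.IsRightKanExtension α] :
    LF.op.IsLeftKanExtension (opα LF α) := by
  refine ⟨⟨IsInitial.ofUniqueHom (fun E => ?_) (fun E m => ?_)⟩⟩
  · let β := unopTrans (L := L) (F := F) E.right E.hom
    let γ₀ := LF.liftOfIsRightKanExtension α E.right.unop β
    refine StructuredArrow.homMk (opTrans LF E.right γ₀) ?_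
    ext X
    have h := LF.liftOfIsRightKanExtension_fac_app α E.right.unop β X.unop
    exact congrArg Quiver.Hom.op h
  · let β := unopTrans (L := L) (F := F) E.right E.hom
    let γ₀ := LF.liftOfIsRightKanExtension α E.right.unop β
    have h1 : unopTrans' LF E.right m.right = γ₀ := by
      apply LF.hom_ext_of_isRightKanExtension α
      ext X
      have hw := StructuredArrow.w m
      have hw' := congrArg (fun t => (NatTrans.app t (op X)).unop) hw
      have h := LF.liftOfIsRightKanExtension_fac_app α E.right.unop β X
      exact hw'.trans h.symm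
    ext Y
    have := congrArg (fun t => (NatTrans.app t Y.unop).op) h1
    exact this

end Kan

section Derives

variable {C₁ C₂ H D₂ : Type*} [Category C₁] [Category C₂] [Category H] [Category D₂]
  {W₁ : MorphismProperty C₁} {W₂ : MorphismProperty C₂}
  (Φ : LocalizerMorphism W₁ W₂) [Φ.IsLeftDerivabilityStructure] (F : C₂ ⥤ H)
  (h : Φ.Derives F) {L₂ : C₂ ⥤ D₂} [L₂.IsLocalization W₂] {LF : D₂ ⥤ H}
  (α : L₂ ⋙ LF ⟶ F) [LF.IsLeftDerivedFunctor α W₂]

include h in
/-- For a left derivability structure `Φ` deriving `F`, the counit of any left derived functor of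
`F` is an isomorphism on the objects coming from `Φ`. -/
theorem isIso_app_of_isLeftDerivedFunctor (X₁ : C₁) : IsIso (α.app (Φ.functor.obj X₁)) := by
  have h' : Φ.op.Derives F.op := fun X Y f hf => by
    have := h f.unop hf
    exact inferInstanceAs (IsIso ((Φ.functor ⋙ F).map f.unop).op)
  haveI : LF.IsRightKanExtension α :=
    (Functor.isLeftDerivedFunctor_iff_isRightKanExtension LF α W₂).1 inferInstance
  haveI : LF.op.IsRightDerivedFunctor (opα LF α) W₂.op :=
    ⟨isLeftKanExtension_op LF α⟩
  have := h'.isIso_of_isRightDerivedFunctor (opα LF α) (op X₁)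
  have h2 : IsIso (α.app (Φ.functor.obj X₁)).op := this
  exact isIso_of_op _

end Derives

end Groth.Agent.Lib.Helper28.LeftDerivedOp
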