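import Mathlib
import Groth.Agent.Lib.Helper28.TriDerivLeft
import Groth.Agent.Lib.Helper28.LeftDerivedOp

/-!
# Computing total left derived functors on adapted classes of complexes (helper28)

Let `A`, `B` be abelian categories, `T : A ⥤ B` an additive functor and `kf` a class of cochain
complexes in `A` which contains `0`, is stable under shifts and mapping cones, such that every
complex admits a quasi-isomorphism from a complex in `kf`, and such that `T` (applied termwise)
sends acyclic complexes in `kf` to acyclic complexes. Then for any left derived functor `(LF, α)`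
of `T.mapHomotopyCategory ⋙ Qh` with respect to quasi-isomorphisms, the counit `α` is an
isomorphism on complexes in `kf`: `LF (Q P) ≅ Q (T P)`.
-/

set_option autoImplicit false
universe w w' v v' u u'
open CategoryTheory CategoryTheory.Limits CategoryTheory.Pretriangulated ZeroObject

namespace Groth.Agent.Lib.Helper28.AdaptedLeft

variable {A : Type u} [Category.{v} A] [Abelian A] (kf : CochainComplex A ℤ → Prop)

/-- the class of objects of the homotopy category whose underlying complex is in `kf`. -/
def kfProp : ObjectProperty (HomotopyCategory A (ComplexShape.up ℤ)) := fun X => kf X.as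

lemma kfProp_quotient_obj_iff (K : CochainComplex A ℤ) :
    kfProp kf ((HomotopyCategory.quotient A (ComplexShape.up ℤ)).obj K) ↔ kf K := Iff.rfl

/-- stability properties of a class of complexes. -/
structure IsStableClass : Prop where
  zero : kf 0
  shift : ∀ (K : CochainComplex A ℤ) (n : ℤ), kf K → kf (K⟦n⟧)
  cone : ∀ {K₁ K₂ : CochainComplex A ℤ} (φ : K₁ ⟶ K₂), kf K₁ → kf K₂ →
    kf (CochainComplex.mappingCone φ)

variable {kf} (hkf : IsStableClass kf)

include hkf in
lemma containsZero : (kfProp kf).ContainsZero where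
  exists_zero :=
    ⟨(HomotopyCategory.quotient _ _).obj 0, Functor.map_isZero _ (isZero_zero _), hkf.zero⟩

include hkf in
lemma isStableUnderShift : (kfProp kf).IsStableUnderShift ℤ where
  isStableUnderShiftBy n :=
    { le_shift K hK := by
        obtain ⟨K : CochainComplex _ _, rfl⟩ := K.quotient_obj_surjective
        rw [ObjectProperty.prop_shift_iff, HomotopyCategory.shift_quotient_obj]
        exact hkf.shift K n hK }

include hkf in
lemma isTriangulatedClosed₃ : (kfProp kf).IsTriangulatedClosed₃ where
  ext₃' T hT h₁ h₂ := by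
    obtain ⟨f : T.obj₁.as ⟶ T.obj₂.as, hf⟩ := (HomotopyCategory.quotient _ _).map_surjective T.mor₁
    refine ⟨_, ?_,
      ⟨Triangle.π₃.mapIso (isoTriangleOfIso₁₂ T _ hT
        (HomotopyCategory.mappingCone_triangleh_distinguished f)
        (Iso.refl _) (Iso.refl _) ?_)⟩⟩
    · exact hkf.cone f h₁ h₂
    · exact (Category.comp_id _).trans (hf.symm.trans (Category.id_comp _).symm)

include hkf in
lemma isTriangulated : (kfProp kf).IsTriangulated :=
  haveI := containsZero hkf
  haveI := isStableUnderShift hkf
  haveI := isTriangulatedClosed₃ hkf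
  { toIsTriangulatedClosed₂ := .of_isTriangulatedClosed₃ }

variable (hres : ∀ K : CochainComplex A ℤ, ∃ (P : CochainComplex A ℤ) (f : P ⟶ K),
  kf P ∧ QuasiIso f)

include hres in
lemma exists_resolution (X : HomotopyCategory A (ComplexShape.up ℤ)) :
    ∃ (Y : HomotopyCategory A (ComplexShape.up ℤ)) (w : Y ⟶ X),
      kfProp kf Y ∧ (HomotopyCategory.subcategoryAcyclic A).trW w := by
  obtain ⟨X : CochainComplex _ _, rfl⟩ := X.quotient_obj_surjective
  obtain ⟨P, f, hP, hf⟩ := hres X
  refine ⟨(HomotopyCategory.quotient _ _).obj P, (HomotopyCategory.quotient _ _).map f, hP, ?_⟩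
  rw [← HomotopyCategory.quasiIso_eq_trW_subcategoryAcyclic,
    HomotopyCategory.quotient_map_mem_quasiIso_iff]
  exact hf

include hkf hres in
/-- the inclusion of the complexes in `kf` is a left derivability structure. -/
theorem isLeftDerivabilityStructure :
    haveI := isTriangulated hkf
    ((kfProp kf).triangulatedLocalizerMorphism
      (HomotopyCategory.subcategoryAcyclic A)).IsLeftDerivabilityStructure :=
  haveI := isTriangulated hkf
  TriDerivLeft.isLeftDerivabilityStructure _ _ (exists_resolution hres)

section Derives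

variable {B : Type u'} [Category.{v'} B] [Abelian B] [HasDerivedCategory.{w'} B]
  (T : A ⥤ B) [T.Additive]
  (hT : ∀ P : CochainComplex A ℤ, kf P → P.Acyclic →
    ((T.mapHomologicalComplex (ComplexShape.up ℤ)).obj P).Acyclic)

lemma isZero_Q_obj_of_acyclic (K : CochainComplex B ℤ) (hK : K.Acyclic) :
    IsZero (DerivedCategory.Q.obj K) := by
  have h0 : (0 : CochainComplex B ℤ).Acyclic := fun i => by
    rw [HomologicalComplex.exactAt_iff_isZero_homology]
    exact Functor.map_isZero (HomologicalComplex.homologyFunctor B (ComplexShape.up ℤ) i)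
      (isZero_zero _)
  haveI : QuasiIso (0 : K ⟶ 0) := by
    rw [quasiIso_iff]
    intro i
    rw [quasiIsoAt_iff_isIso_homologyMap]
    have h1 : IsZero (K.homology i) := (hK i).isZero_homology
    have h2 : IsZero ((0 : CochainComplex B ℤ).homology i) := (h0 i).isZero_homology
    exact ⟨0, h1.eq_of_src _ _, h2.eq_of_src _ _⟩
  exact IsZero.of_iso (Functor.map_isZero _ (isZero_zero _))
    (asIso (DerivedCategory.Q.map (0 : K ⟶ 0)))

include hkf hT in
lemma derives :
    haveI := isTriangulated hkf
    ((kfProp kf).triangulatedLocalizerMorphism (HomotopyCategory.subcategoryAcyclic A)).Derives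
      (T.mapHomotopyCategory (ComplexShape.up ℤ) ⋙ DerivedCategory.Qh) := by
  haveI := isTriangulated hkf
  intro X Y f hf
  rw [ObjectProperty.trW_inverseImage_ι_iff, ObjectProperty.trW_iff] at hf
  obtain ⟨Z, a, b, hdist, hZ₁, hZ₂⟩ := hf
  let F := T.mapHomotopyCategory (ComplexShape.up ℤ) ⋙ DerivedCategory.Qh (C := B)
  have hd := F.map_distinguished _ hdist
  have hzero : IsZero (F.obj Z) := by
    obtain ⟨Z : CochainComplex _ _, rfl⟩ := Z.quotient_obj_surjective
    have hZac : Z.Acyclic :=
      (HomotopyCategory.quotient_obj_mem_subcategoryAcyclic_iff_acyclic Z).1 hZ₂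
    exact isZero_Q_obj_of_acyclic _ (hT Z hZ₁ hZac)
  exact (Triangle.isZero₃_iff_isIso₁ _ hd).1 hzero

variable [HasDerivedCategory.{w} A]

include hkf hres hT in
/-- the counit of a left derived functor of `T` is an isomorphism on complexes in `kf`. -/
theorem isIso_counit_app (LF : DerivedCategory A ⥤ DerivedCategory B)
    (α : DerivedCategory.Qh ⋙ LF ⟶
      T.mapHomotopyCategory (ComplexShape.up ℤ) ⋙ DerivedCategory.Qh)
    [hLF : LF.IsLeftDerivedFunctor α (HomotopyCategory.quasiIso A (ComplexShape.up ℤ))]
    (P : CochainComplex A ℤ) (hP : kf P) :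
    IsIso (α.app ((HomotopyCategory.quotient A (ComplexShape.up ℤ)).obj P)) := by
  haveI := isTriangulated hkf
  haveI := isLeftDerivabilityStructure hkf hres
  have key : ∀ (W : MorphismProperty (HomotopyCategory A (ComplexShape.up ℤ)))
      (_ : HomotopyCategory.quasiIso A (ComplexShape.up ℤ) = W)
      [DerivedCategory.Qh.IsLocalization W], LF.IsLeftDerivedFunctor α W := by
    intro W hW inst
    subst hW
    exact hLF
  haveI : LF.IsLeftDerivedFunctor α (HomotopyCategory.subcategoryAcyclic A).trW :=
    key _ (HomotopyCategory.quasiIso_eq_trW_subcategoryAcyclic A)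
  exact LeftDerivedOp.isIso_app_of_isLeftDerivedFunctor
    ((kfProp kf).triangulatedLocalizerMorphism (HomotopyCategory.subcategoryAcyclic A))
    (T.mapHomotopyCategory (ComplexShape.up ℤ) ⋙ DerivedCategory.Qh)
    (derives hkf T hT) α ⟨(HomotopyCategory.quotient A (ComplexShape.up ℤ)).obj P, hP⟩

include hkf hres hT in
/-- `LF (Q P) ≅ Q (T P)` for `P` in `kf`. -/
noncomputable def counitIso (LF : DerivedCategory A ⥤ DerivedCategory B)
    (α : DerivedCategory.Qh ⋙ LF ⟶
      T.mapHomotopyCategory (ComplexShape.up ℤ) ⋙ DerivedCategory.Qh)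
    [hLF : LF.IsLeftDerivedFunctor α (HomotopyCategory.quasiIso A (ComplexShape.up ℤ))]
    (P : CochainComplex A ℤ) (hP : kf P) :
    LF.obj (DerivedCategory.Q.obj P) ≅
      DerivedCategory.Q.obj ((T.mapHomologicalComplex (ComplexShape.up ℤ)).obj P) :=
  @asIso _ _ _ _ (α.app ((HomotopyCategory.quotient A (ComplexShape.up ℤ)).obj P))
    (isIso_counit_app hkf hres T hT LF α P hP)

end Derives

end Groth.Agent.Lib.Helper28.AdaptedLeft
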