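import Mathlib.Algebra.Homology.BifunctorShift
import Mathlib.Algebra.Homology.HomotopyCategory.DegreewiseSplit
import Mathlib.Algebra.Homology.HomologySequenceLemmas
import Mathlib.Algebra.Homology.HomotopyCategory.Acyclic
import Mathlib.Algebra.Homology.HomotopyCategory.ShiftSequence
import Mathlib.Algebra.Homology.HomologicalComplexBiprod
import Mathlib.Algebra.Homology.DerivedCategory.Basic

/-!
# K-flat complexes for a general bifunctor: formal properties

`F : C₁ ⥤ C₂ ⥤ D` a bifunctor between abelian categories, additive in each variable.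
* termwise split short exact sequences are preserved by `F.map₂CochainComplex` in each variable;
* if `K` is K-flat, then `- ⊗ K` preserves quasi-isomorphisms (mapping cylinder argument);
* two-out-of-three for K-flatness and mapping cones.
-/

set_option autoImplicit false
open CategoryTheory CategoryTheory.Limits Category HomologicalComplex

namespace Groth.Agent.Lib.Helper28.BiK

section Gen

variable {D : Type*} [Category D] [Abelian D]

lemma quasiIso_of_acyclic {K K' : CochainComplex D ℤ} (f : K ⟶ K') (hK : K.Acyclic)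
    (hK' : K'.Acyclic) : QuasiIso f := by
  rw [quasiIso_iff]
  intro i
  rw [quasiIsoAt_iff_isIso_homologyMap]
  have h1 : IsZero (K.homology i) := (hK i).isZero_homology
  have h2 : IsZero (K'.homology i) := (hK' i).isZero_homology
  exact ⟨0, h1.eq_of_src _ _, h2.eq_of_src _ _⟩

lemma acyclic_of_quasiIso {K K' : CochainComplex D ℤ} (f : K ⟶ K') [QuasiIso f]
    (hK : K.Acyclic) : K'.Acyclic := by
  intro i
  rw [HomologicalComplex.exactAt_iff_isZero_homology]
  exact IsZero.of_iso (hK i).isZero_homology (asIso (HomologicalComplex.homologyMap f i)).symm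

lemma acyclic_of_quasiIso' {K K' : CochainComplex D ℤ} (f : K ⟶ K') [QuasiIso f]
    (hK : K'.Acyclic) : K.Acyclic := by
  intro i
  rw [HomologicalComplex.exactAt_iff_isZero_homology]
  exact IsZero.of_iso (hK i).isZero_homology (asIso (HomologicalComplex.homologyMap f i))

lemma acyclic_iff (K : CochainComplex D ℤ) : K.Acyclic ↔ ∀ i : ℤ, IsZero (K.homology i) :=
  forall_congr' (fun i => HomologicalComplex.exactAt_iff_isZero_homology K i)

lemma quasiIso_f_of_acyclic_X₃ {S : ShortComplex (CochainComplex D ℤ)} (hS : S.ShortExact)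
    (h : S.X₃.Acyclic) : QuasiIso S.f := by
  rw [quasiIso_iff]
  intro i
  rw [quasiIsoAt_iff_isIso_homologyMap]
  have hz : ∀ j, IsZero (S.X₃.homology j) := fun j => (h j).isZero_homology
  haveI : Mono (HomologicalComplex.homologyMap S.f i) :=
    (hS.homology_exact₁ (i - 1) i (by simp)).mono_g ((hz (i - 1)).eq_of_src _ _)
  haveI : Epi (HomologicalComplex.homologyMap S.f i) :=
    (hS.homology_exact₂ i).epi_f ((hz i).eq_of_tgt _ _)
  exact isIso_of_mono_of_epi _

lemma quasiIso_g_of_acyclic_X₁ {S : ShortComplex (CochainComplex D ℤ)} (hS : S.ShortExact)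
    (h : S.X₁.Acyclic) : QuasiIso S.g := by
  rw [quasiIso_iff]
  intro i
  rw [quasiIsoAt_iff_isIso_homologyMap]
  have hz : ∀ j, IsZero (S.X₁.homology j) := fun j => (h j).isZero_homology
  haveI : Mono (HomologicalComplex.homologyMap S.g i) :=
    (hS.homology_exact₂ i).mono_g ((hz i).eq_of_src _ _)
  haveI : Epi (HomologicalComplex.homologyMap S.g i) :=
    (hS.homology_exact₃ i (i + 1) (by simp)).epi_f ((hz (i + 1)).eq_of_tgt _ _)
  exact isIso_of_mono_of_epi _

lemma quasiIso_iff_acyclic_mappingCone {K K' : CochainComplex D ℤ} (g : K ⟶ K') :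
    QuasiIso g ↔ (CochainComplex.mappingCone g).Acyclic := by
  have h := (HomotopyCategory.subcategoryAcyclic D).trW_iff_of_distinguished _
    (HomotopyCategory.mappingCone_triangleh_distinguished g)
  rw [← HomotopyCategory.quasiIso_eq_trW_subcategoryAcyclic] at h
  have h' : HomotopyCategory.quasiIso D (ComplexShape.up ℤ)
      ((HomotopyCategory.quotient _ (ComplexShape.up ℤ)).map g) ↔
      HomotopyCategory.subcategoryAcyclic D
        ((HomotopyCategory.quotient _ (ComplexShape.up ℤ)).obj (CochainComplex.mappingCone g)) := h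
  rw [HomotopyCategory.quotient_map_mem_quasiIso_iff,
    HomotopyCategory.quotient_obj_mem_subcategoryAcyclic_iff_acyclic] at h'
  exact h'

lemma acyclic_shift_iff (K : CochainComplex D ℤ) (n : ℤ) :
    ((CategoryTheory.shiftFunctor (CochainComplex D ℤ) n).obj K).Acyclic ↔ K.Acyclic := by
  rw [acyclic_iff, acyclic_iff]
  constructor
  · intro h i
    exact IsZero.of_iso (h (i - n))
      ((CochainComplex.ShiftSequence.shiftIso D n (i - n) i (by omega)).app K).symm
  · intro h i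
    exact IsZero.of_iso (h (n + i))
      ((CochainComplex.ShiftSequence.shiftIso D n i (n + i) rfl).app K)

end Gen

section Cyl

open CochainComplex

variable {C : Type*} [Category C] [Abelian C]

/-- the mapping cylinder of `η : M ⟶ Q`, as `cone(𝟙 M) ⊞ Q`. -/
noncomputable abbrev cylZ (M Q : CochainComplex C ℤ) : CochainComplex C ℤ :=
  (mappingCone (𝟙 M) : CochainComplex C ℤ) ⊞ Q

variable {M Q : CochainComplex C ℤ} (η : M ⟶ Q)

/-- the inclusion `M ⟶ cone(𝟙 M) ⊞ Q`. -/
noncomputable def cylI : M ⟶ cylZ M Q := biprod.lift (mappingCone.inr (𝟙 M)) η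

lemma cylI_snd : cylI η ≫ (biprod.snd : cylZ M Q ⟶ Q) = η := biprod.lift_snd _ _

/-- the cokernel of `cylI η`. -/
noncomputable def cylC : CochainComplex C ℤ := cokernel (cylI η)

variable (M Q) in
/-- the split short exact sequence `cone(𝟙 M) ⟶ cone(𝟙 M) ⊞ Q ⟶ Q`. -/
noncomputable def cylS₁ : ShortComplex (CochainComplex C ℤ) :=
  ShortComplex.mk (biprod.inl : (mappingCone (𝟙 M) : CochainComplex C ℤ) ⟶ cylZ M Q)
    (biprod.snd : cylZ M Q ⟶ Q) (by simp)

variable (M Q) in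
/-- the splitting of `cylS₁`. -/
noncomputable def cylS₁_splitting : (cylS₁ M Q).Splitting :=
  ShortComplex.Splitting.ofHasBinaryBiproduct (mappingCone (𝟙 M) : CochainComplex C ℤ) Q

variable (M Q) in
lemma cylS₁_shortExact : (cylS₁ M Q).ShortExact := (cylS₁_splitting M Q).shortExact

variable (M Q) in
/-- the degreewise retraction of `cylI`. -/
noncomputable def cylR₂ (q : ℤ) : (cylZ M Q).X q ⟶ M.X q :=
  (biprod.fst : cylZ M Q ⟶ (mappingCone (𝟙 M) : CochainComplex C ℤ)).f q ≫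
    (mappingCone.snd (𝟙 M)).v q q (add_zero q)

lemma cylI_f_cylR₂ (q : ℤ) : (cylI η).f q ≫ cylR₂ M Q q = 𝟙 _ := by
  dsimp only [cylR₂, cylI]
  rw [← assoc, ← HomologicalComplex.comp_f, biprod.lift_fst, mappingCone.inr_f_snd_v]

instance (q : ℤ) : Mono ((cylI η).f q) := mono_of_mono_fac (cylI_f_cylR₂ η q)

instance : Mono (cylI η) := HomologicalComplex.mono_of_mono_f _ inferInstance

/-- the short exact sequence `M ⟶ cone(𝟙 M) ⊞ Q ⟶ cylC η`. -/
noncomputable def cylS₂ : ShortComplex (CochainComplex C ℤ) :=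
  ShortComplex.mk (cylI η) (cokernel.π (cylI η)) (cokernel.condition (cylI η))

lemma cylS₂_shortExact : (cylS₂ η).ShortExact :=
  { exact := ShortComplex.exact_cokernel (cylI η)
    mono_f := inferInstanceAs (Mono (cylI η))
    epi_g := inferInstanceAs (Epi (cokernel.π (cylI η))) }

/-- the degreewise splittings of `cylS₂`. -/
noncomputable def cylS₂_splitting (n : ℤ) :
    ((cylS₂ η).map (HomologicalComplex.eval _ _ n)).Splitting :=
  ShortComplex.Splitting.ofExactOfRetraction _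
    (((HomologicalComplex.shortExact_iff_degreewise_shortExact (cylS₂ η)).1
      (cylS₂_shortExact η) n).exact) (cylR₂ M Q n) (cylI_f_cylR₂ η n)
    (((HomologicalComplex.shortExact_iff_degreewise_shortExact (cylS₂ η)).1
      (cylS₂_shortExact η) n).epi_g)

lemma acyclic_cone_id (M : CochainComplex C ℤ) :
    (mappingCone (𝟙 M) : CochainComplex C ℤ).Acyclic :=
  (quasiIso_iff_acyclic_mappingCone (𝟙 M)).1 inferInstance

instance quasiIso_cyl_snd : QuasiIso (biprod.snd : cylZ M Q ⟶ Q) :=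
  quasiIso_g_of_acyclic_X₁ (cylS₁_shortExact M Q) (acyclic_cone_id M)

instance quasiIso_cylI [QuasiIso η] : QuasiIso (cylI η) := by
  haveI : QuasiIso (cylI η ≫ (biprod.snd : cylZ M Q ⟶ Q)) := by rw [cylI_snd]; infer_instance
  exact quasiIso_of_comp_right (cylI η) (biprod.snd : cylZ M Q ⟶ Q)

lemma acyclic_cylC [QuasiIso η] : (cylC η).Acyclic :=
  (cylS₂_shortExact η).acyclic_X₃ (inferInstanceAs (QuasiIso (cylI η)))

end Cyl

end Groth.Agent.Lib.Helper28.BiK

namespace Groth.Agent.Lib.Helper28.BiK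

section Bi

variable {C₁ C₂ D : Type*} [Category C₁] [Category C₂] [Category D] [Abelian C₁] [Abelian C₂]
  [Abelian D] (F : C₁ ⥤ C₂ ⥤ D) [F.Additive] [∀ X, (F.obj X).Additive]
  [∀ (K₁ : CochainComplex C₁ ℤ) (K₂ : CochainComplex C₂ ℤ),
    HasMapBifunctor K₁ K₂ F (ComplexShape.up ℤ)]

/-- the bifunctor on cochain complexes. -/
noncomputable abbrev T : CochainComplex C₁ ℤ ⥤ CochainComplex C₂ ℤ ⥤ CochainComplex D ℤ :=
  F.map₂CochainComplex

/-- the degree `n` map `K ⊗ L ⟶ K' ⊗ L` induced by a graded map `K ⟶ K'`. -/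
noncomputable def descL {K K' : CochainComplex C₁ ℤ} (L : CochainComplex C₂ ℤ)
    (φ : ∀ p, K.X p ⟶ K'.X p) (n : ℤ) :
    (mapBifunctor K L F (ComplexShape.up ℤ)).X n ⟶ (mapBifunctor K' L F (ComplexShape.up ℤ)).X n :=
  mapBifunctorDesc (fun p q h => (F.map (φ p)).app (L.X q) ≫
    ιMapBifunctor K' L F (ComplexShape.up ℤ) p q n h)

/-- the degree `n` map `K ⊗ L ⟶ K ⊗ L'` induced by a graded map `L ⟶ L'`. -/
noncomputable def descR (K : CochainComplex C₁ ℤ) {L L' : CochainComplex C₂ ℤ}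
    (φ : ∀ q, L.X q ⟶ L'.X q) (n : ℤ) :
    (mapBifunctor K L F (ComplexShape.up ℤ)).X n ⟶ (mapBifunctor K L' F (ComplexShape.up ℤ)).X n :=
  mapBifunctorDesc (fun p q h => (F.obj (K.X p)).map (φ q) ≫
    ιMapBifunctor K L' F (ComplexShape.up ℤ) p q n h)

@[reassoc]
lemma ι_descL {K K' : CochainComplex C₁ ℤ} (L : CochainComplex C₂ ℤ)
    (φ : ∀ p, K.X p ⟶ K'.X p) (p q n : ℤ) (h : p + q = n) :
    ιMapBifunctor K L F (ComplexShape.up ℤ) p q n h ≫ descL F L φ n =
      (F.map (φ p)).app (L.X q) ≫ ιMapBifunctor K' L F (ComplexShape.up ℤ) p q n h :=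
  ι_mapBifunctorDesc _ _ _ _

@[reassoc]
lemma ι_descR (K : CochainComplex C₁ ℤ) {L L' : CochainComplex C₂ ℤ}
    (φ : ∀ q, L.X q ⟶ L'.X q) (p q n : ℤ) (h : p + q = n) :
    ιMapBifunctor K L F (ComplexShape.up ℤ) p q n h ≫ descR F K φ n =
      (F.obj (K.X p)).map (φ q) ≫ ιMapBifunctor K L' F (ComplexShape.up ℤ) p q n h :=
  ι_mapBifunctorDesc _ _ _ _

lemma descL_comp {K K' K'' : CochainComplex C₁ ℤ} (L : CochainComplex C₂ ℤ)
    (φ : ∀ p, K.X p ⟶ K'.X p) (ψ : ∀ p, K'.X p ⟶ K''.X p) (n : ℤ) :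
    descL F L φ n ≫ descL F L ψ n = descL F L (fun p => φ p ≫ ψ p) n := by
  apply mapBifunctor.hom_ext
  intro p q h
  rw [ι_descL_assoc, ι_descL, ι_descL, Functor.map_comp, NatTrans.comp_app, assoc]

lemma descR_comp (K : CochainComplex C₁ ℤ) {L L' L'' : CochainComplex C₂ ℤ}
    (φ : ∀ q, L.X q ⟶ L'.X q) (ψ : ∀ q, L'.X q ⟶ L''.X q) (n : ℤ) :
    descR F K φ n ≫ descR F K ψ n = descR F K (fun q => φ q ≫ ψ q) n := by
  apply mapBifunctor.hom_ext
  intro p q h
  rw [ι_descR_assoc, ι_descR, ι_descR, Functor.map_comp, assoc]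

lemma descL_add {K K' : CochainComplex C₁ ℤ} (L : CochainComplex C₂ ℤ)
    (φ ψ : ∀ p, K.X p ⟶ K'.X p) (n : ℤ) :
    descL F L φ n + descL F L ψ n = descL F L (fun p => φ p + ψ p) n := by
  apply mapBifunctor.hom_ext
  intro p q h
  rw [Preadditive.comp_add, ι_descL, ι_descL, ι_descL, Functor.map_add, NatTrans.app_add,
    Preadditive.add_comp]

lemma descR_add (K : CochainComplex C₁ ℤ) {L L' : CochainComplex C₂ ℤ}
    (φ ψ : ∀ q, L.X q ⟶ L'.X q) (n : ℤ) :
    descR F K φ n + descR F K ψ n = descR F K (fun q => φ q + ψ q) n := by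
  apply mapBifunctor.hom_ext
  intro p q h
  rw [Preadditive.comp_add, ι_descR, ι_descR, ι_descR, Functor.map_add, Preadditive.add_comp]

lemma descL_id (K : CochainComplex C₁ ℤ) (L : CochainComplex C₂ ℤ) (n : ℤ) :
    descL F L (fun p => 𝟙 (K.X p)) n = 𝟙 _ := by
  apply mapBifunctor.hom_ext
  intro p q h
  rw [ι_descL, CategoryTheory.Functor.map_id, NatTrans.id_app, id_comp, comp_id]

lemma descR_id (K : CochainComplex C₁ ℤ) (L : CochainComplex C₂ ℤ) (n : ℤ) :
    descR F K (fun q => 𝟙 (L.X q)) n = 𝟙 _ := by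
  apply mapBifunctor.hom_ext
  intro p q h
  rw [ι_descR, CategoryTheory.Functor.map_id, id_comp, comp_id]

lemma descL_zero (K K' : CochainComplex C₁ ℤ) (L : CochainComplex C₂ ℤ) (n : ℤ) :
    descL F L (fun p => (0 : K.X p ⟶ K'.X p)) n = 0 := by
  apply mapBifunctor.hom_ext
  intro p q h
  rw [ι_descL, Functor.map_zero, NatTrans.app_zero, zero_comp, comp_zero]

lemma descR_zero (K : CochainComplex C₁ ℤ) (L L' : CochainComplex C₂ ℤ) (n : ℤ) :
    descR F K (fun q => (0 : L.X q ⟶ L'.X q)) n = 0 := by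
  apply mapBifunctor.hom_ext
  intro p q h
  rw [ι_descR, Functor.map_zero, zero_comp, comp_zero]

lemma mapL_f {K K' : CochainComplex C₁ ℤ} (f : K ⟶ K') (L : CochainComplex C₂ ℤ) (n : ℤ) :
    (mapBifunctorMap f (𝟙 L) F (ComplexShape.up ℤ)).f n = descL F L (fun p => f.f p) n := by
  apply mapBifunctor.hom_ext
  intro p q h
  rw [ι_mapBifunctorMap, ι_descL]
  simp

lemma mapR_f (K : CochainComplex C₁ ℤ) {L L' : CochainComplex C₂ ℤ} (g : L ⟶ L') (n : ℤ) :
    (mapBifunctorMap (𝟙 K) g F (ComplexShape.up ℤ)).f n = descR F K (fun q => g.f q) n := by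
  apply mapBifunctor.hom_ext
  intro p q h
  rw [ι_mapBifunctorMap, ι_descR]
  simp

lemma mapL_zero (K K' : CochainComplex C₁ ℤ) (L : CochainComplex C₂ ℤ) :
    mapBifunctorMap (0 : K ⟶ K') (𝟙 L) F (ComplexShape.up ℤ) = 0 := by
  ext n : 1
  rw [mapL_f]
  exact descL_zero F K K' L n

lemma mapR_zero (K : CochainComplex C₁ ℤ) (L L' : CochainComplex C₂ ℤ) :
    mapBifunctorMap (𝟙 K) (0 : L ⟶ L') F (ComplexShape.up ℤ) = 0 := by
  ext n : 1
  rw [mapR_f]
  exact descR_zero F K L L' n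

lemma mapL_comp {K K' K'' : CochainComplex C₁ ℤ} (f : K ⟶ K') (g : K' ⟶ K'')
    (L : CochainComplex C₂ ℤ) :
    mapBifunctorMap (f ≫ g) (𝟙 L) F (ComplexShape.up ℤ) =
      mapBifunctorMap f (𝟙 L) F (ComplexShape.up ℤ) ≫
        mapBifunctorMap g (𝟙 L) F (ComplexShape.up ℤ) := by
  ext n : 1
  rw [HomologicalComplex.comp_f, mapL_f, mapL_f, mapL_f, descL_comp]
  rfl

lemma mapR_comp (K : CochainComplex C₁ ℤ) {L L' L'' : CochainComplex C₂ ℤ} (f : L ⟶ L')
    (g : L' ⟶ L'') :
    mapBifunctorMap (𝟙 K) (f ≫ g) F (ComplexShape.up ℤ) =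
      mapBifunctorMap (𝟙 K) f F (ComplexShape.up ℤ) ≫
        mapBifunctorMap (𝟙 K) g F (ComplexShape.up ℤ) := by
  ext n : 1
  rw [HomologicalComplex.comp_f, mapR_f, mapR_f, mapR_f, descR_comp]
  rfl

/-- the short complex `S ⊗ L`. -/
noncomputable def leftSC (S : ShortComplex (CochainComplex C₁ ℤ)) (L : CochainComplex C₂ ℤ) :
    ShortComplex (CochainComplex D ℤ) :=
  ShortComplex.mk (mapBifunctorMap S.f (𝟙 L) F (ComplexShape.up ℤ))
    (mapBifunctorMap S.g (𝟙 L) F (ComplexShape.up ℤ)) (by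
    rw [← mapL_comp, S.zero, mapL_zero])

/-- the short complex `K ⊗ S`. -/
noncomputable def rightSC (K : CochainComplex C₁ ℤ) (S : ShortComplex (CochainComplex C₂ ℤ)) :
    ShortComplex (CochainComplex D ℤ) :=
  ShortComplex.mk (mapBifunctorMap (𝟙 K) S.f F (ComplexShape.up ℤ))
    (mapBifunctorMap (𝟙 K) S.g F (ComplexShape.up ℤ)) (by
    rw [← mapR_comp, S.zero, mapR_zero])

/-- the degreewise splittings of `S ⊗ L` for a degreewise split `S`. -/
noncomputable def leftSC_splitting' (S : ShortComplex (CochainComplex C₁ ℤ))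
    (L : CochainComplex C₂ ℤ) (r : ∀ p, S.X₂.X p ⟶ S.X₁.X p) (s : ∀ p, S.X₃.X p ⟶ S.X₂.X p)
    (hfr : ∀ p, S.f.f p ≫ r p = 𝟙 _) (hsg : ∀ p, s p ≫ S.g.f p = 𝟙 _)
    (hid : ∀ p, r p ≫ S.f.f p + S.g.f p ≫ s p = 𝟙 _) (n : ℤ) :
    ((leftSC F S L).map (HomologicalComplex.eval _ _ n)).Splitting where
  r := descL F L r n
  s := descL F L s n
  f_r := by
    change (mapBifunctorMap S.f (𝟙 L) F (ComplexShape.up ℤ)).f n ≫ descL F L r n = 𝟙 _
    rw [mapL_f, descL_comp]
    simp_rw [hfr]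
    exact descL_id F S.X₁ L n
  s_g := by
    change descL F L s n ≫ (mapBifunctorMap S.g (𝟙 L) F (ComplexShape.up ℤ)).f n = 𝟙 _
    rw [mapL_f, descL_comp]
    simp_rw [hsg]
    exact descL_id F S.X₃ L n
  id := by
    change descL F L r n ≫ (mapBifunctorMap S.f (𝟙 L) F (ComplexShape.up ℤ)).f n +
      (mapBifunctorMap S.g (𝟙 L) F (ComplexShape.up ℤ)).f n ≫ descL F L s n = 𝟙 _
    rw [mapL_f, mapL_f, descL_comp, descL_comp, descL_add]
    simp_rw [hid]
    exact descL_id F S.X₂ L n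

/-- the degreewise splittings of `K ⊗ S` for a degreewise split `S`. -/
noncomputable def rightSC_splitting' (K : CochainComplex C₁ ℤ)
    (S : ShortComplex (CochainComplex C₂ ℤ))
    (r : ∀ p, S.X₂.X p ⟶ S.X₁.X p) (s : ∀ p, S.X₃.X p ⟶ S.X₂.X p)
    (hfr : ∀ p, S.f.f p ≫ r p = 𝟙 _) (hsg : ∀ p, s p ≫ S.g.f p = 𝟙 _)
    (hid : ∀ p, r p ≫ S.f.f p + S.g.f p ≫ s p = 𝟙 _) (n : ℤ) :
    ((rightSC F K S).map (HomologicalComplex.eval _ _ n)).Splitting where
  r := descR F K r n
  s := descR F K s n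
  f_r := by
    change (mapBifunctorMap (𝟙 K) S.f F (ComplexShape.up ℤ)).f n ≫ descR F K r n = 𝟙 _
    rw [mapR_f, descR_comp]
    simp_rw [hfr]
    exact descR_id F K S.X₁ n
  s_g := by
    change descR F K s n ≫ (mapBifunctorMap (𝟙 K) S.g F (ComplexShape.up ℤ)).f n = 𝟙 _
    rw [mapR_f, descR_comp]
    simp_rw [hsg]
    exact descR_id F K S.X₃ n
  id := by
    change descR F K r n ≫ (mapBifunctorMap (𝟙 K) S.f F (ComplexShape.up ℤ)).f n +
      (mapBifunctorMap (𝟙 K) S.g F (ComplexShape.up ℤ)).f n ≫ descR F K s n = 𝟙 _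
    rw [mapR_f, mapR_f, descR_comp, descR_comp, descR_add]
    simp_rw [hid]
    exact descR_id F K S.X₂ n

theorem leftSC_shortExact (S : ShortComplex (CochainComplex C₁ ℤ))
    (σ : ∀ n, (S.map (HomologicalComplex.eval _ _ n)).Splitting) (L : CochainComplex C₂ ℤ) :
    (leftSC F S L).ShortExact :=
  HomologicalComplex.shortExact_of_degreewise_shortExact _
    (fun n => (leftSC_splitting' F S L (fun p => (σ p).r) (fun p => (σ p).s)
      (fun p => (σ p).f_r) (fun p => (σ p).s_g) (fun p => (σ p).id) n).shortExact)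

theorem rightSC_shortExact (K : CochainComplex C₁ ℤ) (S : ShortComplex (CochainComplex C₂ ℤ))
    (σ : ∀ n, (S.map (HomologicalComplex.eval _ _ n)).Splitting) :
    (rightSC F K S).ShortExact :=
  HomologicalComplex.shortExact_of_degreewise_shortExact _
    (fun n => (rightSC_splitting' F K S (fun p => (σ p).r) (fun p => (σ p).s)
      (fun p => (σ p).f_r) (fun p => (σ p).s_g) (fun p => (σ p).id) n).shortExact)

end Bi

section KFlat

open CochainComplex

variable {C₁ C₂ D : Type*} [Category C₁] [Category C₂] [Category D] [Abelian C₁] [Abelian C₂]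
  [Abelian D] (F : C₁ ⥤ C₂ ⥤ D) [F.Additive] [∀ X, (F.obj X).Additive]
  [∀ (K₁ : CochainComplex C₁ ℤ) (K₂ : CochainComplex C₂ ℤ),
    HomologicalComplex.HasMapBifunctor K₁ K₂ F (ComplexShape.up ℤ)]

/-- `K` is K-flat (on the right) for the bifunctor `F`. -/
def KFlatR (K : CochainComplex C₂ ℤ) : Prop :=
  ∀ L : CochainComplex C₁ ℤ, L.Acyclic →
    (HomologicalComplex.mapBifunctor L K F (ComplexShape.up ℤ)).Acyclic

/-- if `K` is K-flat, then `- ⊗ K` preserves quasi-isomorphisms. -/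
theorem quasiIso_mapL_of_kflat (K : CochainComplex C₂ ℤ) (hK : KFlatR F K)
    {M Q : CochainComplex C₁ ℤ} (η : M ⟶ Q) [QuasiIso η] :
    QuasiIso (mapBifunctorMap η (𝟙 K) F (ComplexShape.up ℤ)) := by
  have hS₁ := leftSC_shortExact F (cylS₁ M Q)
    (fun n => (cylS₁_splitting M Q).map (HomologicalComplex.eval _ _ n)) K
  haveI : QuasiIso (mapBifunctorMap (biprod.snd : cylZ M Q ⟶ Q) (𝟙 K) F (ComplexShape.up ℤ)) :=
    quasiIso_g_of_acyclic_X₁ hS₁ (hK _ (acyclic_cone_id M))
  have hS₂ := leftSC_shortExact F (cylS₂ η) (cylS₂_splitting η) K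
  haveI : QuasiIso (mapBifunctorMap (cylI η) (𝟙 K) F (ComplexShape.up ℤ)) :=
    quasiIso_f_of_acyclic_X₃ hS₂ (hK _ (acyclic_cylC η))
  rw [← cylI_snd η, mapL_comp]
  infer_instance

lemma acyclic_mapBifunctor_shift_iff (L : CochainComplex C₁ ℤ) (K : CochainComplex C₂ ℤ) :
    (HomologicalComplex.mapBifunctor L (K⟦(1 : ℤ)⟧) F (ComplexShape.up ℤ)).Acyclic ↔
      (HomologicalComplex.mapBifunctor L K F (ComplexShape.up ℤ)).Acyclic := by
  rw [← acyclic_shift_iff (HomologicalComplex.mapBifunctor L K F (ComplexShape.up ℤ)) 1]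
  exact ⟨fun h => acyclic_of_quasiIso (CochainComplex.mapBifunctorShift₂Iso L K F 1).hom h,
    fun h => acyclic_of_quasiIso (CochainComplex.mapBifunctorShift₂Iso L K F 1).inv h⟩

/-- two-out-of-three for K-flatness and mapping cones. -/
theorem kflat_mappingCone {K₁ K₂ : CochainComplex C₂ ℤ} (φ : K₁ ⟶ K₂) :
    (KFlatR F K₁ → KFlatR F K₂ → KFlatR F (mappingCone φ)) ∧
    (KFlatR F K₁ → KFlatR F (mappingCone φ) → KFlatR F K₂) ∧
    (KFlatR F K₂ → KFlatR F (mappingCone φ) → KFlatR F K₁) := by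
  have hS : ∀ L : CochainComplex C₁ ℤ,
      (rightSC F L (mappingCone.triangleRotateShortComplex φ)).ShortExact := fun L =>
    rightSC_shortExact F L _ (mappingCone.triangleRotateShortComplexSplitting φ)
  refine ⟨fun h1 h2 L hL => ?_, fun h1 h3 L hL => ?_, fun h2 h3 L hL => ?_⟩
  · exact (hS L).acyclic_X₂ (h2 L hL) ((acyclic_mapBifunctor_shift_iff F L K₁).2 (h1 L hL))
  · exact (hS L).acyclic_X₁ (quasiIso_of_acyclic _ (h3 L hL)
      ((acyclic_mapBifunctor_shift_iff F L K₁).2 (h1 L hL)))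
  · exact (acyclic_mapBifunctor_shift_iff F L K₁).1
      ((hS L).acyclic_X₃ (quasiIso_of_acyclic _ (h2 L hL) (h3 L hL)))

end KFlat

end Groth.Agent.Lib.Helper28.BiK
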