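import Mathlib
import Groth.Agent.Lib.Helper28.BiKFlat
import Groth.Agent.Lib.Helper28.AdaptedLeft

/-!
# K-flat complexes form a stable class (helper28)

For a bifunctor `F : C₁ ⥤ C₂ ⥤ D`, the class `BiK.KFlatR F` of (right) K-flat complexes contains
zero and is stable under shifts and mapping cones.
-/

set_option autoImplicit false
open CategoryTheory CategoryTheory.Limits Category HomologicalComplex ZeroObject

namespace Groth.Agent.Lib.Helper28.BiK

open CochainComplex

variable {C₁ C₂ D : Type*} [Category C₁] [Category C₂] [Category D] [Abelian C₁] [Abelian C₂]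
  [Abelian D] (F : C₁ ⥤ C₂ ⥤ D) [F.Additive] [∀ X, (F.obj X).Additive]
  [∀ (K₁ : CochainComplex C₁ ℤ) (K₂ : CochainComplex C₂ ℤ),
    HomologicalComplex.HasMapBifunctor K₁ K₂ F (ComplexShape.up ℤ)]

lemma acyclic_of_isZero {E : Type*} [Category E] [Abelian E] (K : CochainComplex E ℤ)
    (hK : IsZero K) : K.Acyclic := fun i => by
  rw [HomologicalComplex.exactAt_iff_isZero_homology]
  exact Functor.map_isZero (HomologicalComplex.homologyFunctor E (ComplexShape.up ℤ) i) hK

lemma isZero_mapBifunctor_zero (L : CochainComplex C₁ ℤ) :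
    IsZero (HomologicalComplex.mapBifunctor L (0 : CochainComplex C₂ ℤ) F (ComplexShape.up ℤ)) := by
  rw [IsZero.iff_id_eq_zero]
  ext n : 1
  apply mapBifunctor.hom_ext
  intro p q h
  apply IsZero.eq_of_src
  exact Functor.map_isZero _
    (Functor.map_isZero (HomologicalComplex.eval C₂ (ComplexShape.up ℤ) q) (isZero_zero _))

lemma kflatR_zero : KFlatR F (0 : CochainComplex C₂ ℤ) := fun L _ =>
  acyclic_of_isZero _ (isZero_mapBifunctor_zero F L)

lemma acyclic_mapBifunctor_shift_iff' (L : CochainComplex C₁ ℤ) (K : CochainComplex C₂ ℤ)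
    (n : ℤ) :
    (HomologicalComplex.mapBifunctor L (K⟦n⟧) F (ComplexShape.up ℤ)).Acyclic ↔
      (HomologicalComplex.mapBifunctor L K F (ComplexShape.up ℤ)).Acyclic := by
  rw [← acyclic_shift_iff (HomologicalComplex.mapBifunctor L K F (ComplexShape.up ℤ)) n]
  exact ⟨fun h => acyclic_of_quasiIso (CochainComplex.mapBifunctorShift₂Iso L K F n).hom h,
    fun h => acyclic_of_quasiIso (CochainComplex.mapBifunctorShift₂Iso L K F n).inv h⟩

lemma kflatR_shift (K : CochainComplex C₂ ℤ) (n : ℤ) (hK : KFlatR F K) : KFlatR F (K⟦n⟧) :=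
  fun L hL => (acyclic_mapBifunctor_shift_iff' F L K n).2 (hK L hL)

lemma isStableClass : AdaptedLeft.IsStableClass (KFlatR F) where
  zero := kflatR_zero F
  shift K n hK := kflatR_shift F K n hK
  cone φ h₁ h₂ := (kflat_mappingCone F φ).1 h₁ h₂

end Groth.Agent.Lib.Helper28.BiK
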