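import Mathlib
import Groth.Agent.Lib.Helper28.BiKFlat

/-!
# K-flatness and symmetric bifunctors (helper28)

* `mapBifunctorNatIso`: a natural isomorphism of bifunctors `F ≅ G` induces an isomorphism
  `mapBifunctor K₁ K₂ F c ≅ mapBifunctor K₁ K₂ G c`.
* `kflatR_of_natIso`.
* `quasiIso_mapR_of_kflat_flip`: if `K` is K-flat for `F.flip`, then `K ⊗ -` preserves
  quasi-isomorphisms.
* `quasiIso_mapR_of_kflat`: for a symmetric bifunctor with K-flat resolutions, tensoring with any
  complex preserves quasi-isomorphisms between K-flat complexes.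
-/

set_option autoImplicit false
open CategoryTheory CategoryTheory.Limits HomologicalComplex

namespace Groth.Agent.Lib.Helper28.BiK

section NatIso

variable {C₁ C₂ D : Type*} [Category C₁] [Category C₂] [Category D]
  [HasZeroMorphisms C₁] [HasZeroMorphisms C₂] [Preadditive D]
  {I₁ I₂ J : Type*} {c₁ : ComplexShape I₁} {c₂ : ComplexShape I₂}
  (F G : C₁ ⥤ C₂ ⥤ D) [F.PreservesZeroMorphisms] [∀ X, (F.obj X).PreservesZeroMorphisms]
  [G.PreservesZeroMorphisms] [∀ X, (G.obj X).PreservesZeroMorphisms] (e : F ≅ G)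
  (K₁ : HomologicalComplex C₁ c₁) (K₂ : HomologicalComplex C₂ c₂)

/-- the isomorphism of bicomplexes induced by a natural isomorphism of bifunctors. -/
noncomputable def bicomplexIso :
    ((F.mapBifunctorHomologicalComplex c₁ c₂).obj K₁).obj K₂ ≅
      ((G.mapBifunctorHomologicalComplex c₁ c₂).obj K₁).obj K₂ :=
  HomologicalComplex.Hom.isoOfComponents
    (fun p => HomologicalComplex.Hom.isoOfComponents
      (fun q => (e.app (K₁.X p)).app (K₂.X q))
      (fun q q' _ => ((e.hom.app (K₁.X p)).naturality (K₂.d q q')).symm))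
    (fun p p' _ => by
      ext q
      exact (congr_app (e.hom.naturality (K₁.d p p')) (K₂.X q)).symm)

variable (c : ComplexShape J) [TotalComplexShape c₁ c₂ c] [DecidableEq J]
  [HasMapBifunctor K₁ K₂ F c] [HasMapBifunctor K₁ K₂ G c]

/-- a natural isomorphism of bifunctors induces an isomorphism of total complexes. -/
noncomputable def mapBifunctorNatIso : mapBifunctor K₁ K₂ F c ≅ mapBifunctor K₁ K₂ G c :=
  HomologicalComplex₂.total.mapIso (bicomplexIso F G e K₁ K₂) c

end NatIso

section KFlat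

open CochainComplex

variable {C₁ C₂ D : Type*} [Category C₁] [Category C₂] [Category D] [Abelian C₁] [Abelian C₂]
  [Abelian D]

section

variable (F G : C₁ ⥤ C₂ ⥤ D) [F.Additive] [∀ X, (F.obj X).Additive]
  [G.Additive] [∀ X, (G.obj X).Additive]
  [∀ (K₁ : CochainComplex C₁ ℤ) (K₂ : CochainComplex C₂ ℤ),
    HomologicalComplex.HasMapBifunctor K₁ K₂ F (ComplexShape.up ℤ)]
  [∀ (K₁ : CochainComplex C₁ ℤ) (K₂ : CochainComplex C₂ ℤ),
    HomologicalComplex.HasMapBifunctor K₁ K₂ G (ComplexShape.up ℤ)]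

lemma kflatR_of_natIso (e : F ≅ G) (K : CochainComplex C₂ ℤ) (h : KFlatR F K) : KFlatR G K :=
  fun L hL => acyclic_of_quasiIso (mapBifunctorNatIso F G e L K (ComplexShape.up ℤ)).hom (h L hL)

end

section

variable (F : C₁ ⥤ C₂ ⥤ D) [F.Additive] [∀ X, (F.obj X).Additive]
  [F.flip.Additive] [∀ X, (F.flip.obj X).Additive]
  [∀ (K₁ : CochainComplex C₁ ℤ) (K₂ : CochainComplex C₂ ℤ),
    HomologicalComplex.HasMapBifunctor K₁ K₂ F (ComplexShape.up ℤ)]

/-- if `K` is K-flat for the flipped bifunctor, then `K ⊗ -` preserves quasi-isomorphisms. -/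
theorem quasiIso_mapR_of_kflat_flip (K : CochainComplex C₁ ℤ) (hK : KFlatR F.flip K)
    {M Q : CochainComplex C₂ ℤ} (η : M ⟶ Q) [QuasiIso η] :
    QuasiIso (mapBifunctorMap (𝟙 K) η F (ComplexShape.up ℤ)) := by
  have h1 : QuasiIso (mapBifunctorMap η (𝟙 K) F.flip (ComplexShape.up ℤ)) :=
    quasiIso_mapL_of_kflat F.flip K hK η
  have h2 := mapBifunctorFlipIso_hom_naturality (𝟙 K) η F (ComplexShape.up ℤ)
  have h3 : mapBifunctorMap (𝟙 K) η F (ComplexShape.up ℤ) =
      (mapBifunctorFlipIso K M F (ComplexShape.up ℤ)).inv ≫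
        mapBifunctorMap η (𝟙 K) F.flip (ComplexShape.up ℤ) ≫
          (mapBifunctorFlipIso K Q F (ComplexShape.up ℤ)).hom := by
    rw [h2, Iso.inv_hom_id_assoc]
  rw [h3]
  infer_instance

end

end KFlat

end Groth.Agent.Lib.Helper28.BiK
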