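import Mathlib
import Groth.Prelude.Def_KFlatSite
import Groth.Agent.Lib.Helper28.BiKFlatSymm
import Groth.Agent.Lib.Helper30.ModTensorAdj
import Groth.Agent.Lib.Helper30.FlatSES

/-!
# Symmetry of the tensor product on a ringed site and K-flatness (helper28)

* `tensorBiSymmIso : tensorBi O ≅ (tensorBi O).flip`.
* `kflatR_flip`: a K-flat complex is also K-flat on the left.
* `quasiIso_tensor_left_of_resolution`: tensoring (on the left) with any complex which admits a
  K-flat resolution preserves quasi-isomorphisms between K-flat complexes.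
-/

set_option autoImplicit false
universe u
open CategoryTheory MonoidalCategory Limits HomologicalComplex

namespace Groth.Agent.Lib.Helper28.SiteKFlatSymm

open Groth.Agent.Lib.Helper30.ModTensor Groth.Agent.Lib.Helper30.ModTensorAdj
  Groth.Agent.Lib.Helper30.FlatSES Groth.Agent.Lib.Helper28

variable {C : Type u} [SmallCategory C] {J : GrothendieckTopology C} (O : Sheaf J CommRingCat.{u})

/-- the symmetry of the tensor product, as an isomorphism of bifunctors. -/
noncomputable def tensorBiSymmIso : ModSite.tensorBi O ≅ (ModSite.tensorBi O).flip :=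
  NatIso.ofComponents (fun G => tensorBiSymm O G) (by
    intro G G' g
    refine NatTrans.ext (funext fun M => ?_)
    show (shf O).map (valHom O g ▷ valObj O M) ≫ (shf O).map (β_ (valObj O G') (valObj O M)).hom =
      (shf O).map (β_ (valObj O G) (valObj O M)).hom ≫ (shf O).map (valObj O M ◁ valHom O g)
    rw [← Functor.map_comp, ← Functor.map_comp, BraidedCategory.braiding_naturality_left])

instance flip_additive : (ModSite.tensorBi O).flip.Additive where
  map_add {X Y f g} := by
    refine NatTrans.ext (funext fun Z => ?_)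
    exact ((ModSite.tensorBi O).obj Z).map_add

/-- a (right) K-flat complex is also left K-flat. -/
lemma kflatR_flip (K : CochainComplex (ModSite.Mod O) ℤ) (h : BiK.KFlatR (ModSite.tensorBi O) K) :
    BiK.KFlatR (ModSite.tensorBi O).flip K :=
  BiK.kflatR_of_natIso (ModSite.tensorBi O) (ModSite.tensorBi O).flip (tensorBiSymmIso O) K h

/-- tensoring on the left with a complex admitting a K-flat resolution preserves
quasi-isomorphisms between K-flat complexes. -/
theorem quasiIso_tensor_left_of_resolution {P Q : CochainComplex (ModSite.Mod O) ℤ}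
    (hP : BiK.KFlatR (ModSite.tensorBi O) P) (hQ : BiK.KFlatR (ModSite.tensorBi O) Q)
    (α : P ⟶ Q) [QuasiIso α] (F F' : CochainComplex (ModSite.Mod O) ℤ) (r : F' ⟶ F) [QuasiIso r]
    (hF' : BiK.KFlatR (ModSite.tensorBi O) F') :
    QuasiIso (mapBifunctorMap (𝟙 F) α (ModSite.tensorBi O) (ComplexShape.up ℤ)) := by
  have top : QuasiIso (mapBifunctorMap (𝟙 F') α (ModSite.tensorBi O) (ComplexShape.up ℤ)) :=
    BiK.quasiIso_mapR_of_kflat_flip (ModSite.tensorBi O) F' (kflatR_flip O F' hF') α
  have left : QuasiIso (mapBifunctorMap r (𝟙 P) (ModSite.tensorBi O) (ComplexShape.up ℤ)) :=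
    BiK.quasiIso_mapL_of_kflat (ModSite.tensorBi O) P hP r
  have right : QuasiIso (mapBifunctorMap r (𝟙 Q) (ModSite.tensorBi O) (ComplexShape.up ℤ)) :=
    BiK.quasiIso_mapL_of_kflat (ModSite.tensorBi O) Q hQ r
  have sq : mapBifunctorMap (𝟙 F') α (ModSite.tensorBi O) (ComplexShape.up ℤ) ≫
      mapBifunctorMap r (𝟙 Q) (ModSite.tensorBi O) (ComplexShape.up ℤ) =
      mapBifunctorMap r (𝟙 P) (ModSite.tensorBi O) (ComplexShape.up ℤ) ≫
        mapBifunctorMap (𝟙 F) α (ModSite.tensorBi O) (ComplexShape.up ℤ) :=
    (((ModSite.tensorBi O).map₂CochainComplex).map r).naturality α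
  have h1 : QuasiIso (mapBifunctorMap r (𝟙 P) (ModSite.tensorBi O) (ComplexShape.up ℤ) ≫
      mapBifunctorMap (𝟙 F) α (ModSite.tensorBi O) (ComplexShape.up ℤ)) := by
    rw [← sq]
    infer_instance
  exact quasiIso_of_comp_left (mapBifunctorMap r (𝟙 P) (ModSite.tensorBi O) (ComplexShape.up ℤ))
    (mapBifunctorMap (𝟙 F) α (ModSite.tensorBi O) (ComplexShape.up ℤ))

end Groth.Agent.Lib.Helper28.SiteKFlatSymm
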