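import Mathlib
import Groth.Agent.S1030

/-!
# Resolutions of unbounded complexes by colimits of towers (helper28)

* `toCx`, `toCxMap`: a functor to complexes as a complex of functors.
* `quasiIso_colimMap`: a sequential (or any exact-shape) colimit of quasi-isomorphisms is a
  quasi-isomorphism.
* `isColimitOfEventuallyIso`: a cocone over `ℕ ⥤ A` whose legs are eventually isomorphisms is a
  colimit cocone.
* `truncFunctor`, `truncCocone`, `isColimitTruncCocone`: `K = colim τ_{≤ n} K`.
* `exists_tower_resolution`: the main existence theorem.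
-/

set_option autoImplicit false
universe v u
open CategoryTheory CategoryTheory.Limits

namespace Groth.Agent.Lib.Helper28.TowerRes

section ToCx

variable {J : Type*} [Category J] {A : Type*} [Category A] [Abelian A]
  {ι : Type*} {c : ComplexShape ι}

/-- a functor to complexes, seen as a complex of functors. -/
@[simps]
def toCx (F : J ⥤ HomologicalComplex A c) : HomologicalComplex (J ⥤ A) c where
  X i := F ⋙ HomologicalComplex.eval A c i
  d i j := Functor.whiskerLeft F (HomologicalComplex.dNatTrans A c i j)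
  shape i j h := by
    ext t
    exact (F.obj t).shape i j h
  d_comp_d' i j k _ _ := by
    ext t
    exact (F.obj t).d_comp_d i j k

/-- functoriality of `toCx`. -/
@[simps]
def toCxMap {F G : J ⥤ HomologicalComplex A c} (π : F ⟶ G) : toCx F ⟶ toCx G where
  f i := Functor.whiskerRight π (HomologicalComplex.eval A c i)
  comm' i j _ := by
    ext t
    exact (π.app t).comm i j

lemma quasiIso_toCxMap {F G : J ⥤ HomologicalComplex A c} (π : F ⟶ G)
    (h : ∀ t, QuasiIso (π.app t)) : QuasiIso (toCxMap π) := by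
  rw [HomologicalComplex.quasiIso_iff_evaluation]
  intro t
  exact h t

end ToCx

section Colim

variable {J : Type*} [Category J] {A : Type*} [Category A] [Abelian A]
  {ι : Type*} {c : ComplexShape ι} [HasColimitsOfShape J A]

/-- the termwise colimit of a functor to complexes. -/
noncomputable def colimCx (F : J ⥤ HomologicalComplex A c) : HomologicalComplex A c :=
  ((colim : (J ⥤ A) ⥤ A).mapHomologicalComplex c).obj (toCx F)

/-- the legs of the colimit cocone with point `colimCx F`. -/
noncomputable def colimCxι (F : J ⥤ HomologicalComplex A c) (t : J) : F.obj t ⟶ colimCx F where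
  f := fun i => colimit.ι (F ⋙ HomologicalComplex.eval A c i) t
  comm' := fun i j _ =>
    ι_colimMap (Functor.whiskerLeft F (HomologicalComplex.dNatTrans A c i j)) t

/-- the colimit cocone with point `colimCx F`. -/
noncomputable def colimCxCocone (F : J ⥤ HomologicalComplex A c) : Cocone F where
  pt := colimCx F
  ι :=
    { app := fun t => colimCxι F t
      naturality := fun t t' g => by
        ext i
        exact (colimit.w (F ⋙ HomologicalComplex.eval A c i) g).trans (Category.comp_id _).symm }

noncomputable def isColimitColimCxCocone (F : J ⥤ HomologicalComplex A c) :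
    IsColimit (colimCxCocone F) :=
  HomologicalComplex.isColimitOfEval _ _ (fun i =>
    IsColimit.ofIsoColimit (colimit.isColimit (F ⋙ HomologicalComplex.eval A c i))
      (Cocone.ext (Iso.refl _) (fun _ => Category.comp_id _)))

/-- the map induced on termwise colimits. -/
noncomputable def colimCxMap {F G : J ⥤ HomologicalComplex A c} (π : F ⟶ G) :
    colimCx F ⟶ colimCx G :=
  ((colim : (J ⥤ A) ⥤ A).mapHomologicalComplex c).map (toCxMap π)

@[reassoc]
lemma ι_colimCxMap {F G : J ⥤ HomologicalComplex A c} (π : F ⟶ G) (t : J) :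
    colimCxι F t ≫ colimCxMap π = π.app t ≫ colimCxι G t := by
  ext i
  exact ι_colimMap (Functor.whiskerRight π (HomologicalComplex.eval A c i)) t

variable [HasExactColimitsOfShape J A]

instance : PreservesFiniteLimits (colim : (J ⥤ A) ⥤ A) :=
  HasExactColimitsOfShape.preservesFiniteLimits

lemma quasiIso_colimCxMap {F G : J ⥤ HomologicalComplex A c} (π : F ⟶ G)
    (h : ∀ t, QuasiIso (π.app t)) : QuasiIso (colimCxMap π) := by
  have := quasiIso_toCxMap π h
  exact HomologicalComplex.quasiIso_map_of_preservesHomology (toCxMap π) colim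

/-- a colimit (of exact shape) of quasi-isomorphisms is a quasi-isomorphism. -/
theorem quasiIso_colimMap {F G : J ⥤ HomologicalComplex A c} (π : F ⟶ G)
    (h : ∀ t, QuasiIso (π.app t)) (sF : Cocone F) (hF : IsColimit sF) (sG : Cocone G)
    (hG : IsColimit sG) (q : sF.pt ⟶ sG.pt)
    (hq : ∀ t, sF.ι.app t ≫ q = π.app t ≫ sG.ι.app t) : QuasiIso q := by
  let eF : sF.pt ≅ colimCx F := hF.coconePointUniqueUpToIso (isColimitColimCxCocone F)
  let eG : sG.pt ≅ colimCx G := hG.coconePointUniqueUpToIso (isColimitColimCxCocone G)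
  have key : q = eF.hom ≫ colimCxMap π ≫ eG.inv := by
    apply hF.hom_ext
    intro t
    have h1 : sF.ι.app t ≫ eF.hom = colimCxι F t :=
      IsColimit.comp_coconePointUniqueUpToIso_hom hF (isColimitColimCxCocone F) t
    have h2 : colimCxι G t ≫ eG.inv = sG.ι.app t :=
      IsColimit.comp_coconePointUniqueUpToIso_inv hG (isColimitColimCxCocone G) t
    rw [hq, reassoc_of% h1, ι_colimCxMap_assoc, h2]
  have := quasiIso_colimCxMap π h
  rw [key]
  infer_instance

end Colim

section EventuallyIso

variable {A : Type*} [Category A]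

/-- a cocone over `ℕ ⥤ A` whose legs are isomorphisms from some stage on is a colimit cocone. -/
noncomputable def isColimitOfEventuallyIso (F : ℕ ⥤ A) (s : Cocone F) (N : ℕ)
    (h : ∀ n, N ≤ n → IsIso (s.ι.app n)) : IsColimit s := by
  haveI : IsIso (s.ι.app N) := h N le_rfl
  have hw : ∀ (n : ℕ) (hn : N ≤ n), F.map (homOfLE hn) ≫ s.ι.app n = s.ι.app N := fun n hn =>
    s.w (homOfLE hn)
  have key : ∀ (n : ℕ) (hn : N ≤ n), s.ι.app n ≫ inv (s.ι.app N) ≫ F.map (homOfLE hn) = 𝟙 _ := by
    intro n hn
    haveI : IsIso (s.ι.app n) := h n hn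
    rw [← cancel_mono (s.ι.app n), Category.assoc, Category.assoc, hw, IsIso.inv_hom_id,
      Category.comp_id, Category.id_comp]
  exact
    { desc := fun t => inv (s.ι.app N) ≫ t.ι.app N
      fac := fun t n => by
        rcases le_total n N with hn | hn
        · rw [← s.w (homOfLE hn), Category.assoc, IsIso.hom_inv_id_assoc]
          exact t.w (homOfLE hn)
        · rw [← t.w (homOfLE hn), ← Category.assoc, ← Category.assoc]
          have := key n hn
          rw [← Category.assoc] at this
          rw [this, Category.id_comp]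
      uniq := fun t m hm => by
        rw [← hm N, IsIso.inv_hom_id_assoc] }

end EventuallyIso

section Trunc

open HomologicalComplex ComplexShape in
set_option backward.defeqAttrib.useBackward true in
set_option backward.isDefEq.respectTransparency false in
/-- the canonical truncation `τ_{≤ n} K ⟶ K` is an isomorphism in degrees `< n`. -/
lemma isIso_ιTruncLE_f {C : Type*} [Category C] [Abelian C] (K : CochainComplex C ℤ) (n i : ℤ)
    (hi : i < n) : IsIso ((K.ιTruncLE n).f i) := by
  have hk : (embeddingUpIntLE n).f (n - i).natAbs = i := by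
    dsimp
    rw [Int.natAbs_of_nonneg (by lia), sub_sub_cancel]
  have hb : ¬ (embeddingUpIntLE n).BoundaryLE (n - i).natAbs := fun h ↦ by
    rw [boundaryLE_embeddingUpIntLE_iff, Int.natAbs_eq_zero] at h
    lia
  change IsIso ((K.op.πTruncGE (embeddingUpIntLE n).op).f i).unop
  suffices IsIso ((K.op.πTruncGE (embeddingUpIntLE n).op).f i) from inferInstance
  dsimp [HomologicalComplex.πTruncGE]
  rw [Embedding.isIso_liftExtend_f_iff _ _ _ (show (embeddingUpIntLE n).op.f _ = i from hk)]
  exact K.op.isIso_restrictionToTruncGE' _ _ (by simpa using hb)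

variable {A : Type u} [Category.{v} A] [Abelian A] (K : CochainComplex A ℤ)

open Groth.Agent.S1030

instance mono_ιTruncLE (n : ℤ) : Mono (K.ιTruncLE n) :=
  inferInstanceAs (Mono (HomologicalComplex.ιTruncLE K (ComplexShape.embeddingUpIntLE n)))

/-- the tower of canonical truncations `τ_{≤ 0} K ⟶ τ_{≤ 1} K ⟶ ⋯`. -/
noncomputable def truncFunctor : ℕ ⥤ CochainComplex A ℤ :=
  Functor.ofSequence (X := fun n : ℕ => K.truncLE (n : ℤ))
    (fun n : ℕ => truncTrans K (n : ℤ) ((n + 1 : ℕ) : ℤ) (by push_cast; lia))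

lemma truncFunctor_map_succ (n : ℕ) :
    (truncFunctor K).map (homOfLE (Nat.le_add_right n 1)) =
      truncTrans K (n : ℤ) ((n + 1 : ℕ) : ℤ) (by push_cast; lia) :=
  Functor.ofSequence_map_homOfLE_succ _ n

/-- the cocone `τ_{≤ n} K ⟶ K`. -/
noncomputable def truncCocone : Cocone (truncFunctor K) where
  pt := K
  ι := NatTrans.ofSequence (F := truncFunctor K) (G := (Functor.const ℕ).obj K)
    (fun n : ℕ => K.ιTruncLE (n : ℤ)) (fun n => by
      rw [truncFunctor_map_succ]
      exact (truncTrans_ι K _ _ _).trans (Category.comp_id _).symm)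

/-- `K` is the colimit of its canonical truncations. -/
noncomputable def isColimitTruncCocone : IsColimit (truncCocone K) :=
  HomologicalComplex.isColimitOfEval _ _ (fun i =>
    isColimitOfEventuallyIso _ _ (i + 1).toNat (fun n hn => by
      have hn' : i + 1 ≤ (n : ℤ) := Int.toNat_le.1 hn
      exact isIso_ιTruncLE_f K (n : ℤ) i (by lia)))

end Trunc

section Main

variable {A : Type u} [Category.{v} A] [Abelian A] [HasColimitsOfShape ℕ A]
  [HasExactColimitsOfShape ℕ A]

open Groth.Agent.S1030

/-- **Resolution of an unbounded complex by a sequential colimit of bounded above complexes with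
terms in a class `P`** (having enough `P`-quotients): the colimit of the tower of `S1030`. -/
theorem exists_tower_resolution (P : ObjectProperty A) [P.IsClosedUnderIsomorphisms]
    (hP0 : ∃ Z : A, IsZero Z ∧ P Z) (hPsum : ∀ X Y : A, P X → P Y → P (X ⊞ Y))
    (hP : ∀ X : A, ∃ (Y : A) (π : Y ⟶ X), P Y ∧ Epi π) (G : CochainComplex A ℤ) :
    ∃ (Qf : ℕ ⥤ CochainComplex A ℤ) (s : Cocone Qf) (_ : Nonempty (IsColimit s)) (q : s.pt ⟶ G),
      (∀ n, ∃ b : ℤ, (Qf.obj n).IsStrictlyLE b) ∧ (∀ n i, P ((Qf.obj n).X i)) ∧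
      (∀ n i, (∃ r : (Qf.obj (n + 1)).X i ⟶ (Qf.obj n).X i,
          (Qf.map (homOfLE (Nat.le_add_right n 1))).f i ≫ r = 𝟙 _) ∧
        P (cokernel ((Qf.map (homOfLE (Nat.le_add_right n 1))).f i))) ∧
      QuasiIso q ∧ ∀ i, Epi (q.f i) := by
  obtain ⟨Q, ι, π, hπ, hb, hPQ, hι, hcomp⟩ := Groth.Agent.S1030.result P hP0 hPsum hP G
  let Qf : ℕ ⥤ CochainComplex A ℤ := Functor.ofSequence (X := Q) ι
  have hQf : ∀ n, Qf.map (homOfLE (Nat.le_add_right n 1)) = ι n :=
    fun n => Functor.ofSequence_map_homOfLE_succ _ n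
  have hnat : ∀ n : ℕ, ι n ≫ π (n + 1) =
      π n ≫ truncTrans G (n : ℤ) ((n + 1 : ℕ) : ℤ) (by push_cast; lia) := fun n => by
    rw [← cancel_mono (G.ιTruncLE ((n + 1 : ℕ) : ℤ)), Category.assoc, Category.assoc, truncTrans_ι]
    exact (hcomp n).symm
  let πnat : Qf ⟶ truncFunctor G :=
    NatTrans.ofSequence (F := Qf) (G := truncFunctor G) (fun n => π n) (fun n => by
      rw [hQf, truncFunctor_map_succ]
      exact hnat n)
  let t : Cocone Qf := ⟨G, πnat ≫ (truncCocone G).ι⟩
  let q : (colimit.cocone Qf).pt ⟶ G := (colimit.isColimit Qf).desc t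
  have hq : ∀ n, (colimit.cocone Qf).ι.app n ≫ q = πnat.app n ≫ (truncCocone G).ι.app n :=
    fun n => (colimit.isColimit Qf).fac t n
  have hqis : QuasiIso q :=
    quasiIso_colimMap πnat (fun n => (hπ n).1) _ (colimit.isColimit Qf) _
      (isColimitTruncCocone G) q hq
  refine ⟨Qf, colimit.cocone Qf, ⟨colimit.isColimit Qf⟩, q, hb, hPQ, ?_, hqis, ?_⟩
  · intro n i
    rw [hQf]
    exact hι n i
  · intro i
    let n : ℕ := (i + 1).toNat
    have hn : i < (n : ℤ) := by
      have : i + 1 ≤ (n : ℤ) := Int.toNat_le.1 le_rfl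
      lia
    have h1 : ((colimit.cocone Qf).ι.app n).f i ≫ q.f i = (π n).f i ≫ (G.ιTruncLE (n : ℤ)).f i := by
      rw [← HomologicalComplex.comp_f, hq n]
      rfl
    have h2 : Epi ((π n).f i) := (hπ n).2 i
    have h3 : IsIso ((G.ιTruncLE (n : ℤ)).f i) := isIso_ιTruncLE_f G (n : ℤ) i hn
    have h4 : Epi ((π n).f i ≫ (G.ιTruncLE (n : ℤ)).f i) := epi_comp _ _
    have : Epi (((colimit.cocone Qf).ι.app n).f i ≫ q.f i) := by
      rw [h1]
      exact h4
    exact epi_of_epi (((colimit.cocone Qf).ι.app n).f i) (q.f i)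

end Main

end Groth.Agent.Lib.Helper28.TowerRes
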