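import Mathlib
import Groth.Prelude.Def_KFlatSite
import Groth.Agent.Lib.Helper28.TowerRes
import Groth.Agent.Lib.Helper5.KFlatColim
import Groth.Agent.Lib.Helper5.KFlatSingle
import Groth.Agent.Lib.Helper30.ModFlat
import Groth.Agent.Lib.Helper30.FlatSES
import Groth.Agent.Lib.Helper30.FlatTwoOfThree
import Groth.Agent.Lib.Helper30.AcyclicFlat

/-!
# K-flat resolutions on a ringed site (helper28)

* `isFlat_of_isColimit'`: universe-generic version of helper30's `isFlat_of_isColimit`.
* `isFlat_biprod`.
* `exists_isKFlat_resolution_of_bdd`: K-flat resolutions with flat terms, given that bounded above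
  complexes of flats are K-flat.
-/

set_option autoImplicit false
universe u
open CategoryTheory Limits ZeroObject

namespace Groth.Agent.Lib.Helper28.SiteKFlat

open Groth.Agent.Lib.Helper30.ModTensor Groth.Agent.Lib.Helper30.ModTensorAdj

variable {C : Type u} [SmallCategory C] {J : GrothendieckTopology C} (O : Sheaf J CommRingCat.{u})

/-- A colimit of flat modules, of a shape along which colimits are exact, is flat
(any universe for the shape). -/
theorem isFlat_of_isColimit' {I : Type*} [Category I] [HasColimitsOfShape I (ModSite.Mod O)]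
    [HasExactColimitsOfShape I (ModSite.Mod O)] (D : I ⥤ ModSite.Mod O)
    (hD : ∀ i, ModSite.IsFlat (D.obj i)) (c : Cocone D) (hc : IsColimit c) :
    ModSite.IsFlat c.pt := by
  constructor
  · let T := (ModSite.tensorBi O).flip.obj c.pt
    let Φ : ModSite.Mod O ⥤ (I ⥤ ModSite.Mod O) :=
      ModSite.tensorBi O ⋙ (Functor.whiskeringLeft I _ _).obj D
    have hΦ : PreservesFiniteLimits Φ := by
      constructor
      intro K _ _
      have : ∀ i, PreservesLimitsOfShape K (Φ ⋙ (evaluation I (ModSite.Mod O)).obj i) := by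
        intro i
        have := (hD i).1
        exact inferInstanceAs (PreservesLimitsOfShape K ((ModSite.tensorBi O).flip.obj (D.obj i)))
      exact preservesLimitsOfShape_of_evaluation Φ K this
    have hcolim : PreservesFiniteLimits (colim : (I ⥤ ModSite.Mod O) ⥤ ModSite.Mod O) :=
      HasExactColimitsOfShape.preservesFiniteLimits
    let e : T ≅ Φ ⋙ colim :=
      NatIso.ofComponents (fun G =>
        (isColimitOfPreserves ((ModSite.tensorBi O).obj G) hc).coconePointUniqueUpToIso
          (colimit.isColimit (Φ.obj G))) (by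
        intro G G' g
        apply (isColimitOfPreserves ((ModSite.tensorBi O).obj G) hc).hom_ext
        intro i
        have h1 : (((ModSite.tensorBi O).obj G).mapCocone c).ι.app i ≫ T.map g =
            ((ModSite.tensorBi O).map g).app (D.obj i) ≫
              (((ModSite.tensorBi O).obj G').mapCocone c).ι.app i :=
          ((ModSite.tensorBi O).map g).naturality (c.ι.app i)
        rw [reassoc_of% h1, IsColimit.comp_coconePointUniqueUpToIso_hom,
          IsColimit.comp_coconePointUniqueUpToIso_hom_assoc]
        show _ = colimit.ι (Φ.obj G) i ≫ colimMap (Φ.map g)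
        rw [ι_colimMap]
        rfl)
    exact preservesFiniteLimits_of_natIso e.symm
  · infer_instance

/-- a binary biproduct of flat modules is flat. -/
lemma isFlat_biprod (X Y : ModSite.Mod O) (hX : ModSite.IsFlat X) (hY : ModSite.IsFlat Y) :
    ModSite.IsFlat (X ⊞ Y) := by
  let S : ShortComplex (ModSite.Mod O) := ShortComplex.mk (biprod.inl : X ⟶ X ⊞ Y) biprod.snd
    biprod.inl_snd
  have hS : S.ShortExact := (ShortComplex.Splitting.ofHasBinaryBiproduct X Y).shortExact
  exact Groth.Agent.Lib.Helper30.FlatSES.isFlat_X₂ O S hS hX hY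

/-- flatness as an object property. -/
def flatProp : ObjectProperty (ModSite.Mod O) := fun F => ModSite.IsFlat F

instance : (flatProp O).IsClosedUnderIsomorphisms where
  of_iso e h := Groth.Agent.Lib.Helper5.KFlatSingle.isFlat_of_iso O e h

/-- **K-flat resolutions**, assuming bounded above complexes of flats are K-flat. -/
theorem exists_isKFlat_resolution_of_bdd
    (hbdd : ∀ (K : CochainComplex (ModSite.Mod O) ℤ) (b : ℤ), K.IsStrictlyLE b →
      (∀ n : ℤ, ModSite.IsFlat (K.X n)) → ModSite.IsKFlat K)
    (G : CochainComplex (ModSite.Mod O) ℤ) :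
    ∃ (K : CochainComplex (ModSite.Mod O) ℤ) (q : K ⟶ G), ModSite.IsKFlat K ∧
      (∀ n : ℤ, ModSite.IsFlat (K.X n)) ∧ QuasiIso q ∧ ∀ n : ℤ, Epi (q.f n) := by
  haveI := Groth.Agent.Lib.Helper5.KFlatColim.hasExactColimitsOfShape_nat O
  obtain ⟨Qf, s, ⟨hs⟩, q, hb, hPQ, -, hq, hepi⟩ :=
    TowerRes.exists_tower_resolution (flatProp O)
      ⟨0, isZero_zero _, Groth.Agent.Lib.Helper30.AcyclicFlat.isFlat_of_isZero O 0 (isZero_zero _)⟩
      (fun X Y hX hY => isFlat_biprod O X Y hX hY)
      (fun X => by
        obtain ⟨L, hL, π, hπ⟩ := Groth.Agent.Lib.Helper30.FlatSES.exists_flat_epi O X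
        exact ⟨L, π, hL, hπ⟩) G
  refine ⟨s.pt, q, ?_, ?_, hq, hepi⟩
  · refine Groth.Agent.Lib.Helper5.KFlatColim.isKFlat_of_isColimit O Qf s hs (fun n => ?_)
    obtain ⟨b, hb⟩ := hb n
    exact hbdd _ b hb (hPQ n)
  · intro i
    have hc : IsColimit ((HomologicalComplex.eval (ModSite.Mod O) (ComplexShape.up ℤ) i).mapCocone s) :=
      isColimitOfPreserves (HomologicalComplex.eval (ModSite.Mod O) (ComplexShape.up ℤ) i) hs
    have hfl : ∀ n, ModSite.IsFlat
        ((Qf ⋙ HomologicalComplex.eval (ModSite.Mod O) (ComplexShape.up ℤ) i).obj n) :=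
      fun n => hPQ n i
    exact isFlat_of_isColimit' O (Qf ⋙ HomologicalComplex.eval (ModSite.Mod O) (ComplexShape.up ℤ) i)
      hfl ((HomologicalComplex.eval (ModSite.Mod O) (ComplexShape.up ℤ) i).mapCocone s) hc

end Groth.Agent.Lib.Helper28.SiteKFlat
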