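import Mathlib
import Groth.Prelude.Def_KFlatSite
import Groth.Agent.Lib.Helper28.SiteKFlatSymm
import Groth.Agent.Lib.Helper5.KFlatSingle
import Groth.Agent.S9060

/-!
# Acyclic K-flat complexes on a ringed site (helper28)

* `acyclic_mapBifunctor_of_kflat_acyclic`: if `K` is K-flat and acyclic, `Tot(N ⊗ K)` is acyclic for
  EVERY complex `N`.
* `exactAt_mapBifunctor_iff_of_concentrated`: iff-version of helper5's lemma.
* `exact_tensor_obj_of_kflat_acyclic`: if `K` is K-flat and acyclic, then for every module `G` the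
  complex `G ⊗ K^•` is exact.
-/

set_option autoImplicit false
universe u
open CategoryTheory MonoidalCategory Limits HomologicalComplex

namespace Groth.Agent.Lib.Helper28.SiteKFlatAcyclic

open Groth.Agent.Lib.Helper28 Groth.Agent.Lib.Helper30.FlatSES

section Abstract

variable {C₁ C₂ D : Type*} [Category C₁] [Category C₂] [Category D]
  [Preadditive C₁] [HasZeroMorphisms C₂] [Abelian D]
  (G : C₁ ⥤ C₂ ⥤ D) [G.Additive] [∀ X₁, (G.obj X₁).PreservesZeroMorphisms]
  (F : CochainComplex C₁ ℤ) (K : CochainComplex C₂ ℤ)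
  [HasMapBifunctor F K G (ComplexShape.up ℤ)] (a : ℤ)
  (hK : ∀ q : ℤ, q ≠ a → IsZero (K.X q))

open Groth.Agent.Lib.Helper5.KFlatSingle in
include hK in
/-- when `K` is concentrated in degree `a`, `Tot(F ⊗ K)` is exact in degree `p₂ + a` iff
`F^{p₁} ⊗ K^a ⟶ F^{p₂} ⊗ K^a ⟶ F^{p₃} ⊗ K^a` is exact. -/
lemma exactAt_mapBifunctor_iff_of_concentrated (p₁ p₂ p₃ n : ℤ) (h₁₂ : p₁ + 1 = p₂)
    (h₂₃ : p₂ + 1 = p₃) (hn : p₂ + a = n) :
    (mapBifunctor F K G (ComplexShape.up ℤ)).ExactAt n ↔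
    (ShortComplex.mk ((G.map (F.d p₁ p₂)).app (K.X a)) ((G.map (F.d p₂ p₃)).app (K.X a))
      (by rw [← NatTrans.comp_app, ← G.map_comp, F.d_comp_d, G.map_zero, Limits.zero_app])).Exact := by
  rw [HomologicalComplex.exactAt_iff' _ (n - 1) n (n + 1) (by simp) (by simp)]
  have i₁ := isIso_ιMapBifunctor_of_concentrated G F K a hK p₁ (n - 1) (by lia)
  have i₂ := isIso_ιMapBifunctor_of_concentrated G F K a hK p₂ n hn
  have i₃ := isIso_ιMapBifunctor_of_concentrated G F K a hK p₃ (n + 1) (by lia)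
  refine (ShortComplex.exact_iff_of_iso (ShortComplex.isoMk
    (@asIso _ _ _ _ _ i₁) (@asIso _ _ _ _ _ i₂) (@asIso _ _ _ _ _ i₃) ?_ ?_)).symm
  · exact ι_d_of_concentrated G F K a hK p₁ p₂ (n - 1) n (by lia) hn h₁₂
  · exact ι_d_of_concentrated G F K a hK p₂ p₃ n (n + 1) hn (by lia) h₂₃

end Abstract

variable {C : Type u} [SmallCategory C] {J : GrothendieckTopology C} (O : Sheaf J CommRingCat.{u})

/-- If `K` is K-flat and acyclic, then `Tot(N ⊗ K)` is acyclic for every complex `N`. -/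
theorem acyclic_mapBifunctor_of_kflat_acyclic (K : CochainComplex (ModSite.Mod O) ℤ)
    (hK : BiK.KFlatR (ModSite.tensorBi O) K) (hKac : K.Acyclic)
    (N : CochainComplex (ModSite.Mod O) ℤ) :
    (mapBifunctor N K (ModSite.tensorBi O) (ComplexShape.up ℤ)).Acyclic := by
  obtain ⟨N', r, hN', -, hr, -⟩ := Groth.Agent.S9060.result O N
  have hN'R : BiK.KFlatR (ModSite.tensorBi O) N' := fun L hL => by
    rw [BiK.acyclic_iff]
    exact hN' L ((BiK.acyclic_iff L).1 hL)
  have hN'L := SiteKFlatSymm.kflatR_flip O N' hN'R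
  have h1 : (mapBifunctor K N' (ModSite.tensorBi O).flip (ComplexShape.up ℤ)).Acyclic :=
    hN'L K hKac
  have h2 : (mapBifunctor N' K (ModSite.tensorBi O) (ComplexShape.up ℤ)).Acyclic :=
    BiK.acyclic_of_quasiIso
      (mapBifunctorFlipIso N' K (ModSite.tensorBi O) (ComplexShape.up ℤ)).hom h1
  have h3 : QuasiIso (mapBifunctorMap r (𝟙 K) (ModSite.tensorBi O) (ComplexShape.up ℤ)) :=
    BiK.quasiIso_mapL_of_kflat (ModSite.tensorBi O) K hK r
  exact BiK.acyclic_of_quasiIso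
    (mapBifunctorMap r (𝟙 K) (ModSite.tensorBi O) (ComplexShape.up ℤ)) h2

/-- If `K` is K-flat and acyclic, then `G ⊗ K^•` is exact for every module `G`. -/
theorem exact_tensor_obj_of_kflat_acyclic (K : CochainComplex (ModSite.Mod O) ℤ)
    (hK : BiK.KFlatR (ModSite.tensorBi O) K) (hKac : K.Acyclic) (G : ModSite.Mod O)
    (p₁ p₂ p₃ : ℤ) (h₁₂ : p₁ + 1 = p₂) (h₂₃ : p₂ + 1 = p₃) :
    (ShortComplex.mk (((ModSite.tensorBi O).obj G).map (K.d p₁ p₂))
      (((ModSite.tensorBi O).obj G).map (K.d p₂ p₃))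
      (by rw [← Functor.map_comp, K.d_comp_d, Functor.map_zero])).Exact := by
  let N : CochainComplex (ModSite.Mod O) ℤ :=
    (HomologicalComplex.single (ModSite.Mod O) (ComplexShape.up ℤ) 0).obj G
  have hN : ∀ q : ℤ, q ≠ 0 → IsZero (N.X q) := fun q hq =>
    HomologicalComplex.isZero_single_obj_X (ComplexShape.up ℤ) 0 G q hq
  have h1 := acyclic_mapBifunctor_of_kflat_acyclic O K hK hKac N
  have h2 : (mapBifunctor K N (ModSite.tensorBi O).flip (ComplexShape.up ℤ)).Acyclic :=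
    BiK.acyclic_of_quasiIso
      (mapBifunctorFlipIso N K (ModSite.tensorBi O) (ComplexShape.up ℤ)).inv h1
  have h3 := (exactAt_mapBifunctor_iff_of_concentrated (ModSite.tensorBi O).flip K N 0 hN
    p₁ p₂ p₃ p₂ h₁₂ h₂₃ (add_zero p₂)).1 (h2 p₂)
  let e : N.X 0 ≅ G := HomologicalComplex.singleObjXSelf (ComplexShape.up ℤ) 0 G
  refine (ShortComplex.exact_iff_of_iso (ShortComplex.isoMk
    (((ModSite.tensorBi O).mapIso e).app (K.X p₁)) (((ModSite.tensorBi O).mapIso e).app (K.X p₂))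
    (((ModSite.tensorBi O).mapIso e).app (K.X p₃)) ?_ ?_)).1 h3
  · exact (((ModSite.tensorBi O).map e.hom).naturality (K.d p₁ p₂)).symm
  · exact (((ModSite.tensorBi O).map e.hom).naturality (K.d p₂ p₃)).symm

end Groth.Agent.Lib.Helper28.SiteKFlatAcyclic
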