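import Mathlib
import Groth.Agent.Lib.Helper28.SiteKFlatAcyclic
import Groth.Agent.Lib.Helper30.FlatTwoOfThree

/-!
# Cycles of an acyclic K-flat complex with flat terms are flat (helper28)

* `mono_of_exact_comp`: abstract diagram chase.
* `isFlat_X₃_of_mono_tensor`: in `0 → A → P → B → 0` with `P` flat and `G ⊗ A → G ⊗ P` a
  monomorphism for all `G`, the module `B` is flat.
* `isFlat_cycles`: the main result.
-/

set_option autoImplicit false
universe u
open CategoryTheory MonoidalCategory Limits HomologicalComplex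

namespace Groth.Agent.Lib.Helper28.SiteCyclesFlat

open Groth.Agent.Lib.Helper28 Groth.Agent.Lib.Helper30.FlatSES Groth.Agent.Lib.Helper30.ExtZero

section Abstract

variable {A : Type*} [Category A] [Abelian A]

/-- if `(f, e ≫ m)` is exact, `e` is an epimorphism and `f ≫ e = 0`, then `m` is a monomorphism. -/
lemma mono_of_exact_comp {X₁ X₂ Y X₃ : A} (f : X₁ ⟶ X₂) (e : X₂ ⟶ Y) (m : Y ⟶ X₃) (g : X₂ ⟶ X₃)
    [Epi e] (hfe : f ≫ e = 0) (hg : e ≫ m = g) (w : f ≫ g = 0)
    (hex : (ShortComplex.mk f g w).Exact) : Mono m := by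
  rw [Preadditive.mono_iff_cancel_zero]
  intro P k hk
  obtain ⟨A₁, π₁, hπ₁, y, hy⟩ := surjective_up_to_refinements_of_epi e k
  have h2 : y ≫ g = 0 := by
    rw [← hg, ← Category.assoc, ← hy, Category.assoc, hk, comp_zero]
  obtain ⟨A₂, π₂, hπ₂, z, hz⟩ := hex.exact_up_to_refinements y h2
  have h3 : π₂ ≫ π₁ ≫ k = 0 := by
    have hz' : π₂ ≫ y = z ≫ f := hz
    rw [hy, ← Category.assoc, hz', Category.assoc, hfe, comp_zero]
  rw [← cancel_epi π₁, ← cancel_epi π₂, h3]
  simp

end Abstract

variable {C : Type u} [SmallCategory C] {J : GrothendieckTopology C} (O : Sheaf J CommRingCat.{u})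

/-- In a short exact sequence `0 → A → P → B → 0` with `P` flat such that `G ⊗ A → G ⊗ P` is a
monomorphism for every `G`, the module `B` is flat. -/
theorem isFlat_X₃_of_mono_tensor (S : ShortComplex (ModSite.Mod O)) (hS : S.ShortExact)
    (hP : ModSite.IsFlat S.X₂)
    (hm : ∀ G : ModSite.Mod O, Mono (((ModSite.tensorBi O).obj G).map S.f)) :
    ModSite.IsFlat S.X₃ := by
  apply isFlat_of_preservesMono
  constructor
  intro M' M m hmono
  let T : ShortComplex (ModSite.Mod O) := ShortComplex.mk m (cokernel.π m) (cokernel.condition m)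
  have hT : T.ShortExact :=
    { exact := ShortComplex.exact_of_g_is_cokernel _ (cokernelIsCokernel m)
      mono_f := hmono
      epi_g := inferInstanceAs (Epi (cokernel.π m)) }
  have r1 := map_exact_epi ((ModSite.tensorBi O).obj M') S hS
  have r2 := map_exact_epi ((ModSite.tensorBi O).obj M) S hS
  have s1 := map_exact_epi ((ModSite.tensorBi O).flip.obj S.X₁) T hT
  have ha2 : Mono (((ModSite.tensorBi O).flip.obj S.X₂).map m) := by
    have := preservesMono_of_isFlat O S.X₂ hP
    infer_instance
  exact mono_of_grid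
    (((ModSite.tensorBi O).flip.obj S.X₁).map m)
    (((ModSite.tensorBi O).flip.obj S.X₂).map m)
    (((ModSite.tensorBi O).flip.obj S.X₃).map m)
    (((ModSite.tensorBi O).flip.obj S.X₁).map (cokernel.π m))
    (((ModSite.tensorBi O).flip.obj S.X₂).map (cokernel.π m))
    (((ModSite.tensorBi O).obj M').map S.f)
    (((ModSite.tensorBi O).obj M).map S.f)
    (((ModSite.tensorBi O).obj (cokernel m)).map S.f)
    (((ModSite.tensorBi O).obj M').map S.g)
    (((ModSite.tensorBi O).obj M).map S.g)
    r1.2 (S.map ((ModSite.tensorBi O).obj M')).zero (S.map ((ModSite.tensorBi O).obj M)).zero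
    r2.1 (hm (cokernel m)) (T.map ((ModSite.tensorBi O).flip.obj S.X₁)).zero s1.1 ha2
    (T.map ((ModSite.tensorBi O).flip.obj S.X₂)).zero
    (((ModSite.tensorBi O).map m).naturality S.g)
    (((ModSite.tensorBi O).map m).naturality S.f).symm
    (((ModSite.tensorBi O).map (cokernel.π m)).naturality S.f)

section Cycles

variable {A : Type*} [Category A] [Abelian A] (K : CochainComplex A ℤ)

lemma epi_toCycles_of_exactAt (i j : ℤ) (hij : i + 1 = j) (h : K.ExactAt j) :
    Epi (K.toCycles i j) := by
  have h1 : (K.sc' i j (j + 1)).Exact :=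
    (HomologicalComplex.exactAt_iff' K i j (j + 1) (by simp; lia) (by simp)).1 h
  have h2 : Epi (K.sc' i j (j + 1)).toCycles := h1.epi_toCycles
  have h3 := K.toCycles_cyclesIsoSc'_hom i j (j + 1) (by simp; lia) (by simp)
  have h5 : Epi (K.toCycles i j ≫ (K.cyclesIsoSc' i j (j + 1) (by simp; lia) (by simp)).hom) := by
    rw [h3]
    exact h2
  have h6 : K.toCycles i j = (K.toCycles i j ≫
      (K.cyclesIsoSc' i j (j + 1) (by simp; lia) (by simp)).hom) ≫
      (K.cyclesIsoSc' i j (j + 1) (by simp; lia) (by simp)).inv := by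
    rw [Category.assoc, Iso.hom_inv_id, Category.comp_id]
  rw [h6]
  exact epi_comp _ _

/-- the short exact sequence `0 → Z^i → K^i → Z^{i+1} → 0` of an acyclic complex. -/
lemma shortExact_cycles (i j : ℤ) (hij : i + 1 = j) (h : K.ExactAt j) :
    (ShortComplex.mk (K.iCycles i) (K.toCycles i j) (by
      rw [← cancel_mono (K.iCycles j), Category.assoc, K.toCycles_i, K.iCycles_d,
        zero_comp])).ShortExact := by
  have := epi_toCycles_of_exactAt K i j hij h
  refine ShortComplex.ShortExact.mk' ?_ inferInstance this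
  apply ShortComplex.exact_of_f_is_kernel
  exact isKernelOfComp (K.iCycles j) (K.d i j) (K.cyclesIsKernel i j (by simp; lia))
    _ (K.toCycles_i i j)

end Cycles

/-- **Cycles of an acyclic K-flat complex with flat terms are flat.** -/
theorem isFlat_cycles (K : CochainComplex (ModSite.Mod O) ℤ)
    (hK : BiK.KFlatR (ModSite.tensorBi O) K) (hac : K.Acyclic)
    (hfl : ∀ i : ℤ, ModSite.IsFlat (K.X i)) (n : ℤ) : ModSite.IsFlat (K.cycles n) := by
  have key : ∀ (G : ModSite.Mod O) (j : ℤ), Mono (((ModSite.tensorBi O).obj G).map (K.iCycles j)) := by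
    intro G j
    have hepi : Epi (K.toCycles (j - 1) j) := epi_toCycles_of_exactAt K (j - 1) j (by lia) (hac j)
    have hepi' : Epi (((ModSite.tensorBi O).obj G).map (K.toCycles (j - 1) j)) := inferInstance
    exact mono_of_exact_comp (((ModSite.tensorBi O).obj G).map (K.d (j - 2) (j - 1)))
      (((ModSite.tensorBi O).obj G).map (K.toCycles (j - 1) j))
      (((ModSite.tensorBi O).obj G).map (K.iCycles j))
      (((ModSite.tensorBi O).obj G).map (K.d (j - 1) j))
      (by rw [← Functor.map_comp, K.d_toCycles, Functor.map_zero])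
      (by rw [← Functor.map_comp, K.toCycles_i]) _
      (SiteKFlatAcyclic.exact_tensor_obj_of_kflat_acyclic O K hK hac G (j - 2) (j - 1) j
        (by lia) (by lia))
  have w : K.iCycles (n - 1) ≫ K.toCycles (n - 1) n = 0 := by
    rw [← cancel_mono (K.iCycles n), Category.assoc, K.toCycles_i, K.iCycles_d, zero_comp]
  let S : ShortComplex (ModSite.Mod O) := ShortComplex.mk (K.iCycles (n - 1)) (K.toCycles (n - 1) n) w
  have hS : S.ShortExact := shortExact_cycles K (n - 1) n (by lia) (hac n)
  have h1 : ModSite.IsFlat S.X₂ := hfl (n - 1)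
  have h2 : ∀ G : ModSite.Mod O, Mono (((ModSite.tensorBi O).obj G).map S.f) :=
    fun G => key G (n - 1)
  have h3 : ModSite.IsFlat S.X₃ := isFlat_X₃_of_mono_tensor O S hS h1 h2
  exact h3

end Groth.Agent.Lib.Helper28.SiteCyclesFlat
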