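import Mathlib
import Groth.Agent.Lib.Helper28.SiteCyclesFlat

set_option autoImplicit false
universe u
open CategoryTheory CategoryTheory.Limits

namespace Groth.Agent.Lib.Helper28.AcyclicMap

open Groth.Agent.Lib.Helper28.SiteCyclesFlat

variable {A B : Type*} [Category A] [Category B] [Abelian A] [Abelian B]
  (T : A ⥤ B) [T.Additive] [PreservesFiniteColimits T]

/-- a right exact additive functor which keeps the inclusions of cycles of an acyclic complex
monomorphic sends this complex to an acyclic complex. -/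
theorem acyclic_map_of_mono_iCycles (K : CochainComplex A ℤ) (hK : K.Acyclic)
    (hmono : ∀ j, Mono (T.map (K.iCycles j))) :
    ((T.mapHomologicalComplex (ComplexShape.up ℤ)).obj K).Acyclic := by
  intro j
  rw [HomologicalComplex.exactAt_iff' _ (j - 1) j (j + 1) (by simp) (by simp)]
  -- the three short complexes
  have w₂ : K.iCycles j ≫ K.toCycles j (j + 1) = 0 := by
    rw [← cancel_mono (K.iCycles (j + 1)), Category.assoc, K.toCycles_i, K.iCycles_d, zero_comp]
  let S₂ : ShortComplex A := ShortComplex.mk (K.iCycles j) (K.toCycles j (j + 1)) w₂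
  have hS₂ : S₂.ShortExact := shortExact_cycles K j (j + 1) rfl (hK (j + 1))
  haveI : PreservesColimitsOfShape WalkingParallelPair T :=
    PreservesFiniteColimits.preservesFiniteColimits WalkingParallelPair
  have hS₂' : (S₂.map T).Exact :=
    hS₂.exact.map_of_epi_of_preservesCokernel T hS₂.epi_g inferInstance
  have w₁' : T.map (K.iCycles j) ≫ T.map (K.d j (j + 1)) = 0 := by
    rw [← T.map_comp, K.iCycles_d, T.map_zero]
  let S₁' : ShortComplex B := ShortComplex.mk (T.map (K.iCycles j)) (T.map (K.d j (j + 1))) w₁'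
  let S₁ : ShortComplex B := ((T.mapHomologicalComplex (ComplexShape.up ℤ)).obj K).sc' (j - 1) j (j + 1)
  have := hmono (j + 1)
  let φ₂ : S₂.map T ⟶ S₁' :=
    { τ₁ := 𝟙 _
      τ₂ := 𝟙 _
      τ₃ := T.map (K.iCycles (j + 1))
      comm₁₂ := by
        change 𝟙 _ ≫ T.map (K.iCycles j) = T.map (K.iCycles j) ≫ 𝟙 _
        rw [Category.id_comp, Category.comp_id]
      comm₂₃ := by
        change 𝟙 _ ≫ T.map (K.d j (j + 1)) = T.map (K.toCycles j (j + 1)) ≫ T.map (K.iCycles (j + 1))
        rw [← T.map_comp, K.toCycles_i, Category.id_comp] }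
  have hS₁' : S₁'.Exact := by
    haveI : Epi φ₂.τ₁ := inferInstanceAs (Epi (𝟙 (T.obj (K.cycles j))))
    haveI : IsIso φ₂.τ₂ := inferInstanceAs (IsIso (𝟙 (T.obj (K.X j))))
    haveI : Mono φ₂.τ₃ := hmono (j + 1)
    exact (ShortComplex.exact_iff_of_epi_of_isIso_of_mono φ₂).1 hS₂'
  have hepi : Epi (T.map (K.toCycles (j - 1) j)) := by
    have := epi_toCycles_of_exactAt K (j - 1) j (by lia) (hK j)
    infer_instance
  let φ₁ : S₁ ⟶ S₁' :=
    { τ₁ := T.map (K.toCycles (j - 1) j)
      τ₂ := 𝟙 _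
      τ₃ := 𝟙 _
      comm₁₂ := by
        change T.map (K.toCycles (j - 1) j) ≫ T.map (K.iCycles j) = T.map (K.d (j - 1) j) ≫ 𝟙 _
        rw [← T.map_comp, K.toCycles_i, Category.comp_id]
      comm₂₃ := by
        change 𝟙 _ ≫ T.map (K.d j (j + 1)) = T.map (K.d j (j + 1)) ≫ 𝟙 _
        rw [Category.id_comp, Category.comp_id] }
  haveI : Epi φ₁.τ₁ := hepi
  haveI : IsIso φ₁.τ₂ := inferInstanceAs (IsIso (𝟙 (T.obj (K.X j))))
  haveI : Mono φ₁.τ₃ := inferInstanceAs (Mono (𝟙 (T.obj (K.X (j + 1)))))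
  exact (ShortComplex.exact_iff_of_epi_of_isIso_of_mono φ₁).2 hS₁'

end Groth.Agent.Lib.Helper28.AcyclicMap
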