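import Mathlib
import Groth.Prelude.Def_DerSch

set_option autoImplicit false
set_option linter.unusedSectionVars false
universe u
open CategoryTheory CategoryTheory.Limits AlgebraicGeometry Opposite TopologicalSpace

noncomputable section

namespace Groth.Agent.Lib.Helper28.SkyMod

variable {X : Scheme.{u}} (x : X)

section Obj
variable (N : Type u) [AddCommGroup N] [Module (X.presheaf.stalk x) N]

/-- sections of the skyscraper module at `x` with value `N` over `U`. -/
def Sec (U : X.Opens) : Type u := PLift (x ∈ U) → N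

instance (U : X.Opens) : AddCommGroup (Sec x N U) := inferInstanceAs (AddCommGroup (PLift (x ∈ U) → N))

variable {x N}

/-- evaluation of a section at a proof of membership. -/
def Sec.ev {U : X.Opens} (s : Sec x N U) (hx : x ∈ U) : N := s ⟨hx⟩

/-- constructor. -/
def Sec.mk {U : X.Opens} (f : x ∈ U → N) : Sec x N U := fun h => f h.down

@[simp] lemma Sec.mk_ev {U : X.Opens} (f : x ∈ U → N) (hx : x ∈ U) : (Sec.mk f).ev hx = f hx := rfl

@[ext] lemma Sec.ext {U : X.Opens} {s t : Sec x N U} (h : ∀ hx : x ∈ U, s.ev hx = t.ev hx) : s = t :=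
  funext fun hx => h hx.down

@[simp] lemma Sec.add_ev {U : X.Opens} (s t : Sec x N U) (hx : x ∈ U) :
    (s + t).ev hx = s.ev hx + t.ev hx := rfl
@[simp] lemma Sec.zero_ev {U : X.Opens} (hx : x ∈ U) : (0 : Sec x N U).ev hx = 0 := rfl

instance (U : X.Opens) : Module Γ(X, U) (Sec x N U) where
  smul r s := Sec.mk fun h => X.presheaf.germ U x h r • s.ev h
  one_smul s := by
    ext h
    change X.presheaf.germ U x h 1 • s.ev h = s.ev h
    rw [map_one, one_smul]
  mul_smul r r' s := by
    ext h
    change X.presheaf.germ U x h (r * r') • s.ev h =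
      X.presheaf.germ U x h r • (X.presheaf.germ U x h r' • s.ev h)
    rw [map_mul, mul_smul]
  smul_zero r := by
    ext h
    change X.presheaf.germ U x h r • (0 : N) = 0
    rw [smul_zero]
  smul_add r s t := by
    ext h
    change X.presheaf.germ U x h r • (s.ev h + t.ev h) =
      X.presheaf.germ U x h r • s.ev h + X.presheaf.germ U x h r • t.ev h
    rw [smul_add]
  add_smul r r' s := by
    ext h
    change X.presheaf.germ U x h (r + r') • s.ev h =
      X.presheaf.germ U x h r • s.ev h + X.presheaf.germ U x h r' • s.ev h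
    rw [map_add, add_smul]
  zero_smul s := by
    ext h
    change X.presheaf.germ U x h 0 • s.ev h = 0
    rw [map_zero, zero_smul]

lemma Sec.smul_ev {U : X.Opens} (r : Γ(X, U)) (s : Sec x N U) (hx : x ∈ U) :
    (r • s).ev hx = X.presheaf.germ U x hx r • s.ev hx := rfl

/-- restriction of sections. -/
def Sec.res {U V : X.Opens} (h : V ≤ U) (s : Sec x N U) : Sec x N V := Sec.mk fun hx => s.ev (h hx)

@[simp] lemma Sec.res_ev {U V : X.Opens} (h : V ≤ U) (s : Sec x N U) (hx : x ∈ V) :
    (s.res h).ev hx = s.ev (h hx) := rfl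

variable (x N)

instance instModuleRingCat (U : (Opens X)ᵒᵖ) : Module ↑(X.ringCatSheaf.obj.obj U) (Sec x N U.unop) :=
  inferInstanceAs (Module Γ(X, U.unop) (Sec x N U.unop))

/-- the underlying presheaf of modules of the skyscraper module. -/
def skyPre : PresheafOfModules.{u} X.ringCatSheaf.obj where
  obj U := ModuleCat.of (X.ringCatSheaf.obj.obj U) (Sec x N U.unop)
  map {U V} i := ModuleCat.ofHom
    (Y := (ModuleCat.restrictScalars (X.ringCatSheaf.obj.map i).hom).obj
      (ModuleCat.of (X.ringCatSheaf.obj.obj V) (Sec x N V.unop)))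
    { toFun := fun s => Sec.res (leOfHom i.unop) s
      map_add' := fun s t => rfl
      map_smul' := fun r s => by
        apply Sec.ext
        intro hx
        change X.presheaf.germ U.unop x (leOfHom i.unop hx) r • s.ev (leOfHom i.unop hx) =
          X.presheaf.germ V.unop x hx (X.presheaf.map i r) • s.ev (leOfHom i.unop hx)
        congr 1
        exact (TopCat.Presheaf.germ_res_apply X.presheaf i.unop x hx r).symm }
  map_id U := by
    ext s
    rfl
  map_comp i j := by
    ext s
    rfl

lemma skyPre_isSheaf : Presheaf.IsSheaf (Opens.grothendieckTopology X) (skyPre x N).presheaf := by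
  refine (TopCat.Presheaf.isSheaf_iff_isSheafUniqueGluing (X := X.toTopCat) (skyPre x N).presheaf).2 ?_
  intro ι U sf hsf
  -- sections are functions `x ∈ U i → N`
  let sf' : ∀ i, Sec x N (U i) := sf
  classical
  have hmem : ∀ hx : x ∈ iSup U, ∃ i, x ∈ U i := fun hx => by
    simpa [Opens.mem_iSup] using hx
  have hcompat : ∀ (i j : ι) (hi : x ∈ U i) (hj : x ∈ U j), (sf' i).ev hi = (sf' j).ev hj := by
    intro i j hi hj
    have := congrArg (fun s : Sec x N (U i ⊓ U j) => s.ev ⟨hi, hj⟩) (hsf i j)
    exact this
  let s : Sec x N (iSup U) := Sec.mk fun hx => (sf' (hmem hx).choose).ev (hmem hx).choose_spec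
  refine ⟨s, ?_, ?_⟩
  · intro i
    apply Sec.ext (x := x) (N := N)
    intro hx
    exact hcompat _ _ _ _
  · intro t ht
    apply Sec.ext (x := x) (N := N)
    intro hx
    have := congrArg (fun s : Sec x N (U (hmem hx).choose) => s.ev (hmem hx).choose_spec)
      (ht (hmem hx).choose)
    exact this

/-- the skyscraper `O_X`-module at `x` with value `N`. -/
def sky : X.Modules := ⟨skyPre x N, skyPre_isSheaf x N⟩

end Obj


section Adj


/-- functoriality of the skyscraper module in the value. -/
def skyMap {N N' : ModuleCat.{u} (X.presheaf.stalk x)} (g : N ⟶ N') : sky x N ⟶ sky x N' :=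
  ⟨{ app := fun U => ModuleCat.ofHom
        { toFun := fun (s : Sec x N U.unop) => (Sec.mk fun h => g.hom (s.ev h) : Sec x N' U.unop)
          map_add' := fun s t => by
            apply Sec.ext (x := x) (N := N')
            intro h
            exact map_add g.hom _ _
          map_smul' := fun r s => by
            apply Sec.ext (x := x) (N := N')
            intro h
            exact map_smul g.hom _ _ }
     naturality := fun i => by
       ext s
       rfl }⟩

/-- the skyscraper functor. -/
def skyFunctor : ModuleCat.{u} (X.presheaf.stalk x) ⥤ X.Modules where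
  obj N := sky x N
  map g := skyMap x g
  map_id N := by
    apply Scheme.Modules.hom_ext
    intro U
    rfl
  map_comp g g' := by
    apply Scheme.Modules.hom_ext
    intro U
    rfl

variable {x}

lemma germ_smul' (M : X.Modules) {U : X.Opens} (hx : x ∈ U) (a : Γ(X, U)) (b : Γ(M, U)) :
    M.presheaf.germ U x hx (a • b) = X.presheaf.germ U x hx a • M.presheaf.germ U x hx b :=
  PresheafOfModules.germ_smul (R := X.presheaf)
    (show PresheafOfModules (X.presheaf ⋙ forget₂ CommRingCat RingCat) from M.val) x U hx a b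

/-- from a linear map out of the stalk to a morphism to the skyscraper module. -/
def toSky {M : X.Modules} {N : ModuleCat.{u} (X.presheaf.stalk x)}
    (φ : (DerSch.stalkFunctor X x).obj M ⟶ N) : M ⟶ sky x N :=
  ⟨{ app := fun U => ModuleCat.ofHom
        { toFun := fun (s : Γ(M, U.unop)) =>
            (Sec.mk fun h => φ.hom (M.presheaf.germ U.unop x h s) : Sec x N U.unop)
          map_add' := fun s t => by
            apply Sec.ext (x := x) (N := N)
            intro h
            have h1 : M.presheaf.germ U.unop x h ((s : Γ(M, U.unop)) + (t : Γ(M, U.unop))) =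
                M.presheaf.germ U.unop x h s + M.presheaf.germ U.unop x h t := map_add _ _ _
            exact (congrArg φ.hom h1).trans (map_add φ.hom _ _)
          map_smul' := fun r s => by
            apply Sec.ext (x := x) (N := N)
            intro h
            have h1 := germ_smul' M h (r : Γ(X, U.unop)) (s : Γ(M, U.unop))
            exact (congrArg φ.hom h1).trans (map_smul φ.hom _ _) }
     naturality := fun {U V} i => by
       ext s
       apply Sec.ext (x := x) (N := N)
       intro h
       change φ.hom (M.presheaf.germ V.unop x h (M.presheaf.map i s)) =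
         φ.hom (M.presheaf.germ U.unop x (leOfHom i.unop h) s)
       congr 1
       exact TopCat.Presheaf.germ_res_apply M.presheaf i.unop x h s }⟩

/-- evaluation of a morphism to the skyscraper at a section and a proof of membership. -/
def evApp {M : X.Modules} {N : ModuleCat.{u} (X.presheaf.stalk x)} (ψ : M ⟶ sky x N)
    (U : X.Opens) (hx : x ∈ U) (s : Γ(M, U)) : N :=
  Sec.ev (x := x) (N := N) (U := U) (ψ.app U s) hx

lemma evApp_add {M : X.Modules} {N : ModuleCat.{u} (X.presheaf.stalk x)} (ψ : M ⟶ sky x N)
    (U : X.Opens) (hx : x ∈ U) (s t : Γ(M, U)) :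
    evApp ψ U hx (s + t) = evApp ψ U hx s + evApp ψ U hx t := by
  unfold evApp
  rw [map_add]
  rfl

lemma evApp_smul {M : X.Modules} {N : ModuleCat.{u} (X.presheaf.stalk x)} (ψ : M ⟶ sky x N)
    (U : X.Opens) (hx : x ∈ U) (r : Γ(X, U)) (s : Γ(M, U)) :
    evApp ψ U hx (r • s) = X.presheaf.germ U x hx r • evApp ψ U hx s := by
  unfold evApp
  rw [Scheme.Modules.Hom.app_smul]
  rfl

lemma evApp_res {M : X.Modules} {N : ModuleCat.{u} (X.presheaf.stalk x)} (ψ : M ⟶ sky x N)
    {U V : X.Opens} (i : V ⟶ U) (hx : x ∈ V) (s : Γ(M, U)) :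
    evApp ψ V hx (M.presheaf.map i.op s) = evApp ψ U (leOfHom i hx) s := by
  unfold evApp
  have := congrArg (fun g => g.hom s) (ψ.mapPresheaf.naturality i.op)
  simp only [AddCommGrpCat.hom_comp, AddMonoidHom.coe_comp, Function.comp_apply] at this
  erw [this]
  rfl

/-- the cocone defining the map out of the stalk. -/
def skyCocone {M : X.Modules} {N : ModuleCat.{u} (X.presheaf.stalk x)} (ψ : M ⟶ sky x N) :
    Cocone ((OpenNhds.inclusion x).op ⋙ M.presheaf) where
  pt := AddCommGrpCat.of N
  ι :=
    { app := fun U => AddCommGrpCat.ofHom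
        { toFun := fun s => evApp ψ U.unop.1 U.unop.2 s
          map_zero' := by
            have := evApp_add ψ U.unop.1 U.unop.2 0 0
            rw [add_zero] at this
            exact left_eq_add.mp this
          map_add' := fun s t => evApp_add ψ _ _ s t }
      naturality := fun U V i => by
        ext s
        exact evApp_res ψ (i.unop) V.unop.2 s }

/-- the additive map out of the stalk induced by a morphism to the skyscraper module. -/
def fromSkyAb {M : X.Modules} {N : ModuleCat.{u} (X.presheaf.stalk x)} (ψ : M ⟶ sky x N) :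
    M.presheaf.stalk x ⟶ AddCommGrpCat.of N :=
  colimit.desc ((OpenNhds.inclusion x).op ⋙ M.presheaf) (skyCocone ψ)

lemma fromSkyAb_germ {M : X.Modules} {N : ModuleCat.{u} (X.presheaf.stalk x)} (ψ : M ⟶ sky x N)
    (U : X.Opens) (hx : x ∈ U) (s : Γ(M, U)) :
    fromSkyAb ψ (M.presheaf.germ U x hx s) = evApp ψ U hx s := by
  have := colimit.ι_desc (skyCocone ψ) (op (⟨U, hx⟩ : OpenNhds x))
  exact congrArg (fun g => g.hom s) this


lemma fromSkyAb_smul {M : X.Modules} {N : ModuleCat.{u} (X.presheaf.stalk x)} (ψ : M ⟶ sky x N)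
    (r : X.presheaf.stalk x) (m : M.presheaf.stalk x) :
    fromSkyAb ψ (r • m) = r • fromSkyAb ψ m := by
  obtain ⟨U, hyU, s, rfl⟩ := X.presheaf.exists_germ_eq (x := x) r
  obtain ⟨V, hyV, t, rfl⟩ := M.presheaf.exists_germ_eq (x := x) m
  have hyW : x ∈ U ⊓ V := ⟨hyU, hyV⟩
  have hs := X.presheaf.germ_res_apply (homOfLE inf_le_left : U ⊓ V ⟶ U) x hyW s
  have ht := M.presheaf.germ_res_apply (homOfLE inf_le_right : U ⊓ V ⟶ V) x hyW t
  rw [← hs, ← ht]
  generalize X.presheaf.map (homOfLE inf_le_left : U ⊓ V ⟶ U).op s = s'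
  generalize M.presheaf.map (homOfLE inf_le_right : U ⊓ V ⟶ V).op t = t'
  rw [← germ_smul' M hyW s' t', fromSkyAb_germ, fromSkyAb_germ, evApp_smul]

/-- from a morphism to the skyscraper module to a linear map out of the stalk. -/
def fromSky {M : X.Modules} {N : ModuleCat.{u} (X.presheaf.stalk x)} (ψ : M ⟶ sky x N) :
    (DerSch.stalkFunctor X x).obj M ⟶ N :=
  ModuleCat.ofHom
    { toFun := fun m => fromSkyAb ψ m
      map_add' := fun a b => map_add (fromSkyAb ψ).hom a b
      map_smul' := fun r m => fromSkyAb_smul ψ r m }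

lemma fromSky_germ {M : X.Modules} {N : ModuleCat.{u} (X.presheaf.stalk x)} (ψ : M ⟶ sky x N)
    (U : X.Opens) (hx : x ∈ U) (s : Γ(M, U)) :
    (fromSky ψ).hom (M.presheaf.germ U x hx s) = evApp ψ U hx s := fromSkyAb_germ ψ U hx s

lemma evApp_toSky {M : X.Modules} {N : ModuleCat.{u} (X.presheaf.stalk x)}
    (φ : (DerSch.stalkFunctor X x).obj M ⟶ N) (U : X.Opens) (hx : x ∈ U) (s : Γ(M, U)) :
    evApp (toSky φ) U hx s = φ.hom (M.presheaf.germ U x hx s) := rfl

lemma hom_ext_germ {M : X.Modules} {N : ModuleCat.{u} (X.presheaf.stalk x)}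
    {φ φ' : (DerSch.stalkFunctor X x).obj M ⟶ N}
    (h : ∀ (U : X.Opens) (hx : x ∈ U) (s : Γ(M, U)),
      φ.hom (M.presheaf.germ U x hx s) = φ'.hom (M.presheaf.germ U x hx s)) : φ = φ' := by
  ext m
  obtain ⟨V, hyV, t, rfl⟩ := M.presheaf.exists_germ_eq (x := x) m
  exact h V hyV t

lemma hom_ext_evApp {M : X.Modules} {N : ModuleCat.{u} (X.presheaf.stalk x)}
    {ψ ψ' : M ⟶ sky x N}
    (h : ∀ (U : X.Opens) (hx : x ∈ U) (s : Γ(M, U)), evApp ψ U hx s = evApp ψ' U hx s) :
    ψ = ψ' := by
  apply Scheme.Modules.hom_ext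
  intro U
  ext s
  apply Sec.ext (x := x) (N := N)
  intro hx
  exact h U hx s

/-- the hom-set bijection of the adjunction between stalk and skyscraper. -/
def homEquiv (M : X.Modules) (N : ModuleCat.{u} (X.presheaf.stalk x)) :
    ((DerSch.stalkFunctor X x).obj M ⟶ N) ≃ (M ⟶ (skyFunctor x).obj N) where
  toFun := toSky
  invFun := fromSky
  left_inv φ := hom_ext_germ fun U hx s => (fromSky_germ (toSky φ) U hx s).trans (evApp_toSky φ U hx s)
  right_inv ψ := hom_ext_evApp (ψ' := ψ) fun U hx s =>
    (evApp_toSky (fromSky (N := N) ψ) U hx s).trans (fromSky_germ (N := N) ψ U hx s)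

variable (x) in
/-- the adjunction between the stalk functor and the skyscraper functor. -/
def stalkSkyAdj : DerSch.stalkFunctor X x ⊣ skyFunctor x :=
  Adjunction.mkOfHomEquiv
    { homEquiv := homEquiv
      homEquiv_naturality_left_symm := fun {M' M N} f ψ => by
        apply hom_ext_germ
        intro U hx s
        have h1 : (fromSky (N := N) (f ≫ ψ)).hom (M'.presheaf.germ U x hx s) =
            evApp (N := N) (f ≫ ψ) U hx s := fromSky_germ (N := N) (f ≫ ψ) U hx s
        have h2 : ((DerSch.stalkFunctor X x).map f ≫ fromSky (N := N) ψ).hom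
            (M'.presheaf.germ U x hx s) = evApp (N := N) ψ U hx (f.app U s) := by
          change (fromSky (N := N) ψ).hom ((DerSch.stalkFunctor X x).map f _) = _
          rw [DerSch.stalkFunctor_map_germ]
          exact fromSky_germ (N := N) ψ U hx _
        exact h1.trans h2.symm
      homEquiv_naturality_right := fun {M N N'} φ g => by
        apply hom_ext_evApp
        intro U hx s
        rfl }

end Adj

end Groth.Agent.Lib.Helper28.SkyMod
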