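import Mathlib
import Groth.Prelude.Def_DerSch
import Groth.Agent.Lib.Helper28.SkyMod

set_option autoImplicit false
set_option linter.unusedSectionVars false
universe u
open CategoryTheory CategoryTheory.Limits AlgebraicGeometry Opposite TopologicalSpace

noncomputable section

namespace Groth.Agent.Lib.Helper28.SkyMod

variable {X Y : Scheme.{u}} (f : X ⟶ Y) (x : X)

/-- the value of the target skyscraper. -/
abbrev resN (N : ModuleCat.{u} (X.presheaf.stalk x)) : ModuleCat.{u} (Y.presheaf.stalk (f.base x)) :=
  (ModuleCat.restrictScalars (f.stalkMap x).hom).obj N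

/-- the comparison map from the pushforward of a skyscraper to the skyscraper of the
restriction of scalars. -/
def pushSkyHom (N : ModuleCat.{u} (X.presheaf.stalk x)) :
    (Scheme.Modules.pushforward f).obj (sky x N) ⟶ sky (f.base x) (resN f x N) :=
  ⟨PresheafOfModules.homMk
    { app := fun V => AddCommGrpCat.ofHom
        { toFun := fun (s : Sec x N (f ⁻¹ᵁ V.unop)) =>
            (Sec.mk fun h => s.ev h : Sec (f.base x) (resN f x N) V.unop)
          map_zero' := rfl
          map_add' := fun s t => rfl }
      naturality := fun U V i => rfl }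
    (fun V r s => by
      apply Sec.ext (x := f.base x) (N := resN f x N)
      intro h
      change X.presheaf.germ (f ⁻¹ᵁ V.unop) x h (f.app V.unop r) • Sec.ev (N := N) s h =
        (f.stalkMap x).hom (Y.presheaf.germ V.unop (f.base x) h r) • Sec.ev (N := N) s h
      congr 1
      exact (Scheme.Hom.germ_stalkMap_apply f V.unop x h r).symm)⟩

/-- the inverse comparison map. -/
def pushSkyInv (N : ModuleCat.{u} (X.presheaf.stalk x)) :
    sky (f.base x) (resN f x N) ⟶ (Scheme.Modules.pushforward f).obj (sky x N) :=
  ⟨PresheafOfModules.homMk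
    { app := fun V => AddCommGrpCat.ofHom
        { toFun := fun (s : Sec (f.base x) (resN f x N) V.unop) =>
            (Sec.mk fun h => s.ev h : Sec x N (f ⁻¹ᵁ V.unop))
          map_zero' := rfl
          map_add' := fun s t => rfl }
      naturality := fun U V i => rfl }
    (fun V r s => by
      apply Sec.ext (x := x) (N := N)
      intro h
      change (f.stalkMap x).hom (Y.presheaf.germ V.unop (f.base x) h r) •
          Sec.ev (N := resN f x N) s h =
        X.presheaf.germ (f ⁻¹ᵁ V.unop) x h (f.app V.unop r) • Sec.ev (N := resN f x N) s h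
      congr 1
      exact (Scheme.Hom.germ_stalkMap_apply f V.unop x h r))⟩

/-- pushforward of a skyscraper is the skyscraper of the restriction of scalars. -/
def pushSkyIso (N : ModuleCat.{u} (X.presheaf.stalk x)) :
    (Scheme.Modules.pushforward f).obj (sky x N) ≅ sky (f.base x) (resN f x N) where
  hom := pushSkyHom f x N
  inv := pushSkyInv f x N
  hom_inv_id := by
    apply Scheme.Modules.hom_ext
    intro U
    rfl
  inv_hom_id := by
    apply Scheme.Modules.hom_ext
    intro U
    rfl

/-- the natural isomorphism `Sky_x ⋙ f_* ≅ restrictScalars ⋙ Sky_{f x}`. -/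
def pushSkyNatIso :
    skyFunctor x ⋙ Scheme.Modules.pushforward f ≅
      ModuleCat.restrictScalars (f.stalkMap x).hom ⋙ skyFunctor (f.base x) :=
  NatIso.ofComponents (fun N => pushSkyIso f x N) (fun {N N'} g => by
    apply Scheme.Modules.hom_ext
    intro U
    rfl)

/-- the composite adjunction `f^* ⋙ St_x ⊣ Sky_x ⋙ f_*`. -/
def adjL : Scheme.Modules.pullback f ⋙ DerSch.stalkFunctor X x ⊣
    skyFunctor x ⋙ Scheme.Modules.pushforward f :=
  (Scheme.Modules.pullbackPushforwardAdjunction f).comp (stalkSkyAdj x)

/-- the composite adjunction `St_{f x} ⋙ extendScalars ⊣ restrictScalars ⋙ Sky_{f x}`. -/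
def adjR : DerSch.stalkFunctor Y (f.base x) ⋙ ModuleCat.extendScalars (f.stalkMap x).hom ⊣
    ModuleCat.restrictScalars (f.stalkMap x).hom ⋙ skyFunctor (f.base x) :=
  (stalkSkyAdj (f.base x)).comp (ModuleCat.extendRestrictScalarsAdj (f.stalkMap x).hom)

/-- **the stalk of a pullback**: `(f^* M)_x ≅ O_{X,x} ⊗_{O_{Y,f x}} M_{f x}`, naturally in `M`. -/
def pullbackStalkIso :
    Scheme.Modules.pullback f ⋙ DerSch.stalkFunctor X x ≅
      DerSch.stalkFunctor Y (f.base x) ⋙ ModuleCat.extendScalars (f.stalkMap x).hom :=
  ((adjL f x).ofNatIsoRight (pushSkyNatIso f x)).leftAdjointUniq (adjR f x)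

end Groth.Agent.Lib.Helper28.SkyMod
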