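import Mathlib
import Groth.Agent.Lib.Helper28.SiteCyclesFlat

/-!
# Flatness of a cokernel from exactness of `G ⊗ E` (helper28)

`isFlat_cokernel_of_exact`: if `E^{a₂}` is flat and `G ⊗ E^{a₀} → G ⊗ E^{a₁} → G ⊗ E^{a₂}` is exact
for every `G`, then `coker (E^{a₁} → E^{a₂})` is flat.
-/

set_option autoImplicit false
universe u
open CategoryTheory MonoidalCategory Limits HomologicalComplex

namespace Groth.Agent.Lib.Helper28.FlatCoker

open Groth.Agent.Lib.Helper28 Groth.Agent.Lib.Helper28.SiteCyclesFlat

variable {C : Type u} [SmallCategory C] {J : GrothendieckTopology C} (O : Sheaf J CommRingCat.{u})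

theorem isFlat_cokernel_of_exact {X₀ X₁ X₂ : ModSite.Mod O} (d₀ : X₀ ⟶ X₁) (d₁ : X₁ ⟶ X₂)
    (w : d₀ ≫ d₁ = 0) (hfl : ModSite.IsFlat X₂)
    (hex : ∀ G : ModSite.Mod O, (ShortComplex.mk (((ModSite.tensorBi O).obj G).map d₀)
      (((ModSite.tensorBi O).obj G).map d₁)
      (by rw [← Functor.map_comp, w, Functor.map_zero])).Exact) :
    ModSite.IsFlat (cokernel d₁) := by
  let S : ShortComplex (ModSite.Mod O) :=
    ShortComplex.mk (Abelian.image.ι d₁) (cokernel.π d₁) (kernel.condition _)
  have hS : S.ShortExact :=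
    { exact := ShortComplex.exact_of_f_is_kernel _ (kernelIsKernel (cokernel.π d₁))
      mono_f := inferInstanceAs (Mono (Abelian.image.ι d₁))
      epi_g := inferInstanceAs (Epi (cokernel.π d₁)) }
  have h0 : d₀ ≫ Abelian.factorThruImage d₁ = 0 := by
    rw [← cancel_mono (Abelian.image.ι d₁), Category.assoc, Abelian.image.fac, w, zero_comp]
  have hm : ∀ G : ModSite.Mod O, Mono (((ModSite.tensorBi O).obj G).map S.f) := by
    intro G
    have hepi' : Epi (((ModSite.tensorBi O).obj G).map (Abelian.factorThruImage d₁)) :=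
      inferInstance
    exact mono_of_exact_comp (((ModSite.tensorBi O).obj G).map d₀)
      (((ModSite.tensorBi O).obj G).map (Abelian.factorThruImage d₁))
      (((ModSite.tensorBi O).obj G).map (Abelian.image.ι d₁))
      (((ModSite.tensorBi O).obj G).map d₁)
      (by rw [← Functor.map_comp, h0, Functor.map_zero])
      (by rw [← Functor.map_comp, Abelian.image.fac]) _ (hex G)
  exact isFlat_X₃_of_mono_tensor O S hS hfl hm

end Groth.Agent.Lib.Helper28.FlatCoker
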