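import Mathlib
import Groth.Agent.Lib.Helper5.StalkFlat
import Groth.Agent.Lib.Helper30.EqFlat

/-!
# Flat modules on a ringed space have flat stalks (helper28)

Converse of helper5's `StalkFlat.isFlat_of_stalks`, via helper30's equational criterion `eqFlat`
and Mathlib's `Module.Flat.of_forall_isTrivialRelation`.
-/

set_option autoImplicit false

open CategoryTheory Limits TopologicalSpace Opposite MonoidalCategory

universe u

namespace Groth.Agent.Lib.Helper28.StalkFlatConv

open Groth.Agent.Lib.Helper5.StalkTensor Groth.Agent.Lib.Helper30.ModTensor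
  Groth.Agent.Lib.Helper30.ModTensorAdj

variable {X : TopCat.{u}}

/-- a common open neighbourhood inside finitely many open neighbourhoods. -/
lemma exists_common_nhd {l : ℕ} (x : X) (W : Fin l → Opens X) (hW : ∀ i, x ∈ W i) :
    ∃ U : Opens X, x ∈ U ∧ ∀ i, U ≤ W i := by
  refine ⟨⟨⋂ i, (W i : Set X), isOpen_iInter_of_finite (fun i => (W i).isOpen)⟩, ?_, ?_⟩
  · exact Set.mem_iInter.2 (fun i => hW i)
  · intro i y hy
    exact Set.mem_iInter.1 hy i

section

variable {R : X.Presheaf CommRingCat.{u}}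
  (P : PresheafOfModules.{u} (R ⋙ forget₂ CommRingCat RingCat)) (x : X)

/-- restriction of scalars sections, as a function -/
noncomputable abbrev rr {U V : Opens X} (h : V ≤ U) : R.obj (op U) → R.obj (op V) :=
  fun a => (R.map (homOfLE h).op).hom a

lemma germ_rr {U V : Opens X} (h : V ≤ U) (hx : x ∈ V) (a : R.obj (op U)) :
    R.germ V x hx (rr h a) = R.germ U x (h hx) a :=
  TopCat.Presheaf.germ_res_apply R (homOfLE h) x hx a

lemma rs_smul {U V : Opens X} (h : V ≤ U) (a : R.obj (op U)) (s : P.obj (op U)) :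
    rs P h (a • s) = rr h a • rs P h s :=
  P.map_smul (homOfLE h).op a s

/-- finitely many germs of sections of `R` and of `P` have representatives over a common open. -/
lemma exists_common_rep {l : ℕ} (f : Fin l → R.stalk x) (m : Fin l → St P x) :
    ∃ (U : Opens X) (hx : x ∈ U) (a : Fin l → R.obj (op U)) (s : Fin l → P.obj (op U)),
      (∀ i, R.germ U x hx (a i) = f i) ∧ (∀ i, gm P x U hx (s i) = m i) := by
  choose U₁ hU₁ a₁ ha₁ using fun i => TopCat.Presheaf.exists_germ_eq R (f i)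
  choose U₂ hU₂ s₂ hs₂ using fun i => exists_gm_eq x P (m i)
  obtain ⟨V₁, hxV₁, hV₁⟩ := exists_common_nhd x U₁ hU₁
  obtain ⟨V₂, hxV₂, hV₂⟩ := exists_common_nhd x U₂ hU₂
  have hxV : x ∈ V₁ ⊓ V₂ := ⟨hxV₁, hxV₂⟩
  refine ⟨V₁ ⊓ V₂, hxV, fun i => rr (inf_le_left.trans (hV₁ i)) (a₁ i),
    fun i => rs P (inf_le_right.trans (hV₂ i)) (s₂ i), ?_, ?_⟩
  · intro i
    exact (germ_rr x (inf_le_left.trans (hV₁ i)) hxV (a₁ i)).trans (ha₁ i)
  · intro i
    exact (gm_rs x P (inf_le_right.trans (hV₂ i)) hxV (s₂ i)).trans (hs₂ i)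

end

variable (O : TopCat.Sheaf CommRingCat.{u} X)

/-- **A flat module on a ringed space has flat stalks.** -/
theorem flat_stalk_of_isFlat (F : ModSite.Mod O) (hF : ModSite.IsFlat F) (x : X) :
    Module.Flat (TopCat.Presheaf.stalk (C := CommRingCat.{u}) O.obj x) (St (valObj O F) x) := by
  apply Module.Flat.of_forall_isTrivialRelation
  intro l f m hrel
  obtain ⟨U, hxU, a, s, ha, hs⟩ := exists_common_rep (valObj O F) x f m
  -- the relation holds on a smaller neighbourhood
  have h0 : gm (valObj O F) x U hxU (∑ i, a i • s i) = gm (valObj O F) x U hxU 0 := by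
    rw [map_sum, map_zero, ← hrel]
    refine Finset.sum_congr rfl (fun i _ => ?_)
    rw [gm_smul, ha, hs]
  obtain ⟨W, hxW, hWU, hWU', hW⟩ := gm_eq x (valObj O F) hxU hxU _ _ h0
  rw [map_zero, map_sum] at hW
  have hrelW : ∀ j : Fin 1, ∑ i, (fun i (_ : Fin 1) => rr hWU (a i)) i j •
      (fun i => rs (valObj O F) hWU (s i)) i = 0 := by
    intro j
    rw [← hW]
    refine Finset.sum_congr rfl (fun i _ => ?_)
    exact (rs_smul (valObj O F) hWU (a i) (s i)).symm
  obtain ⟨S, hS, h⟩ := Groth.Agent.Lib.Helper30.EqFlat.eqFlat O F hF W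
    (fun i (_ : Fin 1) => rr hWU (a i)) (fun i => rs (valObj O F) hWU (s i)) hrelW
  obtain ⟨V, g, hg, hxV⟩ := hS x hxW
  obtain ⟨k, t, b, h1, h2⟩ := h g hg
  have hVW : V ≤ W := leOfHom g
  refine ⟨k, fun i j => TopCat.Presheaf.germ (C := CommRingCat.{u}) O.obj V x hxV (b i j), fun j => gm (valObj O F) x V hxV (t j), ?_, ?_⟩
  · intro i
    have e1 : m i = gm (valObj O F) x V hxV (rs (valObj O F) hVW (rs (valObj O F) hWU (s i))) := by
      rw [gm_rs, gm_rs, hs]
    have e2 : rs (valObj O F) hVW (rs (valObj O F) hWU (s i)) = _ := h1 i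
    rw [e1, e2, map_sum]
    refine Finset.sum_congr rfl (fun j _ => ?_)
    exact gm_smul x (valObj O F) V hxV (b i j) (t j)
  · intro j
    have e3 := h2 0 j
    have e4 : ∀ i, f i = TopCat.Presheaf.germ (C := CommRingCat.{u}) O.obj V x hxV ((O.obj.map g.op).hom (rr hWU (a i))) := by
      intro i
      have : (O.obj.map g.op).hom (rr hWU (a i)) = rr hVW (rr hWU (a i)) := rfl
      rw [this, germ_rr, germ_rr, ha]
    have e5 := congrArg (TopCat.Presheaf.germ (C := CommRingCat.{u}) O.obj V x hxV) e3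
    rw [map_sum, map_zero] at e5
    rw [← e5]
    refine Finset.sum_congr rfl (fun i _ => ?_)
    rw [map_mul, e4 i, mul_comm]

end Groth.Agent.Lib.Helper28.StalkFlatConv
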