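import Mathlib
import Groth.Prelude.Def_DTor2
import Groth.Prelude.Def_DCoh4
import Groth.Prelude.Def_KFlatSite
import Groth.Agent.Lib.Helper28.BiKFlatStable
import Groth.Agent.Lib.Helper28.SiteKFlatAcyclic
import Groth.Agent.Lib.Helper28.SiteKFlatSymm
import Groth.Agent.S9060

/-!
# Computing `K ⊗^L G` on K-flat complexes (helper28)

For a scheme `X`, an `O_X`-module `G` with `DCoh.HasLTensorMod G` and a K-flat complex `P`:
`(DCoh.LTensorMod G).obj (Q P) ≅ Q (P ⊗ G)` (termwise tensor product), and `P ⊗ G ≅ G ⊗ P`.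
-/

set_option autoImplicit false
universe u
open CategoryTheory CategoryTheory.Limits AlgebraicGeometry MonoidalCategory

namespace Groth.Agent.Lib.Helper28.LTensorCompute

attribute [local instance] HasDerivedCategory.standard

variable {X : Scheme.{u}}

/-- `- ⊗ G` (the frozen `tensorRightMod`) agrees with the flipped bifunctor. -/
noncomputable def tensorRightModIsoFlip (G : X.Modules) :
    DCoh.tensorRightMod G ≅ (DCoh.tensorBi (X := X)).flip.obj G :=
  NatIso.ofComponents (fun N => Iso.refl _) (by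
    intro N N' f
    exact (Category.comp_id _).trans (Eq.trans rfl (Category.id_comp _).symm))

/-- `- ⊗ G ≅ G ⊗ -`. -/
noncomputable def tensorRightModIso (G : X.Modules) :
    DCoh.tensorRightMod G ≅ (DCoh.tensorBi (X := X)).obj G :=
  tensorRightModIsoFlip G ≪≫ (SiteKFlatSymm.tensorBiSymmIso X.sheaf).symm.app G

/-- K-flatness in the form of `BiK.KFlatR`. -/
abbrev KF (E : CochainComplex X.Modules ℤ) : Prop := BiK.KFlatR (DCoh.tensorBi (X := X)) E

lemma kf_iff_isKFlat (E : CochainComplex X.Modules ℤ) : KF E ↔ DCoh.IsKFlat E := by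
  constructor
  · intro h L hL
    exact (BiK.acyclic_iff _).1 (h L ((BiK.acyclic_iff L).2 hL))
  · intro h L hL
    exact (BiK.acyclic_iff _).2 (h L ((BiK.acyclic_iff L).1 hL))

lemma exists_kf_resolution (K : CochainComplex X.Modules ℤ) :
    ∃ (P : CochainComplex X.Modules ℤ) (f : P ⟶ K), KF P ∧ QuasiIso f := by
  obtain ⟨P, q, hP, -, hq, -⟩ := Groth.Agent.S9060.result X.sheaf K
  exact ⟨P, q, (kf_iff_isKFlat P).2 hP, hq⟩

lemma acyclic_tensorBi_obj_of_kf_acyclic (G : X.Modules) (P : CochainComplex X.Modules ℤ)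
    (hP : KF P) (hac : P.Acyclic) :
    ((((DCoh.tensorBi (X := X)).obj G).mapHomologicalComplex (ComplexShape.up ℤ)).obj P).Acyclic := by
  intro n
  rw [HomologicalComplex.exactAt_iff' _ (n - 1) n (n + 1) (by simp) (by simp)]
  exact SiteKFlatAcyclic.exact_tensor_obj_of_kflat_acyclic X.sheaf P hP hac G (n - 1) n (n + 1)
    (by lia) rfl

lemma acyclic_of_iso {A : Type*} [Category A] [Abelian A] {K L : CochainComplex A ℤ} (e : K ≅ L)
    (hK : K.Acyclic) : L.Acyclic := BiK.acyclic_of_quasiIso e.hom hK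

lemma acyclic_tensorRightMod_of_kf_acyclic (G : X.Modules) (P : CochainComplex X.Modules ℤ)
    (hP : KF P) (hac : P.Acyclic) :
    (((DCoh.tensorRightMod G).mapHomologicalComplex (ComplexShape.up ℤ)).obj P).Acyclic :=
  acyclic_of_iso
    (((NatIso.mapHomologicalComplex (tensorRightModIso G) (ComplexShape.up ℤ)).app P).symm)
    (acyclic_tensorBi_obj_of_kf_acyclic G P hP hac)

/-- **Computation of the derived tensor product on K-flat complexes**:
`(Q P) ⊗^L G ≅ Q (P ⊗ G)`. -/
noncomputable def ltensorIso (G : X.Modules) [DCoh.HasLTensorMod G]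
    (P : CochainComplex X.Modules ℤ) (hP : KF P) :
    (DCoh.LTensorMod G).obj (DCoh.toD X P) ≅
      DCoh.toD X (((DCoh.tensorRightMod G).mapHomologicalComplex (ComplexShape.up ℤ)).obj P) :=
  AdaptedLeft.counitIso (BiK.isStableClass (DCoh.tensorBi (X := X))) exists_kf_resolution
    (DCoh.tensorRightMod G) (acyclic_tensorRightMod_of_kf_acyclic G)
    (DCoh.LTensorMod G)
    ((DCoh.tensorModKh G).totalLeftDerivedCounit DerivedCategory.Qh
      (HomotopyCategory.quasiIso X.Modules (ComplexShape.up ℤ))) P hP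

/-- `(Q P) ⊗^L G ≅ Q (G ⊗ P)`. -/
noncomputable def ltensorIso' (G : X.Modules) [DCoh.HasLTensorMod G]
    (P : CochainComplex X.Modules ℤ) (hP : KF P) :
    (DCoh.LTensorMod G).obj (DCoh.toD X P) ≅
      DCoh.toD X ((((DCoh.tensorBi (X := X)).obj G).mapHomologicalComplex
        (ComplexShape.up ℤ)).obj P) :=
  ltensorIso G P hP ≪≫ DerivedCategory.Q.mapIso
    ((NatIso.mapHomologicalComplex (tensorRightModIso G) (ComplexShape.up ℤ)).app P)

/-- the cohomology sheaves of `(Q P) ⊗^L G` for K-flat `P`. -/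
noncomputable def HDltensorIso (G : X.Modules) [DCoh.HasLTensorMod G]
    (P : CochainComplex X.Modules ℤ) (hP : KF P) (i : ℤ) :
    DCoh.HD ((DCoh.LTensorMod G).obj (DCoh.toD X P)) i ≅
      ((((DCoh.tensorBi (X := X)).obj G).mapHomologicalComplex
        (ComplexShape.up ℤ)).obj P).homology i :=
  (DerivedCategory.homologyFunctor X.Modules i).mapIso (ltensorIso' G P hP) ≪≫
    (DerivedCategory.homologyFunctorFactors X.Modules i).app _

lemma isZero_HD_ltensor_iff (G : X.Modules) [DCoh.HasLTensorMod G]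
    (P : CochainComplex X.Modules ℤ) (hP : KF P) (i : ℤ) :
    IsZero (DCoh.HD ((DCoh.LTensorMod G).obj (DCoh.toD X P)) i) ↔
      ((((DCoh.tensorBi (X := X)).obj G).mapHomologicalComplex
        (ComplexShape.up ℤ)).obj P).ExactAt i := by
  rw [HomologicalComplex.exactAt_iff_isZero_homology]
  exact (HDltensorIso G P hP i).isZero_iff

end Groth.Agent.Lib.Helper28.LTensorCompute
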