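import Mathlib
import Groth.Prelude.Def_DTor2
import Groth.Prelude.Def_DCoh4
import Groth.Agent.Lib.Helper28.LTensorCompute
import Groth.Agent.S0953

/-!
# Tor amplitude: basic properties (helper28)

* `hasTorAmplitudeIn_of_retract`, `hasTorAmplitudeIn_of_iso`;
* `hasTorAmplitudeIn_of_flat`: a complex of flat modules vanishing outside `[a, b]` has
  tor-amplitude in `[a, b]` (derived tensor form);
* `hasTorAmplitudeIn_of_hasFlatAmplitudeIn`.
-/

set_option autoImplicit false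
universe u
open CategoryTheory CategoryTheory.Limits AlgebraicGeometry

namespace Groth.Agent.Lib.Helper28.TorAmp

attribute [local instance] HasDerivedCategory.standard

open Groth.Agent.Lib.Helper28.LTensorCompute

variable {X : Scheme.{u}}

lemma hasTorAmplitudeIn_of_retract {K K' : DCoh.D X} (i : K ⟶ K') (r : K' ⟶ K) (hir : i ≫ r = 𝟙 K)
    (a b : ℤ) (h : DCoh.HasTorAmplitudeIn a b K') : DCoh.HasTorAmplitudeIn a b K := by
  intro F _ n hn
  let Φ := DCoh.LTensorMod F ⋙ DerivedCategory.homologyFunctor X.Modules n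
  have hΦ : Φ.map i ≫ Φ.map r = 𝟙 _ := by rw [← Φ.map_comp, hir, Φ.map_id]
  haveI : Mono (Φ.map i) := mono_of_mono_fac hΦ
  exact IsZero.of_mono (Φ.map i) (h F n hn)

lemma hasTorAmplitudeIn_of_iso {K K' : DCoh.D X} (e : K' ≅ K)
    (a b : ℤ) (h : DCoh.HasTorAmplitudeIn a b K') : DCoh.HasTorAmplitudeIn a b K :=
  hasTorAmplitudeIn_of_retract e.inv e.hom e.inv_hom_id a b h

lemma isStrictlyLE_of_vanishesOutside (E : CochainComplex X.Modules ℤ) (a b : ℤ)
    (hv : DCoh.VanishesOutside E a b) : E.IsStrictlyLE b := by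
  rw [CochainComplex.isStrictlyLE_iff]
  intro i hi
  exact hv i (Or.inr hi)

lemma kf_of_flat_bddAbove (E : CochainComplex X.Modules ℤ) (b : ℤ) (hb : E.IsStrictlyLE b)
    (hfl : ∀ i : ℤ, FlatMod.IsFlat (E.X i)) : KF E :=
  (kf_iff_isKFlat E).2 (Groth.Agent.S0953.result E b hb hfl)

lemma hasTorAmplitudeIn_of_flat (E : CochainComplex X.Modules ℤ) (a b : ℤ)
    (hv : DCoh.VanishesOutside E a b) (hfl : ∀ i : ℤ, FlatMod.IsFlat (E.X i)) :
    DCoh.HasTorAmplitudeIn a b (DCoh.toD X E) := by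
  have hE : KF E := kf_of_flat_bddAbove E b (isStrictlyLE_of_vanishesOutside E a b hv) hfl
  intro F _ n hn
  rw [isZero_HD_ltensor_iff F E hE n]
  apply ShortComplex.exact_of_isZero_X₂
  exact Functor.map_isZero ((DCoh.tensorBi (X := X)).obj F) (hv n hn)

lemma hasTorAmplitudeIn_of_hasFlatAmplitudeIn (K : DCoh.D X) (a b : ℤ)
    (h : DCoh.HasFlatAmplitudeIn a b K) : DCoh.HasTorAmplitudeIn a b K := by
  obtain ⟨E, hv, hfl, ⟨e⟩⟩ := h
  exact hasTorAmplitudeIn_of_iso e a b (hasTorAmplitudeIn_of_flat E a b hv hfl)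

end Groth.Agent.Lib.Helper28.TorAmp
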