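import Mathlib
import Groth.Prelude.Def_DTor2
import Groth.Prelude.Def_DCoh4
import Groth.Agent.Lib.Helper28.TorAmp
import Groth.Agent.Lib.Helper28.FlatCoker
import Groth.Agent.Lib.Helper28.StalkFlatConv
import Groth.Agent.Lib.Helper5.StalkFlat
import Groth.Agent.Lib.Helper5.KFlatSingle
import Groth.Agent.Lib.Helper32.LeftRes
import Groth.Agent.S9058

/-!
# Flatness and vanishing of `Tor₁` (helper28)
-/

set_option autoImplicit false
universe u
open CategoryTheory CategoryTheory.Limits AlgebraicGeometry ZeroObject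

namespace Groth.Agent.Lib.Helper28.TorOne

attribute [local instance] HasDerivedCategory.standard

open Groth.Agent.Lib.Helper28.LTensorCompute

section Abstract

variable {A : Type*} [Category A] [Abelian A]

/-- if `α : Q ⟶ F[0]` is a quasi-isomorphism and `Q¹ = 0`, then `coker (Q⁻¹ ⟶ Q⁰) ≅ F`. -/
noncomputable def cokernelIsoOfQuasiIsoSingle (Q : CochainComplex A ℤ) (F : A)
    (α : Q ⟶ (HomologicalComplex.single A (ComplexShape.up ℤ) 0).obj F) (hα : QuasiIso α)
    (h : IsZero (Q.X 1)) : cokernel (Q.d (-1) 0) ≅ F := by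
  have hn : (ComplexShape.up ℤ).next 0 = 1 := by simp
  have hz : IsZero (Q.X ((ComplexShape.up ℤ).next 0)) := by rw [hn]; exact h
  have hd : (Q.sc 0).g = 0 := hz.eq_of_tgt _ _
  haveI : IsIso (Q.homologyι 0) := ShortComplex.isIso_homologyι (Q.sc 0) hd
  haveI : IsIso (HomologicalComplex.homologyMap α 0) := by
    rw [← quasiIsoAt_iff_isIso_homologyMap]
    infer_instance
  exact (cokernelIsCokernel _).coconePointUniqueUpToIso (Q.opcyclesIsCokernel (-1) 0 (by simp)) ≪≫
    (asIso (Q.homologyι 0)).symm ≪≫ asIso (HomologicalComplex.homologyMap α 0) ≪≫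
    HomologicalComplex.singleObjHomologySelfIso (ComplexShape.up ℤ) 0 F

end Abstract

variable {X : Scheme.{u}}

lemma flat_iff (M : X.Modules) : FlatMod.IsFlat M ↔ ModSite.IsFlat (O := X.sheaf) M :=
  ⟨fun h => Groth.Agent.Lib.Helper5.StalkFlat.isFlat_of_stalks X.sheaf M (fun x => h x),
    fun h x => Groth.Agent.Lib.Helper28.StalkFlatConv.flat_stalk_of_isFlat X.sheaf M h x⟩

/-- the image of a module in the derived category, as the image of the single complex. -/
noncomputable def inDIso (F : X.Modules) :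
    DCoh.inD X F ≅
      DCoh.toD X ((HomologicalComplex.single X.Modules (ComplexShape.up ℤ) 0).obj F) :=
  (DerivedCategory.singleFunctorIsoCompQ X.Modules 0).app F

lemma kf_single (F : X.Modules) (hF : FlatMod.IsFlat F) :
    KF ((HomologicalComplex.single X.Modules (ComplexShape.up ℤ) 0).obj F) :=
  (kf_iff_isKFlat _).2
    (Groth.Agent.Lib.Helper5.KFlatSingle.isKFlat_single X.sheaf F ((flat_iff F).1 hF) 0)

/-- flat modules have vanishing `Tor₁`. -/
theorem isZero_tor_one_of_flat (F : X.Modules) (hF : FlatMod.IsFlat F) (G : X.Modules)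
    [DCoh.HasLTensorMod G] :
    IsZero (DCoh.HD ((DCoh.LTensorMod G).obj (DCoh.inD X F)) (-1)) := by
  have h1 : IsZero (DCoh.HD ((DCoh.LTensorMod G).obj
      (DCoh.toD X ((HomologicalComplex.single X.Modules (ComplexShape.up ℤ) 0).obj F))) (-1)) := by
    rw [isZero_HD_ltensor_iff G _ (kf_single F hF) (-1)]
    apply ShortComplex.exact_of_isZero_X₂
    exact Functor.map_isZero ((DCoh.tensorBi (X := X)).obj G)
      (HomologicalComplex.isZero_single_obj_X (ComplexShape.up ℤ) 0 F (-1) (by lia))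
  exact IsZero.of_iso h1 ((DerivedCategory.homologyFunctor X.Modules (-1)).mapIso
    ((DCoh.LTensorMod G).mapIso (inDIso F)))

/-- vanishing of `Tor₁(F, G)` for all `G` implies flatness. -/
theorem flat_of_isZero_tor_one (F : X.Modules) (hL : ∀ G : X.Modules, DCoh.HasLTensorMod G)
    (h : ∀ (G : X.Modules) [DCoh.HasLTensorMod G],
      IsZero (DCoh.HD ((DCoh.LTensorMod G).obj (DCoh.inD X F)) (-1))) : FlatMod.IsFlat F := by
  obtain ⟨Q, α, hQ, hflQ, -, hα⟩ :=
    Groth.Agent.Lib.Helper32.LeftRes.exists_of_isStrictlyLE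
      (fun M : X.Modules => ModSite.IsFlat (O := X.sheaf) M)
      (fun M => by
        obtain ⟨L, hL, π, hπ⟩ := Groth.Agent.Lib.Helper30.FlatSES.exists_flat_epi X.sheaf M
        exact ⟨L, π, hL, hπ⟩)
      ⟨0, isZero_zero _,
        Groth.Agent.Lib.Helper30.AcyclicFlat.isFlat_of_isZero X.sheaf 0 (isZero_zero _)⟩
      ((CochainComplex.singleFunctor X.Modules 0).obj F) 0
  have hKF : KF Q := (kf_iff_isKFlat Q).2 (Groth.Agent.S9058.result X.sheaf Q 0 hQ hflQ)
  have e : DCoh.toD X Q ≅ DCoh.inD X F :=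
    asIso (DerivedCategory.Q.map α) ≪≫ (inDIso F).symm
  have key : ModSite.IsFlat (O := X.sheaf) (cokernel (Q.d (-1) 0)) := by
    refine Groth.Agent.Lib.Helper28.FlatCoker.isFlat_cokernel_of_exact X.sheaf
      (Q.d (-2) (-1)) (Q.d (-1) 0) (Q.d_comp_d _ _ _) (hflQ 0) (fun G => ?_)
    haveI := hL G
    have h1 : IsZero (DCoh.HD ((DCoh.LTensorMod G).obj (DCoh.toD X Q)) (-1)) :=
      IsZero.of_iso (h G) ((DerivedCategory.homologyFunctor X.Modules (-1)).mapIso
        ((DCoh.LTensorMod G).mapIso e))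
    rw [isZero_HD_ltensor_iff G Q hKF (-1)] at h1
    rw [HomologicalComplex.exactAt_iff' _ (-2) (-1) 0 (by simp) (by simp)] at h1
    exact h1
  have hF : ModSite.IsFlat (O := X.sheaf) F :=
    Groth.Agent.Lib.Helper5.KFlatSingle.isFlat_of_iso X.sheaf
      (cokernelIsoOfQuasiIsoSingle Q F α hα (Q.isZero_of_isStrictlyLE 0 1 (by lia))) key
  exact (flat_iff F).2 hF

end Groth.Agent.Lib.Helper28.TorOne
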