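import Mathlib
import Groth.Prelude.Def_DerSch
import Groth.Agent.Lib.Helper28.PullbackStalk
import Groth.Agent.Lib.Helper49.StalkExact
import Groth.Agent.Lib.Helper28.AcyclicMap
import Groth.Agent.Lib.Helper28.TorOne

set_option autoImplicit false
set_option linter.unusedSectionVars false
universe u
open CategoryTheory CategoryTheory.Limits AlgebraicGeometry Opposite TopologicalSpace

noncomputable section

namespace Groth.Agent.Lib.Helper28.PullbackFlat

open Groth.Agent.Lib.Helper28.SkyMod Groth.Agent.Lib.Helper49

lemma extendScalars_map_injective {R S : Type u} [CommRing R] [CommRing S] (f : R →+* S)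
    {M₁ M₂ M₃ : ModuleCat.{u} R} (i : M₁ ⟶ M₂) (p : M₂ ⟶ M₃) (hi : Function.Injective i.hom)
    (hp : Function.Surjective p.hom) (hex : Function.Exact i.hom p.hom) [Module.Flat R M₃] :
    Function.Injective ((ModuleCat.extendScalars f).map i).hom := by
  have := LinearMap.lTensor_injective_of_exact_of_flat p.hom hp i.hom hi hex
    ((ModuleCat.restrictScalars f).obj (ModuleCat.of _ S))
  exact this

variable {X Y : Scheme.{u}}

lemma stalkFunctor_map_coe {M N : X.Modules} (φ : M ⟶ N) (x : X) :
    ⇑((DerSch.stalkFunctor X x).map φ).hom = ⇑(stalkMap φ x).hom := rfl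

/-- pulling back a short exact sequence with flat cokernel keeps the first map a monomorphism. -/
theorem mono_pullback_map (f : X ⟶ Y) (S : ShortComplex Y.Modules) (hS : S.ShortExact)
    (hfl : FlatMod.IsFlat S.X₃) : Mono ((Scheme.Modules.pullback f).map S.f) := by
  apply mono_of_stalkMap_injective
  intro x
  rw [← stalkFunctor_map_coe]
  let e := pullbackStalkIso f x
  have hnat := e.hom.naturality S.f
  have := hS.mono_f
  have := hS.epi_g
  have hinj : Function.Injective ((DerSch.stalkFunctor Y (f.base x) ⋙
      ModuleCat.extendScalars (f.stalkMap x).hom).map S.f).hom := by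
    have : Module.Flat (Y.presheaf.stalk (f.base x))
        ((DerSch.stalkFunctor Y (f.base x)).obj S.X₃) := hfl (f.base x)
    exact extendScalars_map_injective _ ((DerSch.stalkFunctor Y _).map S.f)
      ((DerSch.stalkFunctor Y _).map S.g) (stalkMap_injective_of_mono S.f _)
      (stalkMap_surjective_of_epi S.g _) (stalkMap_exact_of_shortExact S hS _)
  have h1 : (Scheme.Modules.pullback f ⋙ DerSch.stalkFunctor X x).map S.f =
      e.hom.app S.X₁ ≫ (DerSch.stalkFunctor Y (f.base x) ⋙
        ModuleCat.extendScalars (f.stalkMap x).hom).map S.f ≫ e.inv.app S.X₂ := by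
    rw [← Category.assoc, ← hnat, Category.assoc, Iso.hom_inv_id_app, Category.comp_id]
  change Function.Injective ((Scheme.Modules.pullback f ⋙ DerSch.stalkFunctor X x).map S.f).hom
  rw [h1]
  have h2 : Function.Injective (e.hom.app S.X₁).hom :=
    (ConcreteCategory.bijective_of_isIso (e.hom.app S.X₁)).1
  have h3 : Function.Injective (e.inv.app S.X₂).hom :=
    (ConcreteCategory.bijective_of_isIso (e.inv.app S.X₂)).1
  exact (h3.comp hinj).comp h2

lemma flat_extendScalars {R S : Type u} [CommRing R] [CommRing S] (f : R →+* S)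
    (M : ModuleCat.{u} R) [Module.Flat R M] :
    Module.Flat S ((ModuleCat.extendScalars f).obj M) := by
  letI := f.toAlgebra
  exact (inferInstance : Module.Flat S (TensorProduct R S M))

/-- the pullback of a flat module is flat. -/
theorem isFlat_pullback (f : X ⟶ Y) (M : Y.Modules) (hM : FlatMod.IsFlat M) :
    FlatMod.IsFlat ((Scheme.Modules.pullback f).obj M) := by
  intro x
  let e := (pullbackStalkIso f x).app M
  have : Module.Flat (Y.presheaf.stalk (f.base x))
      ((DerSch.stalkFunctor Y (f.base x)).obj M) := hM (f.base x)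
  have h2 : Module.Flat (X.presheaf.stalk x) ((ModuleCat.extendScalars (f.stalkMap x).hom).obj
      ((DerSch.stalkFunctor Y (f.base x)).obj M)) := flat_extendScalars _ _
  exact (Module.Flat.equiv_iff e.toLinearEquiv).2 h2

open Groth.Agent.Lib.Helper28.LTensorCompute in
/-- cycles of an acyclic K-flat complex with flat terms are flat (scheme version). -/
theorem isFlat_cycles (K : CochainComplex Y.Modules ℤ) (hK : DCoh.IsKFlat K)
    (hfl : ∀ i : ℤ, FlatMod.IsFlat (K.X i)) (hac : K.Acyclic) (n : ℤ) :
    FlatMod.IsFlat (K.cycles n) :=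
  (TorOne.flat_iff _).2 (SiteCyclesFlat.isFlat_cycles Y.sheaf K ((kf_iff_isKFlat K).2 hK) hac
    (fun i => (TorOne.flat_iff _).1 (hfl i)) n)

/-- **the pullback of an acyclic K-flat complex with flat terms is acyclic.** -/
theorem acyclic_pullback (f : X ⟶ Y) (K : CochainComplex Y.Modules ℤ) (hK : DCoh.IsKFlat K)
    (hfl : ∀ i : ℤ, FlatMod.IsFlat (K.X i)) (hac : K.Acyclic) :
    (((Scheme.Modules.pullback f).mapHomologicalComplex (ComplexShape.up ℤ)).obj K).Acyclic := by
  apply AcyclicMap.acyclic_map_of_mono_iCycles (Scheme.Modules.pullback f) K hac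
  intro j
  have w₂ : K.iCycles j ≫ K.toCycles j (j + 1) = 0 := by
    rw [← cancel_mono (K.iCycles (j + 1)), Category.assoc, K.toCycles_i, K.iCycles_d, zero_comp]
  exact mono_pullback_map f (ShortComplex.mk (K.iCycles j) (K.toCycles j (j + 1)) w₂)
    (SiteCyclesFlat.shortExact_cycles K j (j + 1) rfl (hac (j + 1)))
    (isFlat_cycles K hK hfl hac (j + 1))

end Groth.Agent.Lib.Helper28.PullbackFlat
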