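import Mathlib
import Groth.Prelude.Def_DDual2
import Groth.Agent.Lib.Helper28.PullbackFlat
import Groth.Agent.Lib.Helper28.SiteKFlat
import Groth.Agent.Lib.Helper28.BiKFlatStable
import Groth.Agent.Lib.Helper5.LeftDerivedRes
import Groth.Agent.Lib.Helper32.RDPlus
import Groth.Agent.S0955

/-!
# Computing the derived pullback `Lf^*` (helper28)

For a morphism of schemes `f : X ⟶ Y`, the class `PF` of K-flat complexes of `O_Y`-modules with
flat terms is adapted to `f^*`: it is stable under cones, every complex has a resolution in `PF`,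
and `f^*` preserves quasi-isomorphisms between complexes in `PF`. Consequently `Lf^*` exists and
`Lf^* (Q P) ≅ Q (f^* P)` for `P` in `PF`.
-/

set_option autoImplicit false
universe u
open CategoryTheory CategoryTheory.Limits AlgebraicGeometry

namespace Groth.Agent.Lib.Helper28.LpullCompute

attribute [local instance] HasDerivedCategory.standard

open Groth.Agent.Lib.Helper28.LTensorCompute

variable {X Y : Scheme.{u}}

/-- K-flat complexes with flat terms. -/
def PF (P : CochainComplex Y.Modules ℤ) : Prop :=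
  DCoh.IsKFlat P ∧ ∀ i : ℤ, FlatMod.IsFlat (P.X i)

lemma isFlat_of_isZero (Z : Y.Modules) (hZ : IsZero Z) : FlatMod.IsFlat Z :=
  (TorOne.flat_iff Z).2 (Groth.Agent.Lib.Helper30.AcyclicFlat.isFlat_of_isZero Y.sheaf Z hZ)

lemma isFlat_of_iso {M N : Y.Modules} (e : M ≅ N) (hM : FlatMod.IsFlat M) : FlatMod.IsFlat N :=
  (TorOne.flat_iff N).2 (Groth.Agent.Lib.Helper5.KFlatSingle.isFlat_of_iso Y.sheaf e
    ((TorOne.flat_iff M).1 hM))

lemma isFlat_biprod (M N : Y.Modules) (hM : FlatMod.IsFlat M) (hN : FlatMod.IsFlat N) :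
    FlatMod.IsFlat (M ⊞ N) :=
  (TorOne.flat_iff _).2 (SiteKFlat.isFlat_biprod Y.sheaf M N ((TorOne.flat_iff M).1 hM)
    ((TorOne.flat_iff N).1 hN))

lemma pf_stable : AdaptedLeft.IsStableClass (PF (Y := Y)) where
  zero := ⟨(kf_iff_isKFlat _).1 (BiK.isStableClass (DCoh.tensorBi (X := Y))).zero,
    fun i => isFlat_of_isZero _ (Functor.map_isZero
      (HomologicalComplex.eval Y.Modules (ComplexShape.up ℤ) i) (isZero_zero _))⟩
  shift K n hK := ⟨(kf_iff_isKFlat _).1 ((BiK.isStableClass (DCoh.tensorBi (X := Y))).shift K n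
    ((kf_iff_isKFlat _).2 hK.1)), fun i => hK.2 (i + n)⟩
  cone {K₁ K₂} φ h₁ h₂ := ⟨(kf_iff_isKFlat _).1 ((BiK.isStableClass (DCoh.tensorBi (X := Y))).cone φ
    ((kf_iff_isKFlat _).2 h₁.1) ((kf_iff_isKFlat _).2 h₂.1)), fun i =>
      isFlat_of_iso (HomologicalComplex.homotopyCofiber.XIsoBiprod φ i (i + 1) (by simp)).symm
        (isFlat_biprod _ _ (h₁.2 (i + 1)) (h₂.2 i))⟩

lemma pf_res (K : CochainComplex Y.Modules ℤ) :
    ∃ (P : CochainComplex Y.Modules ℤ) (q : P ⟶ K), PF P ∧ QuasiIso q := by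
  obtain ⟨P, q, hP, hfl, hq, -⟩ := Groth.Agent.S0955.result K
  exact ⟨P, q, ⟨hP, hfl⟩, hq⟩

lemma pf_acyclic (f : X ⟶ Y) (P : CochainComplex Y.Modules ℤ) (hP : PF P) (hac : P.Acyclic) :
    (((Scheme.Modules.pullback f).mapHomologicalComplex (ComplexShape.up ℤ)).obj P).Acyclic :=
  PullbackFlat.acyclic_pullback f P hP.1 hP.2 hac

/-- `f^*` preserves quasi-isomorphisms between K-flat complexes with flat terms. -/
lemma quasiIso_pullback_map (f : X ⟶ Y) {P₀ P₁ : CochainComplex Y.Modules ℤ} (h₀ : PF P₀)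
    (h₁ : PF P₁) (s : P₀ ⟶ P₁) [QuasiIso s] :
    QuasiIso (((Scheme.Modules.pullback f).mapHomologicalComplex (ComplexShape.up ℤ)).map s) := by
  rw [Groth.Agent.Lib.Helper32.ConeAcyclic.quasiIso_map_iff_acyclic_map_mappingCone]
  exact pf_acyclic f _ (pf_stable.cone s h₀ h₁)
    ((Groth.Agent.Lib.Helper32.ConeAcyclic.quasiIso_iff_acyclic_mappingCone s).1 inferInstance)

/-- the class of (images in the homotopy category of) complexes in `PF`. -/
def PP (Z : HomotopyCategory Y.Modules (ComplexShape.up ℤ)) : Prop :=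
  ∃ K : CochainComplex Y.Modules ℤ, PF K ∧
    Z = (HomotopyCategory.quotient Y.Modules (ComplexShape.up ℤ)).obj K

lemma hres (Z : HomotopyCategory Y.Modules (ComplexShape.up ℤ)) :
    ∃ (Z₀ : HomotopyCategory Y.Modules (ComplexShape.up ℤ)) (w : Z₀ ⟶ Z), PP Z₀ ∧
      HomotopyCategory.quasiIso Y.Modules (ComplexShape.up ℤ) w := by
  obtain ⟨K, rfl⟩ := HomotopyCategory.quotient_obj_surjective Z
  obtain ⟨P, q, hP, hq⟩ := pf_res K
  refine ⟨_, (HomotopyCategory.quotient Y.Modules (ComplexShape.up ℤ)).map q, ⟨P, hP, rfl⟩, ?_⟩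
  rwa [HomotopyCategory.quotient_map_mem_quasiIso_iff]

lemma hinv (f : X ⟶ Y) {Z₀ Z₁ : HomotopyCategory Y.Modules (ComplexShape.up ℤ)} (s : Z₀ ⟶ Z₁)
    (h₀ : PP Z₀) (h₁ : PP Z₁) (hs : HomotopyCategory.quasiIso Y.Modules (ComplexShape.up ℤ) s) :
    IsIso ((DCoh.pullKh f).map s) := by
  obtain ⟨K₀, h₀, rfl⟩ := h₀
  obtain ⟨K₁, h₁, rfl⟩ := h₁
  obtain ⟨s', rfl⟩ := (HomotopyCategory.quotient Y.Modules (ComplexShape.up ℤ)).map_surjective s
  rw [HomotopyCategory.quotient_map_mem_quasiIso_iff] at hs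
  have hs' : QuasiIso s' := hs
  have hq := quasiIso_pullback_map f h₀ h₁ s'
  show IsIso (DerivedCategory.Q.map
    (((Scheme.Modules.pullback f).mapHomologicalComplex (ComplexShape.up ℤ)).map s'))
  infer_instance

/-- **the derived pullback exists.** -/
theorem hasLpull (f : X ⟶ Y) : DCoh.HasLpull f := by
  have h := Groth.Agent.Lib.Helper5.LeftDerivedRes.hasPointwiseRightKanExtension
    DerivedCategory.Qh (HomotopyCategory.quasiIso Y.Modules (ComplexShape.up ℤ)) (DCoh.pullKh f)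
    PP hres (fun s h₀ h₁ hs => hinv f s h₀ h₁ hs)
  exact (Functor.hasLeftDerivedFunctor_iff (DCoh.pullKh f) DerivedCategory.Qh
    (HomotopyCategory.quasiIso Y.Modules (ComplexShape.up ℤ))).2 inferInstance

/-- The counit of `Lf^*` is an isomorphism at K-flat complexes with flat terms. -/
theorem isIso_counit (f : X ⟶ Y) [DCoh.HasLpull f] (K : CochainComplex Y.Modules ℤ)
    (hK : PF K) :
    IsIso (((DCoh.pullKh f).totalLeftDerivedCounit DerivedCategory.Qh
      (HomotopyCategory.quasiIso Y.Modules (ComplexShape.up ℤ))).app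
        ((HomotopyCategory.quotient Y.Modules (ComplexShape.up ℤ)).obj K)) :=
  Groth.Agent.Lib.Helper5.LeftDerivedRes.isIso_app DerivedCategory.Qh
    (HomotopyCategory.quasiIso Y.Modules (ComplexShape.up ℤ)) (DCoh.pullKh f) PP hres
    (fun s h₀ h₁ hs => hinv f s h₀ h₁ hs) (DCoh.Lpull f) _ ⟨K, hK, rfl⟩

/-- **`Lf^*` is computed termwise on a K-flat complex with flat terms.** -/
noncomputable def lpullIso (f : X ⟶ Y) [DCoh.HasLpull f] (K : CochainComplex Y.Modules ℤ)
    (hK : PF K) :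
    (DCoh.Lpull f).obj (DCoh.toD Y K) ≅
      DCoh.toD X (((Scheme.Modules.pullback f).mapHomologicalComplex (ComplexShape.up ℤ)).obj K) :=
  @asIso _ _ _ _ _ (isIso_counit f K hK)

lemma lpullIso_hom_naturality (f : X ⟶ Y) [DCoh.HasLpull f]
    {K K' : CochainComplex Y.Modules ℤ} (hK : PF K) (hK' : PF K') (g : K ⟶ K') :
    (DCoh.Lpull f).map (DerivedCategory.Q.map g) ≫ (lpullIso f K' hK').hom =
      (lpullIso f K hK).hom ≫ DerivedCategory.Q.map
        (((Scheme.Modules.pullback f).mapHomologicalComplex (ComplexShape.up ℤ)).map g) :=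
  ((DCoh.pullKh f).totalLeftDerivedCounit DerivedCategory.Qh
      (HomotopyCategory.quasiIso Y.Modules (ComplexShape.up ℤ))).naturality
    ((HomotopyCategory.quotient Y.Modules (ComplexShape.up ℤ)).map g)

end Groth.Agent.Lib.Helper28.LpullCompute
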