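import Mathlib
import Groth.Agent.Lib.Helper5.StalkTensorCx
import Groth.Agent.Lib.Helper30.StalkExactF
import Groth.Agent.Lib.Helper30.ModEpi
import Groth.Agent.Lib.Helper45.ModulesBasic
import Groth.Agent.Lib.Helper28.SkyMod
import Groth.Prelude.Def_KFlatSite
import Groth.Prelude.Def_DCoh4

/-!
# K-flatness of complexes of `O_X`-modules is stalkwise (helper28)
-/

set_option autoImplicit false
universe u
open CategoryTheory CategoryTheory.Limits AlgebraicGeometry Opposite TopologicalSpace MonoidalCategory

namespace Groth.Agent.Lib.Helper28.StalkKFlat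

open Groth.Agent.Lib.Helper28.SkyMod Groth.Agent.Lib.Helper5.StalkTensorCx

variable {X : Scheme.{u}} (x : X)

section Counit

/-- the counit `(Sky_x N)_x ⟶ N`. -/
noncomputable def counitHom (N : ModuleCat.{u} (X.presheaf.stalk x)) :
    (DerSch.stalkFunctor X x).obj (sky x N) ⟶ N :=
  fromSky (𝟙 (sky x N))

lemma counitHom_germ (N : ModuleCat.{u} (X.presheaf.stalk x)) (U : X.Opens) (hx : x ∈ U)
    (s : Γ(sky x N, U)) :
    (counitHom x N).hom ((sky x N).presheaf.germ U x hx s) =
      Sec.ev (x := x) (N := N) (U := U) s hx :=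
  fromSky_germ (𝟙 (sky x N)) U hx s

lemma counitHom_bijective (N : ModuleCat.{u} (X.presheaf.stalk x)) :
    Function.Bijective (counitHom x N).hom := by
  constructor
  · rw [injective_iff_map_eq_zero]
    intro a ha
    obtain ⟨U, hx, s, rfl⟩ := (sky x N).presheaf.exists_germ_eq (x := x) a
    rw [counitHom_germ] at ha
    have hs : s = 0 := by
      apply Sec.ext (x := x) (N := N)
      intro hx'
      exact ha
    subst hs
    exact map_zero _
  · intro n
    refine ⟨(sky x N).presheaf.germ ⊤ x trivial (Sec.mk (x := x) (N := N) (U := ⊤) fun _ => n), ?_⟩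
    rw [counitHom_germ]
    rfl

lemma isIso_counitHom (N : ModuleCat.{u} (X.presheaf.stalk x)) : IsIso (counitHom x N) :=
  (ConcreteCategory.isIso_iff_bijective _).2 (counitHom_bijective x N)

lemma counitHom_naturality {N N' : ModuleCat.{u} (X.presheaf.stalk x)} (g : N ⟶ N') :
    (DerSch.stalkFunctor X x).map (skyMap x g) ≫ counitHom x N' = counitHom x N ≫ g := by
  apply hom_ext_germ
  intro U hx s
  change (counitHom x N').hom ((DerSch.stalkFunctor X x).map (skyMap x g) _) =
    g.hom ((counitHom x N).hom _)
  rw [DerSch.stalkFunctor_map_germ, counitHom_germ, counitHom_germ]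
  rfl

/-- `(Sky_x N)_x ≅ N`, naturally. -/
noncomputable def skyStalkIso : skyFunctor x ⋙ DerSch.stalkFunctor X x ≅ 𝟭 _ :=
  NatIso.ofComponents (fun N => @asIso _ _ _ _ (counitHom x N) (isIso_counitHom x N))
    (fun g => counitHom_naturality x g)

end Counit

section SkyExact

instance : (skyFunctor x).Additive where
  map_add {N N' g g'} := by
    apply Scheme.Modules.hom_ext
    intro U
    rfl

instance : (skyFunctor x).IsRightAdjoint := (stalkSkyAdj x).isRightAdjoint

instance : (skyFunctor x).PreservesEpimorphisms where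
  preserves {N N'} g _ := by
    have hg : Function.Surjective g.hom := (ModuleCat.epi_iff_surjective g).1 inferInstance
    haveI : Epi ((Scheme.Modules.toPresheafOfModules X).map ((skyFunctor x).map g)) := by
      apply PresheafOfModules.epi_of_surjective
      intro U s'
      obtain ⟨f, hf⟩ := hg.comp_left (α := PLift (x ∈ U.unop)) s'
      exact ⟨f, hf⟩
    exact Functor.epi_of_epi_map (Scheme.Modules.toPresheafOfModules X) inferInstance

instance : PreservesFiniteColimits (skyFunctor x) :=
  Groth.Agent.Lib.Helper30.ModEpi.preservesFiniteColimits_of_preservesEpi (skyFunctor x)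

end SkyExact

section Acyclic

/-- an exact additive functor preserves acyclicity. -/
lemma acyclic_map {A B : Type*} [Category A] [Category B] [Abelian A] [Abelian B] (F : A ⥤ B)
    [F.Additive] [PreservesFiniteLimits F] [PreservesFiniteColimits F] (C : CochainComplex A ℤ)
    (hC : ∀ i : ℤ, IsZero (C.homology i)) (i : ℤ) :
    IsZero (((F.mapHomologicalComplex (ComplexShape.up ℤ)).obj C).homology i) :=
  IsZero.of_iso (F.map_isZero (hC i)) ((C.sc i).mapHomologyIso F)

/-- a complex of `O_X`-modules is acyclic if all its complexes of stalks are. -/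
lemma acyclic_of_stalks (C : CochainComplex X.Modules ℤ)
    (h : ∀ (x : X) (i : ℤ), IsZero (((stalkCx X x).obj C).homology i)) (i : ℤ) :
    IsZero (C.homology i) := by
  rw [Groth.Agent.Lib.Helper45.isZero_iff_stalk_subsingleton]
  intro x
  have h1 : IsZero ((DerSch.stalkFunctor X x).obj (C.homology i)) :=
    IsZero.of_iso (h x i) ((C.sc i).mapHomologyIso (DerSch.stalkFunctor X x)).symm
  exact ModuleCat.subsingleton_of_isZero h1

end Acyclic

/-- the complex of stalks of a skyscraper complex. -/
noncomputable def skyStalkCxIso (M : CochainComplex (ModuleCat.{u} (X.presheaf.stalk x)) ℤ) :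
    (stalkCx X x).obj (((skyFunctor x).mapHomologicalComplex (ComplexShape.up ℤ)).obj M) ≅ M :=
  (Functor.mapHomologicalComplexCompIso (skyStalkIso x) (ComplexShape.up ℤ)).app M ≪≫
    (Functor.mapHomologicalComplexIdIso _ (ComplexShape.up ℤ)).app M

/-- **the stalks of a K-flat complex are K-flat.** -/
theorem isKFlat_stalk (F : CochainComplex X.Modules ℤ) (hF : DCoh.IsKFlat F) :
    DRing.IsKFlat (X.presheaf.stalk x) ((stalkCx X x).obj F) := by
  intro M hM i
  have hL := acyclic_map (skyFunctor x) M hM
  have h1 := hF _ hL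
  have h2 := acyclic_map (DerSch.stalkFunctor X x) _ h1 i
  exact IsZero.of_iso h2 ((HomologicalComplex.homologyFunctor _ _ i).mapIso
    ((tensorIso (skyStalkCxIso x M) (Iso.refl ((stalkCx X x).obj F))).symm ≪≫
      (stalkTotIso X x _ F).symm))

/-- **a complex with K-flat stalks is K-flat.** -/
theorem isKFlat_of_stalks (F : CochainComplex X.Modules ℤ)
    (h : ∀ x : X, DRing.IsKFlat (X.presheaf.stalk x) ((stalkCx X x).obj F)) :
    DCoh.IsKFlat F := by
  intro L hL
  apply acyclic_of_stalks
  intro x i
  have h1 := h x ((stalkCx X x).obj L) (acyclic_map (DerSch.stalkFunctor X x) L hL) i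
  exact IsZero.of_iso h1
    ((HomologicalComplex.homologyFunctor _ _ i).mapIso (stalkTotIso X x L F))

theorem isKFlat_iff_stalks (F : CochainComplex X.Modules ℤ) :
    DCoh.IsKFlat F ↔ ∀ x : X, DRing.IsKFlat (X.presheaf.stalk x) ((stalkCx X x).obj F) :=
  ⟨fun hF x => isKFlat_stalk x F hF, isKFlat_of_stalks F⟩

end Groth.Agent.Lib.Helper28.StalkKFlat
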