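import Groth.Prelude.Def_DRing4
import Mathlib.RingTheory.Flat.CategoryTheory

/-!
# Tensor products of complexes of modules: elementwise tools
-/

set_option autoImplicit false
universe u
open CategoryTheory CategoryTheory.Limits Category MonoidalCategory

namespace Groth.Agent.Lib.Helper28.TensCx

variable {R : Type u} [CommRing R] (L P : DRing.Cx R)

/-- the inclusion of a summand of `(L ⊗ P).X n`. -/
noncomputable abbrev ι (p q n : ℤ) (h : p + q = n) : L.X p ⊗ P.X q ⟶ (L ⊗ P).X n :=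
  HomologicalComplex.ιTensorObj L P p q n h

lemma ι_d (p p' q q' n n' : ℤ) (h : p + q = n) (hn' : n + 1 = n') (hp' : p + 1 = p')
    (hq' : q + 1 = q') :
    ι L P p q n h ≫ (L ⊗ P).d n n' =
      (L.d p p' ▷ P.X q) ≫ ι L P p' q n' (by omega) +
        p.negOnePow • ((L.X p ◁ P.d q q') ≫ ι L P p q' n' (by omega)) := by
  subst hp' hq'
  dsimp only [ι]
  erw [HomologicalComplex.mapBifunctor.d_eq]
  rw [Preadditive.comp_add]
  erw [HomologicalComplex.mapBifunctor.ι_D₁, HomologicalComplex.mapBifunctor.ι_D₂]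
  rw [HomologicalComplex.mapBifunctor.d₁_eq _ _ _ _
      (show (ComplexShape.up ℤ).Rel p (p + 1) from rfl) q n' (by dsimp; omega),
    HomologicalComplex.mapBifunctor.d₂_eq _ _ _ _ p
      (show (ComplexShape.up ℤ).Rel q (q + 1) from rfl) n' (by dsimp; omega)]
  simp only [curriedTensor_obj_obj, ComplexShape.ε₁_def, curriedTensor_map_app, one_smul,
    ComplexShape.ε₂_def, ComplexShape.ε_up_ℤ, curriedTensor_obj_map]

lemma hom_ext {n : ℤ} {Y : ModuleCat.{u} R} {f g : (L ⊗ P).X n ⟶ Y}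
    (h : ∀ (p q : ℤ) (hpq : p + q = n), ι L P p q n hpq ≫ f = ι L P p q n hpq ≫ g) : f = g :=
  HomologicalComplex.mapBifunctor.hom_ext (fun p q hpq => h p q hpq)

/-- the projection on a summand of `(L ⊗ P).X n`. -/
noncomputable def proj (p₀ q₀ n : ℤ) (_ : p₀ + q₀ = n) : (L ⊗ P).X n ⟶ L.X p₀ ⊗ P.X q₀ :=
  HomologicalComplex.mapBifunctorDesc (fun p q _ =>
    if hpq : p = p₀ ∧ q = q₀ then eqToHom (by rw [hpq.1, hpq.2]; rfl) else 0)

lemma ι_proj_self (p₀ q₀ n : ℤ) (h : p₀ + q₀ = n) :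
    ι L P p₀ q₀ n h ≫ proj L P p₀ q₀ n h = 𝟙 _ := by
  dsimp only [ι, proj]
  erw [HomologicalComplex.ι_mapBifunctorDesc]
  rw [dif_pos ⟨rfl, rfl⟩]
  rfl

lemma ι_proj_ne (p q p₀ q₀ n : ℤ) (h : p + q = n) (h₀ : p₀ + q₀ = n) (hne : p ≠ p₀) :
    ι L P p q n h ≫ proj L P p₀ q₀ n h₀ = 0 := by
  dsimp only [ι, proj]
  erw [HomologicalComplex.ι_mapBifunctorDesc]
  rw [dif_neg (fun hh => hne hh.1)]

end Groth.Agent.Lib.Helper28.TensCx

namespace Groth.Agent.Lib.Helper28.TensCx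

variable {R : Type u} [CommRing R] (L P : DRing.Cx R)

/-- the summands span `(L ⊗ P).X n`. -/
lemma iSup_range_ι (n : ℤ) :
    (⨆ (p : ℤ), LinearMap.range (ι L P p (n - p) n (by omega)).hom) = ⊤ := by
  set S := ⨆ (p : ℤ), LinearMap.range (ι L P p (n - p) n (by omega)).hom with hS
  have h : ModuleCat.ofHom S.mkQ = 0 := by
    apply hom_ext
    intro p q hpq
    obtain rfl : q = n - p := by omega
    rw [comp_zero]
    ext x
    change S.mkQ ((ι L P p (n - p) n hpq).hom x) = 0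
    rw [Submodule.mkQ_apply, Submodule.Quotient.mk_eq_zero]
    exact (le_iSup (fun p => LinearMap.range (ι L P p (n - p) n (by omega)).hom) p)
      (LinearMap.mem_range_self _ x)
  have h' : S.mkQ = 0 := by
    have := congr_arg ModuleCat.Hom.hom h
    simpa using this
  rw [← Submodule.ker_mkQ S, h', LinearMap.ker_zero]

/-- the filtration of `(L ⊗ P).X n` by the degree in `L`. -/
noncomputable def G (n m : ℤ) : Submodule R ((L ⊗ P).X n) :=
  ⨆ (p : ℤ) (_ : p ≤ m), LinearMap.range (ι L P p (n - p) n (by omega)).hom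

lemma G_mono (n : ℤ) {m m' : ℤ} (h : m ≤ m') : G L P n m ≤ G L P n m' :=
  iSup₂_le (fun p hp => le_iSup₂_of_le p (hp.trans h) le_rfl)

lemma ι_mem_G (n p q m : ℤ) (h : p + q = n) (hp : p ≤ m) (x : ↑(L.X p ⊗ P.X q)) :
    (ι L P p q n h).hom x ∈ G L P n m := by
  obtain rfl : q = n - p := by omega
  exact (le_iSup₂_of_le (f := fun p (_ : p ≤ m) =>
    LinearMap.range (ι L P p (n - p) n (by omega)).hom) p hp le_rfl) (LinearMap.mem_range_self _ x)

lemma exists_mem_G (n : ℤ) (x : ↑((L ⊗ P).X n)) : ∃ m, x ∈ G L P n m := by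
  have hx : x ∈ (⨆ (p : ℤ), LinearMap.range (ι L P p (n - p) n (by omega)).hom) := by
    rw [iSup_range_ι]; trivial
  induction hx using Submodule.iSup_induction' with
  | mem p x hx =>
    obtain ⟨y, rfl⟩ := hx
    exact ⟨p, ι_mem_G L P n p (n - p) p (by omega) le_rfl y⟩
  | zero => exact ⟨0, Submodule.zero_mem _⟩
  | add x y _ _ hx hy =>
    obtain ⟨m, hm⟩ := hx
    obtain ⟨m', hm'⟩ := hy
    exact ⟨max m m', Submodule.add_mem _ (G_mono L P n (le_max_left _ _) hm)
      (G_mono L P n (le_max_right _ _) hm')⟩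

lemma G_eq_bot (n m b : ℤ) (hb : ∀ q, b < q → IsZero (P.X q)) (hm : m < n - b) :
    G L P n m = ⊥ := by
  rw [G, eq_bot_iff]
  refine iSup₂_le (fun p hp => ?_)
  rintro _ ⟨y, rfl⟩
  have hz : IsZero (L.X p ⊗ P.X (n - p)) :=
    (tensorLeft (L.X p)).map_isZero (hb (n - p) (by omega))
  have : y = 0 := by
    haveI := (ModuleCat.isZero_iff_subsingleton.1 hz)
    exact Subsingleton.elim _ _
  rw [this, map_zero]
  exact Submodule.zero_mem _

lemma exists_decomp (n m : ℤ) (x : ↑((L ⊗ P).X n)) (hx : x ∈ G L P n m) :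
    ∃ (a : ↑(L.X m ⊗ P.X (n - m))) (x' : ↑((L ⊗ P).X n)), x' ∈ G L P n (m - 1) ∧
      x = (ι L P m (n - m) n (by omega)).hom a + x' := by
  have hle : G L P n m ≤ LinearMap.range (ι L P m (n - m) n (by omega)).hom ⊔ G L P n (m - 1) := by
    refine iSup₂_le (fun p hp => ?_)
    by_cases hpm : p = m
    · subst hpm
      exact le_sup_left
    · refine le_trans ?_ le_sup_right
      exact le_iSup₂_of_le (f := fun p (_ : p ≤ m - 1) =>
        LinearMap.range (ι L P p (n - p) n (by omega)).hom) p (by omega) le_rfl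
  obtain ⟨y, ⟨a, rfl⟩, x', hx', rfl⟩ := Submodule.mem_sup.1 (hle hx)
  exact ⟨a, x', hx', rfl⟩

end Groth.Agent.Lib.Helper28.TensCx

namespace Groth.Agent.Lib.Helper28.TensCx

variable {R : Type u} [CommRing R] (L P : DRing.Cx R)

/-- the `(m+1, n-m)` component of the differential vanishes on `G (m-1)`. -/
lemma proj_d_of_mem_G (n n' m m' : ℤ) (hn' : n + 1 = n') (hm' : m + 1 = m')
    (x : ↑((L ⊗ P).X n)) (hx : x ∈ G L P n (m - 1)) :
    (proj L P m' (n - m) n' (by omega)).hom (((L ⊗ P).d n n').hom x) = 0 := by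
  have hle : G L P n (m - 1) ≤
      LinearMap.ker (((L ⊗ P).d n n') ≫ proj L P m' (n - m) n' (by omega)).hom := by
    refine iSup₂_le (fun p hp => ?_)
    rintro _ ⟨y, rfl⟩
    rw [LinearMap.mem_ker]
    change (ι L P p (n - p) n (by omega) ≫ (L ⊗ P).d n n' ≫
      proj L P m' (n - m) n' (by omega)).hom y = 0
    rw [← assoc, ι_d L P p (p + 1) (n - p) (n - p + 1) n n' (by omega) hn' rfl rfl,
      Preadditive.add_comp, assoc, Linear.units_smul_comp, assoc,
      ι_proj_ne L P (p + 1) (n - p) m' (n - m) n' (by omega) (by omega) (by omega),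
      ι_proj_ne L P p (n - p + 1) m' (n - m) n' (by omega) (by omega) (by omega),
      comp_zero, comp_zero, smul_zero, add_zero]
    rfl
  exact hle hx

/-- one step of the induction: kill the leading term of a cycle. -/
lemma exists_step (hL : ∀ i, L.ExactAt i) (hP : ∀ q, Module.Flat R (P.X q))
    (n₀ n n' m : ℤ) (hn : n₀ + 1 = n) (hn' : n + 1 = n')
    (x : ↑((L ⊗ P).X n)) (hx : x ∈ G L P n m) (hdx : ((L ⊗ P).d n n').hom x = 0) :
    ∃ w : ↑((L ⊗ P).X n₀), x - ((L ⊗ P).d n₀ n).hom w ∈ G L P n (m - 1) := by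
  obtain ⟨a, x', hx', rfl⟩ := exists_decomp L P n m x hx
  -- the leading term is a cycle
  have ha : (L.d m (m + 1) ▷ P.X (n - m)).hom a = 0 := by
    have h1 := congr_arg (proj L P (m + 1) (n - m) n' (by omega)).hom hdx
    rw [map_add, map_add, proj_d_of_mem_G L P n n' m (m + 1) hn' rfl x' hx', add_zero,
      map_zero] at h1
    have h2 : (ι L P m (n - m) n (by omega) ≫ (L ⊗ P).d n n' ≫
        proj L P (m + 1) (n - m) n' (by omega)).hom a = 0 := h1
    rw [← assoc, ι_d L P m (m + 1) (n - m) (n - m + 1) n n' (by omega) hn' rfl rfl,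
      Preadditive.add_comp, assoc, Linear.units_smul_comp, assoc,
      ι_proj_self, ι_proj_ne L P m (n - m + 1) (m + 1) (n - m) n' (by omega) (by omega) (by omega),
      comp_zero, smul_zero, add_zero, comp_id] at h2
    exact h2
  -- exactness of `L ⊗ P.X (n - m)`
  haveI := hP (n - m)
  have hex := Module.Flat.rTensor_shortComplex_exact (P.X (n - m)) (L.sc' (m - 1) m (m + 1))
    ((L.exactAt_iff' (m - 1) m (m + 1) (by simp) (by simp)).1 (hL m))
  rw [ShortComplex.moduleCat_exact_iff] at hex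
  obtain ⟨w₀, hw₀⟩ := hex a ha
  have hw₀' : (L.d (m - 1) m ▷ P.X (n - m)).hom w₀ = a := hw₀
  refine ⟨(ι L P (m - 1) (n - m) n₀ (by omega)).hom w₀, ?_⟩
  have h3 : ((L ⊗ P).d n₀ n).hom ((ι L P (m - 1) (n - m) n₀ (by omega)).hom w₀) =
      (ι L P m (n - m) n (by omega)).hom a +
        (m - 1).negOnePow • (ι L P (m - 1) (n - m + 1) n (by omega)).hom
          ((L.X (m - 1) ◁ P.d (n - m) (n - m + 1)).hom w₀) := by
    change (ι L P (m - 1) (n - m) n₀ (by omega) ≫ (L ⊗ P).d n₀ n).hom w₀ = _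
    rw [ι_d L P (m - 1) m (n - m) (n - m + 1) n₀ n (by omega) hn (by omega) rfl, ← hw₀']
    rfl
  rw [h3]
  have h4 : (ι L P m (n - m) n (by omega)).hom a + x' -
      ((ι L P m (n - m) n (by omega)).hom a +
        (m - 1).negOnePow • (ι L P (m - 1) (n - m + 1) n (by omega)).hom
          ((L.X (m - 1) ◁ P.d (n - m) (n - m + 1)).hom w₀)) =
      x' - (m - 1).negOnePow • (ι L P (m - 1) (n - m + 1) n (by omega)).hom
          ((L.X (m - 1) ◁ P.d (n - m) (n - m + 1)).hom w₀) := by abel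
  rw [h4]
  refine Submodule.sub_mem _ hx' ?_
  have h5 := ι_mem_G L P n (m - 1) (n - m + 1) (m - 1) (by omega) le_rfl
    ((L.X (m - 1) ◁ P.d (n - m) (n - m + 1)).hom w₀)
  rcases Int.units_eq_one_or (m - 1).negOnePow with h | h
  · rw [h, one_smul]; exact h5
  · rw [h, Units.neg_smul, one_smul]; exact Submodule.neg_mem _ h5

end Groth.Agent.Lib.Helper28.TensCx

namespace Groth.Agent.Lib.Helper28.TensCx

variable {R : Type u} [CommRing R] (L P : DRing.Cx R)

lemma exists_preimage_of_mem_G (hL : ∀ i, L.ExactAt i) (hP : ∀ q, Module.Flat R (P.X q))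
    (b : ℤ) (hb : ∀ q, b < q → IsZero (P.X q)) (n₀ n n' : ℤ) (hn : n₀ + 1 = n) (hn' : n + 1 = n')
    (j : ℕ) : ∀ (m : ℤ), m < n - b + j → ∀ (x : ↑((L ⊗ P).X n)), x ∈ G L P n m →
      ((L ⊗ P).d n n').hom x = 0 → ∃ w : ↑((L ⊗ P).X n₀), ((L ⊗ P).d n₀ n).hom w = x := by
  induction j with
  | zero =>
    intro m hm x hx _
    rw [G_eq_bot L P n m b hb (by simpa using hm)] at hx
    exact ⟨0, by rw [map_zero, (Submodule.mem_bot R).1 hx]⟩
  | succ j ih =>
    intro m hm x hx hdx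
    obtain ⟨w₁, hw₁⟩ := exists_step L P hL hP n₀ n n' m hn hn' x hx hdx
    have hd : ((L ⊗ P).d n n').hom (x - ((L ⊗ P).d n₀ n).hom w₁) = 0 := by
      rw [map_sub, hdx, zero_sub, neg_eq_zero]
      change ((L ⊗ P).d n₀ n ≫ (L ⊗ P).d n n').hom w₁ = 0
      rw [HomologicalComplex.d_comp_d]
      rfl
    obtain ⟨w₂, hw₂⟩ := ih (m - 1) (by push_cast at hm ⊢; omega) _ hw₁ hd
    exact ⟨w₁ + w₂, by rw [map_add, hw₂]; abel⟩

/-- **K-flatness of bounded above complexes of flat modules**: if `L` is acyclic and `P` is a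
bounded above complex of flat modules, then `L ⊗ P` is acyclic. -/
theorem exactAt_tensor_of_flat_right (hL : ∀ i, L.ExactAt i) (hP : ∀ q, Module.Flat R (P.X q))
    (b : ℤ) (hb : ∀ q, b < q → IsZero (P.X q)) (n : ℤ) : (L ⊗ P).ExactAt n := by
  rw [HomologicalComplex.exactAt_iff' _ (n - 1) n (n + 1) (by simp) (by simp),
    ShortComplex.moduleCat_exact_iff]
  intro x hx
  obtain ⟨m, hm⟩ := exists_mem_G L P n x
  obtain ⟨w, hw⟩ := exists_preimage_of_mem_G L P hL hP b hb (n - 1) n (n + 1) (by omega) rfl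
    (m - (n - b) + 1).toNat m (by omega) x hm hx
  exact ⟨w, hw⟩

end Groth.Agent.Lib.Helper28.TensCx
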