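import Groth.Agent.Lib.Helper28.TensCx3
import Groth.Agent.Lib.Helper26.TensorHomCx
import Groth.Prelude.Def_DTen
import Mathlib.Algebra.Homology.HomotopyCategory.HomComplexSingle
import Mathlib.Algebra.Category.ModuleCat.EnoughInjectives

/-!
# K-projective complexes of modules are K-flat
-/

set_option autoImplicit false
universe u
open CategoryTheory CategoryTheory.Limits Category MonoidalCategory
open CochainComplex CochainComplex.HomComplex

namespace Groth.Agent.Lib.Helper28.KProjFlat

variable {A : Type u} [CommRing A]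

/-- the complex `J[0]`. -/
noncomputable abbrev sg (J : ModuleCat.{u} A) : DRing.Cx A :=
  (CochainComplex.singleFunctor (ModuleCat.{u} A) 0).obj J

lemma toSingleMk_injective {K : DRing.Cx A} {J : ModuleCat.{u} A} {p q n : ℤ} (h : p + n = q)
    {f g : K.X p ⟶ J} (hfg : Cochain.toSingleMk (q := q) f h = Cochain.toSingleMk g h) : f = g := by
  have := congr_arg (Cochain.toSingleEquiv h) hfg
  rwa [Cochain.toSingleEquiv_toSingleMk, Cochain.toSingleEquiv_toSingleMk] at this

/-- `Hom•(L, J[0])` is acyclic for `L` acyclic and `J` injective. -/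
lemma acyclic_homCx_single (L : DRing.Cx A) (hL : L.Acyclic) (J : ModuleCat.{u} A)
    [Injective J] : (DRing.homCx L (sg J)).Acyclic := by
  intro i
  rw [HomologicalComplex.exactAt_iff' _ (i - 1) i (i + 1) (by simp) (by simp),
    ShortComplex.moduleCat_exact_iff]
  intro (z : Cochain L (sg J) i) hz
  have hz' : δ i (i + 1) z = 0 := hz
  obtain ⟨f, rfl⟩ := Cochain.toSingleMk_surjective z (-i) (by omega)
  rw [Cochain.δ_toSingleMk f _ (i + 1) (-i - 1) (by omega)] at hz'
  have h0 : L.d (-i - 1) (-i) ≫ f = 0 := by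
    apply toSingleMk_injective (q := 0) (n := i + 1) (by omega)
    rw [Cochain.toSingleMk_zero]
    rcases Int.units_eq_one_or (i + 1).negOnePow with h | h
    · rwa [h, one_smul] at hz'
    · rwa [h, Units.neg_smul, one_smul, neg_eq_zero] at hz'
  have hex : (L.sc' (-i - 1) (-i) (-i + 1)).Exact :=
    (L.exactAt_iff' (-i - 1) (-i) (-i + 1) (by simp) (by simp)).1 (hL (-i))
  let g : L.X (-i + 1) ⟶ J := hex.descToInjective f h0
  have hg : L.d (-i) (-i + 1) ≫ g = f := hex.comp_descToInjective f h0
  refine ⟨i.negOnePow • Cochain.toSingleMk g (by omega : (-i + 1) + (i - 1) = 0), ?_⟩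
  change δ (i - 1) i (i.negOnePow • Cochain.toSingleMk g _) = Cochain.toSingleMk f _
  rw [δ_units_smul, Cochain.δ_toSingleMk g _ i (-i) (by omega), smul_smul, Int.units_mul_self,
    one_smul, hg]

/-- a complex `C` is acyclic as soon as `Hom•(C, J[0])` is acyclic for every injective `J`. -/
lemma acyclic_of_forall_acyclic_homCx_single (C : DRing.Cx A)
    (h : ∀ (J : ModuleCat.{u} A) [Injective J], (DRing.homCx C (sg J)).Acyclic) : C.Acyclic := by
  intro p
  rw [HomologicalComplex.exactAt_iff' _ (p - 1) p (p + 1) (by simp) (by simp),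
    ShortComplex.moduleCat_exact_iff]
  intro (x : C.X p) hx
  have hx0 : (C.d p (p + 1)).hom x = 0 := hx
  let B : Submodule A (C.X p) := LinearMap.range (C.d (p - 1) p).hom
  let Qm : ModuleCat.{u} A := ModuleCat.of A (C.X p ⧸ B)
  let π : C.X p ⟶ Qm := ModuleCat.ofHom B.mkQ
  let J : ModuleCat.{u} A := Injective.under Qm
  let ι : Qm ⟶ J := Injective.ι Qm
  let f : C.X p ⟶ J := π ≫ ι
  have hπ : C.d (p - 1) p ≫ π = 0 := by
    ext y
    change B.mkQ ((C.d (p - 1) p).hom y) = 0
    rw [Submodule.mkQ_apply, Submodule.Quotient.mk_eq_zero]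
    exact LinearMap.mem_range_self _ y
  have hf : C.d (p - 1) p ≫ f = 0 := by rw [← assoc, hπ, zero_comp]
  let z : Cochain C (sg J) (-p) := Cochain.toSingleMk f (by omega : p + (-p) = 0)
  have hz : δ (-p) (-p + 1) z = 0 := by
    change δ (-p) (-p + 1) (Cochain.toSingleMk f _) = 0
    rw [Cochain.δ_toSingleMk f _ (-p + 1) (p - 1) (by omega), hf, Cochain.toSingleMk_zero,
      smul_zero]
  have hex := h J (-p)
  rw [HomologicalComplex.exactAt_iff' _ (-p - 1) (-p) (-p + 1) (by simp) (by simp),
    ShortComplex.moduleCat_exact_iff] at hex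
  obtain ⟨(w : Cochain C (sg J) (-p - 1)), hw⟩ := hex z hz
  have hw' : δ (-p - 1) (-p) w = z := hw
  obtain ⟨g, rfl⟩ := Cochain.toSingleMk_surjective w (p + 1) (by omega)
  rw [Cochain.δ_toSingleMk g _ (-p) p (by omega)] at hw'
  have hfx : f.hom x = 0 := by
    rcases Int.units_eq_one_or (-p).negOnePow with h' | h'
    · rw [h', one_smul] at hw'
      have hfg : C.d p (p + 1) ≫ g = f := toSingleMk_injective _ hw'
      rw [← hfg]
      change g.hom ((C.d p (p + 1)).hom x) = 0
      rw [hx0, map_zero]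
    · rw [h', Units.neg_smul, one_smul, ← Cochain.toSingleMk_neg] at hw'
      have hfg : -(C.d p (p + 1) ≫ g) = f := toSingleMk_injective _ hw'
      rw [← hfg]
      change -(g.hom ((C.d p (p + 1)).hom x)) = 0
      rw [hx0, map_zero, neg_zero]
  have hι : Function.Injective ι.hom := (ModuleCat.mono_iff_injective ι).1 inferInstance
  have hπx : π.hom x = 0 := hι (by rw [map_zero]; exact hfx)
  have hxB : x ∈ B := (Submodule.Quotient.mk_eq_zero B).1 hπx
  obtain ⟨y, hy⟩ := hxB
  exact ⟨y, hy⟩

lemma acyclic_of_iso {K K' : DRing.Cx A} (e : K ≅ K') (hK : K.Acyclic) : K'.Acyclic :=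
  TensCx.acyclic_of_quasiIso e.hom hK

/-- **K-projective complexes of modules are K-flat.** -/
theorem kflat_of_isKProjective (P : DRing.Cx A) [P.IsKProjective] : TensCx.KFlat P := by
  intro L hL i
  have hLac : L.Acyclic := (TensCx.acyclic_iff L).2 hL
  have h1 : (P ⊗ L).Acyclic := by
    apply acyclic_of_forall_acyclic_homCx_single
    intro J _
    have h2 : (DRing.homCx P (DRing.homCx L (sg J))).Acyclic :=
      Groth.Agent.Lib.Helper26.TensorHomCx.acyclic_homCx P _ (acyclic_homCx_single L hLac J)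
    exact acyclic_of_iso (Groth.Agent.Lib.Helper26.TensorHomCx.homCxTensorIso P L (sg J)) h2
  have h3 : (L ⊗ P).Acyclic := acyclic_of_iso (DTen.braidCx P L) h1
  exact (TensCx.acyclic_iff _).1 h3 i

/-- the prelude's formulation. -/
theorem isKFlat_of_isKProjective (P : DRing.Cx A) [P.IsKProjective] : DRing.IsKFlat A P :=
  kflat_of_isKProjective P

/-- K-flatness is symmetric: a K-flat complex also preserves acyclicity when put on the left. -/
theorem acyclic_tensor_left_of_kflat (K : DRing.Cx A) (hK : TensCx.KFlat K) (L : DRing.Cx A)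
    (hL : L.Acyclic) : (K ⊗ L).Acyclic :=
  acyclic_of_iso (DTen.braidCx L K) ((TensCx.acyclic_iff _).2 (hK L ((TensCx.acyclic_iff L).1 hL)))

end Groth.Agent.Lib.Helper28.KProjFlat
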