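import Groth.Agent.Lib.Helper28.TensCx5
import Mathlib.CategoryTheory.Abelian.Projective.Extend
import Mathlib.Algebra.Category.ModuleCat.Projective
import Mathlib.CategoryTheory.Abelian.Projective.Resolution

/-!
# Tensor products of complexes of modules: acyclic K-flat complexes are universally acyclic
-/

set_option autoImplicit false
universe u
open CategoryTheory CategoryTheory.Limits Category MonoidalCategory

namespace Groth.Agent.Lib.Helper28.TensCx

variable {R : Type u} [CommRing R] (L P : DRing.Cx R)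

/-- the components of the differential of `L ⊗ P`, seen from the target. -/
lemma d_proj (p p' q q' n n' : ℤ) (h : p' + q' = n') (hn' : n + 1 = n') (hp' : p + 1 = p')
    (hq' : q + 1 = q') :
    (L ⊗ P).d n n' ≫ proj L P p' q' n' h =
      proj L P p q' n (by omega) ≫ (L.d p p' ▷ P.X q') +
        p'.negOnePow • (proj L P p' q n (by omega) ≫ (L.X p' ◁ P.d q q')) := by
  subst hp' hq'
  apply hom_ext
  intro a b hab
  rw [← assoc, ι_d L P a (a + 1) b (b + 1) n n' hab hn' rfl rfl, Preadditive.add_comp,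
    Preadditive.comp_add, Linear.units_smul_comp, Linear.comp_units_smul, assoc, assoc,
    ← assoc (ι L P a b n hab), ← assoc (ι L P a b n hab)]
  by_cases h1 : a = p
  · subst h1
    obtain rfl : b = q + 1 := by omega
    rw [ι_proj_self, ι_proj_self,
      ι_proj_ne L P a (q + 1 + 1) (a + 1) (q + 1) n' (by omega) h (by omega),
      ι_proj_ne L P a (q + 1) (a + 1) q n hab (by omega) (by omega)]
    simp
  · by_cases h2 : a = p + 1
    · subst h2
      obtain rfl : b = q := by omega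
      rw [ι_proj_self, ι_proj_self,
        ι_proj_ne L P (p + 1 + 1) b (p + 1) (b + 1) n' (by omega) h (by omega),
        ι_proj_ne L P (p + 1) b p (b + 1) n hab (by omega) (by omega)]
      simp
    · rw [ι_proj_ne L P (a + 1) b (p + 1) (q + 1) n' (by omega) h (by omega),
        ι_proj_ne L P a (b + 1) (p + 1) (q + 1) n' (by omega) h (by omega),
        ι_proj_ne L P a b p (q + 1) n hab (by omega) h1,
        ι_proj_ne L P a b (p + 1) q n hab (by omega) h2]
      simp

/-- each `L.X p ⊗ P` is exact. -/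
def ExactLeft : Prop :=
  ∀ (p q : ℤ) (a : ↑(L.X p ⊗ P.X q)), (L.X p ◁ P.d q (q + 1)).hom a = 0 →
    ∃ w₀ : ↑(L.X p ⊗ P.X (q - 1)), (L.X p ◁ P.d (q - 1) q).hom w₀ = a

/-- one step of the induction: kill the leading term of a cycle. -/
lemma exists_step'' (hex : ExactLeft L P)
    (n₀ n n' m : ℤ) (hn : n₀ + 1 = n) (hn' : n + 1 = n')
    (x : ↑((L ⊗ P).X n)) (hx : x ∈ G' L P n m) (hdx : ((L ⊗ P).d n n').hom x = 0) :
    ∃ w : ↑((L ⊗ P).X n₀), x - ((L ⊗ P).d n₀ n).hom w ∈ G' L P n (m - 1) := by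
  obtain ⟨a, x', hx', rfl⟩ := exists_decomp' L P n m x hx
  -- the leading term is a cycle
  have ha : (L.X (n - m) ◁ P.d m (m + 1)).hom a = 0 := by
    have h1 := congr_arg (proj L P (n - m) (m + 1) n' (by omega)).hom hdx
    rw [map_add, map_add, proj_d_of_mem_G' L P n n' m (m + 1) hn' rfl x' hx', add_zero,
      map_zero] at h1
    have h2 : (ι L P (n - m) m n (by omega) ≫ (L ⊗ P).d n n' ≫
        proj L P (n - m) (m + 1) n' (by omega)).hom a = 0 := h1
    rw [← assoc, ι_d L P (n - m) (n - m + 1) m (m + 1) n n' (by omega) hn' rfl rfl,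
      Preadditive.add_comp, assoc, Linear.units_smul_comp, assoc,
      ι_proj_self, ι_proj_ne L P (n - m + 1) m (n - m) (m + 1) n' (by omega) (by omega) (by omega),
      comp_zero, zero_add, comp_id] at h2
    have h3 : (n - m).negOnePow • (L.X (n - m) ◁ P.d m (m + 1)).hom a = 0 := h2
    rcases Int.units_eq_one_or (n - m).negOnePow with h | h
    · rwa [h, one_smul] at h3
    · rw [h, Units.neg_smul, one_smul, neg_eq_zero] at h3
      exact h3
  -- exactness of `L.X (n - m) ⊗ P`
  obtain ⟨w₀, hw₀'⟩ := hex (n - m) m a ha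
  have h3 : ((L ⊗ P).d n₀ n).hom ((ι L P (n - m) (m - 1) n₀ (by omega)).hom w₀) =
      (ι L P (n - m + 1) (m - 1) n (by omega)).hom ((L.d (n - m) (n - m + 1) ▷ P.X (m - 1)).hom w₀) +
        (n - m).negOnePow • (ι L P (n - m) m n (by omega)).hom a := by
    change (ι L P (n - m) (m - 1) n₀ (by omega) ≫ (L ⊗ P).d n₀ n).hom w₀ = _
    rw [ι_d L P (n - m) (n - m + 1) (m - 1) m n₀ n (by omega) hn rfl (by omega), ← hw₀']
    rfl
  have h5 := ι_mem_G' L P n (n - m + 1) (m - 1) (m - 1) (by omega) le_rfl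
    ((L.d (n - m) (n - m + 1) ▷ P.X (m - 1)).hom w₀)
  rcases Int.units_eq_one_or (n - m).negOnePow with h | h
  · rw [h, one_smul] at h3
    refine ⟨(ι L P (n - m) (m - 1) n₀ (by omega)).hom w₀, ?_⟩
    rw [h3]
    have h4 : (ι L P (n - m) m n (by omega)).hom a + x' -
        ((ι L P (n - m + 1) (m - 1) n (by omega)).hom
            ((L.d (n - m) (n - m + 1) ▷ P.X (m - 1)).hom w₀) +
          (ι L P (n - m) m n (by omega)).hom a) =
        x' - (ι L P (n - m + 1) (m - 1) n (by omega)).hom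
            ((L.d (n - m) (n - m + 1) ▷ P.X (m - 1)).hom w₀) := by abel
    rw [h4]
    exact Submodule.sub_mem _ hx' h5
  · rw [h, Units.neg_smul, one_smul] at h3
    refine ⟨-(ι L P (n - m) (m - 1) n₀ (by omega)).hom w₀, ?_⟩
    rw [map_neg, h3]
    have h4 : (ι L P (n - m) m n (by omega)).hom a + x' -
        -((ι L P (n - m + 1) (m - 1) n (by omega)).hom
            ((L.d (n - m) (n - m + 1) ▷ P.X (m - 1)).hom w₀) +
          -(ι L P (n - m) m n (by omega)).hom a) =
        x' + (ι L P (n - m + 1) (m - 1) n (by omega)).hom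
            ((L.d (n - m) (n - m + 1) ▷ P.X (m - 1)).hom w₀) := by abel
    rw [h4]
    exact Submodule.add_mem _ hx' h5

lemma exists_preimage_of_mem_G'' (hex : ExactLeft L P)
    (b : ℤ) (hb : ∀ p, b < p → IsZero (L.X p)) (n₀ n n' : ℤ) (hn : n₀ + 1 = n) (hn' : n + 1 = n')
    (j : ℕ) : ∀ (m : ℤ), m < n - b + j → ∀ (x : ↑((L ⊗ P).X n)), x ∈ G' L P n m →
      ((L ⊗ P).d n n').hom x = 0 → ∃ w : ↑((L ⊗ P).X n₀), ((L ⊗ P).d n₀ n).hom w = x := by
  induction j with
  | zero =>
    intro m hm x hx _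
    rw [G'_eq_bot L P n m b hb (by simpa using hm)] at hx
    exact ⟨0, by rw [map_zero, (Submodule.mem_bot R).1 hx]⟩
  | succ j ih =>
    intro m hm x hx hdx
    obtain ⟨w₁, hw₁⟩ := exists_step'' L P hex n₀ n n' m hn hn' x hx hdx
    have hd : ((L ⊗ P).d n n').hom (x - ((L ⊗ P).d n₀ n).hom w₁) = 0 := by
      rw [map_sub, hdx, zero_sub, neg_eq_zero]
      change ((L ⊗ P).d n₀ n ≫ (L ⊗ P).d n n').hom w₁ = 0
      rw [HomologicalComplex.d_comp_d]
      rfl
    obtain ⟨w₂, hw₂⟩ := ih (m - 1) (by push_cast at hm ⊢; omega) _ hw₁ hd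
    exact ⟨w₁ + w₂, by rw [map_add, hw₂]; abel⟩

/-- if `L` is bounded above and each `L.X p ⊗ P` is exact, then `L ⊗ P` is acyclic. -/
theorem exactAt_tensor_of_exactLeft (hex : ExactLeft L P)
    (b : ℤ) (hb : ∀ p, b < p → IsZero (L.X p)) (n : ℤ) : (L ⊗ P).ExactAt n := by
  rw [HomologicalComplex.exactAt_iff' _ (n - 1) n (n + 1) (by simp) (by simp),
    ShortComplex.moduleCat_exact_iff]
  intro x hx
  obtain ⟨m, hm⟩ := exists_mem_G' L P n x
  obtain ⟨w, hw⟩ := exists_preimage_of_mem_G'' L P hex b hb (n - 1) n (n + 1) (by omega) rfl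
    (m - (n - b) + 1).toNat m (by omega) x hm hx
  exact ⟨w, hw⟩

end Groth.Agent.Lib.Helper28.TensCx

namespace Groth.Agent.Lib.Helper28.TensCx

variable {R : Type u} [CommRing R]

lemma flat_of_projective (M : ModuleCat.{u} R) [Projective M] : Module.Flat R M := by
  haveI : Module.Projective R M := (IsProjective.iff_projective (R := R) (P := M)).2 ‹_›
  infer_instance

/-- If `C` is acyclic and K-flat, then `N[0] ⊗ C` is acyclic for every module `N`. -/
lemma acyclic_single_tensor (C : DRing.Cx R) (hC : C.Acyclic) (hK : KFlat C)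
    (N : ModuleCat.{u} R) :
    (((CochainComplex.singleFunctor (ModuleCat.{u} R) 0).obj N : DRing.Cx R) ⊗ C).Acyclic := by
  let Pr : ProjectiveResolution N := ProjectiveResolution.of N
  let F : DRing.Cx R := Pr.cochainComplex
  let f : F ⟶ (CochainComplex.singleFunctor (ModuleCat.{u} R) 0).obj N := Pr.π'
  haveI : QuasiIso f := inferInstanceAs (QuasiIso Pr.π')
  haveI : QuasiIso (f ▷ C) := quasiIso_whiskerRight_of_kflat f C hK
  refine acyclic_of_quasiIso (f ▷ C) ?_
  intro n
  exact exactAt_tensor_of_flat_left F C hC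
    (fun p => flat_of_projective (Pr.cochainComplex.X p)) 0
    (fun p hp => CochainComplex.isZero_of_isStrictlyLE Pr.cochainComplex 0 p hp) n

lemma exact_tensor_of_acyclic_single (C : DRing.Cx R) (N : ModuleCat.{u} R)
    (h : (((CochainComplex.singleFunctor (ModuleCat.{u} R) 0).obj N : DRing.Cx R) ⊗ C).Acyclic)
    (q : ℤ) (a : ↑(N ⊗ C.X q)) (ha : (N ◁ C.d q (q + 1)).hom a = 0) :
    ∃ w₀ : ↑(N ⊗ C.X (q - 1)), (N ◁ C.d (q - 1) q).hom w₀ = a := by
  let S : DRing.Cx R := (CochainComplex.singleFunctor (ModuleCat.{u} R) 0).obj N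
  let e : S.X 0 ≅ N := HomologicalComplex.singleObjXSelf (ComplexShape.up ℤ) 0 N
  have hd : ∀ i j, S.d i j = 0 := fun i j => HomologicalComplex.single_obj_d _ _ _ _ _
  set a' : ↑(S.X 0 ⊗ C.X q) := (e.inv ▷ C.X q).hom a with ha'
  have ha'0 : (S.X 0 ◁ C.d q (q + 1)).hom a' = 0 := by
    change ((e.inv ▷ C.X q) ≫ (S.X 0 ◁ C.d q (q + 1))).hom a = 0
    rw [← whisker_exchange]
    change (e.inv ▷ C.X (q + 1)).hom ((N ◁ C.d q (q + 1)).hom a) = 0
    rw [ha, map_zero]
  have hz : ((S ⊗ C).d q (q + 1)).hom ((ι S C 0 q q (by omega)).hom a') = 0 := by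
    change (ι S C 0 q q (by omega) ≫ (S ⊗ C).d q (q + 1)).hom a' = 0
    rw [ι_d S C 0 1 q (q + 1) q (q + 1) (by omega) rfl rfl rfl, hd,
      MonoidalPreadditive.zero_whiskerRight, zero_comp, zero_add]
    change (0 : ℤ).negOnePow • (ι S C 0 (q + 1) (q + 1) (by omega)).hom
      ((S.X 0 ◁ C.d q (q + 1)).hom a') = 0
    rw [ha'0, map_zero, smul_zero]
  have hex := h q
  rw [HomologicalComplex.exactAt_iff' _ (q - 1) q (q + 1) (by simp) (by simp),
    ShortComplex.moduleCat_exact_iff] at hex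
  obtain ⟨w, hw⟩ := hex _ hz
  have hw' : ((S ⊗ C).d (q - 1) q).hom w = (ι S C 0 q q (by omega)).hom a' := hw
  have h1 : a' = (S.X 0 ◁ C.d (q - 1) q).hom ((proj S C 0 (q - 1) (q - 1) (by omega)).hom w) := by
    have h2 : (proj S C 0 q q (by omega)).hom ((ι S C 0 q q (by omega)).hom a') = a' := by
      change (ι S C 0 q q (by omega) ≫ proj S C 0 q q (by omega)).hom a' = a'
      rw [ι_proj_self]; rfl
    rw [← h2, ← hw']
    change ((S ⊗ C).d (q - 1) q ≫ proj S C 0 q q (by omega)).hom w = _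
    rw [d_proj S C (-1) 0 (q - 1) q (q - 1) q (by omega) (by omega) (by omega) (by omega), hd,
      MonoidalPreadditive.zero_whiskerRight, comp_zero, zero_add]
    simp <;> rfl
  refine ⟨(e.hom ▷ C.X (q - 1)).hom ((proj S C 0 (q - 1) (q - 1) (by omega)).hom w), ?_⟩
  change ((e.hom ▷ C.X (q - 1)) ≫ (N ◁ C.d (q - 1) q)).hom _ = a
  rw [← whisker_exchange]
  change (e.hom ▷ C.X q).hom ((S.X 0 ◁ C.d (q - 1) q).hom _) = a
  rw [← h1, ha']
  change ((e.inv ▷ C.X q) ≫ (e.hom ▷ C.X q)).hom a = a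
  rw [← MonoidalCategory.comp_whiskerRight, e.inv_hom_id, MonoidalCategory.id_whiskerRight]
  rfl

/-- if `C` is acyclic and K-flat, then `N ⊗ C` is exact for every module `N`. -/
lemma exactLeft_of_kflat_acyclic (C : DRing.Cx R) (hC : C.Acyclic) (hK : KFlat C)
    (L : DRing.Cx R) : ExactLeft L C :=
  fun p q a ha => exact_tensor_of_acyclic_single C (L.X p)
    (acyclic_single_tensor C hC hK (L.X p)) q a ha

end Groth.Agent.Lib.Helper28.TensCx

namespace Groth.Agent.Lib.Helper28.TensCx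

open HomologicalComplex ComplexShape in
set_option backward.defeqAttrib.useBackward true in
set_option backward.isDefEq.respectTransparency false in
/-- the canonical truncation `τ_{≤ n} K ⟶ K` is an isomorphism in degrees `< n`. -/
lemma isIso_ιTruncLE_f {C : Type*} [Category C] [Abelian C] (K : CochainComplex C ℤ) (n i : ℤ)
    (hi : i < n) : IsIso ((K.ιTruncLE n).f i) := by
  have hk : (embeddingUpIntLE n).f (n - i).natAbs = i := by
    dsimp
    rw [Int.natAbs_of_nonneg (by lia), sub_sub_cancel]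
  have hb : ¬ (embeddingUpIntLE n).BoundaryLE (n - i).natAbs := fun h ↦ by
    rw [boundaryLE_embeddingUpIntLE_iff, Int.natAbs_eq_zero] at h
    lia
  change IsIso ((K.op.πTruncGE (embeddingUpIntLE n).op).f i).unop
  suffices IsIso ((K.op.πTruncGE (embeddingUpIntLE n).op).f i) from inferInstance
  dsimp [HomologicalComplex.πTruncGE]
  rw [Embedding.isIso_liftExtend_f_iff _ _ _ (show (embeddingUpIntLE n).op.f _ = i from hk)]
  exact K.op.isIso_restrictionToTruncGE' _ _ (by simpa using hb)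

variable {R : Type u} [CommRing R]

lemma proj_apply_eq_zero_of_mem_G_lt (L P : DRing.Cx R) (n m p q : ℤ) (h : p + q = n)
    (hp : m < p) (x : ↑((L ⊗ P).X n)) (hx : x ∈ G L P n m) :
    (proj L P p q n h).hom x = 0 := by
  obtain rfl : q = n - p := by omega
  exact proj_apply_of_mem_G_lt L P n m p hp x hx

/-- lifting elements of `G` along a morphism which is termwise surjective in low degrees. -/
lemma exists_lift_of_mem_G {T L : DRing.Cx R} (j : T ⟶ L) (C : DRing.Cx R) (n m : ℤ)
    (hj : ∀ p, p ≤ m → Function.Surjective (j.f p ▷ C.X (n - p)).hom)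
    (x : ↑((L ⊗ C).X n)) (hx : x ∈ G L C n m) :
    ∃ x' : ↑((T ⊗ C).X n), x' ∈ G T C n m ∧ ((j ▷ C).f n).hom x' = x := by
  have hle : G L C n m ≤ Submodule.map ((j ▷ C).f n).hom (G T C n m) := by
    refine iSup₂_le (fun p hp => ?_)
    rintro _ ⟨y, rfl⟩
    obtain ⟨y', rfl⟩ := hj p hp y
    exact ⟨(ι T C p (n - p) n (by omega)).hom y', ι_mem_G T C n p (n - p) m (by omega) hp y',
      (isDiag_whiskerRight j C n).ι_apply p (n - p) (by omega) y'⟩
  obtain ⟨x', hx', rfl⟩ := hle hx
  exact ⟨x', hx', rfl⟩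

/-- if `T ⊗ C` is acyclic for every bounded above complex `T`, then `L ⊗ C` is acyclic for every
complex `L`. -/
theorem acyclic_tensor_of_forall_bounded (L C : DRing.Cx R)
    (hbd : ∀ (T : DRing.Cx R) (b : ℤ), (∀ p, b < p → IsZero (T.X p)) → (T ⊗ C).Acyclic) :
    (L ⊗ C).Acyclic := by
  intro n
  rw [HomologicalComplex.exactAt_iff' _ (n - 1) n (n + 1) (by simp) (by simp),
    ShortComplex.moduleCat_exact_iff]
  intro x hx
  have hx0 : ((L ⊗ C).d n (n + 1)).hom x = 0 := hx
  obtain ⟨m, hm⟩ := exists_mem_G L C n x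
  let T : DRing.Cx R := CochainComplex.truncLE L (m + 2)
  let j : T ⟶ L := CochainComplex.ιTruncLE L (m + 2)
  have hiso : ∀ p, p ≤ m + 1 → IsIso (j.f p) :=
    fun p hp => isIso_ιTruncLE_f L (m + 2) p (by omega)
  have hiso' : ∀ p q, p ≤ m + 1 → IsIso (j.f p ▷ C.X q) := fun p q hp => by
    haveI := hiso p hp
    infer_instance
  obtain ⟨x', hx', hjx'⟩ := exists_lift_of_mem_G j C n m (fun p hp => by
    haveI := hiso' p (n - p) (by omega)
    exact (ModuleCat.epi_iff_surjective _).1 inferInstance) x hm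
  -- `x'` is a cycle
  have hdx' : ((T ⊗ C).d n (n + 1)).hom x' = 0 := by
    apply eq_zero_of_proj_eq_zero
    intro p
    by_cases hp : p ≤ m + 1
    · haveI := hiso' p (n + 1 - p) hp
      have hinj : Function.Injective (j.f p ▷ C.X (n + 1 - p)).hom :=
        (ModuleCat.mono_iff_injective _).1 inferInstance
      apply hinj
      rw [map_zero, ← (isDiag_whiskerRight j C (n + 1)).proj_apply p (n + 1 - p) (by omega)]
      have hcomm : ((j ▷ C).f (n + 1)).hom (((T ⊗ C).d n (n + 1)).hom x') =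
          ((L ⊗ C).d n (n + 1)).hom (((j ▷ C).f n).hom x') := by
        change ((T ⊗ C).d n (n + 1) ≫ (j ▷ C).f (n + 1)).hom x' =
          ((j ▷ C).f n ≫ (L ⊗ C).d n (n + 1)).hom x'
        rw [HomologicalComplex.Hom.comm]
      rw [hcomm, hjx', hx0, map_zero]
    · change ((T ⊗ C).d n (n + 1) ≫ proj T C p (n + 1 - p) (n + 1) (by omega)).hom x' = 0
      rw [d_proj T C (p - 1) p (n - p) (n + 1 - p) n (n + 1) (by omega) rfl (by omega) (by omega)]
      have h1 : (proj T C (p - 1) (n + 1 - p) n (by omega)).hom x' = 0 :=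
        proj_apply_eq_zero_of_mem_G_lt T C n m (p - 1) (n + 1 - p) (by omega) (by omega) x' hx'
      have h2 : (proj T C p (n - p) n (by omega)).hom x' = 0 :=
        proj_apply_eq_zero_of_mem_G_lt T C n m p (n - p) (by omega) (by omega) x' hx'
      change (T.d (p - 1) p ▷ C.X (n + 1 - p)).hom
          ((proj T C (p - 1) (n + 1 - p) n (by omega)).hom x') +
        p.negOnePow • (T.X p ◁ C.d (n - p) (n + 1 - p)).hom
          ((proj T C p (n - p) n (by omega)).hom x') = 0
      rw [h1, h2, map_zero, map_zero, smul_zero, add_zero]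
  have hT : (T ⊗ C).Acyclic := hbd T (m + 2) (fun p hp =>
    CochainComplex.isZero_of_isStrictlyLE (CochainComplex.truncLE L (m + 2)) (m + 2) p hp)
  have hex := hT n
  rw [HomologicalComplex.exactAt_iff' _ (n - 1) n (n + 1) (by simp) (by simp),
    ShortComplex.moduleCat_exact_iff] at hex
  obtain ⟨w', hw'⟩ := hex x' hdx'
  have hw'' : ((T ⊗ C).d (n - 1) n).hom w' = x' := hw'
  refine ⟨((j ▷ C).f (n - 1)).hom w', ?_⟩
  change ((j ▷ C).f (n - 1) ≫ (L ⊗ C).d (n - 1) n).hom w' = x
  rw [HomologicalComplex.Hom.comm]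
  change ((j ▷ C).f n).hom (((T ⊗ C).d (n - 1) n).hom w') = x
  rw [hw'', hjx']

/-- **an acyclic K-flat complex is universally acyclic**. -/
theorem acyclic_tensor_of_kflat_acyclic (C : DRing.Cx R) (hC : C.Acyclic) (hK : KFlat C)
    (L : DRing.Cx R) : (L ⊗ C).Acyclic := by
  apply acyclic_tensor_of_forall_bounded
  intro T b hb n
  exact exactAt_tensor_of_exactLeft T C (exactLeft_of_kflat_acyclic C hC hK T) b hb n

end Groth.Agent.Lib.Helper28.TensCx

namespace Groth.Agent.Lib.Helper28.TensCx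

variable {R : Type u} [CommRing R]

open CochainComplex in
lemma kflat_cone_id (P : DRing.Cx R) (hP : KFlat P) : KFlat (mappingCone (𝟙 P) : DRing.Cx R) :=
  (kflat_two_out_of_three_distTriang (mappingCone.triangleh (𝟙 P))
    (HomotopyCategory.mappingCone_triangleh_distinguished _)).1 hP hP

lemma kflat_cylC {P Q : DRing.Cx R} (α : P ⟶ Q) (hP : KFlat P) (hQ : KFlat Q) :
    KFlat (cylC α) := by
  have h1 : KFlat (cylZ P Q) := (kflat_two_out_of_three' (cylS₁ P Q)
    (fun L => shortExact_whiskerLeft_of_retraction L (cylS₁ P Q) (cylS₁_shortExact P Q)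
      (cylR₁ P Q) (cylS₁_f_cylR₁ P Q))).2.1 (kflat_cone_id P hP) hQ
  exact (kflat_two_out_of_three' (cylS₂ α)
    (fun L => shortExact_whiskerLeft_of_retraction L (cylS₂ α) (cylS₂_shortExact α)
      (cylR₂ P Q) (cylI_f_cylR₂ α))).1 hP h1

/-- a quasi-isomorphism between K-flat complexes stays a quasi-isomorphism after tensoring
with an arbitrary complex. -/
theorem quasiIso_whiskerLeft_of_kflat {P Q : DRing.Cx R} (α : P ⟶ Q) [QuasiIso α]
    (hP : KFlat P) (hQ : KFlat Q) (L : DRing.Cx R) : QuasiIso (L ◁ α) :=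
  quasiIso_whiskerLeft_of α L
    (acyclic_tensor_of_kflat_acyclic _ (acyclic_cone_id P) (kflat_cone_id P hP) L)
    (acyclic_tensor_of_kflat_acyclic _ (acyclic_cylC α) (kflat_cylC α hP hQ) L)

end Groth.Agent.Lib.Helper28.TensCx
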