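import Groth.Agent.Lib.Helper28.KProjRes2
import Groth.Agent.Lib.Helper28.KProjFlat
import Groth.Agent.Lib.Helper28.TensCx6

/-!
# K-flat resolutions of complexes of modules

Every complex `M` of `R`-modules admits a degreewise surjective quasi-isomorphism `K ⟶ M`
from a K-flat complex with projective (in particular flat) terms: `K = P ⊞ G`, with `P ⟶ M`
a K-projective resolution with projective terms (Spaltenstein) and `G ⟶ M` a degreewise
surjection from a contractible complex of free modules.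
-/

set_option autoImplicit false
universe u
open CategoryTheory CategoryTheory.Limits MonoidalCategory

namespace Groth.Agent.Lib.Helper28.KFlatRes

open Groth.Agent.Lib.Helper28 Groth.Agent.Lib.Helper28.TensCx

variable {R : Type u} [CommRing R]

section Contractible

variable (M : DRing.Cx R)

/-- a free module mapping onto each term of `M`. -/
noncomputable abbrev F₀ : ModuleCat.{u} R := ModuleCat.of R ((Σ n : ℤ, M.X n) →₀ R)

/-- the surjection `F₀ ⟶ M.X n`. -/
noncomputable def s (n : ℤ) : F₀ M ⟶ M.X n :=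
  ModuleCat.ofHom (Finsupp.linearCombination R
    (fun p : Σ n : ℤ, M.X n => if h : p.1 = n then (M.XIsoOfEq h).hom.hom p.2 else 0))

lemma s_surjective (n : ℤ) : Function.Surjective (s M n) := by
  intro x
  refine ⟨Finsupp.single ⟨n, x⟩ 1, ?_⟩
  change Finsupp.linearCombination R _ (Finsupp.single (⟨n, x⟩ : Σ n : ℤ, M.X n) (1 : R)) = x
  rw [Finsupp.linearCombination_single, one_smul, dif_pos rfl]
  simp [HomologicalComplex.XIsoOfEq]

/-- the constant term of `G`. -/
noncomputable abbrev T : ModuleCat.{u} R := F₀ M ⊞ F₀ M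

/-- `(a, b) ↦ (0, a)`. -/
noncomputable def dT : T M ⟶ T M := biprod.fst ≫ biprod.inr

/-- `(a, b) ↦ (b, 0)`. -/
noncomputable def hT : T M ⟶ T M := biprod.snd ≫ biprod.inl

lemma dT_dT : dT M ≫ dT M = 0 := by simp [dT]

lemma dT_hT_add : dT M ≫ hT M + hT M ≫ dT M = 𝟙 (T M) := by
  apply biprod.hom_ext' <;> apply biprod.hom_ext <;>
    simp [dT, hT, Preadditive.add_comp, Preadditive.comp_add]

/-- `(a, b) ↦ s_n a + d (s_{n-1} b)`. -/
noncomputable def ψT (n : ℤ) : T M ⟶ M.X n := biprod.desc (s M n) (s M (n - 1) ≫ M.d (n - 1) n)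

lemma dT_ψT (i : ℤ) : dT M ≫ ψT M (i + 1) = ψT M i ≫ M.d i (i + 1) := by
  have h : i + 1 - 1 = i := by ring
  apply biprod.hom_ext'
  · simp only [dT, ψT]
    rw [biprod.inl_desc_assoc, Category.assoc, biprod.inl_fst_assoc, biprod.inr_desc, h]
  · simp only [dT, ψT]
    rw [biprod.inr_desc_assoc, Category.assoc, biprod.inr_fst_assoc, zero_comp, Category.assoc,
      M.d_comp_d, comp_zero]

lemma ψT_surjective (n : ℤ) : Function.Surjective (ψT M n) := by
  intro x
  obtain ⟨a, rfl⟩ := s_surjective M n x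
  refine ⟨(biprod.inl : F₀ M ⟶ F₀ M ⊞ F₀ M) a, ?_⟩
  change ((biprod.inl : F₀ M ⟶ F₀ M ⊞ F₀ M) ≫ biprod.desc (s M n) (s M (n - 1) ≫ M.d (n - 1) n)) a = _
  rw [biprod.inl_desc]

/-- the contractible complex with all terms `F₀ ⊞ F₀` and differential `(a, b) ↦ (0, a)`. -/
noncomputable def G : DRing.Cx R where
  X _ := T M
  d i j := if i + 1 = j then dT M else 0
  shape i j h := if_neg h
  d_comp_d' i j k hij hjk := by
    have hij' : i + 1 = j := hij
    have hjk' : j + 1 = k := hjk
    rw [if_pos hij', if_pos hjk']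
    exact dT_dT M

lemma G_d (i j : ℤ) (h : i + 1 = j) : (G M).d i j = dT M := if_pos h

instance (i : ℤ) : Projective ((G M).X i) := inferInstanceAs (Projective (F₀ M ⊞ F₀ M))

/-- the degreewise surjection `G ⟶ M`. -/
noncomputable def ψ : G M ⟶ M where
  f n := ψT M n
  comm' i j hij := by
    obtain rfl : i + 1 = j := hij
    rw [G_d M i (i + 1) rfl]
    exact (dT_ψT M i).symm

lemma ψ_surjective (n : ℤ) : Function.Surjective ((ψ M).f n) := ψT_surjective M n

/-- `G` is contractible. -/
noncomputable def hG : Homotopy (𝟙 (G M)) 0 where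
  hom i j := if j + 1 = i then hT M else 0
  zero i j h := if_neg h
  comm i := by
    rw [dNext_eq _ (show (ComplexShape.up ℤ).Rel i (i + 1) from rfl),
      prevD_eq _ (show (ComplexShape.up ℤ).Rel (i - 1) i from by simp)]
    rw [G_d M i (i + 1) rfl, G_d M (i - 1) i (by simp), if_pos rfl, if_pos (by simp)]
    change 𝟙 (T M) = dT M ≫ hT M + hT M ≫ dT M + 0
    rw [add_zero, dT_hT_add]

lemma isZero_homology_of_homotopy_id_zero {K : DRing.Cx R} (h : Homotopy (𝟙 K) 0) (i : ℤ) :
    IsZero (K.homology i) := by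
  rw [IsZero.iff_id_eq_zero, ← HomologicalComplex.homologyMap_id, h.homologyMap_eq,
    HomologicalComplex.homologyMap_zero]

lemma acyclic_G : (G M).Acyclic := (acyclic_iff _).2 (isZero_homology_of_homotopy_id_zero (hG M))

lemma kflat_G : KFlat (G M) := by
  intro L _ i
  have h := whiskerLeftHomotopy L (hG M)
  rw [MonoidalCategory.whiskerLeft_id, whiskerLeft_zero] at h
  exact isZero_homology_of_homotopy_id_zero h i

end Contractible

/-- **K-flat resolutions**: degreewise surjective quasi-isomorphism from a K-flat complex with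
projective terms. -/
theorem exists_kflat_resolution (M : DRing.Cx R) :
    ∃ (K : DRing.Cx R) (f : K ⟶ M), KFlat K ∧ (∀ i, Projective (K.X i)) ∧ QuasiIso f ∧
      ∀ i : ℤ, Function.Surjective (f.f i) := by
  obtain ⟨P, f₀, hP, hf₀, hPproj⟩ := KProjRes2.exists_kProjective_resolution_termwise_moduleCat R M
  let S : ShortComplex (DRing.Cx R) :=
    ShortComplex.mk (biprod.inl : P ⟶ P ⊞ G M) (biprod.snd : P ⊞ G M ⟶ G M) (by simp)
  let σ : S.Splitting := ShortComplex.Splitting.ofHasBinaryBiproduct P (G M)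
  have hS : S.ShortExact := σ.shortExact
  refine ⟨P ⊞ G M, biprod.desc f₀ (ψ M), ?_, ?_, ?_, ?_⟩
  · have hT : ∀ L : DRing.Cx R, (whiskerLeftShortComplex L S).ShortExact := fun L =>
      shortExact_whiskerLeft_of_retraction L S hS (fun q => (biprod.fst : P ⊞ G M ⟶ P).f q)
        (fun q => by
          change (biprod.inl : P ⟶ P ⊞ G M).f q ≫ (biprod.fst : P ⊞ G M ⟶ P).f q = 𝟙 _
          rw [← HomologicalComplex.comp_f, biprod.inl_fst, HomologicalComplex.id_f])
    exact (kflat_two_out_of_three' S hT).2.1 (KProjFlat.kflat_of_isKProjective P) (kflat_G M)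
  · intro i
    haveI := hPproj i
    exact Projective.of_iso (HomologicalComplex.biprodXIso P (G M) i).symm inferInstance
  · haveI : QuasiIso (biprod.inl : P ⟶ P ⊞ G M) := quasiIso_f_of_acyclic_X₃ hS (acyclic_G M)
    haveI : QuasiIso ((biprod.inl : P ⟶ P ⊞ G M) ≫ biprod.desc f₀ (ψ M)) := by
      rw [biprod.inl_desc]; exact hf₀
    exact quasiIso_of_comp_left (biprod.inl : P ⟶ P ⊞ G M) (biprod.desc f₀ (ψ M))
  · intro i x
    obtain ⟨y, rfl⟩ := ψ_surjective M i x
    refine ⟨(biprod.inr : G M ⟶ P ⊞ G M).f i y, ?_⟩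
    change ((biprod.inr : G M ⟶ P ⊞ G M).f i ≫ (biprod.desc f₀ (ψ M)).f i) y = _
    rw [← HomologicalComplex.comp_f, biprod.inr_desc]

end Groth.Agent.Lib.Helper28.KFlatRes
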