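import Mathlib
import Groth.Agent.Lib.Helper28.LpullCompute
import Groth.Agent.Lib.Helper28.TowerRes
import Groth.Agent.Lib.Helper28.StalkFlatConv
import Groth.Agent.Lib.Helper5.KFlatColim
import Groth.Agent.S0953

/-!
# Tower-flat complexes (helper28)

`TF P`: the complex `P` of `O_Y`-modules is the colimit of a sequence of bounded above complexes
with flat terms. Such complexes are K-flat with flat terms, every complex has a `TF`-resolution,
and the class `TF` is stable under pullback along any morphism of schemes.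
-/

set_option autoImplicit false
universe u
open CategoryTheory CategoryTheory.Limits AlgebraicGeometry ZeroObject

namespace Groth.Agent.Lib.Helper28.TowerFlat

attribute [local instance] HasDerivedCategory.standard

open Groth.Agent.Lib.Helper28.LpullCompute

variable {X Y : Scheme.{u}}

/-- tower-flat complexes. -/
def TF (P : CochainComplex Y.Modules ℤ) : Prop :=
  ∃ (Qf : ℕ ⥤ CochainComplex Y.Modules ℤ) (s : Cocone Qf), Nonempty (IsColimit s) ∧ s.pt = P ∧
    (∀ n, ∃ b : ℤ, (Qf.obj n).IsStrictlyLE b) ∧ ∀ n i, FlatMod.IsFlat ((Qf.obj n).X i)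

lemma TF.pf {P : CochainComplex Y.Modules ℤ} (h : TF P) : PF P := by
  obtain ⟨Qf, s, ⟨hs⟩, rfl, hb, hfl⟩ := h
  haveI := Groth.Agent.Lib.Helper5.KFlatColim.hasExactColimitsOfShape_nat Y.sheaf
  refine ⟨?_, fun i => ?_⟩
  · refine Groth.Agent.Lib.Helper5.KFlatColim.isKFlat_of_isColimit Y.sheaf Qf s hs (fun n => ?_)
    obtain ⟨b, hb⟩ := hb n
    exact Groth.Agent.S0953.result _ b hb (hfl n)
  · have hc : IsColimit ((HomologicalComplex.eval Y.Modules (ComplexShape.up ℤ) i).mapCocone s) :=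
      isColimitOfPreserves (HomologicalComplex.eval Y.Modules (ComplexShape.up ℤ) i) hs
    exact (TorOne.flat_iff _).2 (SiteKFlat.isFlat_of_isColimit' Y.sheaf
      (Qf ⋙ HomologicalComplex.eval Y.Modules (ComplexShape.up ℤ) i)
      (fun n => (TorOne.flat_iff _).1 (hfl n i))
      ((HomologicalComplex.eval Y.Modules (ComplexShape.up ℤ) i).mapCocone s) hc)

lemma exists_tf_resolution (G : CochainComplex Y.Modules ℤ) :
    ∃ (P : CochainComplex Y.Modules ℤ) (q : P ⟶ G), TF P ∧ QuasiIso q := by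
  haveI := Groth.Agent.Lib.Helper5.KFlatColim.hasExactColimitsOfShape_nat Y.sheaf
  obtain ⟨Qf, s, hs, q, hb, hPQ, -, hq, -⟩ :=
    TowerRes.exists_tower_resolution (SiteKFlat.flatProp Y.sheaf)
      ⟨0, isZero_zero _, Groth.Agent.Lib.Helper30.AcyclicFlat.isFlat_of_isZero Y.sheaf 0 (isZero_zero _)⟩
      (fun M N hM hN => SiteKFlat.isFlat_biprod Y.sheaf M N hM hN)
      (fun M => by
        obtain ⟨L, hL, π, hπ⟩ := Groth.Agent.Lib.Helper30.FlatSES.exists_flat_epi Y.sheaf M
        exact ⟨L, π, hL, hπ⟩) G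
  exact ⟨s.pt, q, ⟨Qf, s, hs, rfl, hb, fun n i => (TorOne.flat_iff _).2 (hPQ n i)⟩, hq⟩

lemma TF.pullback (f : X ⟶ Y) {P : CochainComplex Y.Modules ℤ} (h : TF P) :
    TF (((Scheme.Modules.pullback f).mapHomologicalComplex (ComplexShape.up ℤ)).obj P) := by
  obtain ⟨Qf, s, ⟨hs⟩, rfl, hb, hfl⟩ := h
  refine ⟨Qf ⋙ (Scheme.Modules.pullback f).mapHomologicalComplex (ComplexShape.up ℤ),
    ((Scheme.Modules.pullback f).mapHomologicalComplex (ComplexShape.up ℤ)).mapCocone s,
    ⟨isColimitOfPreserves _ hs⟩, rfl, fun n => ?_, fun n i => ?_⟩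
  · obtain ⟨b, hb⟩ := hb n
    refine ⟨b, ?_⟩
    rw [CochainComplex.isStrictlyLE_iff]
    intro i hi
    exact Functor.map_isZero (Scheme.Modules.pullback f) ((Qf.obj n).isZero_of_isStrictlyLE b i hi)
  · exact PullbackFlat.isFlat_pullback f _ (hfl n i)

end Groth.Agent.Lib.Helper28.TowerFlat
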