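import Mathlib
import Groth.Agent.Lib.Helper28.TowerFlat

/-!
# Composition of derived pullbacks (helper28)

`Lf^* ∘ Lg^* ≅ L(g ∘ f)^*` for morphisms of schemes `f : X ⟶ Y`, `g : Y ⟶ Z`.
-/

set_option autoImplicit false
universe u
open CategoryTheory CategoryTheory.Limits AlgebraicGeometry

namespace Groth.Agent.Lib.Helper28.LpullComp

attribute [local instance] HasDerivedCategory.standard

open Groth.Agent.Lib.Helper28.LpullCompute Groth.Agent.Lib.Helper28.TowerFlat

variable {X Y Z : Scheme.{u}} (f : X ⟶ Y) (g : Y ⟶ Z)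
  [DCoh.HasLpull f] [DCoh.HasLpull g] [DCoh.HasLpull (f ≫ g)]

/-- the counit of `Lf^*`. -/
noncomputable abbrev counit {X Y : Scheme.{u}} (f : X ⟶ Y) [DCoh.HasLpull f] :
    DerivedCategory.Qh ⋙ DCoh.Lpull f ⟶ DCoh.pullKh f :=
  (DCoh.pullKh f).totalLeftDerivedCounit DerivedCategory.Qh
    (HomotopyCategory.quasiIso Y.Modules (ComplexShape.up ℤ))

/-- the composition isomorphism on homotopy categories. -/
noncomputable abbrev compK :
    (Scheme.Modules.pullback g).mapHomotopyCategory (ComplexShape.up ℤ) ⋙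
      (Scheme.Modules.pullback f).mapHomotopyCategory (ComplexShape.up ℤ) ≅
    (Scheme.Modules.pullback (f ≫ g)).mapHomotopyCategory (ComplexShape.up ℤ) :=
  Functor.mapHomotopyCategoryCompIso (Scheme.Modules.pullbackComp f g) (ComplexShape.up ℤ)

/-- the natural transformation exhibiting `Lg^* ⋙ Lf^*` as a candidate derived functor of
`(g ∘ f)^*`. -/
noncomputable def compCounit :
    DerivedCategory.Qh ⋙ (DCoh.Lpull g ⋙ DCoh.Lpull f) ⟶ DCoh.pullKh (f ≫ g) :=
  (Functor.associator _ _ _).inv ≫ Functor.whiskerRight (counit g) (DCoh.Lpull f) ≫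
    (Functor.associator _ _ _).hom ≫
    Functor.whiskerLeft ((Scheme.Modules.pullback g).mapHomotopyCategory (ComplexShape.up ℤ))
      (counit f) ≫ (Functor.associator _ _ _).inv ≫
    Functor.whiskerRight (compK f g).hom DerivedCategory.Qh

lemma compCounit_app (K : HomotopyCategory Z.Modules (ComplexShape.up ℤ)) :
    (compCounit f g).app K = (DCoh.Lpull f).map ((counit g).app K) ≫
      (counit f).app (((Scheme.Modules.pullback g).mapHomotopyCategory (ComplexShape.up ℤ)).obj K) ≫
      DerivedCategory.Qh.map ((compK f g).hom.app K) := by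
  simp [compCounit]

/-- the comparison morphism `Lg^* ⋙ Lf^* ⟶ L(g ∘ f)^*`. -/
noncomputable def compHom : DCoh.Lpull g ⋙ DCoh.Lpull f ⟶ DCoh.Lpull (f ≫ g) :=
  (DCoh.Lpull (f ≫ g)).leftDerivedLift (counit (f ≫ g))
    (HomotopyCategory.quasiIso Z.Modules (ComplexShape.up ℤ)) (DCoh.Lpull g ⋙ DCoh.Lpull f)
    (compCounit f g)

lemma compHom_fac (K : HomotopyCategory Z.Modules (ComplexShape.up ℤ)) :
    (compHom f g).app (DerivedCategory.Qh.obj K) ≫ (counit (f ≫ g)).app K =
      (compCounit f g).app K :=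
  (DCoh.Lpull (f ≫ g)).leftDerived_fac_app (counit (f ≫ g))
    (HomotopyCategory.quasiIso Z.Modules (ComplexShape.up ℤ)) (DCoh.Lpull g ⋙ DCoh.Lpull f)
    (compCounit f g) K

lemma isIso_compHom_app_of_tf (P : CochainComplex Z.Modules ℤ) (hP : TF P) :
    IsIso ((compHom f g).app (DerivedCategory.Q.obj P)) := by
  have h1 : IsIso ((counit (f ≫ g)).app
      ((HomotopyCategory.quotient Z.Modules (ComplexShape.up ℤ)).obj P)) :=
    isIso_counit (f ≫ g) P hP.pf
  have h2 : IsIso ((counit g).app
      ((HomotopyCategory.quotient Z.Modules (ComplexShape.up ℤ)).obj P)) :=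
    isIso_counit g P hP.pf
  have h3 : IsIso ((counit f).app
      (((Scheme.Modules.pullback g).mapHomotopyCategory (ComplexShape.up ℤ)).obj
        ((HomotopyCategory.quotient Z.Modules (ComplexShape.up ℤ)).obj P))) :=
    isIso_counit f _ (hP.pullback g).pf
  have h4 : IsIso ((compCounit f g).app
      ((HomotopyCategory.quotient Z.Modules (ComplexShape.up ℤ)).obj P)) := by
    rw [compCounit_app]
    infer_instance
  have hfac := compHom_fac f g ((HomotopyCategory.quotient Z.Modules (ComplexShape.up ℤ)).obj P)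
  rw [← hfac] at h4
  haveI := h1
  haveI := h4
  exact IsIso.of_isIso_comp_right ((compHom f g).app (DerivedCategory.Qh.obj
      ((HomotopyCategory.quotient Z.Modules (ComplexShape.up ℤ)).obj P))) ((counit (f ≫ g)).app
      ((HomotopyCategory.quotient Z.Modules (ComplexShape.up ℤ)).obj P))

instance isIso_compHom : IsIso (compHom f g) := by
  apply (config := { allowSynthFailures := true }) NatIso.isIso_of_isIso_app
  intro D
  let F := DerivedCategory.Q.objPreimage D
  let e : DerivedCategory.Q.obj F ≅ D := DerivedCategory.Q.objObjPreimageIso D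
  obtain ⟨P, q, hP, hq⟩ := exists_tf_resolution F
  let e' : DerivedCategory.Q.obj P ≅ D := asIso (DerivedCategory.Q.map q) ≪≫ e
  have := isIso_compHom_app_of_tf f g P hP
  have hnat := (compHom f g).naturality e'.hom
  have : (compHom f g).app D = (DCoh.Lpull g ⋙ DCoh.Lpull f).map e'.inv ≫
      (compHom f g).app (DerivedCategory.Q.obj P) ≫ (DCoh.Lpull (f ≫ g)).map e'.hom := by
    rw [← hnat, ← Category.assoc, ← CategoryTheory.Functor.map_comp, e'.inv_hom_id,
      CategoryTheory.Functor.map_id,
      Category.id_comp]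
  rw [this]
  infer_instance

/-- **`Lf^* ∘ Lg^* ≅ L(g ∘ f)^*`.** -/
noncomputable def compIso : DCoh.Lpull g ⋙ DCoh.Lpull f ≅ DCoh.Lpull (f ≫ g) :=
  asIso (compHom f g)

end Groth.Agent.Lib.Helper28.LpullComp
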