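import Mathlib
import Groth.Prelude.Def_DCoh3
import Groth.Prelude.Def_CxOX
import Groth.Agent.Lib.Helper28.LpullComp

/-!
# Derived pullback along open immersions is restriction (helper28)

* `lpullRestrictIso j : Lpull j ≅ restrictD j` for an open immersion `j`;
* `lpullCongr`: `Lpull` of equal morphisms;
* `restrictLpullIso f V`: `Lf^*` commutes with restriction to opens:
  `Lpull f ⋙ restrictD (f⁻¹V).ι ≅ restrictD V.ι ⋙ Lpull (f ∣_ V)`.
-/

set_option autoImplicit false
universe u
open CategoryTheory CategoryTheory.Limits AlgebraicGeometry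

namespace Groth.Agent.Lib.Helper28.LpullRestrict

attribute [local instance] HasDerivedCategory.standard

open Groth.Agent.Lib.Helper28.LpullCompute Groth.Agent.Lib.Helper28.LpullComp

section Open

variable {U X : Scheme.{u}} (j : U ⟶ X) [IsOpenImmersion j]

instance preservesFiniteLimits_pullback : PreservesFiniteLimits (Scheme.Modules.pullback j) :=
  preservesFiniteLimits_of_natIso (Scheme.Modules.restrictFunctorIsoPullback j)

/-- a natural isomorphism of additive functors induces one on homotopy categories. -/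
noncomputable def isoMapK {A B : Type*} [Category A] [Category B] [Preadditive A] [Preadditive B]
    {F G : A ⥤ B} [F.Additive] [G.Additive] (θ : F ≅ G) :
    F.mapHomotopyCategory (ComplexShape.up ℤ) ≅ G.mapHomotopyCategory (ComplexShape.up ℤ) where
  hom := NatTrans.mapHomotopyCategory θ.hom _
  inv := NatTrans.mapHomotopyCategory θ.inv _
  hom_inv_id := by
    rw [← NatTrans.mapHomotopyCategory_comp, θ.hom_inv_id, NatTrans.mapHomotopyCategory_id]
  inv_hom_id := by
    rw [← NatTrans.mapHomotopyCategory_comp, θ.inv_hom_id, NatTrans.mapHomotopyCategory_id]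

lemma isIso_pullKh_map {K₀ K₁ : HomotopyCategory X.Modules (ComplexShape.up ℤ)} (s : K₀ ⟶ K₁)
    (hs : HomotopyCategory.quasiIso X.Modules (ComplexShape.up ℤ) s) :
    IsIso ((DCoh.pullKh j).map s) := by
  obtain ⟨K₀, rfl⟩ := HomotopyCategory.quotient_obj_surjective K₀
  obtain ⟨K₁, rfl⟩ := HomotopyCategory.quotient_obj_surjective K₁
  obtain ⟨s', rfl⟩ := (HomotopyCategory.quotient X.Modules (ComplexShape.up ℤ)).map_surjective s
  rw [HomotopyCategory.quotient_map_mem_quasiIso_iff] at hs
  have hs' : QuasiIso s' := hs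
  show IsIso (DerivedCategory.Q.map
    (((Scheme.Modules.pullback j).mapHomologicalComplex (ComplexShape.up ℤ)).map s'))
  infer_instance

variable [DCoh.HasLpull j]

lemma isIso_counit_app (K : HomotopyCategory X.Modules (ComplexShape.up ℤ)) :
    IsIso ((counit j).app K) :=
  Groth.Agent.Lib.Helper5.LeftDerivedRes.isIso_app DerivedCategory.Qh
    (HomotopyCategory.quasiIso X.Modules (ComplexShape.up ℤ)) (DCoh.pullKh j) (fun _ => True)
    (fun K => ⟨K, 𝟙 K, trivial, MorphismProperty.id_mem _ K⟩)
    (fun s _ _ hs => isIso_pullKh_map j s hs) (DCoh.Lpull j) (counit j) trivial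

instance : IsIso (counit j) := by
  apply (config := { allowSynthFailures := true }) NatIso.isIso_of_isIso_app
  exact isIso_counit_app j

/-- **derived pullback along an open immersion is restriction.** -/
noncomputable def lpullRestrictIso : DCoh.Lpull j ≅ DCoh.restrictD j :=
  Localization.liftNatIso DerivedCategory.Qh
    (HomotopyCategory.quasiIso X.Modules (ComplexShape.up ℤ))
    (DerivedCategory.Qh ⋙ DCoh.Lpull j) (DerivedCategory.Qh ⋙ DCoh.restrictD j) _ _
    (asIso (counit j) ≪≫
      Functor.isoWhiskerRight (isoMapK (Scheme.Modules.restrictFunctorIsoPullback j)).symm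
        DerivedCategory.Qh ≪≫
      (Scheme.Modules.restrictFunctor j).mapDerivedCategoryFactorsh.symm)

end Open

/-- `Lpull` of equal morphisms. -/
noncomputable def lpullCongr {X Y : Scheme.{u}} {f f' : X ⟶ Y} (h : f = f') [DCoh.HasLpull f]
    [DCoh.HasLpull f'] : DCoh.Lpull f ≅ DCoh.Lpull f' := by
  subst h
  exact Iso.refl _

section Restrict

variable {X Y : Scheme.{u}} (f : X ⟶ Y) (V : Y.Opens)

/-- **`Lf^*` commutes with restriction to open subschemes.** -/
noncomputable def restrictLpullIso [DCoh.HasLpull f] [DCoh.HasLpull (f ∣_ V)] :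
    DCoh.Lpull f ⋙ DCoh.restrictD (f ⁻¹ᵁ V).ι ≅ DCoh.restrictD V.ι ⋙ DCoh.Lpull (f ∣_ V) :=
  haveI := hasLpull (f ⁻¹ᵁ V).ι
  haveI := hasLpull V.ι
  haveI := hasLpull ((f ⁻¹ᵁ V).ι ≫ f)
  haveI := hasLpull ((f ∣_ V) ≫ V.ι)
  Functor.isoWhiskerLeft (DCoh.Lpull f) (lpullRestrictIso (f ⁻¹ᵁ V).ι).symm ≪≫
    compIso (f ⁻¹ᵁ V).ι f ≪≫ lpullCongr (morphismRestrict_ι f V).symm ≪≫
    (compIso (f ∣_ V) V.ι).symm ≪≫
    Functor.isoWhiskerRight (lpullRestrictIso V.ι) (DCoh.Lpull (f ∣_ V))

end Restrict

end Groth.Agent.Lib.Helper28.LpullRestrict
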