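import Mathlib
import Groth.Agent.Lib.Helper5.LeftDerivedRes

/-!
# Recognizing left derived functors on a class with resolutions (helper28)

`L : C ⥤ D` a localization functor for `W` (right calculus of fractions), `F : C ⥤ H`, and
`PP` a class of objects of `C` with left resolutions on which `F` inverts `W`. If `G : D ⥤ H` and
`β : L ⋙ G ⟶ F` is an isomorphism at the objects of `PP`, then the comparison morphism from `G` to
any left derived functor of `F` is an isomorphism. In particular any two such `(G, β)` are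
isomorphic.
-/

set_option autoImplicit false

open CategoryTheory CategoryTheory.Limits

namespace Groth.Agent.Lib.Helper28.DerivedCompare

variable {C D H : Type*} [Category C] [Category D] [Category H]
  (L : C ⥤ D) (W : MorphismProperty C) [L.IsLocalization W]
  [W.HasRightCalculusOfFractions]
  (F : C ⥤ H) (PP : C → Prop)
  (hres : ∀ X : C, ∃ (X₀ : C) (w : X₀ ⟶ X), PP X₀ ∧ W w)
  (hinv : ∀ {X₀ X₁ : C} (s : X₀ ⟶ X₁), PP X₀ → PP X₁ → W s → IsIso (F.map s))

include hres hinv in
theorem isIso_leftDerivedLift (LF : D ⥤ H) (α : L ⋙ LF ⟶ F) [LF.IsLeftDerivedFunctor α W]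
    (G : D ⥤ H) (β : L ⋙ G ⟶ F) (hβ : ∀ P, PP P → IsIso (β.app P)) :
    IsIso (LF.leftDerivedLift α W G β) := by
  have hα : ∀ P, PP P → IsIso (α.app P) := fun P hP =>
    Groth.Agent.Lib.Helper5.LeftDerivedRes.isIso_app L W F PP hres hinv LF α hP
  have happ : ∀ Y : D, IsIso ((LF.leftDerivedLift α W G β).app Y) := by
    intro Y
    have := Localization.essSurj L W
    obtain ⟨X₀, w, hX₀, hw⟩ := hres (L.objPreimage Y)
    have := Localization.inverts L W w hw
    let e : L.obj X₀ ≅ Y := asIso (L.map w) ≪≫ L.objObjPreimageIso Y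
    have h1 : (LF.leftDerivedLift α W G β).app (L.obj X₀) ≫ α.app X₀ = β.app X₀ :=
      LF.leftDerived_fac_app α W G β X₀
    haveI := hα X₀ hX₀
    haveI := hβ X₀ hX₀
    have h2 : IsIso ((LF.leftDerivedLift α W G β).app (L.obj X₀)) := by
      have h3 : (LF.leftDerivedLift α W G β).app (L.obj X₀) = β.app X₀ ≫ inv (α.app X₀) := by
        rw [← h1, Category.assoc, IsIso.hom_inv_id, Category.comp_id]
      rw [h3]
      infer_instance
    exact (NatTrans.isIso_app_iff_of_iso _ e).1 h2
  exact NatIso.isIso_of_isIso_app _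

include hres hinv in
/-- two pairs `(G, β)` which are isomorphisms on `PP` have isomorphic underlying functors. -/
theorem nonempty_iso (G₁ G₂ : D ⥤ H) (β₁ : L ⋙ G₁ ⟶ F) (β₂ : L ⋙ G₂ ⟶ F)
    (h₁ : ∀ P, PP P → IsIso (β₁.app P)) (h₂ : ∀ P, PP P → IsIso (β₂.app P)) :
    Nonempty (G₁ ≅ G₂) := by
  have := Groth.Agent.Lib.Helper5.LeftDerivedRes.hasPointwiseRightKanExtension L W F PP hres hinv
  haveI : F.HasLeftDerivedFunctor W := (Functor.hasLeftDerivedFunctor_iff F L W).2 inferInstance
  haveI := isIso_leftDerivedLift L W F PP hres hinv (F.totalLeftDerived L W)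
    (F.totalLeftDerivedCounit L W) G₁ β₁ h₁
  haveI := isIso_leftDerivedLift L W F PP hres hinv (F.totalLeftDerived L W)
    (F.totalLeftDerivedCounit L W) G₂ β₂ h₂
  exact ⟨asIso ((F.totalLeftDerived L W).leftDerivedLift (F.totalLeftDerivedCounit L W) W G₁ β₁) ≪≫
    (asIso ((F.totalLeftDerived L W).leftDerivedLift (F.totalLeftDerivedCounit L W) W G₂ β₂)).symm⟩

end Groth.Agent.Lib.Helper28.DerivedCompare
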