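import Mathlib
import Groth.Agent.Lib.Helper28.TowerFlat
import Groth.Agent.Lib.Helper30.TildeStalk

/-!
# Resolutions of complexes of `R`-modules whose `tilde` is tower-flat (helper28)
-/

set_option autoImplicit false
universe u
open CategoryTheory CategoryTheory.Limits AlgebraicGeometry ZeroObject

namespace Groth.Agent.Lib.Helper28.TildeTF

open Groth.Agent.Lib.Helper28.LpullCompute Groth.Agent.Lib.Helper28.TowerFlat

variable {R : CommRingCat.{u}}

/-- free modules. -/
def freeProp : ObjectProperty (ModuleCat.{u} R) := fun M => Module.Free R M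

instance : (freeProp (R := R)).IsClosedUnderIsomorphisms :=
  ⟨fun {M N} e (h : Module.Free R M) => Module.Free.of_equiv e.toLinearEquiv⟩

lemma exists_free_epi (M : ModuleCat.{u} R) :
    ∃ (Y : ModuleCat.{u} R) (π : Y ⟶ M), freeProp Y ∧ Epi π := by
  refine ⟨ModuleCat.of R (M →₀ R), ModuleCat.ofHom (Finsupp.linearCombination R id), ?_, ?_⟩
  · show Module.Free R (M →₀ R)
    infer_instance
  · rw [ModuleCat.epi_iff_surjective]
    exact Finsupp.linearCombination_id_surjective R M

lemma free_biprod (M N : ModuleCat.{u} R) (hM : freeProp M) (hN : freeProp N) :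
    freeProp (M ⊞ N) := by
  haveI : Module.Free R M := hM
  haveI : Module.Free R N := hN
  exact ObjectProperty.prop_of_iso _ (ModuleCat.biprodIsoProd M N).symm
    (show Module.Free R (M × N) from inferInstance)

lemma free_zero : ∃ Z : ModuleCat.{u} R, IsZero Z ∧ freeProp Z := by
  refine ⟨ModuleCat.of R PUnit.{u + 1}, ModuleCat.isZero_of_subsingleton _, ?_⟩
  show Module.Free R PUnit.{u + 1}
  infer_instance

/-- sequential colimits are exact in `ModuleCat R`. -/
lemma hasExactColimitsOfShape_nat : HasExactColimitsOfShape ℕ (ModuleCat.{u} R) := by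
  have : HasFilteredColimitsOfSize.{0, 0} (ModuleCat.{u} R) :=
    hasFilteredColimitsOfSize_of_univLE.{0, 0, u, u}
  have := AB5OfSize_of_univLE.{0, 0, u, u} (ModuleCat.{u} R)
  infer_instance

/-- every complex of `R`-modules has a resolution by a complex whose tilde is tower-flat. -/
theorem exists_resolution (G : CochainComplex (ModuleCat.{u} R) ℤ) :
    ∃ (P : CochainComplex (ModuleCat.{u} R) ℤ) (q : P ⟶ G),
      TF (((tilde.functor R).mapHomologicalComplex (ComplexShape.up ℤ)).obj P) ∧ QuasiIso q := by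
  haveI := hasExactColimitsOfShape_nat (R := R)
  obtain ⟨Qf, s, ⟨hs⟩, q, hb, hPQ, -, hq, -⟩ :=
    TowerRes.exists_tower_resolution (freeProp (R := R)) free_zero free_biprod exists_free_epi G
  refine ⟨s.pt, q, ⟨Qf ⋙ (tilde.functor R).mapHomologicalComplex (ComplexShape.up ℤ),
    ((tilde.functor R).mapHomologicalComplex (ComplexShape.up ℤ)).mapCocone s,
    ⟨isColimitOfPreserves _ hs⟩, rfl, fun n => ?_, fun n i => ?_⟩, hq⟩
  · obtain ⟨b, hb⟩ := hb n
    refine ⟨b, ?_⟩
    rw [CochainComplex.isStrictlyLE_iff]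
    intro i hi
    exact Functor.map_isZero (tilde.functor R) ((Qf.obj n).isZero_of_isStrictlyLE b i hi)
  · haveI : Module.Free R ((Qf.obj n).X i) := hPQ n i
    exact Groth.Agent.Lib.Helper30.TildeStalk.isFlat_tilde ((Qf.obj n).X i)

end Groth.Agent.Lib.Helper28.TildeTF
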