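import Mathlib
import Groth.Agent.Lib.Helper28.TildeTF
import Groth.Agent.Lib.Helper28.DerivedCompare
import Groth.Agent.Lib.Helper11.TildePullback

/-!
# `Lf^*` on `Spec` is derived base change (helper28)

For a ring map `φ : A →+* B` with `f = Spec.map φ`, we show
`LBaseChange φ ⋙ tildeD B ≅ tildeD A ⋙ Lpull f`.
-/

set_option autoImplicit false
universe u
open CategoryTheory CategoryTheory.Limits AlgebraicGeometry ZeroObject

namespace Groth.Agent.Lib.Helper28.LpullTilde

attribute [local instance] HasDerivedCategory.standard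

open Groth.Agent.Lib.Helper28.LpullCompute Groth.Agent.Lib.Helper28.TowerFlat

variable {R S : CommRingCat.{u}}

/-- complexes of `A`-modules whose tilde is K-flat with flat terms. -/
def PA (P : CochainComplex (ModuleCat.{u} R) ℤ) : Prop :=
  PF (((tilde.functor R).mapHomologicalComplex (ComplexShape.up ℤ)).obj P)

/-- the corresponding class in the homotopy category. -/
def PPA (Z : HomotopyCategory (ModuleCat.{u} R) (ComplexShape.up ℤ)) : Prop :=
  ∃ K : CochainComplex (ModuleCat.{u} R) ℤ, PA K ∧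
    Z = (HomotopyCategory.quotient (ModuleCat.{u} R) (ComplexShape.up ℤ)).obj K

lemma hresA (Z : HomotopyCategory (ModuleCat.{u} R) (ComplexShape.up ℤ)) :
    ∃ (Z₀ : HomotopyCategory (ModuleCat.{u} R) (ComplexShape.up ℤ)) (w : Z₀ ⟶ Z), PPA Z₀ ∧
      HomotopyCategory.quasiIso (ModuleCat.{u} R) (ComplexShape.up ℤ) w := by
  obtain ⟨K, rfl⟩ := HomotopyCategory.quotient_obj_surjective Z
  obtain ⟨P, q, hP, hq⟩ := TildeTF.exists_resolution K
  refine ⟨_, (HomotopyCategory.quotient (ModuleCat.{u} R) (ComplexShape.up ℤ)).map q,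
    ⟨P, hP.pf, rfl⟩, ?_⟩
  rwa [HomotopyCategory.quotient_map_mem_quasiIso_iff]

variable (φ : R ⟶ S)

/-- `Spec.map φ`, typed so as to be composable with `tilde.functor`. -/
noncomputable abbrev specMap : Spec (CommRingCat.of S) ⟶ Spec (CommRingCat.of R) := Spec.map φ

/-- `f^* (M~) ≅ (M ⊗_A B)~` (helper11), with composable types. -/
noncomputable def tpIso :
    tilde.functor R ⋙ Scheme.Modules.pullback (specMap φ) ≅
      ModuleCat.extendScalars.{u, u, u} φ.hom ⋙ tilde.functor S :=
  Groth.Agent.Lib.Helper11.tildePullbackIso φ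

/-- `f^* (K~) ≅ (K ⊗_A B)~` on complexes. -/
noncomputable def cxIso :
    (tilde.functor R).mapHomologicalComplex (ComplexShape.up ℤ) ⋙
      (Scheme.Modules.pullback (specMap φ)).mapHomologicalComplex
        (ComplexShape.up ℤ) ≅
    (ModuleCat.extendScalars.{u, u, u} φ.hom).mapHomologicalComplex (ComplexShape.up ℤ) ⋙
      (tilde.functor S).mapHomologicalComplex (ComplexShape.up ℤ) :=
  Functor.mapHomologicalComplexCompIso
      (tpIso φ) _ ≪≫
    (Functor.mapHomologicalComplexCompIso (Iso.refl _) _).symm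

/-- `f^* (K~) ≅ (K ⊗_A B)~` on homotopy categories. -/
noncomputable def kIso :
    (tilde.functor R).mapHomotopyCategory (ComplexShape.up ℤ) ⋙
      (Scheme.Modules.pullback (specMap φ)).mapHomotopyCategory
        (ComplexShape.up ℤ) ≅
    (ModuleCat.extendScalars.{u, u, u} φ.hom).mapHomotopyCategory (ComplexShape.up ℤ) ⋙
      (tilde.functor S).mapHomotopyCategory (ComplexShape.up ℤ) :=
  Functor.mapHomotopyCategoryCompIso
      (tpIso φ) _ ≪≫
    (Functor.mapHomotopyCategoryCompIso (Iso.refl _) _).symm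

section

variable [PreservesFiniteLimits (tilde.functor R)]
  [PreservesFiniteLimits (tilde.functor S)]

/-- extension of scalars preserves quasi-isomorphisms between complexes in `PA`. -/
lemma quasiIso_extendScalars_map {P₀ P₁ : CochainComplex (ModuleCat.{u} R) ℤ} (h₀ : PA P₀)
    (h₁ : PA P₁) (s : P₀ ⟶ P₁) [QuasiIso s] :
    QuasiIso (((ModuleCat.extendScalars.{u, u, u} φ.hom).mapHomologicalComplex
      (ComplexShape.up ℤ)).map s) := by
  haveI : QuasiIso (((tilde.functor R).mapHomologicalComplex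
      (ComplexShape.up ℤ)).map s) := inferInstance
  have hq := quasiIso_pullback_map (specMap φ) h₀ h₁
    (((tilde.functor R).mapHomologicalComplex (ComplexShape.up ℤ)).map s)
  have hnat := (cxIso φ).hom.naturality s
  rw [← HomologicalComplex.quasiIso_map_iff_of_preservesHomology _
    (tilde.functor S)]
  have h2 : ((tilde.functor S).mapHomologicalComplex (ComplexShape.up ℤ)).map
      (((ModuleCat.extendScalars.{u, u, u} φ.hom).mapHomologicalComplex (ComplexShape.up ℤ)).map s) =
      (cxIso φ).inv.app P₀ ≫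
        ((Scheme.Modules.pullback (specMap φ)).mapHomologicalComplex
        (ComplexShape.up ℤ)).map (((tilde.functor R).mapHomologicalComplex
          (ComplexShape.up ℤ)).map s) ≫ (cxIso φ).hom.app P₁ := by
    rw [← cancel_epi ((cxIso φ).hom.app P₀), Iso.hom_inv_id_app_assoc]
    exact hnat.symm
  rw [h2]
  infer_instance

lemma hinvA {Z₀ Z₁ : HomotopyCategory (ModuleCat.{u} R) (ComplexShape.up ℤ)} (s : Z₀ ⟶ Z₁)
    (h₀ : PPA Z₀) (h₁ : PPA Z₁)
    (hs : HomotopyCategory.quasiIso (ModuleCat.{u} R) (ComplexShape.up ℤ) s) :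
    IsIso ((DRing.baseChangeKh φ.hom).map s) := by
  obtain ⟨K₀, h₀, rfl⟩ := h₀
  obtain ⟨K₁, h₁, rfl⟩ := h₁
  obtain ⟨s', rfl⟩ :=
    (HomotopyCategory.quotient (ModuleCat.{u} R) (ComplexShape.up ℤ)).map_surjective s
  rw [HomotopyCategory.quotient_map_mem_quasiIso_iff] at hs
  haveI : QuasiIso s' := hs
  have hq := quasiIso_extendScalars_map φ h₀ h₁ s'
  show IsIso (DerivedCategory.Q.map
    (((ModuleCat.extendScalars.{u, u, u} φ.hom).mapHomologicalComplex (ComplexShape.up ℤ)).map s'))
  infer_instance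

/-- `M ↦ M~` on derived categories, with target `D(O_{Spec (.of R)})`. -/
noncomputable abbrev tD (R : CommRingCat.{u}) [PreservesFiniteLimits (tilde.functor R)] :
    DerivedCategory (ModuleCat.{u} R) ⥤ DerivedCategory (Spec (CommRingCat.of R)).Modules :=
  (tilde.functor R).mapDerivedCategory

lemma hinvA' {Z₀ Z₁ : HomotopyCategory (ModuleCat.{u} R) (ComplexShape.up ℤ)} (s : Z₀ ⟶ Z₁)
    (h₀ : PPA Z₀) (h₁ : PPA Z₁)
    (hs : HomotopyCategory.quasiIso (ModuleCat.{u} R) (ComplexShape.up ℤ) s) :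
    IsIso ((DRing.baseChangeKh φ.hom ⋙ tD S).map s) := by
  haveI := hinvA φ s h₀ h₁ hs
  show IsIso ((tD S).map ((DRing.baseChangeKh φ.hom).map s))
  infer_instance

/-- the first comparison datum: from derived base change. -/
noncomputable def β₁ [DRing.HasLBaseChange φ.hom] :
    DerivedCategory.Qh ⋙ (DRing.LBaseChange φ.hom ⋙ tD S) ⟶ DRing.baseChangeKh φ.hom ⋙ tD S :=
  (Functor.associator _ _ _).inv ≫
    Functor.whiskerRight ((DRing.baseChangeKh φ.hom).totalLeftDerivedCounit DerivedCategory.Qh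
      (HomotopyCategory.quasiIso (ModuleCat.{u} R) (ComplexShape.up ℤ))) (tD S)

lemma isIso_β₁_app [DRing.HasLBaseChange φ.hom]
    (Z : HomotopyCategory (ModuleCat.{u} R) (ComplexShape.up ℤ)) (hZ : PPA Z) :
    IsIso ((β₁ φ).app Z) := by
  haveI : IsIso (((DRing.baseChangeKh φ.hom).totalLeftDerivedCounit DerivedCategory.Qh
      (HomotopyCategory.quasiIso (ModuleCat.{u} R) (ComplexShape.up ℤ))).app Z) :=
    Groth.Agent.Lib.Helper5.LeftDerivedRes.isIso_app DerivedCategory.Qh
      (HomotopyCategory.quasiIso (ModuleCat.{u} R) (ComplexShape.up ℤ)) (DRing.baseChangeKh φ.hom)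
      PPA hresA (fun s h₀ h₁ hs => hinvA φ s h₀ h₁ hs) (DRing.LBaseChange φ.hom) _ hZ
  simp only [β₁, NatTrans.comp_app, Functor.associator_inv_app, Functor.whiskerRight_app]
  infer_instance

/-- the second comparison datum: from derived pullback. -/
noncomputable def β₂ [DCoh.HasLpull (specMap φ)] :
    DerivedCategory.Qh ⋙ (tD R ⋙ DCoh.Lpull (specMap φ)) ⟶ DRing.baseChangeKh φ.hom ⋙ tD S :=
  (Functor.associator _ _ _).inv ≫
    Functor.whiskerRight (tilde.functor R).mapDerivedCategoryFactorsh.hom (DCoh.Lpull (specMap φ)) ≫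
    (Functor.associator _ _ _).hom ≫
    Functor.whiskerLeft ((tilde.functor R).mapHomotopyCategory (ComplexShape.up ℤ))
      ((DCoh.pullKh (specMap φ)).totalLeftDerivedCounit DerivedCategory.Qh
        (HomotopyCategory.quasiIso (Spec (CommRingCat.of R)).Modules (ComplexShape.up ℤ))) ≫
    (Functor.associator _ _ _).inv ≫
    Functor.whiskerRight (kIso φ).hom DerivedCategory.Qh ≫
    (Functor.associator _ _ _).hom ≫
    Functor.whiskerLeft ((ModuleCat.extendScalars.{u, u, u} φ.hom).mapHomotopyCategory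
      (ComplexShape.up ℤ)) (tilde.functor S).mapDerivedCategoryFactorsh.inv ≫
    (Functor.associator _ _ _).inv

lemma isIso_β₂_app [DCoh.HasLpull (specMap φ)]
    (Z : HomotopyCategory (ModuleCat.{u} R) (ComplexShape.up ℤ)) (hZ : PPA Z) :
    IsIso ((β₂ φ).app Z) := by
  obtain ⟨K, hK, rfl⟩ := hZ
  haveI : IsIso (((DCoh.pullKh (specMap φ)).totalLeftDerivedCounit DerivedCategory.Qh
      (HomotopyCategory.quasiIso (Spec (CommRingCat.of R)).Modules (ComplexShape.up ℤ))).app
        (((tilde.functor R).mapHomotopyCategory (ComplexShape.up ℤ)).obj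
          ((HomotopyCategory.quotient (ModuleCat.{u} R) (ComplexShape.up ℤ)).obj K))) :=
    isIso_counit (specMap φ) _ hK
  simp only [β₂, NatTrans.comp_app, Functor.associator_inv_app, Functor.associator_hom_app,
    Functor.whiskerRight_app, Functor.whiskerLeft_app]
  infer_instance

/-- **`Lf^*` of `M~` is `(M ⊗^L_R S)~`**, as functors on `D(R)`. -/
theorem nonempty_iso [DRing.HasLBaseChange φ.hom] [DCoh.HasLpull (specMap φ)] :
    Nonempty (DRing.LBaseChange φ.hom ⋙ tD S ≅ tD R ⋙ DCoh.Lpull (specMap φ)) :=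
  DerivedCompare.nonempty_iso DerivedCategory.Qh
    (HomotopyCategory.quasiIso (ModuleCat.{u} R) (ComplexShape.up ℤ))
    (DRing.baseChangeKh φ.hom ⋙ tD S) PPA hresA (fun s h₀ h₁ hs => hinvA' φ s h₀ h₁ hs)
    _ _ (β₁ φ) (β₂ φ) (isIso_β₁_app φ) (isIso_β₂_app φ)

end

end Groth.Agent.Lib.Helper28.LpullTilde
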