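import Mathlib
import Groth.Agent.Lib.Helper12.FlatCxRank2

/-!
# Upper semicontinuity of fibre cohomology of a complex of finite projective modules (helper28)

Variant of helper12's `dRank_upperSemicontinuous` without Noetherian hypothesis (for finite
projective terms), and the comparison of `dRank` with base change to an arbitrary field.
-/

set_option autoImplicit false
universe u
open CategoryTheory CategoryTheory.Limits

namespace Groth.Agent.Lib.Helper28.BettiRing

open Groth.Agent.Lib.Helper12.FlatCx

variable {A : Type u} [CommRing A] {ι : Type} {c : ComplexShape ι}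

lemma fd_isLocallyConstant_of_projective (M : Type u) [AddCommGroup M] [Module A M]
    [Module.Finite A M] [Module.Projective A M] : IsLocallyConstant (fd (A := A) M) := by
  have : Module.FinitePresentation A M := Module.finitePresentation_of_projective A M
  have h : fd (A := A) M = Module.rankAtStalk M := funext fun x => fd_eq_rankAtStalk M x
  rw [h]
  exact Module.isLocallyConstant_rankAtStalk

/-- `x ↦ dim H_p(P ⊗ κ(x))` is upper semicontinuous for a complex of finite modules whose term
after `p` is projective. -/
theorem dRank_upperSemicontinuous (P : HomologicalComplex (ModuleCat.{u} A) c)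
    (hP : ∀ i, Module.Finite A (P.X i)) (p q : ι) (hpq : c.Rel p q)
    (hq : Module.Projective A (P.X q)) :
    UpperSemicontinuous (CohIII.dRank P p) := by
  intro x y hy
  have := finite_opcycles P hP p
  have := finite_opcycles P hP q
  have := hP q
  have h1 := fd_eventually_le (P.opcycles p) x
  have h2 := fd_eventually_le (P.opcycles q) x
  have h3 := (fd_isLocallyConstant_of_projective (A := A) (P.X q)).eventually_eq x
  filter_upwards [h1, h2, h3] with x' h1 h2 h3
  have e := dRank_add P hP p q hpq x
  have e' := dRank_add P hP p q hpq x'
  show CohIII.dRank P p x' < y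
  have : CohIII.dRank P p x < y := hy
  omega

/-- the fibre cohomology after base change to any field is `dRank` at the kernel. -/
theorem finrank_homology_bcCx_eq_dRank {k : Type u} [Field k] (ψ : A →+* k)
    (P : HomologicalComplex (ModuleCat.{u} A) c) (p : ι) :
    Module.finrank k ((CohIII.bcCx ψ P).homology p) =
      CohIII.dRank P p ⟨RingHom.ker ψ, RingHom.ker_isPrime ψ⟩ := by
  letI := ψ.toAlgebra
  have h1 := dRank_baseChange (A := A) (A' := k) P p (⊥ : PrimeSpectrum k)
  have h2 : PrimeSpectrum.comap (algebraMap A k) (⊥ : PrimeSpectrum k) =
      ⟨RingHom.ker ψ, RingHom.ker_isPrime ψ⟩ := by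
    apply PrimeSpectrum.ext
    rfl
  rw [h2] at h1
  rw [← h1]
  unfold CohIII.dRank
  exact (finrank_homology_bcCx_field
    (algebraMap k (⊥ : PrimeSpectrum k).asIdeal.ResidueField) (CohIII.bcCx ψ P) p).symm

end Groth.Agent.Lib.Helper28.BettiRing
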