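import Mathlib
import Groth.Agent.Lib.Helper12.FlatCxRank

/-!
# The Euler–Poincaré formula for bounded complexes of finite dimensional vector spaces (helper28)
-/

set_option autoImplicit false
universe u
open CategoryTheory CategoryTheory.Limits

namespace Groth.Agent.Lib.Helper28.EulerPoincare

variable {K : Type u} [Field K]

lemma finrank_eq_zero_of_isZero {M : ModuleCat.{u} K} (h : IsZero M) : Module.finrank K M = 0 := by
  have := ModuleCat.subsingleton_of_isZero h
  exact Module.finrank_zero_of_subsingleton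

lemma subsingleton_opcycles_of_isZero (P : CochainComplex (ModuleCat.{u} K) ℤ) (i : ℤ)
    (h : IsZero (P.X i)) : Subsingleton (P.opcycles i) := by
  have := ModuleCat.subsingleton_of_isZero h
  exact ((ModuleCat.epi_iff_surjective (P.pOpcycles i)).mp inferInstance).subsingleton

lemma isZero_homology_of_isZero (P : CochainComplex (ModuleCat.{u} K) ℤ) (i : ℤ)
    (h : IsZero (P.X i)) : IsZero (P.homology i) :=
  (HomologicalComplex.exactAt_iff_isZero_homology _ _).mp (ShortComplex.exact_of_isZero_X₂ _ h)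

/-- **Euler–Poincaré**: the alternating sum of the dimensions of the cohomology of a bounded
complex of finite dimensional vector spaces is the alternating sum of the dimensions of its
terms. -/
theorem finsum_homology_eq (P : CochainComplex (ModuleCat.{u} K) ℤ)
    (hP : ∀ i, Module.Finite K (P.X i)) (s : Finset ℤ) (hs : ∀ i, i ∉ s → IsZero (P.X i)) :
    (∑ᶠ i : ℤ, ((i.negOnePow : ℤˣ) : ℤ) * (Module.finrank K (P.homology i) : ℤ)) =
      s.sum fun i => ((i.negOnePow : ℤˣ) : ℤ) * (Module.finrank K (P.X i) : ℤ) := by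
  let F : ℤ → ℤ := fun i => ((i.negOnePow : ℤˣ) : ℤ) * (Module.finrank K (P.opcycles i) : ℤ)
  let G : ℤ → ℤ := fun i => ((i.negOnePow : ℤˣ) : ℤ) * (Module.finrank K (P.X i) : ℤ)
  let D : ℤ → ℤ := fun i => ((i.negOnePow : ℤˣ) : ℤ) * (Module.finrank K (P.homology i) : ℤ)
  have hF0 : ∀ i, i ∉ s → F i = 0 := fun i hi => by
    have := subsingleton_opcycles_of_isZero P i (hs i hi)
    simp [F, Module.finrank_zero_of_subsingleton]
  have hG0 : ∀ i, i ∉ s → G i = 0 := fun i hi => by
    simp [G, finrank_eq_zero_of_isZero (hs i hi)]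
  have hD0 : ∀ i, i ∉ s → D i = 0 := fun i hi => by
    simp [D, finrank_eq_zero_of_isZero (isZero_homology_of_isZero P i (hs i hi))]
  have hrel : ∀ i, D i = F i - F (i + 1) + G (i + 1) := fun i => by
    haveI := hP i
    haveI := hP (i + 1)
    have h := Groth.Agent.Lib.Helper12.FlatCx.finrank_homology_add P i (i + 1) (by simp)
    have hsign : (((i + 1).negOnePow : ℤˣ) : ℤ) = - ((i.negOnePow : ℤˣ) : ℤ) := by
      rw [Int.negOnePow_succ]
      simp
    simp only [D, F, G, hsign]
    have h' : (Module.finrank K (P.homology i) : ℤ) + (Module.finrank K (P.X (i + 1)) : ℤ) =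
        (Module.finrank K (P.opcycles i) : ℤ) + (Module.finrank K (P.opcycles (i + 1)) : ℤ) := by
      exact_mod_cast h
    linear_combination ((i.negOnePow : ℤˣ) : ℤ) * h'
  have supp : ∀ (H : ℤ → ℤ), (∀ i, i ∉ s → H i = 0) → Function.support H ⊆ (s : Set ℤ) :=
    fun H hH i hi => by
      by_contra hn
      exact hi (hH i hn)
  have fsum : ∀ (H : ℤ → ℤ), (∀ i, i ∉ s → H i = 0) → s.sum H = ∑ᶠ i, H i := fun H hH =>
    (finsum_eq_sum_of_support_subset H (supp H hH)).symm
  have fin : ∀ (H : ℤ → ℤ), (∀ i, i ∉ s → H i = 0) → Function.HasFiniteSupport H :=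
    fun H hH => s.finite_toSet.subset (supp H hH)
  have finshift : ∀ (H : ℤ → ℤ), (∀ i, i ∉ s → H i = 0) →
      Function.HasFiniteSupport fun i => H (i + 1) := fun H hH =>
    Set.Finite.preimage ((Equiv.addRight (1 : ℤ)).injective.injOn) (fin H hH)
  have shift : ∀ (H : ℤ → ℤ), (∑ᶠ i, H (i + 1)) = ∑ᶠ i, H i := fun H =>
    finsum_comp_equiv (Equiv.addRight (1 : ℤ))
  show (∑ᶠ i, D i) = s.sum G
  rw [fsum G hG0]
  simp_rw [hrel]
  have hsub : Function.HasFiniteSupport (fun i => F i - F (i + 1)) :=
    (fin F hF0).sub (finshift F hF0)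
  rw [finsum_add_distrib hsub (finshift G hG0),
    finsum_sub_distrib (fin F hF0) (finshift F hF0), shift F, shift G]
  ring

end Groth.Agent.Lib.Helper28.EulerPoincare
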