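import Mathlib
import Groth.Agent.Lib.Helper49.StalkExact
import Groth.Agent.Lib.Helper28.EulerPoincare
import Groth.Prelude.Def_Coh
import Groth.Prelude.Def_DCoh2

/-!
# Global sections on a one-point scheme (helper28)

On a scheme `S` with a unique point (e.g. the spectrum of a field), the global sections functor
`Γf S : S.Modules ⥤ ModuleCat Γ(S, ⊤)` is exact, so it commutes with homology.
-/

set_option autoImplicit false
universe u
open CategoryTheory CategoryTheory.Limits AlgebraicGeometry Opposite TopologicalSpace

namespace Groth.Agent.Lib.Helper28.GammaPoint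

attribute [local instance] HasDerivedCategory.standard

/-- global sections as a functor to modules over the ring of global functions. -/
noncomputable def Γf (S : Scheme.{u}) : S.Modules ⥤ ModuleCat.{u} (Coh.Γtop S) :=
  Scheme.Modules.toPresheafOfModules S ⋙ PresheafOfModules.evaluation S.ringCatSheaf.obj (op ⊤)

lemma Γf_obj (S : Scheme.{u}) (M : S.Modules) : (Γf S).obj M = M.val.obj (op ⊤) := rfl

instance (S : Scheme.{u}) : (Scheme.Modules.toPresheafOfModules S).Additive :=
  inferInstanceAs (SheafOfModules.forget S.ringCatSheaf).Additive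

instance (S : Scheme.{u}) : (Γf S).Additive := by
  unfold Γf
  infer_instance

instance (S : Scheme.{u}) : PreservesFiniteLimits (Γf S) := by
  unfold Γf
  infer_instance

variable {S : Scheme.{u}}

lemma Γf_map_apply {M N : S.Modules} (φ : M ⟶ N) (m : M.val.obj (op ⊤)) :
    ((Γf S).map φ).hom m = φ.app ⊤ m := rfl

/-- on a scheme with a unique point, an epimorphism of modules is surjective on global
sections. -/
lemma surjective_app_top [Unique S] {M N : S.Modules} (φ : M ⟶ N) [Epi φ] :
    Function.Surjective (φ.app ⊤) := by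
  intro n
  obtain ⟨V, hVU, hxV, m, hm⟩ :=
    Groth.Agent.Lib.Helper49.exists_app_eq_of_epi φ ⊤ n (default : S) trivial
  have hV : V = ⊤ := by
    rw [eq_top_iff]
    intro y _
    rw [Unique.eq_default y]
    exact hxV
  subst hV
  refine ⟨m, hm.trans ?_⟩
  have : (homOfLE hVU) = 𝟙 _ := Subsingleton.elim _ _
  rw [this, op_id, N.presheaf.map_id]
  rfl

instance [Unique S] : (Γf S).PreservesEpimorphisms where
  preserves {M N} φ _ := by
    rw [ModuleCat.epi_iff_surjective]
    exact surjective_app_top φ

instance [Unique S] : PreservesFiniteColimits (Γf S) :=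
  Groth.Agent.Lib.Helper30.ModEpi.preservesFiniteColimits_of_preservesEpi (Γf S)

/-- global sections commute with homology on a one-point scheme. -/
noncomputable def homologyIso [Unique S] (C : CochainComplex S.Modules ℤ) (i : ℤ) :
    (((Γf S).mapHomologicalComplex (ComplexShape.up ℤ)).obj C).homology i ≅
      (Γf S).obj (C.homology i) :=
  (C.sc i).mapHomologyIso (Γf S)

/-- sections of the cohomology sheaves of an object of `D(O_S)` represented by `C`. -/
noncomputable def hdIso [Unique S] (K : DCoh.D S) (C : CochainComplex S.Modules ℤ)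
    (e : K ≅ DerivedCategory.Q.obj C) (i : ℤ) :
    (Γf S).obj (DCoh.HD K i) ≅
      (((Γf S).mapHomologicalComplex (ComplexShape.up ℤ)).obj C).homology i :=
  (Γf S).mapIso ((DerivedCategory.homologyFunctor S.Modules i).mapIso e ≪≫
    (DerivedCategory.homologyFunctorFactors S.Modules i).app C) ≪≫ (homologyIso C i).symm

lemma finrank_hd [Unique S] (K : DCoh.D S) (C : CochainComplex S.Modules ℤ)
    (e : K ≅ DerivedCategory.Q.obj C) (i : ℤ) :
    Module.finrank (Coh.Γtop S) ((DCoh.HD K i).val.obj (op ⊤)) =
      Module.finrank (Coh.Γtop S)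
        ((((Γf S).mapHomologicalComplex (ComplexShape.up ℤ)).obj C).homology i) :=
  (hdIso K C e i).toLinearEquiv.finrank_eq

/-- the Euler characteristic of the cohomology sheaves of an object of `D(O_S)` represented by a
bounded complex `C` with finite dimensional global sections, on a one-point scheme whose ring of
global functions is a field. -/
theorem finsum_betti [Unique S] (hk : IsField (Coh.Γtop S)) (K : DCoh.D S)
    (C : CochainComplex S.Modules ℤ) (e : K ≅ DerivedCategory.Q.obj C)
    (s : Finset ℤ) (hs : ∀ i, i ∉ s → IsZero (C.X i))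
    (hfin : ∀ i, Module.Finite (Coh.Γtop S) ((C.X i).val.obj (op ⊤))) :
    (∑ᶠ i : ℤ, ((i.negOnePow : ℤˣ) : ℤ) *
      (Module.finrank (Coh.Γtop S) ((DCoh.HD K i).val.obj (op ⊤)) : ℤ)) =
    s.sum fun i => ((i.negOnePow : ℤˣ) : ℤ) *
      (Module.finrank (Coh.Γtop S) ((C.X i).val.obj (op ⊤)) : ℤ) := by
  let _ : Field (Coh.Γtop S) := hk.toField
  simp_rw [finrank_hd K C e]
  exact Groth.Agent.Lib.Helper28.EulerPoincare.finsum_homology_eq
    (((Γf S).mapHomologicalComplex (ComplexShape.up ℤ)).obj C) hfin s
    (fun i hi => Functor.map_isZero (Γf S) (hs i hi))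

noncomputable instance uniqueSpecResidueField (X : Scheme.{u}) (x : X) :
    Unique ↥(Spec (X.residueField x)) :=
  inferInstanceAs (Unique (PrimeSpectrum (X.residueField x)))

lemma isField_Γtop_residueField (X : Scheme.{u}) (x : X) :
    IsField (Coh.Γtop (Spec (X.residueField x))) := by
  have e : Γ(Spec (X.residueField x), ⊤) ≃+* (X.residueField x) :=
    (Scheme.ΓSpecIso (X.residueField x)).commRingCatIsoToRingEquiv
  exact MulEquiv.isField (Field.toIsField (X.residueField x)) e.toMulEquiv

end Groth.Agent.Lib.Helper28.GammaPoint
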