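import Mathlib
import Groth.Agent.Lib.Helper28.LpullRestrict
import Groth.Agent.Lib.Helper28.TorAmp
import Groth.Agent.Lib.Helper30.PerfRestrict
import Groth.Agent.Lib.Helper49.FinLocFree
import Groth.Agent.Lib.Helper18.LimFinLocFree

/-!
# Derived pullback of perfect objects (helper28)
-/

set_option autoImplicit false
universe u
open CategoryTheory CategoryTheory.Limits AlgebraicGeometry

namespace Groth.Agent.Lib.Helper28.LpullPerf

attribute [local instance] HasDerivedCategory.standard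

open Groth.Agent.Lib.Helper28.LpullCompute Groth.Agent.Lib.Helper28.LpullComp
  Groth.Agent.Lib.Helper28.LpullRestrict Groth.Agent.Lib.Helper30.PerfRestrict

variable {X Y : Scheme.{u}}

lemma pf_of_isStrictlyPerfect (E : CochainComplex Y.Modules ℤ) (hE : DCoh.IsStrictlyPerfect E) :
    PF E := by
  obtain ⟨⟨a, b, hab⟩, hfl⟩ := hE
  have hfl' : ∀ i, FlatMod.IsFlat (E.X i) := fun i =>
    Groth.Agent.Lib.Helper49.isFlat_of_isFinLocFree _ (hfl i)
  exact ⟨Groth.Agent.S0953.result E b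
    (Groth.Agent.Lib.Helper28.TorAmp.isStrictlyLE_of_vanishesOutside E a b hab) hfl', hfl'⟩

lemma isStrictlyPerfect_pullback (f : X ⟶ Y) (E : CochainComplex Y.Modules ℤ)
    (hE : DCoh.IsStrictlyPerfect E) :
    DCoh.IsStrictlyPerfect
      (((Scheme.Modules.pullback f).mapHomologicalComplex (ComplexShape.up ℤ)).obj E) := by
  obtain ⟨⟨a, b, hab⟩, hfl⟩ := hE
  refine ⟨⟨a, b, fun i hi => ?_⟩, fun i => ?_⟩
  · exact Functor.map_isZero (Scheme.Modules.pullback f) (hab i hi)
  · exact Groth.Agent.Lib.Helper18.LimFinLocFree.isFinLocFree_pullback f _ (hfl i)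

/-- `Lf^*` of (the image of) a strictly perfect complex is (the image of) a strictly perfect
complex. -/
lemma perfObj_lpull (f : X ⟶ Y) [DCoh.HasLpull f] {L : DCoh.D Y} (h : PerfObj L) :
    PerfObj ((DCoh.Lpull f).obj L) := by
  obtain ⟨E, hE, ⟨e⟩⟩ := h
  exact ⟨_, isStrictlyPerfect_pullback f E hE,
    ⟨(DCoh.Lpull f).mapIso e ≪≫ lpullIso f E (pf_of_isStrictlyPerfect E hE)⟩⟩

/-- **the derived pullback of a perfect object is perfect.** -/
theorem isPerfect_lpull (f : X ⟶ Y) [DCoh.HasLpull f] (E : DCoh.D Y) (hE : DCoh.IsPerfect E) :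
    DCoh.IsPerfect ((DCoh.Lpull f).obj E) := by
  rw [isPerfect_iff] at hE ⊢
  intro x
  obtain ⟨V, hxV, hV⟩ := hE (f.base x)
  refine ⟨f ⁻¹ᵁ V, hxV, ?_⟩
  haveI := hasLpull (f ∣_ V)
  exact (perfObj_lpull (f ∣_ V) hV).of_iso ((restrictLpullIso f V).app E).symm

end Groth.Agent.Lib.Helper28.LpullPerf
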