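import Mathlib
import Groth.Agent.Lib.Helper28.GammaPoint
import Groth.Agent.Lib.Helper28.LpullPerf
import Groth.Prelude.Def_PerfD

/-!
# Euler characteristic of a perfect complex at a point (helper28)
-/

set_option autoImplicit false
universe u
open CategoryTheory CategoryTheory.Limits AlgebraicGeometry Opposite TopologicalSpace

namespace Groth.Agent.Lib.Helper28.EulerPerf

attribute [local instance] HasDerivedCategory.standard

open Groth.Agent.Lib.Helper28.LpullCompute Groth.Agent.Lib.Helper28.LpullComp
  Groth.Agent.Lib.Helper28.LpullRestrict Groth.Agent.Lib.Helper28.LpullPerf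
  Groth.Agent.Lib.Helper28.GammaPoint Groth.Agent.Lib.Helper18.LimFinLocFree

variable {X : Scheme.{u}}

/-- the lift of `Spec κ(x) ⟶ X` to an open subscheme containing `x`. -/
noncomputable def pointLift (V : X.Opens) (x : X) (hx : x ∈ V) :
    Spec (X.residueField x) ⟶ (V : Scheme.{u}) :=
  IsOpenImmersion.lift V.ι (X.fromSpecResidueField x) (by
    rw [Scheme.range_fromSpecResidueField, Scheme.Opens.range_ι]
    simpa using hx)

lemma pointLift_fac (V : X.Opens) (x : X) (hx : x ∈ V) :
    pointLift V x hx ≫ V.ι = X.fromSpecResidueField x :=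
  IsOpenImmersion.lift_fac _ _ _

lemma pointLift_apply (V : X.Opens) (x : X) (hx : x ∈ V) (s : Spec (X.residueField x)) :
    (pointLift V x hx) s = ⟨x, hx⟩ := by
  apply Subtype.ext
  have h := congrArg (fun f : Spec (X.residueField x) ⟶ X => f s) (pointLift_fac V x hx)
  simp only [Scheme.fromSpecResidueField_apply] at h
  exact h

/-- `L i_x^* E` is computed by pulling back a strictly perfect local model of `E`. -/
noncomputable def lpullPointIso (E : DCoh.D X) (V : X.Opens)
    (P : CochainComplex (V : Scheme.{u}).Modules ℤ) (hP : DCoh.IsStrictlyPerfect P)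
    (e : (DCoh.restrictD V.ι).obj E ≅ DerivedCategory.Q.obj P) (x : X) (hx : x ∈ V)
    [DCoh.HasLpull (X.fromSpecResidueField x)] :
    (DCoh.Lpull (X.fromSpecResidueField x)).obj E ≅
      DerivedCategory.Q.obj (((Scheme.Modules.pullback (pointLift V x hx)).mapHomologicalComplex
        (ComplexShape.up ℤ)).obj P) :=
  haveI := hasLpull (pointLift V x hx)
  haveI := hasLpull V.ι
  haveI := hasLpull (pointLift V x hx ≫ V.ι)
  (lpullCongr (pointLift_fac V x hx).symm).app E ≪≫
    ((compIso (pointLift V x hx) V.ι).symm).app E ≪≫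
    (DCoh.Lpull (pointLift V x hx)).mapIso ((lpullRestrictIso V.ι).app E ≪≫ e) ≪≫
    lpullIso (pointLift V x hx) P (pf_of_isStrictlyPerfect P hP)

/-- sections over the whole space of a module of rank `n` at the point of a one-point scheme. -/
lemma finrank_of_rankAt {S : Scheme.{u}} [Unique S] [Nontrivial Γ(S, ⊤)] (M : S.Modules)
    (n : ℕ) (h : RankAt M n default) :
    Module.Finite (Coh.Γtop S) (M.val.obj (op ⊤)) ∧
      Module.finrank (Coh.Γtop S) (M.val.obj (op ⊤)) = n := by
  obtain ⟨U, -, hxU, ⟨e⟩⟩ := h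
  have hU : U = ⊤ := by
    rw [eq_top_iff]
    intro y _
    rw [Unique.eq_default y]
    exact hxU
  subst hU
  have h1 : Module.Finite Γ(S, ⊤) Γ(M, ⊤) := Module.Finite.equiv e.symm
  have h2 : Module.finrank Γ(S, ⊤) Γ(M, ⊤) = n := e.finrank_eq.trans (Module.finrank_fin_fun _)
  exact ⟨h1, h2⟩

instance nontrivial_Γ_residueField (X : Scheme.{u}) (x : X) :
    Nontrivial Γ(Spec (X.residueField x), ⊤) :=
  (Scheme.ΓSpecIso (X.residueField x)).commRingCatIsoToRingEquiv.toEquiv.nontrivial

/-- **the Euler characteristic at `x` of an object locally represented by a strictly perfect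
complex `P` is the alternating sum of the ranks of the terms of `P` at `x`.** -/
theorem eulerChar_eq (E : DCoh.D X) (V : X.Opens)
    (P : CochainComplex (V : Scheme.{u}).Modules ℤ) (hP : DCoh.IsStrictlyPerfect P)
    (e : (DCoh.restrictD V.ι).obj E ≅ DerivedCategory.Q.obj P) (a b : ℤ)
    (hab : DCoh.VanishesOutside P a b) (x : X) (hx : x ∈ V)
    [DCoh.HasLpull (X.fromSpecResidueField x)] (n : ℤ → ℕ)
    (hn : ∀ i ∈ Finset.Icc a b, RankAt (P.X i) (n i) ⟨x, hx⟩) :
    PerfD.eulerChar E x = ∑ i ∈ Finset.Icc a b, ((i.negOnePow : ℤˣ) : ℤ) * (n i : ℤ) := by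
  let j := pointLift V x hx
  let C := ((Scheme.Modules.pullback j).mapHomologicalComplex (ComplexShape.up ℤ)).obj P
  have hzero : ∀ i, i ∉ Finset.Icc a b → IsZero (C.X i) := by
    intro i hi
    refine Functor.map_isZero (Scheme.Modules.pullback j) (hab i ?_)
    rw [Finset.mem_Icc, not_and_or, not_le, not_le] at hi
    exact hi
  have hrank : ∀ i ∈ Finset.Icc a b,
      Module.Finite (Coh.Γtop (Spec (X.residueField x))) ((C.X i).val.obj (op ⊤)) ∧
      Module.finrank (Coh.Γtop (Spec (X.residueField x))) ((C.X i).val.obj (op ⊤)) = n i := by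
    intro i hi
    haveI := Groth.Agent.Lib.Helper49.isQuasicoherent_of_isFinLocFree (P.X i) (hP.2 i)
    have h1 : RankAt (P.X i) (n i) (j default) := by
      rw [pointLift_apply]
      exact hn i hi
    exact finrank_of_rankAt _ (n i) (h1.pullback j (P.X i))
  have hfin : ∀ i, Module.Finite (Coh.Γtop (Spec (X.residueField x)))
      ((C.X i).val.obj (op ⊤)) := by
    intro i
    by_cases hi : i ∈ Finset.Icc a b
    · exact (hrank i hi).1
    · have h0 : IsZero ((Γf (Spec (X.residueField x))).obj (C.X i)) :=
        Functor.map_isZero _ (hzero i hi)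
      haveI : Subsingleton ((C.X i).val.obj (op ⊤)) := ModuleCat.subsingleton_of_isZero h0
      exact Module.Finite.of_finite
  have key := finsum_betti (isField_Γtop_residueField X x)
    ((DCoh.Lpull (X.fromSpecResidueField x)).obj E) C (lpullPointIso E V P hP e x hx)
    (Finset.Icc a b) hzero hfin
  unfold PerfD.eulerChar PerfD.betti
  refine key.trans (Finset.sum_congr rfl (fun i hi => ?_))
  rw [(hrank i hi).2]

end Groth.Agent.Lib.Helper28.EulerPerf
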