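import Mathlib
import Groth.Agent.Lib.Helper28.GammaPoint

/-!
# Global sections of `M~` as a module over `Coh.Γtop (Spec R)` (helper28)

* `preservesHomology_restrictScalars`: restriction of scalars along a map of (non-commutative)
  rings preserves homology;
* `toΓtop R : R →+* Coh.Γtop (Spec R)`, `moduleSpecΓIso`, `tildeΓfIso`;
* `finrank_homology_Γf_tilde`: `finrank H^p(Γ(Spec R, N~)) = finrank_R H^p(N)`.
-/

set_option autoImplicit false
universe u v
open CategoryTheory CategoryTheory.Limits AlgebraicGeometry Opposite TopologicalSpace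

namespace Groth.Agent.Lib.Helper28.GammaPoint

section
variable {A : Type u} [Ring A] {B : Type u} [Ring B] (f : A →+* B)

lemma restrictScalars_map_exact' (S : ShortComplex (ModuleCat.{v} B)) (h : S.Exact) :
    (S.map (ModuleCat.restrictScalars.{v} f)).Exact := by
  rw [CategoryTheory.ShortComplex.ShortExact.moduleCat_exact_iff_function_exact] at h ⊢
  exact h

lemma preservesFiniteLimits_restrictScalars :
    Limits.PreservesFiniteLimits (ModuleCat.restrictScalars.{v} f) := by
  have := ((CategoryTheory.Functor.exact_tfae (ModuleCat.restrictScalars.{v} f)).out 1 3).mp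
    (restrictScalars_map_exact' f)
  exact this.1

lemma preservesFiniteColimits_restrictScalars :
    Limits.PreservesFiniteColimits (ModuleCat.restrictScalars.{v} f) := by
  have := ((CategoryTheory.Functor.exact_tfae (ModuleCat.restrictScalars.{v} f)).out 1 3).mp
    (restrictScalars_map_exact' f)
  exact this.2

lemma preservesHomology_restrictScalars :
    (ModuleCat.restrictScalars.{v} f).PreservesHomology := by
  haveI := preservesFiniteLimits_restrictScalars.{u, v} f
  haveI := preservesFiniteColimits_restrictScalars.{u, v} f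
  infer_instance
end

variable (R : CommRingCat.{u})

/-- the structure map `R → Γ(Spec R, ⊤)`, with target the ring of `Coh.Γtop`. -/
noncomputable def toΓtop : R →+* Coh.Γtop (Spec (CommRingCat.of R)) :=
  (Scheme.ΓSpecIso R).inv.hom

lemma toΓtop_bijective : Function.Bijective (toΓtop R) :=
  (Scheme.ΓSpecIso R).symm.commRingCatIsoToRingEquiv.bijective

/-- Mathlib's global sections functor on `Spec R` is `Γf` followed by restriction of scalars. -/
noncomputable def moduleSpecΓIso :
    moduleSpecΓFunctor (R := R) ≅
      Γf (Spec (CommRingCat.of R)) ⋙ ModuleCat.restrictScalars (toΓtop R) :=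
  NatIso.ofComponents (fun M => Iso.refl _) (by intros; rfl)

/-- `Γf (M~)` is `M` with scalars restricted along `Γ(Spec R, ⊤) ≅ R`. -/
noncomputable def tildeΓfIso :
    tilde.functor R ⋙ Γf (Spec (CommRingCat.of R)) ⋙ ModuleCat.restrictScalars (toΓtop R) ≅ 𝟭 _ :=
  Functor.isoWhiskerLeft (tilde.functor R) (moduleSpecΓIso R).symm ≪≫ tilde.toTildeΓNatIso.symm

lemma finrank_restrictScalars_toΓtop (H : ModuleCat.{u} (Coh.Γtop (Spec (CommRingCat.of R)))) :
    Module.finrank R ((ModuleCat.restrictScalars (toΓtop R)).obj H) =
      Module.finrank (Coh.Γtop (Spec (CommRingCat.of R))) H := by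
  have h := rank_eq_of_equiv_equiv (R := R) (R' := Coh.Γtop (Spec (CommRingCat.of R)))
    (M := (ModuleCat.restrictScalars (toΓtop R)).obj H) (M₁ := H)
    (toΓtop R) (AddEquiv.refl _) (toΓtop_bijective R) (fun r m => rfl)
  exact congrArg Cardinal.toNat h

/-- the cohomology of global sections of `N~` for a complex `N` of `R`-modules. -/
theorem finrank_homology_Γf_tilde (N : CochainComplex (ModuleCat.{u} R) ℤ) (p : ℤ) :
    Module.finrank (Coh.Γtop (Spec (CommRingCat.of R)))
      ((((Γf (Spec (CommRingCat.of R))).mapHomologicalComplex (ComplexShape.up ℤ)).obj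
        (((tilde.functor R).mapHomologicalComplex (ComplexShape.up ℤ)).obj N)).homology p) =
    Module.finrank R (N.homology p) := by
  let C' := ((Γf (Spec (CommRingCat.of R))).mapHomologicalComplex (ComplexShape.up ℤ)).obj
        (((tilde.functor R).mapHomologicalComplex (ComplexShape.up ℤ)).obj N)
  haveI : (ModuleCat.restrictScalars.{u} (toΓtop R)).PreservesHomology :=
    preservesHomology_restrictScalars _
  have e1 : ((ModuleCat.restrictScalars.{u} (toΓtop R)).mapHomologicalComplex
      (ComplexShape.up ℤ)).obj C' ≅ N :=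
    (NatIso.mapHomologicalComplex (tildeΓfIso R) (ComplexShape.up ℤ)).app N ≪≫
      (Functor.mapHomologicalComplexIdIso _ (ComplexShape.up ℤ)).app N
  have e2 : (((ModuleCat.restrictScalars.{u} (toΓtop R)).mapHomologicalComplex
      (ComplexShape.up ℤ)).obj C').homology p ≅
      (ModuleCat.restrictScalars.{u} (toΓtop R)).obj (C'.homology p) :=
    (C'.sc p).mapHomologyIso (ModuleCat.restrictScalars.{u} (toΓtop R))
  rw [← finrank_restrictScalars_toΓtop R (C'.homology p)]
  exact (e2.symm ≪≫ (HomologicalComplex.homologyFunctor _ _ p).mapIso e1).toLinearEquiv.finrank_eq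

end Groth.Agent.Lib.Helper28.GammaPoint
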