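import Groth.Agent.Lib.Helper28.PCohA

set_option autoImplicit false
universe w v u
open CategoryTheory CategoryTheory.Limits Category Pretriangulated DerivedCategory

namespace Groth.Agent.Lib.Helper28.PC

variable {C : Type u} [Category.{v} C] [Abelian C] [HasDerivedCategory.{w} C]

/-- **(a)**: in a distinguished triangle `X → Y → G →` with `X` `(n+1)`-pseudo-coherent and `Y`
`n`-pseudo-coherent, `G` is `n`-pseudo-coherent. -/
theorem npc_cone_aux (P : ObjectProperty C) [P.IsClosedUnderIsomorphisms] [P.ContainsZero]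
    (hsum : ∀ X Y : C, P X → P Y → P (X ⨯ Y))
    (hqs : PCoh.IsQuasiStableUnderKernels P) (hql : PCoh.IsQuasiLiftable P) (n : ℤ) :
    ∀ (r : ℕ) (b : ℤ), b - n ≤ r → ∀ (T : Triangle (DerivedCategory C)), T ∈ distTriang _ →
      NPC P (n + 1) T.obj₁ → AcycGT T.obj₁ b → NPC P n T.obj₂ → NPC P n T.obj₃ := by
  intro r
  induction r with
  | zero =>
    intro b hb T hT h₁ hac h₂
    exact npc_obj₃_of_acycGT P hsum T hT n (hac.mono (by omega)) h₂
  | succ r ih =>
    intro b hb T hT h₁ hac h₂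
    by_cases hbn : b ≤ n
    · exact npc_obj₃_of_acycGT P hsum T hT n (hac.mono hbn) h₂
    have hbn' : n + 1 ≤ b := by omega
    have hft := finiteType_top P hqs hbn' h₁ hac
    obtain ⟨K₀, hK₀, ⟨eX⟩⟩ := h₁
    obtain ⟨L, hL, ⟨eY⟩⟩ := h₂
    obtain ⟨M, s, hs, f, hf⟩ := right_fac (eX.hom ≫ T.mor₁ ≫ eY.inv)
    have hs' : QuasiIso s := (isIso_Q_map_iff_quasiIso C s).1 hs
    let es : Q.obj M ≅ Q.obj K₀ := asIso (Q.map s)
    let eM : Q.obj M ≅ T.obj₁ := es ≪≫ eX
    have hftM : PCoh.IsOfFiniteType P (M.homology b) :=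
      IsOfFiniteType.of_iso ((homologyFunctor C b).mapIso eM.symm ≪≫ homologyQIso M b) hft
    obtain ⟨G, hG, ψ, hψ⟩ := exists_cell P hql M b hftM
    have hK' : PCoh.IsStrictPC P (n + 1) (CochainComplex.mappingCone (ψ ≫ s)) :=
      isStrictPC_mappingCone P hsum _ (n + 1) (isStrictPC_cell P G hG b _) hK₀
    have hL' : PCoh.IsStrictPC P n (CochainComplex.mappingCone (ψ ≫ f)) :=
      isStrictPC_mappingCone P hsum _ n (isStrictPC_cell P G hG b _) hL
    have t₁ := mappingCone_triangle_distinguished ψ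
    have t₂ := mappingCone_triangle_distinguished (ψ ≫ s)
    have t₃ := mappingCone_triangle_distinguished (ψ ≫ f)
    let e12 := isoTriangleOfIso₁₂ _ _ t₁ t₂ (Iso.refl _) es
      (by
        change Q.map ψ ≫ Q.map s = 𝟙 _ ≫ Q.map (ψ ≫ s)
        rw [id_comp, ← Functor.map_comp])
    have hacM' : AcycGT (Q.obj (CochainComplex.mappingCone ψ)) (b - 1) :=
      acycGT_cone_of_cell _ t₁ b (fun i hi => isZero_homology_Q_cell G b i hi)
        (hac.of_iso eM.symm) ((epi_homologyFunctor_map_Q_iff ψ b).2 hψ)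
    have hQf : Q.map f ≫ eY.hom = eM.hom ≫ T.mor₁ := by
      have : Q.map f = Q.map s ≫ eX.hom ≫ T.mor₁ ≫ eY.inv := by
        rw [hf, IsIso.hom_inv_id_assoc]
      simp [this, eM, es]
    have t₂₃ : Triangle.mk (Q.map f) (eY.hom ≫ T.mor₂)
        (T.mor₃ ≫ (shiftFunctor (DerivedCategory C) (1 : ℤ)).map eM.inv) ∈ distTriang _ := by
      refine isomorphic_distinguished _ hT _ (Triangle.isoMk _ _ eM eY (Iso.refl _) ?_ ?_ ?_)
      · exact hQf
      · exact comp_id _
      · change (T.mor₃ ≫ (shiftFunctor (DerivedCategory C) (1 : ℤ)).map eM.inv) ≫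
          (shiftFunctor (DerivedCategory C) (1 : ℤ)).map eM.hom = 𝟙 _ ≫ T.mor₃
        rw [assoc, ← Functor.map_comp, Iso.inv_hom_id, CategoryTheory.Functor.map_id, comp_id, id_comp]
    have oct := Triangulated.someOctahedron (Q.map_comp ψ f).symm t₁ t₂₃ t₃
    have h3 := ih (b - 1) (by omega) _ oct.mem
      ⟨_, hK', ⟨(Triangle.π₃.mapIso e12).symm⟩⟩ hacM' ⟨_, hL', ⟨Iso.refl _⟩⟩
    exact h3


lemma isZero_homology_of_isZero_X (K : CochainComplex C ℤ) (i : ℤ) (h : IsZero (K.X i)) :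
    IsZero (K.homology i) := by
  rw [← HomologicalComplex.exactAt_iff_isZero_homology]
  exact ShortComplex.exact_of_isZero_X₂ _ h

lemma NPC.exists_acycGT {P : ObjectProperty C} {n : ℤ} {F : DerivedCategory C}
    (h : NPC P n F) : ∃ b, AcycGT F b := by
  obtain ⟨E, ⟨⟨b, hb⟩, _⟩, ⟨e⟩⟩ := h
  refine ⟨b, fun i hi => ?_⟩
  exact ((isZero_homology_of_isZero_X E i (hb i hi)).of_iso (homologyQIso E i)).of_iso
    ((homologyFunctor C i).mapIso e.symm)

section

variable (P : ObjectProperty C) [P.IsClosedUnderIsomorphisms] [P.ContainsZero]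
  (hsum : ∀ X Y : C, P X → P Y → P (X ⨯ Y))
  (hqs : PCoh.IsQuasiStableUnderKernels P) (hql : PCoh.IsQuasiLiftable P)

include hsum hqs hql

/-- **(a)** -/
theorem npc_cone (n : ℤ) (T : Triangle (DerivedCategory C)) (hT : T ∈ distTriang _)
    (h₁ : NPC P (n + 1) T.obj₁) (h₂ : NPC P n T.obj₂) : NPC P n T.obj₃ := by
  obtain ⟨b, hb⟩ := h₁.exists_acycGT
  exact npc_cone_aux P hsum hqs hql n (b - n).toNat b (by omega) T hT h₁ hb h₂

omit [P.IsClosedUnderIsomorphisms] [P.ContainsZero] hsum hqs hql in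
lemma NPC.shift {n : ℤ} {F : DerivedCategory C} (hF : NPC P n F) (m : ℤ) :
    NPC P (n - m) ((shiftFunctor (DerivedCategory C) m).obj F) := by
  obtain ⟨E, ⟨⟨b, hb⟩, hP⟩, ⟨e⟩⟩ := hF
  refine ⟨(shiftFunctor (CochainComplex C ℤ) m).obj E,
    ⟨⟨b - m, fun i hi => ?_⟩, fun i hi => ?_⟩, ⟨?_⟩⟩
  · have : IsZero (E.X (i + m)) := hb (i + m) (by omega)
    exact this
  · have : P (E.X (i + m)) := hP (i + m) (by omega)
    exact this
  · exact ((DerivedCategory.Q (C := C)).commShiftIso m).app E ≪≫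
      (shiftFunctor (DerivedCategory C) m).mapIso e

/-- **(b)** -/
theorem npc_obj₂ (n : ℤ) (T : Triangle (DerivedCategory C)) (hT : T ∈ distTriang _)
    (h₁ : NPC P n T.obj₁) (h₃ : NPC P n T.obj₃) : NPC P n T.obj₂ := by
  have h := npc_cone P hsum hqs hql n T.invRotate (inv_rot_of_distTriang _ hT)
    (by
      have := h₃.shift P (-1)
      rw [sub_neg_eq_add] at this
      exact this) h₁
  exact h

/-- **(c)** -/
theorem npc_obj₁ (n : ℤ) (T : Triangle (DerivedCategory C)) (hT : T ∈ distTriang _)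
    (h₂ : NPC P (n + 1) T.obj₂) (h₃ : NPC P n T.obj₃) : NPC P (n + 1) T.obj₁ := by
  have h : NPC P n ((shiftFunctor (DerivedCategory C) (1 : ℤ)).obj T.obj₁) :=
    npc_cone P hsum hqs hql n T.rotate (rot_of_distTriang _ hT) h₂ h₃
  have h' := h.shift P (-1)
  rw [sub_neg_eq_add] at h'
  exact h'.of_iso ((shiftFunctorCompIsoId (DerivedCategory C) (1 : ℤ) (-1) (by simp)).app T.obj₁)

end

end Groth.Agent.Lib.Helper28.PC
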