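import Mathlib
import Groth.Agent.Lib.Helper28.LpullPerf
import Groth.Agent.Lib.Helper28.PCohB
import Groth.Agent.Lib.Helper32.LeftRes

/-!
# Derived pullback of pseudo-coherent objects (helper28)

* `acycGT_lpull`: `Lf^*` is right t-exact;
* `nIso_lpull_map`: `Lf^*` preserves `m`-isomorphisms;
* `isPseudoCoherentD_lpull`.
-/

set_option autoImplicit false
universe u
open CategoryTheory CategoryTheory.Limits AlgebraicGeometry ZeroObject

namespace Groth.Agent.Lib.Helper28.LpullPC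

attribute [local instance] HasDerivedCategory.standard

open Groth.Agent.Lib.Helper28.LpullCompute Groth.Agent.Lib.Helper28.LpullComp
  Groth.Agent.Lib.Helper28.LpullRestrict Groth.Agent.Lib.Helper30.PerfRestrict
  Groth.Agent.Lib.Helper28.LpullPerf Groth.Agent.Lib.Helper28.PC
  Groth.Agent.Lib.Helper28.TowerFlat

variable {X Y : Scheme.{u}} (f : X ⟶ Y) [DCoh.HasLpull f]

/-- **`Lf^*` is right t-exact.** -/
lemma acycGT_lpull (D : DCoh.D Y) (b : ℤ) (h : AcycGT D b) :
    AcycGT ((DCoh.Lpull f).obj D) b := by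
  haveI : D.IsLE b := (DerivedCategory.isLE_iff D b).2 h
  obtain ⟨K, hK, ⟨e⟩⟩ := D.exists_iso_Q_obj_of_isLE b
  obtain ⟨R, α, hR, hfl, -, hα⟩ := Groth.Agent.Lib.Helper32.LeftRes.exists_of_isStrictlyLE
    (fun M : Y.Modules => FlatMod.IsFlat M)
    (fun M => by
      obtain ⟨L, hL, π, hπ⟩ := Groth.Agent.Lib.Helper30.FlatSES.exists_flat_epi Y.sheaf M
      exact ⟨L, π, (TorOne.flat_iff _).2 hL, hπ⟩)
    ⟨0, isZero_zero _, isFlat_of_isZero _ (isZero_zero _)⟩ K b
  have hPF : PF R := ⟨Groth.Agent.S0953.result R b hR hfl, hfl⟩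
  let e' : (DCoh.Lpull f).obj D ≅ DerivedCategory.Q.obj
      (((Scheme.Modules.pullback f).mapHomologicalComplex (ComplexShape.up ℤ)).obj R) :=
    (DCoh.Lpull f).mapIso (e ≪≫ (asIso (DerivedCategory.Q.map α)).symm) ≪≫ lpullIso f R hPF
  intro i hi
  refine IsZero.of_iso ?_ ((DerivedCategory.homologyFunctor _ i).mapIso e' ≪≫ homologyQIso _ i)
  exact isZero_homology_of_isZero_X _ i
    (Functor.map_isZero (Scheme.Modules.pullback f) (R.isZero_of_isStrictlyLE b i hi))

omit [DCoh.HasLpull f] in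
/-- every morphism of `D(O_Y)` is represented by a morphism of tower-flat complexes. -/
lemma exists_tf_repr {K L : DCoh.D Y} (α : K ⟶ L) :
    ∃ (A B : CochainComplex Y.Modules ℤ) (a : A ⟶ B) (e₁ : K ≅ DerivedCategory.Q.obj A)
      (e₂ : L ≅ DerivedCategory.Q.obj B), TF A ∧ TF B ∧
        α ≫ e₂.hom = e₁.hom ≫ DerivedCategory.Q.map a := by
  let B₀ := DerivedCategory.Q.objPreimage L
  let eL : DerivedCategory.Q.obj B₀ ≅ L := DerivedCategory.Q.objObjPreimageIso L
  obtain ⟨B, pB, hB, hpB⟩ := exists_tf_resolution B₀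
  let e₂ : L ≅ DerivedCategory.Q.obj B := eL.symm ≪≫ (asIso (DerivedCategory.Q.map pB)).symm
  let A₀ := DerivedCategory.Q.objPreimage K
  let eK : DerivedCategory.Q.obj A₀ ≅ K := DerivedCategory.Q.objObjPreimageIso K
  obtain ⟨A', s, hs, g, hβ⟩ := DerivedCategory.right_fac (eK.hom ≫ α ≫ e₂.hom)
  obtain ⟨A, pA, hA, hpA⟩ := exists_tf_resolution A'
  let e₁ : K ≅ DerivedCategory.Q.obj A :=
    eK.symm ≪≫ (asIso (DerivedCategory.Q.map s)).symm ≪≫ (asIso (DerivedCategory.Q.map pA)).symm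
  refine ⟨A, B, pA ≫ g, e₁, e₂, hA, hB, ?_⟩
  have h1 : e₁.hom ≫ DerivedCategory.Q.map (pA ≫ g) =
      eK.inv ≫ inv (DerivedCategory.Q.map s) ≫ DerivedCategory.Q.map g := by
    simp [e₁]
  rw [h1, ← hβ, Iso.inv_hom_id_assoc]

/-- **`Lf^*` preserves `m`-isomorphisms.** -/
theorem nIso_lpull_map {K L : DCoh.D Y} (α : K ⟶ L) (m : ℤ) (h : NIso m α) :
    NIso m ((DCoh.Lpull f).map α) := by
  obtain ⟨A, B, a, e₁, e₂, hA, hB, hcomm⟩ := exists_tf_repr α
  have h1 : NIso m (DerivedCategory.Q.map a) := by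
    have : DerivedCategory.Q.map a = e₁.inv ≫ α ≫ e₂.hom := by
      rw [hcomm, Iso.inv_hom_id_assoc]
    rw [this]
    exact (NIso.of_isIso _).comp (h.comp (NIso.of_isIso _))
  have h2 : AcycGT (DerivedCategory.Q.obj (CochainComplex.mappingCone a)) (m - 1) :=
    acycGT_obj₃_of_nIso _ (DerivedCategory.mappingCone_triangle_distinguished a) m h1
  have hC : PF (CochainComplex.mappingCone a) := pf_stable.cone a hA.pf hB.pf
  have h3 : AcycGT (DerivedCategory.Q.obj
      (((Scheme.Modules.pullback f).mapHomologicalComplex (ComplexShape.up ℤ)).obj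
        (CochainComplex.mappingCone a))) (m - 1) :=
    (acycGT_lpull f _ _ h2).of_iso (lpullIso f _ hC)
  have h4 : AcycGT (DerivedCategory.Q.obj (CochainComplex.mappingCone
      (((Scheme.Modules.pullback f).mapHomologicalComplex (ComplexShape.up ℤ)).map a))) (m - 1) :=
    h3.of_iso (DerivedCategory.Q.mapIso
      (CochainComplex.mappingCone.mapHomologicalComplexIso a (Scheme.Modules.pullback f)))
  have h5 : NIso m (DerivedCategory.Q.map
      (((Scheme.Modules.pullback f).mapHomologicalComplex (ComplexShape.up ℤ)).map a)) :=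
    nIso_mor₁_of_acycGT _ (DerivedCategory.mappingCone_triangle_distinguished _) m h4
  have hnat := lpullIso_hom_naturality f hA.pf hB.pf a
  have h6 : NIso m ((DCoh.Lpull f).map (DerivedCategory.Q.map a)) := by
    have : (DCoh.Lpull f).map (DerivedCategory.Q.map a) = (lpullIso f A hA.pf).hom ≫
        DerivedCategory.Q.map
          (((Scheme.Modules.pullback f).mapHomologicalComplex (ComplexShape.up ℤ)).map a) ≫
        (lpullIso f B hB.pf).inv := by
      rw [← Category.assoc, ← hnat, Category.assoc, Iso.hom_inv_id, Category.comp_id]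
    rw [this]
    exact (NIso.of_isIso _).comp (h5.comp (NIso.of_isIso _))
  have : (DCoh.Lpull f).map α = (DCoh.Lpull f).map e₁.hom ≫
      (DCoh.Lpull f).map (DerivedCategory.Q.map a) ≫ (DCoh.Lpull f).map e₂.inv := by
    rw [← CategoryTheory.Functor.map_comp, ← CategoryTheory.Functor.map_comp, ← Category.assoc,
      ← hcomm, Category.assoc, Iso.hom_inv_id, Category.comp_id]
  rw [this]
  exact (NIso.of_isIso _).comp (h6.comp (NIso.of_isIso _))

lemma pcObj_lpull {L : DCoh.D Y} {m : ℤ} (h : PCObj m L) : PCObj m ((DCoh.Lpull f).obj L) := by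
  obtain ⟨E, α, hE, h1, h2⟩ := h
  have hn := nIso_lpull_map f α m ⟨h1, h2⟩
  have hPF := pf_of_isStrictlyPerfect E hE
  have hn' : NIso m ((lpullIso f E hPF).inv ≫ (DCoh.Lpull f).map α) := (NIso.of_isIso _).comp hn
  exact ⟨_, (lpullIso f E hPF).inv ≫ (DCoh.Lpull f).map α, isStrictlyPerfect_pullback f E hE,
    hn'.1, hn'.2⟩

/-- **the derived pullback of an `m`-pseudo-coherent object is `m`-pseudo-coherent.** -/
theorem isPseudoCoherentD_lpull (m : ℤ) (E : DCoh.D Y) (hE : DCoh.IsPseudoCoherentD m E) :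
    DCoh.IsPseudoCoherentD m ((DCoh.Lpull f).obj E) := by
  rw [isPseudoCoherentD_iff] at hE ⊢
  intro x
  obtain ⟨V, hxV, hV⟩ := hE (f.base x)
  refine ⟨f ⁻¹ᵁ V, hxV, ?_⟩
  haveI := hasLpull (f ∣_ V)
  exact (pcObj_lpull (f ∣_ V) hV).of_iso ((restrictLpullIso f V).app E).symm

end Groth.Agent.Lib.Helper28.LpullPC
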