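import Mathlib
import Groth.Agent.Lib.Helper28.GammaTilde
import Groth.Agent.Lib.Helper28.EulerPerf
import Groth.Agent.Lib.Helper28.LpullPC
import Groth.Agent.Lib.Helper28.LpullTilde
import Groth.Agent.Lib.Helper28.BettiRing
import Groth.Agent.Lib.Helper49.TildeFinLocFree

/-!
# Upper semicontinuity of Betti numbers of pseudo-coherent objects (helper28)

* `betti_eq_dRank`: on an affine chart `ι : Spec R ⟶ X` where `E` is `(p-1)`-approximated by a
  strictly perfect complex `P`, `β_p(x) = dim H^p(Γ(P) ⊗_R κ)`;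
* `isOpen_betti_lt`: `{x | β_p(x) < n}` is open for `(p-1)`-pseudo-coherent `E`.
-/

set_option autoImplicit false
universe u
open CategoryTheory CategoryTheory.Limits AlgebraicGeometry Opposite TopologicalSpace

namespace Groth.Agent.Lib.Helper28.BettiPC

attribute [local instance] HasDerivedCategory.standard

open Groth.Agent.Lib.Helper28.LpullCompute Groth.Agent.Lib.Helper28.LpullComp
  Groth.Agent.Lib.Helper28.LpullRestrict Groth.Agent.Lib.Helper28.LpullPerf
  Groth.Agent.Lib.Helper28.GammaPoint Groth.Agent.Lib.Helper18.LimFinLocFree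
  Groth.Agent.Lib.Helper30.PerfRestrict Groth.Agent.Lib.Helper28.LpullTilde
  Groth.Agent.Lib.Helper28.PC

variable {R : CommRingCat.{u}}

instance : (moduleSpecΓFunctor (R := R)).Additive :=
  Functor.additive_of_iso (moduleSpecΓIso R).symm

/-- the complex of global sections of a complex of modules on `Spec R`. -/
noncomputable abbrev ΓCx (P : CochainComplex (Spec (CommRingCat.of R)).Modules ℤ) :
    CochainComplex (ModuleCat.{u} R) ℤ :=
  ((moduleSpecΓFunctor (R := R)).mapHomologicalComplex (ComplexShape.up ℤ)).obj P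

/-- a complex of quasi-coherent modules on `Spec R` is `(ΓCx P)~`. -/
noncomputable def tildeΓCxIso (P : CochainComplex (Spec (CommRingCat.of R)).Modules ℤ)
    (hP : ∀ i, (P.X i).IsQuasicoherent) :
    ((tilde.functor R).mapHomologicalComplex (ComplexShape.up ℤ)).obj (ΓCx P) ≅ P :=
  HomologicalComplex.Hom.isoOfComponents
    (fun i => haveI := hP i
      @asIso _ _ _ _ (Scheme.Modules.fromTildeΓ (P.X i))
        (Scheme.Modules.isIso_fromTildeΓ_of_isQuasicoherent (R := R) (P.X i)))
    (fun i j _ => ((Scheme.Modules.fromTildeΓNatTrans (R := R)).naturality (P.d i j)).symm)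

lemma finite_projective_ΓCx (P : CochainComplex (Spec (CommRingCat.of R)).Modules ℤ)
    (hP : DCoh.IsStrictlyPerfect P) (i : ℤ) :
    Module.Finite R ((ΓCx P).X i) ∧ Module.Projective R ((ΓCx P).X i) := by
  haveI := Groth.Agent.Lib.Helper49.isQuasicoherent_of_isFinLocFree (P.X i) (hP.2 i)
  have e : tilde ((ΓCx P).X i) ≅ P.X i :=
    @asIso _ _ _ _ (Scheme.Modules.fromTildeΓ (P.X i))
        (Scheme.Modules.isIso_fromTildeΓ_of_isQuasicoherent (R := R) (P.X i))
  exact (Groth.Agent.Lib.Helper49.isFinLocFree_tilde_iff _).mp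
    (isFinLocFree_of_iso e.symm (hP.2 i))

variable {X : Scheme.{u}} (ι : Spec (CommRingCat.of R) ⟶ X) [IsOpenImmersion ι]

/-- **the `p`-th Betti number at `x` of an object which is `(p-1)`-approximated by a strictly
perfect complex `P` on an affine chart is `dRank` of the global sections of `P`.** -/
theorem betti_eq_dRank (E : DCoh.D X) (p : ℤ)
    (P : CochainComplex (Spec (CommRingCat.of R)).Modules ℤ) (hP : DCoh.IsStrictlyPerfect P)
    (α : DerivedCategory.Q.obj P ⟶ (rD ι).obj E) (hα : NIso (p - 1) α)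
    (x : X) [DCoh.HasLpull (X.fromSpecResidueField x)]
    (ψ : R ⟶ X.residueField x) (hfac : specMap ψ ≫ ι = X.fromSpecResidueField x) :
    PerfD.betti E x p =
      CohIII.dRank (ΓCx P) p ⟨RingHom.ker ψ.hom, RingHom.ker_isPrime _⟩ := by
  let g : Spec (X.residueField x) ⟶ Spec (CommRingCat.of R) := specMap ψ
  haveI := hasLpull g
  haveI := hasLpull ι
  haveI := hasLpull (g ≫ ι)
  let e1 : (DCoh.Lpull (X.fromSpecResidueField x)).obj E ≅
      (DCoh.Lpull g).obj ((rD ι).obj E) :=
    (lpullCongr hfac.symm).app E ≪≫ ((compIso g ι).symm).app E ≪≫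
      (DCoh.Lpull g).mapIso ((lpullRestrictIso ι).app E)
  have hPF := pf_of_isStrictlyPerfect P hP
  let C := ((Scheme.Modules.pullback g).mapHomologicalComplex (ComplexShape.up ℤ)).obj P
  let a : DerivedCategory.Q.obj C ⟶ (DCoh.Lpull g).obj ((rD ι).obj E) :=
    (lpullIso g P hPF).inv ≫ (DCoh.Lpull g).map α
  have ha : IsIso ((DerivedCategory.homologyFunctor _ p).map a) := by
    have hn := LpullPC.nIso_lpull_map g α (p - 1) hα
    have := hn.1 p (by omega)
    rw [Functor.map_comp]
    infer_instance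
  let e2 : DCoh.HD ((DCoh.Lpull (X.fromSpecResidueField x)).obj E) p ≅
      DCoh.HD (DerivedCategory.Q.obj C) p :=
    (DerivedCategory.homologyFunctor _ p).mapIso e1 ≪≫
      (asIso ((DerivedCategory.homologyFunctor _ p).map a)).symm
  have h1 : Module.finrank (Coh.Γtop (Spec (X.residueField x)))
      ((DCoh.HD ((DCoh.Lpull (X.fromSpecResidueField x)).obj E) p).val.obj (op ⊤)) =
      Module.finrank (Coh.Γtop (Spec (X.residueField x)))
        ((DCoh.HD (DerivedCategory.Q.obj C) p).val.obj (op ⊤)) :=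
    ((Γf (Spec (X.residueField x))).mapIso e2).toLinearEquiv.finrank_eq
  unfold PerfD.betti
  rw [h1, finrank_hd (DerivedCategory.Q.obj C) C (Iso.refl _) p]
  have hqc : ∀ i, (P.X i).IsQuasicoherent := fun i =>
    Groth.Agent.Lib.Helper49.isQuasicoherent_of_isFinLocFree (P.X i) (hP.2 i)
  let e3 : C ≅ ((tilde.functor (X.residueField x)).mapHomologicalComplex (ComplexShape.up ℤ)).obj
      (CohIII.bcCx ψ.hom (ΓCx P)) :=
    ((Scheme.Modules.pullback g).mapHomologicalComplex (ComplexShape.up ℤ)).mapIso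
      (tildeΓCxIso P hqc).symm ≪≫ (cxIso ψ).app (ΓCx P)
  have h2 : Module.finrank (Coh.Γtop (Spec (X.residueField x)))
      ((((Γf (Spec (X.residueField x))).mapHomologicalComplex (ComplexShape.up ℤ)).obj C).homology p) =
      Module.finrank (Coh.Γtop (Spec (X.residueField x)))
      ((((Γf (Spec (X.residueField x))).mapHomologicalComplex (ComplexShape.up ℤ)).obj
        (((tilde.functor (X.residueField x)).mapHomologicalComplex (ComplexShape.up ℤ)).obj
      (CohIII.bcCx ψ.hom (ΓCx P)))).homology p) :=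
    ((HomologicalComplex.homologyFunctor _ _ p).mapIso
      (((Γf (Spec (X.residueField x))).mapHomologicalComplex (ComplexShape.up ℤ)).mapIso
        e3)).toLinearEquiv.finrank_eq
  rw [h2]
  exact (finrank_homology_Γf_tilde (X.residueField x) (CohIII.bcCx ψ.hom (ΓCx P)) p).trans
    (Groth.Agent.Lib.Helper28.BettiRing.finrank_homology_bcCx_eq_dRank ψ.hom (ΓCx P) p)

omit [IsOpenImmersion ι] in
lemma ker_eq [IsOpenImmersion ι] (y : Spec (CommRingCat.of R)) (ψ : R ⟶ X.residueField (ι y))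
    (hfac : specMap ψ ≫ ι = X.fromSpecResidueField (ι y)) :
    (⟨RingHom.ker ψ.hom, RingHom.ker_isPrime _⟩ : PrimeSpectrum R) = y := by
  let pt : Spec (X.residueField (ι y)) := default
  have h1 : ι ((specMap ψ) pt) = ι y := by
    rw [← Scheme.Hom.comp_apply, hfac, Scheme.fromSpecResidueField_apply]
  have h2 : (specMap ψ) pt = y := ι.isOpenEmbedding.injective h1
  refine Eq.trans ?_ h2
  apply PrimeSpectrum.ext
  have h3 : pt.asIdeal = ⊥ := by
    rcases Ideal.eq_bot_or_top pt.asIdeal with h | h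
    · exact h
    · exact absurd h pt.isPrime.ne_top
  show RingHom.ker ψ.hom = Ideal.comap ψ.hom pt.asIdeal
  rw [h3]
  rfl

theorem isOpen_betti_lt_chart [∀ x : X, DCoh.HasLpull (X.fromSpecResidueField x)]
    (E : DCoh.D X) (p : ℤ) (hPC : PCObj (p - 1) ((rD ι).obj E)) (n : ℕ) :
    IsOpen {y : Spec (CommRingCat.of R) | PerfD.betti E (ι y) p < n} := by
  obtain ⟨P, α, hP, h1, h2⟩ := hPC
  have key : ∀ y : Spec (CommRingCat.of R),
      PerfD.betti E (ι y) p = CohIII.dRank (ΓCx P) p y := by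
    intro y
    let g : Spec (X.residueField (ι y)) ⟶ Spec (CommRingCat.of R) :=
      IsOpenImmersion.lift ι (X.fromSpecResidueField (ι y)) (by
        rw [Scheme.range_fromSpecResidueField]
        rintro _ rfl
        exact ⟨y, rfl⟩)
    let ψ : R ⟶ X.residueField (ι y) := Spec.preimage g
    have hfac : specMap ψ ≫ ι = X.fromSpecResidueField (ι y) := by
      show Spec.map (Spec.preimage g) ≫ ι = _
      rw [Spec.map_preimage]
      exact IsOpenImmersion.lift_fac _ _ _
    rw [betti_eq_dRank ι E p P hP α ⟨h1, h2⟩ (ι y) ψ hfac, ker_eq ι y ψ hfac]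
  simp_rw [key]
  have husc := Groth.Agent.Lib.Helper28.BettiRing.dRank_upperSemicontinuous (ΓCx P)
    (fun i => (finite_projective_ΓCx P hP i).1) p (p + 1) (by simp)
    (finite_projective_ΓCx P hP (p + 1)).2
  exact (upperSemicontinuous_iff_isOpen_preimage.mp husc) n

end Groth.Agent.Lib.Helper28.BettiPC

namespace Groth.Agent.Lib.Helper28.BettiPC

attribute [local instance] HasDerivedCategory.standard

open Groth.Agent.Lib.Helper30.PerfRestrict

/-- **upper semicontinuity of `β_p` for a `(p-1)`-pseudo-coherent object.** -/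
theorem isOpen_betti_lt (X : Scheme.{u}) [∀ x : X, DCoh.HasLpull (X.fromSpecResidueField x)]
    (E : DCoh.D X) (p : ℤ) (hE : DCoh.IsPseudoCoherentD (p - 1) E) (n : ℕ) :
    IsOpen {x : X | PerfD.betti E x p < n} := by
  rw [isOpen_iff_forall_mem_open]
  intro x₀ hx₀
  obtain ⟨V, hx₀V, hV⟩ := (isPseudoCoherentD_iff (p - 1) E).mp hE x₀
  obtain ⟨U, hU, hxU, hUV⟩ : ∃ U : X.Opens, IsAffineOpen U ∧ x₀ ∈ U ∧ U ≤ V := by
    obtain ⟨_, ⟨U, hU : IsAffineOpen U, rfl⟩, hxU, hUV⟩ :=
      X.isBasis_affineOpens.exists_subset_of_mem_open hx₀V V.2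
    exact ⟨U, hU, hxU, hUV⟩
  have hPCU : PCObj (p - 1) ((rD U.ι).obj E) := hV.of_le hUV
  let ι : Spec (CommRingCat.of Γ(X, U)) ⟶ X := hU.fromSpec
  haveI : IsOpenImmersion ι := hU.isOpenImmersion_fromSpec
  have hPC : PCObj (p - 1) ((rD ι).obj E) :=
    PCObj.of_fac hU.isoSpec.inv U.ι ι rfl hPCU
  have hopen := isOpen_betti_lt_chart ι E p hPC n
  obtain ⟨y₀, rfl⟩ : ∃ y₀ : Spec (CommRingCat.of Γ(X, U)), ι y₀ = x₀ := by
    have : x₀ ∈ Set.range hU.fromSpec := by
      rw [hU.range_fromSpec]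
      exact hxU
    exact this
  refine ⟨ι '' {y | PerfD.betti E (ι y) p < n}, ?_, ι.isOpenEmbedding.isOpenMap _ hopen,
    ⟨y₀, hx₀, rfl⟩⟩
  rintro _ ⟨y, hy, rfl⟩
  exact hy

end Groth.Agent.Lib.Helper28.BettiPC
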