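import Mathlib
import Groth.Agent.Lib.Helper28.BettiPC

/-!
# Betti numbers and derived pullback (helper28)

* `finrank_homology_Γf_pullback`: invariance of cohomology dimensions under field extension;
* `betti_lpull`: `β_k(y; Lf^*E) = β_k(f y; E)` for perfect `E`.
-/

set_option autoImplicit false
universe u
open CategoryTheory CategoryTheory.Limits AlgebraicGeometry Opposite TopologicalSpace

namespace Groth.Agent.Lib.Helper28.BettiPull

attribute [local instance] HasDerivedCategory.standard

open Groth.Agent.Lib.Helper28.LpullCompute Groth.Agent.Lib.Helper28.LpullComp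
  Groth.Agent.Lib.Helper28.LpullRestrict Groth.Agent.Lib.Helper28.LpullPerf
  Groth.Agent.Lib.Helper28.GammaPoint Groth.Agent.Lib.Helper18.LimFinLocFree
  Groth.Agent.Lib.Helper30.PerfRestrict Groth.Agent.Lib.Helper28.LpullTilde
  Groth.Agent.Lib.Helper28.PC Groth.Agent.Lib.Helper28.BettiPC
  Groth.Agent.Lib.Helper28.EulerPerf

/-- cohomology of global sections of a complex of quasi-coherent modules on `Spec κ`, in terms of
`ΓCx`. -/
lemma finrank_homology_Γf_eq {κ : CommRingCat.{u}}
    (C : CochainComplex (Spec (CommRingCat.of κ)).Modules ℤ)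
    (hC : ∀ i, (C.X i).IsQuasicoherent) (p : ℤ) :
    Module.finrank (Coh.Γtop (Spec (CommRingCat.of κ)))
      ((((Γf (Spec (CommRingCat.of κ))).mapHomologicalComplex (ComplexShape.up ℤ)).obj C).homology p) =
    Module.finrank κ ((ΓCx C).homology p) := by
  rw [← finrank_homology_Γf_tilde κ (ΓCx C) p]
  exact ((HomologicalComplex.homologyFunctor _ _ p).mapIso
      (((Γf (Spec (CommRingCat.of κ))).mapHomologicalComplex (ComplexShape.up ℤ)).mapIso
        (tildeΓCxIso C hC).symm)).toLinearEquiv.finrank_eq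

/-- field extension invariance of the dimensions of cohomology. -/
theorem finrank_homology_Γf_pullback {κ κ' : CommRingCat.{u}} (hκ : IsField κ) (hκ' : IsField κ')
    (φ : κ ⟶ κ') (C : CochainComplex (Spec (CommRingCat.of κ)).Modules ℤ)
    (hC : ∀ i, (C.X i).IsQuasicoherent) (p : ℤ) :
    Module.finrank (Coh.Γtop (Spec (CommRingCat.of κ')))
      ((((Γf (Spec (CommRingCat.of κ'))).mapHomologicalComplex (ComplexShape.up ℤ)).obj
        (((Scheme.Modules.pullback (specMap φ)).mapHomologicalComplex
          (ComplexShape.up ℤ)).obj C)).homology p) =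
    Module.finrank (Coh.Γtop (Spec (CommRingCat.of κ)))
      ((((Γf (Spec (CommRingCat.of κ))).mapHomologicalComplex (ComplexShape.up ℤ)).obj C).homology p) := by
  rw [finrank_homology_Γf_eq C hC p]
  let e3 : ((Scheme.Modules.pullback (specMap φ)).mapHomologicalComplex (ComplexShape.up ℤ)).obj C ≅
      ((tilde.functor κ').mapHomologicalComplex (ComplexShape.up ℤ)).obj
        (CohIII.bcCx φ.hom (ΓCx C)) :=
    ((Scheme.Modules.pullback (specMap φ)).mapHomologicalComplex (ComplexShape.up ℤ)).mapIso
      (tildeΓCxIso C hC).symm ≪≫ (cxIso φ).app (ΓCx C)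
  have h2 := ((HomologicalComplex.homologyFunctor _ _ p).mapIso
      (((Γf (Spec (CommRingCat.of κ'))).mapHomologicalComplex (ComplexShape.up ℤ)).mapIso
        e3)).toLinearEquiv.finrank_eq
  refine h2.trans ((finrank_homology_Γf_tilde κ' (CohIII.bcCx φ.hom (ΓCx C)) p).trans ?_)
  letI := hκ.toField
  letI := hκ'.toField
  exact Groth.Agent.Lib.Helper12.FlatCx.finrank_homology_bcCx_field φ.hom (ΓCx C) p

/-- **Betti numbers are compatible with derived pullback** (for perfect objects). -/
theorem betti_lpull {Y X : Scheme.{u}} (f : Y ⟶ X) [DCoh.HasLpull f] (E : DCoh.D X)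
    (hE : DCoh.IsPerfect E) (y : Y) [DCoh.HasLpull (Y.fromSpecResidueField y)]
    [DCoh.HasLpull (X.fromSpecResidueField (f y))] (k : ℤ) :
    PerfD.betti ((DCoh.Lpull f).obj E) y k = PerfD.betti E (f y) k := by
  obtain ⟨V, hxV, P₀, hP₀, ⟨e₀⟩⟩ := (isPerfect_iff E).mp hE (f y)
  let j := pointLift V (f y) hxV
  let C := ((Scheme.Modules.pullback j).mapHomologicalComplex (ComplexShape.up ℤ)).obj P₀
  have hC : DCoh.IsStrictlyPerfect C := isStrictlyPerfect_pullback j P₀ hP₀
  let eC : (DCoh.Lpull (X.fromSpecResidueField (f y))).obj E ≅ DerivedCategory.Q.obj C :=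
    lpullPointIso E V P₀ hP₀ e₀ (f y) hxV
  let φ : X.residueField (f y) ⟶ Y.residueField y := f.residueFieldMap y
  let g : Spec (Y.residueField y) ⟶ Spec (X.residueField (f y)) := specMap φ
  have hfac : g ≫ X.fromSpecResidueField (f y) = Y.fromSpecResidueField y ≫ f :=
    Scheme.Hom.SpecMap_residueFieldMap_fromSpecResidueField f y
  haveI := hasLpull g
  haveI := hasLpull (g ≫ X.fromSpecResidueField (f y))
  haveI := hasLpull (Y.fromSpecResidueField y ≫ f)
  let eK : (DCoh.Lpull (Y.fromSpecResidueField y)).obj ((DCoh.Lpull f).obj E) ≅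
      DerivedCategory.Q.obj
        (((Scheme.Modules.pullback g).mapHomologicalComplex (ComplexShape.up ℤ)).obj C) :=
    (compIso (Y.fromSpecResidueField y) f).app E ≪≫ (lpullCongr hfac.symm).app E ≪≫
      ((compIso g (X.fromSpecResidueField (f y))).symm).app E ≪≫ (DCoh.Lpull g).mapIso eC ≪≫
      lpullIso g C (pf_of_isStrictlyPerfect C hC)
  have hqc : ∀ i, (C.X i).IsQuasicoherent := fun i =>
    Groth.Agent.Lib.Helper49.isQuasicoherent_of_isFinLocFree (C.X i) (hC.2 i)
  unfold PerfD.betti
  rw [finrank_hd _ _ eK k, finrank_hd _ _ eC k]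
  exact finrank_homology_Γf_pullback (Field.toIsField _) (Field.toIsField _) φ C hqc k

end Groth.Agent.Lib.Helper28.BettiPull
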