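import Mathlib
import Groth.Agent.Lib.Helper28.BettiPull
import Groth.Agent.Lib.Helper30.StrictPerfHomology

/-!
# Betti numbers of a finite locally free module placed in one degree (helper28)
-/

set_option autoImplicit false
universe u
open CategoryTheory CategoryTheory.Limits AlgebraicGeometry Opposite TopologicalSpace

namespace Groth.Agent.Lib.Helper28.BettiSingle

attribute [local instance] HasDerivedCategory.standard

open Groth.Agent.Lib.Helper28.LpullCompute Groth.Agent.Lib.Helper28.LpullComp
  Groth.Agent.Lib.Helper28.LpullRestrict Groth.Agent.Lib.Helper28.LpullPerf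
  Groth.Agent.Lib.Helper28.GammaPoint Groth.Agent.Lib.Helper18.LimFinLocFree
  Groth.Agent.Lib.Helper30.PerfRestrict Groth.Agent.Lib.Helper28.EulerPerf

/-- the complex with `W` placed in degree `i`. -/
noncomputable abbrev sgl {Y : Scheme.{u}} (W : Y.Modules) (i : ℤ) : CochainComplex Y.Modules ℤ :=
  (HomologicalComplex.single Y.Modules (ComplexShape.up ℤ) i).obj W

lemma isStrictlyPerfect_sgl {Y : Scheme.{u}} (W : Y.Modules) (hW : FlatMod.IsFinLocFree W)
    (i : ℤ) : DCoh.IsStrictlyPerfect (sgl W i) := by
  refine ⟨⟨i, i, fun k hk => ?_⟩, fun k => ?_⟩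
  · exact HomologicalComplex.isZero_single_obj_X (ComplexShape.up ℤ) i W k (by omega)
  · by_cases hk : k = i
    · subst hk
      exact isFinLocFree_of_iso
        (HomologicalComplex.singleObjXSelf (ComplexShape.up ℤ) k W).symm hW
    · exact Groth.Agent.Lib.Helper30.StrictPerfHomology.isFinLocFree_of_isZero
        (HomologicalComplex.isZero_single_obj_X (ComplexShape.up ℤ) i W k hk)

lemma finrank_homology_of_d_eq_zero {A : Type u} [Ring A]
    (C : CochainComplex (ModuleCat.{u} A) ℤ) (i : ℤ)
    (h1 : C.d (i - 1) i = 0) (h2 : C.d i (i + 1) = 0) :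
    Module.finrank A (C.homology i) = Module.finrank A (C.X i) := by
  have e1 : C.cycles i ≅ C.homology i := C.isoHomologyπ (i - 1) i (by simp) h1
  have e2 : C.cycles i ≅ C.X i := C.iCyclesIso i (i + 1) (by simp) h2
  exact (e1.symm ≪≫ e2).toLinearEquiv.finrank_eq

/-- **Betti numbers of a finite locally free module placed in degree `i`.** -/
theorem betti_sgl {Y : Scheme.{u}} (W : Y.Modules) (hW : FlatMod.IsFinLocFree W) (i : ℤ)
    (K : DCoh.D Y) (e : K ≅ DerivedCategory.Q.obj (sgl W i)) (y : Y) (r : ℕ)
    (hr : RankAt W r y) [DCoh.HasLpull (Y.fromSpecResidueField y)] (k : ℤ) :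
    PerfD.betti K y k = if k = i then r else 0 := by
  have hS := isStrictlyPerfect_sgl W hW i
  let g := Y.fromSpecResidueField y
  let C := ((Scheme.Modules.pullback g).mapHomologicalComplex (ComplexShape.up ℤ)).obj (sgl W i)
  let eK : (DCoh.Lpull g).obj K ≅ DerivedCategory.Q.obj C :=
    (DCoh.Lpull g).mapIso e ≪≫ lpullIso g (sgl W i) (pf_of_isStrictlyPerfect _ hS)
  unfold PerfD.betti
  rw [finrank_hd _ _ eK k]
  split_ifs with hk
  · subst hk
    have hd : ∀ a b, (((Γf (Spec (Y.residueField y))).mapHomologicalComplex
        (ComplexShape.up ℤ)).obj C).d a b = 0 := by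
      intro a b
      show (Γf _).map ((Scheme.Modules.pullback g).map ((sgl W k).d a b)) = 0
      rw [HomologicalComplex.single_obj_d, Functor.map_zero, Functor.map_zero]
    rw [finrank_homology_of_d_eq_zero _ k (hd _ _) (hd _ _)]
    haveI := Groth.Agent.Lib.Helper49.isQuasicoherent_of_isFinLocFree W hW
    have h1 : RankAt W r (g default) := by
      rw [Scheme.fromSpecResidueField_apply]
      exact hr
    have h2 := (finrank_of_rankAt _ r (h1.pullback g W)).2
    refine Eq.trans ?_ h2
    exact ((Γf (Spec (Y.residueField y))).mapIso ((Scheme.Modules.pullback g).mapIso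
      (HomologicalComplex.singleObjXSelf (ComplexShape.up ℤ) k W))).toLinearEquiv.finrank_eq
  · have hz : IsZero ((((Γf (Spec (Y.residueField y))).mapHomologicalComplex
        (ComplexShape.up ℤ)).obj C).X k) :=
      Functor.map_isZero (Γf (Spec (Y.residueField y)))
        (Functor.map_isZero (Scheme.Modules.pullback g)
          (HomologicalComplex.isZero_single_obj_X (ComplexShape.up ℤ) i W k hk))
    have hz' := ShortComplex.isZero_homology_of_isZero_X₂
      ((((Γf (Spec (Y.residueField y))).mapHomologicalComplex
        (ComplexShape.up ℤ)).obj C).sc k) hz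
    haveI : Subsingleton ((((Γf (Spec (Y.residueField y))).mapHomologicalComplex
        (ComplexShape.up ℤ)).obj C).homology k) := ModuleCat.subsingleton_of_isZero hz'
    haveI : Nontrivial (Coh.Γtop (Spec (Y.residueField y))) := nontrivial_Γ_residueField Y y
    exact Module.finrank_zero_of_subsingleton

end Groth.Agent.Lib.Helper28.BettiSingle
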