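import Mathlib

/-!
# Complexes over a field and complexes with zero differentials

* `isIso_f_of_quasiIso_of_d_eq_zero`: a quasi-isomorphism between complexes with zero
  differentials is a termwise isomorphism.
* `homCx V`, `sect V`: a complex `V` of vector spaces receives a quasi-isomorphism from the complex
  of its cohomology spaces (with zero differentials).
* `finite_homology`, `d_eq_zero_of_finrank_homology_eq`.
-/

set_option autoImplicit false
universe u v
open CategoryTheory CategoryTheory.Limits

namespace Groth.Agent.Lib.Helper28.MinimalCx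

section ZeroDiff

variable {C : Type u} [Category.{v} C] [Abelian C]

/-- a quasi-isomorphism between complexes with zero differentials is a termwise isomorphism -/
theorem isIso_f_of_quasiIso_of_d_eq_zero {W W' : CochainComplex C ℤ}
    (hW : ∀ i j : ℤ, W.d i j = 0) (hW' : ∀ i j : ℤ, W'.d i j = 0)
    (α : W ⟶ W') [QuasiIso α] (i : ℤ) : IsIso (α.f i) := by
  haveI h1 : IsIso (W.iCycles i) := W.isIso_iCycles i (i + 1) (by simp) (hW _ _)
  haveI h2 : IsIso (W'.iCycles i) := W'.isIso_iCycles i (i + 1) (by simp) (hW' _ _)
  haveI h3 : IsIso (W.homologyπ i) := W.isIso_homologyπ (i - 1) i (by simp) (hW _ _)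
  haveI h4 : IsIso (W'.homologyπ i) := W'.isIso_homologyπ (i - 1) i (by simp) (hW' _ _)
  haveI h5 : IsIso (HomologicalComplex.homologyMap α i) := inferInstance
  have e1 : HomologicalComplex.cyclesMap α i ≫ W'.iCycles i = W.iCycles i ≫ α.f i :=
    HomologicalComplex.cyclesMap_i α i
  have e2 : W.homologyπ i ≫ HomologicalComplex.homologyMap α i =
      HomologicalComplex.cyclesMap α i ≫ W'.homologyπ i :=
    HomologicalComplex.homologyπ_naturality α i
  have e3 : HomologicalComplex.cyclesMap α i =
      W.homologyπ i ≫ HomologicalComplex.homologyMap α i ≫ inv (W'.homologyπ i) := by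
    rw [← Category.assoc, e2, Category.assoc, IsIso.hom_inv_id, Category.comp_id]
  have e4 : α.f i = inv (W.iCycles i) ≫ HomologicalComplex.cyclesMap α i ≫ W'.iCycles i := by
    rw [e1, IsIso.inv_hom_id_assoc]
  rw [e4, e3]
  infer_instance

end ZeroDiff

section Field

variable {k : Type u} [Field k] (V : CochainComplex (ModuleCat.{u} k) ℤ)

/-- the complex of the cohomology modules of `V`, with zero differentials -/
noncomputable abbrev homCx : CochainComplex (ModuleCat.{u} k) ℤ where
  X i := V.homology i
  d _ _ := 0
  shape _ _ _ := rfl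
  d_comp_d' _ _ _ _ _ := zero_comp

lemma homCx_d (i j : ℤ) : (homCx V).d i j = 0 := rfl

instance (M : ModuleCat.{u} k) : Projective M := by
  haveI : Module.Free k M := Module.Free.of_divisionRing k M
  haveI : Module.Projective k M := Module.Projective.of_free
  exact (IsProjective.iff_projective (R := k) (P := M)).1 inferInstance

/-- a section of `cycles → homology` -/
noncomputable def σ (i : ℤ) : V.homology i ⟶ V.cycles i :=
  Projective.factorThru (𝟙 (V.homology i)) (V.homologyπ i)

@[reassoc (attr := simp)]
lemma σ_π (i : ℤ) : σ V i ≫ V.homologyπ i = 𝟙 _ :=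
  Projective.factorThru_comp _ _

/-- the quasi-isomorphism from the cohomology complex -/
noncomputable def sect : homCx V ⟶ V where
  f i := σ V i ≫ V.iCycles i
  comm' i j _ := by
    change (σ V i ≫ V.iCycles i) ≫ V.d i j = 0 ≫ _
    rw [Category.assoc, HomologicalComplex.iCycles_d, comp_zero, zero_comp]

instance : QuasiIso (sect V) := by
  rw [quasiIso_iff]
  intro i
  rw [quasiIsoAt_iff_isIso_homologyMap]
  haveI h1 : IsIso ((homCx V).iCycles i) :=
    (homCx V).isIso_iCycles i (i + 1) (by simp) (homCx_d V _ _)
  haveI h3 : IsIso ((homCx V).homologyπ i) :=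
    (homCx V).isIso_homologyπ (i - 1) i (by simp) (homCx_d V _ _)
  have e1 : HomologicalComplex.cyclesMap (sect V) i ≫ V.iCycles i =
      (homCx V).iCycles i ≫ (sect V).f i :=
    HomologicalComplex.cyclesMap_i (sect V) i
  have e1' : HomologicalComplex.cyclesMap (sect V) i = (homCx V).iCycles i ≫ σ V i := by
    rw [← cancel_mono (V.iCycles i), e1]
    change _ = ((homCx V).iCycles i ≫ σ V i) ≫ V.iCycles i
    rw [Category.assoc]
    rfl
  have e2 : (homCx V).homologyπ i ≫ HomologicalComplex.homologyMap (sect V) i =
      HomologicalComplex.cyclesMap (sect V) i ≫ V.homologyπ i :=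
    HomologicalComplex.homologyπ_naturality (sect V) i
  rw [e1', Category.assoc, σ_π, Category.comp_id] at e2
  have e3 : HomologicalComplex.homologyMap (sect V) i =
      inv ((homCx V).homologyπ i) ≫ (homCx V).iCycles i := by
    rw [← e2, IsIso.inv_hom_id_assoc]
  rw [e3]
  infer_instance

end Field

section FieldDim

variable {k : Type u} [Field k] (V : CochainComplex (ModuleCat.{u} k) ℤ)

lemma finite_cycles (i : ℤ) [Module.Finite k (V.X i)] : Module.Finite k (V.cycles i) := by
  have hinj : Function.Injective (V.iCycles i).hom :=
    (ModuleCat.mono_iff_injective _).1 inferInstance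
  exact Module.Finite.of_injective (V.iCycles i).hom hinj

lemma finite_homology (i : ℤ) [Module.Finite k (V.X i)] : Module.Finite k (V.homology i) := by
  haveI := finite_cycles V i
  have hsurj : Function.Surjective (V.homologyπ i).hom :=
    (ModuleCat.epi_iff_surjective _).1 inferInstance
  exact Module.Finite.of_surjective (V.homologyπ i).hom hsurj

theorem d_eq_zero_of_finrank_homology_eq (i : ℤ) [Module.Finite k (V.X i)]
    (h : Module.finrank k (V.homology i) = Module.finrank k (V.X i)) :
    (∀ j, V.d i j = 0) ∧ (∀ j, V.d j i = 0) := by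
  haveI := finite_cycles V i
  haveI := finite_homology V i
  have hinj : Function.Injective (V.iCycles i).hom :=
    (ModuleCat.mono_iff_injective _).1 inferInstance
  have hsurj : Function.Surjective (V.homologyπ i).hom :=
    (ModuleCat.epi_iff_surjective _).1 inferInstance
  have h1 : Module.finrank k (V.cycles i) ≤ Module.finrank k (V.X i) :=
    LinearMap.finrank_le_finrank_of_injective hinj
  have h2 : Module.finrank k (V.homology i) ≤ Module.finrank k (V.cycles i) :=
    LinearMap.finrank_le_finrank_of_surjective hsurj
  have h3 : Module.finrank k (V.cycles i) = Module.finrank k (V.X i) := by omega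
  have h4 : Module.finrank k (V.cycles i) = Module.finrank k (V.homology i) := by omega
  have hsurj' : Function.Surjective (V.iCycles i).hom :=
    (LinearMap.injective_iff_surjective_of_finrank_eq_finrank h3).1 hinj
  have hinj' : Function.Injective (V.homologyπ i).hom :=
    (LinearMap.injective_iff_surjective_of_finrank_eq_finrank h4).2 hsurj
  haveI : Epi (V.iCycles i) := (ModuleCat.epi_iff_surjective _).2 hsurj'
  haveI : Mono (V.homologyπ i) := (ModuleCat.mono_iff_injective _).2 hinj'
  constructor
  · intro j
    rw [← cancel_epi (V.iCycles i), HomologicalComplex.iCycles_d, comp_zero]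
  · intro j
    have h5 : V.toCycles j i = 0 := by
      rw [← cancel_mono (V.homologyπ i), HomologicalComplex.toCycles_comp_homologyπ, zero_comp]
    rw [← V.toCycles_i j i, h5, zero_comp]

end FieldDim

end Groth.Agent.Lib.Helper28.MinimalCx
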