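import Mathlib
import Groth.Agent.Lib.Helper28.BettiRing
import Groth.Agent.Lib.Helper28.MinimalCxA
import Groth.Agent.Lib.Helper35.GlobalPerf
import Groth.Agent.Lib.Helper35.PerfAmp
import Groth.Agent.Lib.Helper35.NilTA
import Groth.Agent.Lib.Helper35.PCRes

/-!
# Complexes whose fibres have cohomology in a single degree (helper28)
-/

set_option autoImplicit false
universe u
open CategoryTheory CategoryTheory.Limits

namespace Groth.Agent.Lib.Helper28.SingleDegree

attribute [local instance] HasDerivedCategory.standard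

open Groth.Agent.Lib.Helper32.LBC Groth.Agent.Lib.Helper35.TA

variable {R : Type u} [CommRing R]

/-- **a bounded complex of finite projective modules all of whose fibres have cohomology only in
degree `i` is isomorphic in `D(R)` to a finite projective module placed in degree `i`.** -/
theorem exists_single_of_fibres (D : DRing.Cx R) (a b : ℤ) (hab : DRing.VanishesOutside D a b)
    (hfp : DRing.TermwiseFiniteProjective D) (i : ℤ)
    (h : ∀ (x : PrimeSpectrum R) (j : ℤ), j ≠ i → CohIII.dRank D j x = 0) :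
    ∃ N : ModuleCat.{u} R, Module.Finite R N ∧ Module.Projective R N ∧
      Nonempty (DRing.toD D ≅
        DRing.toD ((HomologicalComplex.single (ModuleCat.{u} R) (ComplexShape.up ℤ) i).obj N)) := by
  haveI : ∀ m : Ideal R, DRing.HasLBaseChange (Ideal.Quotient.mk m) := fun m => hasLBaseChange _
  have hperf : DRing.IsPerfect R (DRing.toD D) := ⟨D, a, b, hab, hfp, ⟨Iso.refl _⟩⟩
  have hPC' := Groth.Agent.Lib.Helper35.KL.isPseudoCoherent'_of_isPerfect hperf
  haveI : D.IsKProjective := isKProjective_of_vanishesAbove D b (fun j hj => hab j (Or.inr hj))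
    (fun j => (hfp j).2)
  have hfib : ∀ (m : Ideal R), m.IsMaximal → ∀ j : ℤ, (j < i ∨ i < j) →
      IsZero ((DerivedCategory.homologyFunctor (ModuleCat.{u} (R ⧸ m)) j).obj
        ((DRing.LBaseChange (Ideal.Quotient.mk m)).obj (DRing.toD D))) := by
    intro m hm j hj
    letI := Ideal.Quotient.field m
    let V : DRing.Cx (R ⧸ m) := (extCx (Ideal.Quotient.mk m)).obj D
    have e1 : (DerivedCategory.homologyFunctor (ModuleCat.{u} (R ⧸ m)) j).obj
        ((DRing.LBaseChange (Ideal.Quotient.mk m)).obj (DRing.toD D)) ≅ V.homology j :=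
      (DerivedCategory.homologyFunctor _ j).mapIso (lbcIso (Ideal.Quotient.mk m) D) ≪≫
        (DerivedCategory.homologyFunctorFactors _ j).app V
    refine IsZero.of_iso ?_ e1
    have h1 : Module.finrank (R ⧸ m) (V.homology j) = 0 := by
      have := Groth.Agent.Lib.Helper28.BettiRing.finrank_homology_bcCx_eq_dRank
        (Ideal.Quotient.mk m) D j
      rw [h _ j (by omega)] at this
      exact this
    haveI : Module.Finite (R ⧸ m) (V.X j) := by
      haveI := (hfp j).1
      exact Module.Finite.base_change R (R ⧸ m) (D.X j)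
    haveI := Groth.Agent.Lib.Helper28.MinimalCx.finite_homology V j
    haveI : Subsingleton (V.homology j) := Module.finrank_zero_iff.mp h1
    exact ModuleCat.isZero_of_subsingleton _
  obtain ⟨-, hTA⟩ := isPerfect_and_TAmp_of_fibres (DRing.toD D) hPC' i i hfib
  have hPC := Groth.Agent.Lib.Helper6.MPC.isPC_of_isPC' hPC' (i - 1)
  obtain ⟨E', hE'v, hE'fp, ⟨e'⟩⟩ := (isPC_and_TAmp_iff (DRing.toD D) i i).mp ⟨hPC, hTA⟩
  haveI : E'.IsStrictlyGE i := by
    rw [CochainComplex.isStrictlyGE_iff]
    exact fun j hj => hE'v j (Or.inl hj)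
  haveI : E'.IsStrictlyLE i := by
    rw [CochainComplex.isStrictlyLE_iff]
    exact fun j hj => hE'v j (Or.inr hj)
  obtain ⟨M, ⟨eM⟩⟩ := E'.exists_iso_single i
  have eX : E'.X i ≅ M := (HomologicalComplex.eval _ _ i).mapIso eM ≪≫
    HomologicalComplex.singleObjXSelf (ComplexShape.up ℤ) i M
  haveI := (hE'fp i).1
  haveI := (hE'fp i).2
  exact ⟨M, Module.Finite.equiv eX.toLinearEquiv, Module.Projective.of_equiv' eX.toLinearEquiv,
    ⟨e'.symm ≪≫ DerivedCategory.Q.mapIso eM⟩⟩

end Groth.Agent.Lib.Helper28.SingleDegree
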