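import Mathlib
import Groth.Agent.Lib.Helper28.BettiSingle
import Groth.Agent.Lib.Helper28.SingleDegree
import Groth.Agent.Lib.Helper49.TildeExact

/-!
# Local structure of perfect objects with fibre cohomology in one degree (helper28)
-/

set_option autoImplicit false
universe u
open CategoryTheory CategoryTheory.Limits AlgebraicGeometry Opposite TopologicalSpace

namespace Groth.Agent.Lib.Helper28.LocFreeChart

attribute [local instance] HasDerivedCategory.standard

open Groth.Agent.Lib.Helper28.LpullCompute Groth.Agent.Lib.Helper28.LpullComp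
  Groth.Agent.Lib.Helper28.LpullRestrict Groth.Agent.Lib.Helper28.LpullPerf
  Groth.Agent.Lib.Helper28.GammaPoint Groth.Agent.Lib.Helper18.LimFinLocFree
  Groth.Agent.Lib.Helper30.PerfRestrict Groth.Agent.Lib.Helper28.LpullTilde
  Groth.Agent.Lib.Helper28.PC Groth.Agent.Lib.Helper28.BettiPC
  Groth.Agent.Lib.Helper28.EulerPerf Groth.Agent.Lib.Helper28.BettiSingle

variable {R : CommRingCat.{u}} {X : Scheme.{u}} (ι : Spec (CommRingCat.of R) ⟶ X)
  [IsOpenImmersion ι]

/-- `betti_eq_dRank` at the points of the chart. -/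
theorem betti_chart_eq_dRank [∀ x : X, DCoh.HasLpull (X.fromSpecResidueField x)]
    (E : DCoh.D X) (p : ℤ) (P : CochainComplex (Spec (CommRingCat.of R)).Modules ℤ)
    (hP : DCoh.IsStrictlyPerfect P) (α : DerivedCategory.Q.obj P ⟶ (rD ι).obj E)
    (hα : NIso (p - 1) α) (y : Spec (CommRingCat.of R)) :
    PerfD.betti E (ι y) p = CohIII.dRank (ΓCx P) p y := by
  let g : Spec (X.residueField (ι y)) ⟶ Spec (CommRingCat.of R) :=
    IsOpenImmersion.lift ι (X.fromSpecResidueField (ι y)) (by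
      rw [Scheme.range_fromSpecResidueField]
      rintro _ rfl
      exact ⟨y, rfl⟩)
  let ψ : R ⟶ X.residueField (ι y) := Spec.preimage g
  have hfac : specMap ψ ≫ ι = X.fromSpecResidueField (ι y) := by
    show Spec.map (Spec.preimage g) ≫ ι = _
    rw [Spec.map_preimage]
    exact IsOpenImmersion.lift_fac _ _ _
  rw [betti_eq_dRank ι E p P hP α hα (ι y) ψ hfac, ker_eq ι y ψ hfac]

lemma nIso_of_isIso {C : Type*} [Category C] [Abelian C] [HasDerivedCategory C]
    {K L : DerivedCategory C} (α : K ⟶ L) [IsIso α] (m : ℤ) : NIso m α :=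
  ⟨fun _ _ => inferInstance, inferInstance⟩

omit [IsOpenImmersion ι] in
lemma isPseudoCoherentD_of_isPerfect (E : DCoh.D X) (hE : DCoh.IsPerfect E) (m : ℤ) :
    DCoh.IsPseudoCoherentD m E := by
  rw [isPseudoCoherentD_iff]
  intro x
  obtain ⟨V, hxV, hV⟩ := (isPerfect_iff E).mp hE x
  exact ⟨V, hxV, hV.pcObj m⟩

lemma dRank_eq_zero_of_isZero {A : Type u} [CommRing A] (D : DRing.Cx A) (j : ℤ)
    (hz : IsZero (D.X j)) (x : PrimeSpectrum A) : CohIII.dRank D j x = 0 := by
  unfold CohIII.dRank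
  have h1 : IsZero ((CohIII.bcCx (algebraMap A x.asIdeal.ResidueField) D).X j) :=
    Functor.map_isZero (ModuleCat.extendScalars _) hz
  have h2 := ShortComplex.isZero_homology_of_isZero_X₂
    ((CohIII.bcCx (algebraMap A x.asIdeal.ResidueField) D).sc j) h1
  haveI : Subsingleton ((CohIII.bcCx (algebraMap A x.asIdeal.ResidueField) D).homology j) :=
    ModuleCat.subsingleton_of_isZero h2
  exact Module.finrank_zero_of_subsingleton

end Groth.Agent.Lib.Helper28.LocFreeChart

namespace Groth.Agent.Lib.Helper28.LocFreeChart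

attribute [local instance] HasDerivedCategory.standard

open Groth.Agent.Lib.Helper28.LpullCompute Groth.Agent.Lib.Helper28.LpullComp
  Groth.Agent.Lib.Helper28.LpullRestrict Groth.Agent.Lib.Helper28.LpullPerf
  Groth.Agent.Lib.Helper28.GammaPoint Groth.Agent.Lib.Helper18.LimFinLocFree
  Groth.Agent.Lib.Helper30.PerfRestrict Groth.Agent.Lib.Helper28.LpullTilde
  Groth.Agent.Lib.Helper28.PC Groth.Agent.Lib.Helper28.BettiPC
  Groth.Agent.Lib.Helper28.EulerPerf Groth.Agent.Lib.Helper28.BettiSingle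

/-- `Q (D~) ≅ Q (D'~)` if `Q D ≅ Q D'`. -/
noncomputable def tildeQIso {R : CommRingCat.{u}} (D D' : CochainComplex (ModuleCat.{u} R) ℤ)
    (e : DerivedCategory.Q.obj D ≅ DerivedCategory.Q.obj D') :
    DerivedCategory.Q.obj
      (((tilde.functor R).mapHomologicalComplex (ComplexShape.up ℤ)).obj D) ≅
    DerivedCategory.Q.obj
      (((tilde.functor R).mapHomologicalComplex (ComplexShape.up ℤ)).obj D') :=
  haveI := Groth.Agent.Lib.Helper49.preservesFiniteLimits_tilde R
  haveI := Groth.Agent.Lib.Helper49.preservesFiniteColimits_tilde R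
  ((tilde.functor R).mapDerivedCategoryFactors.app D).symm ≪≫
    (tilde.functor R).mapDerivedCategory.mapIso e ≪≫
    (tilde.functor R).mapDerivedCategoryFactors.app D'

/-- **local structure of a perfect object whose fibre at `x` has cohomology only in degree `i`.** -/
theorem exists_chart_single {X : Scheme.{u}}
    [∀ x : X, DCoh.HasLpull (X.fromSpecResidueField x)]
    (E : DCoh.D X) (hE : DCoh.IsPerfect E) (i : ℤ) (x : X)
    (h : ∀ j : ℤ, j ≠ i → PerfD.betti E x j = 0) :
    ∃ (R : CommRingCat.{u}) (ι : Spec (CommRingCat.of R) ⟶ X) (_ : IsOpenImmersion ι)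
      (N : ModuleCat.{u} R), x ∈ Set.range ι ∧ Module.Finite R N ∧ Module.Projective R N ∧
      Nonempty ((rD ι).obj E ≅ DerivedCategory.Q.obj (sgl (tilde N) i)) := by
  obtain ⟨V, hxV, P₀, hP₀, ⟨e₀⟩⟩ := (isPerfect_iff E).mp hE x
  obtain ⟨a, b, hab⟩ := hP₀.1
  -- the open set where the other Betti numbers vanish
  let s : Finset ℤ := (Finset.Icc a b).erase i
  let O' : Set X := ⋂ j ∈ s, {x' : X | PerfD.betti E x' j < 1}
  have hO' : IsOpen O' := isOpen_biInter_finset (fun j _ =>
    isOpen_betti_lt X E j (isPseudoCoherentD_of_isPerfect E hE (j - 1)) 1)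
  have hxO' : x ∈ O' := by
    simp only [O', Set.mem_iInter, Set.mem_setOf_eq]
    intro j hj
    rw [h j (Finset.ne_of_mem_erase hj)]
    exact Nat.zero_lt_one
  obtain ⟨U, hU, hxU, hUV, hUO⟩ : ∃ U : X.Opens, IsAffineOpen U ∧ x ∈ U ∧ U ≤ V ∧
      (U : Set X) ⊆ O' := by
    obtain ⟨_, ⟨U, hU : IsAffineOpen U, rfl⟩, hxU, hUV⟩ :=
      X.isBasis_affineOpens.exists_subset_of_mem_open (show x ∈ (V : Set X) ∩ O' from ⟨hxV, hxO'⟩)
        (V.2.inter hO')
    exact ⟨U, hU, hxU, fun z hz => (hUV hz).1, fun z hz => (hUV hz).2⟩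
  let R : CommRingCat.{u} := Γ(X, U)
  let ι : Spec (CommRingCat.of R) ⟶ X := hU.fromSpec
  haveI : IsOpenImmersion ι := hU.isOpenImmersion_fromSpec
  let k : Spec (CommRingCat.of R) ⟶ (V : Scheme.{u}) := hU.isoSpec.inv ≫ X.homOfLE hUV
  haveI : IsOpenImmersion k := inferInstance
  have hfac : k ≫ V.ι = ι := by
    show (hU.isoSpec.inv ≫ X.homOfLE hUV) ≫ V.ι = hU.fromSpec
    rw [Category.assoc, X.homOfLE_ι hUV]
    rfl
  let P := (rC k).obj P₀
  have hP : DCoh.IsStrictlyPerfect P := isStrictlyPerfect_restrict k P₀ hP₀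
  let α : (rD ι).obj E ≅ DerivedCategory.Q.obj P :=
    rDFac k V.ι ι hfac E ≪≫ (rD k).mapIso e₀ ≪≫ (rDQ k).app P₀
  have hPab : ∀ j : ℤ, j < a ∨ b < j → IsZero (P.X j) := fun j hj =>
    Functor.map_isZero (Scheme.Modules.restrictFunctor k) (hab j hj)
  have hDab : DRing.VanishesOutside (ΓCx P) a b := fun j hj =>
    Functor.map_isZero (moduleSpecΓFunctor (R := R)) (hPab j hj)
  have hDfp : DRing.TermwiseFiniteProjective (ΓCx P) := fun j => finite_projective_ΓCx P hP j
  have hrange : ∀ y : Spec (CommRingCat.of R), ι y ∈ (U : Set X) := by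
    intro y
    have : ι y ∈ Set.range hU.fromSpec := ⟨y, rfl⟩
    rwa [hU.range_fromSpec] at this
  have hfib : ∀ (y : PrimeSpectrum R) (j : ℤ), j ≠ i → CohIII.dRank (ΓCx P) j y = 0 := by
    intro y j hj
    by_cases hjab : j ∈ Finset.Icc a b
    · have h1 := betti_chart_eq_dRank ι E j P hP α.inv (nIso_of_isIso α.inv (j - 1)) y
      have h2 : ι y ∈ O' := hUO (hrange y)
      simp only [O', Set.mem_iInter, Set.mem_setOf_eq] at h2
      have h3 := h2 j (Finset.mem_erase.mpr ⟨hj, hjab⟩)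
      rw [← h1]
      omega
    · refine dRank_eq_zero_of_isZero _ j (hDab j ?_) y
      rw [Finset.mem_Icc, not_and_or, not_le, not_le] at hjab
      exact hjab
  obtain ⟨N, hNf, hNp, ⟨eN⟩⟩ :=
    Groth.Agent.Lib.Helper28.SingleDegree.exists_single_of_fibres (ΓCx P) a b hDab hDfp i hfib
  have hqc : ∀ j, (P.X j).IsQuasicoherent := fun j =>
    Groth.Agent.Lib.Helper49.isQuasicoherent_of_isFinLocFree (P.X j) (hP.2 j)
  refine ⟨R, ι, inferInstance, N, ?_, hNf, hNp, ⟨?_⟩⟩
  · have : x ∈ Set.range hU.fromSpec := by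
      rw [hU.range_fromSpec]
      exact hxU
    exact this
  · exact α ≪≫ DerivedCategory.Q.mapIso (tildeΓCxIso P hqc).symm ≪≫
      tildeQIso _ _ eN ≪≫ DerivedCategory.Q.mapIso
        ((HomologicalComplex.singleMapHomologicalComplex (tilde.functor R)
          (ComplexShape.up ℤ) i).app N)

end Groth.Agent.Lib.Helper28.LocFreeChart
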