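import Mathlib
import Groth.Agent.Lib.Helper28.LocFreeChart
import Groth.Agent.Lib.Helper30.LocFreeHomology
import Groth.Agent.Lib.Helper6.ExactDC

/-!
# The open locus where a perfect object is a locally free module in one degree (helper28)
-/

set_option autoImplicit false
universe u
open CategoryTheory CategoryTheory.Limits AlgebraicGeometry Opposite TopologicalSpace

namespace Groth.Agent.Lib.Helper28.LocFreeLocus

attribute [local instance] HasDerivedCategory.standard

open Groth.Agent.Lib.Helper28.LpullCompute Groth.Agent.Lib.Helper28.LpullComp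
  Groth.Agent.Lib.Helper28.LpullRestrict Groth.Agent.Lib.Helper28.LpullPerf
  Groth.Agent.Lib.Helper28.GammaPoint Groth.Agent.Lib.Helper18.LimFinLocFree
  Groth.Agent.Lib.Helper30.PerfRestrict Groth.Agent.Lib.Helper28.LpullTilde
  Groth.Agent.Lib.Helper28.PC Groth.Agent.Lib.Helper28.BettiPC
  Groth.Agent.Lib.Helper28.EulerPerf Groth.Agent.Lib.Helper28.BettiSingle
  Groth.Agent.Lib.Helper28.BettiPull Groth.Agent.Lib.Helper28.LocFreeChart

section Abstract

variable {C : Type*} [Category C] [Abelian C] [HasDerivedCategory C]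

/-- `(A[0])⟦-i⟧ ≅ Q (A placed in degree i)`. -/
noncomputable def shiftSingleIso (A : C) (i : ℤ) :
    ((DerivedCategory.singleFunctor C 0).obj A)⟦-i⟧ ≅
      DerivedCategory.Q.obj ((HomologicalComplex.single C (ComplexShape.up ℤ) i).obj A) :=
  ((DerivedCategory.singleFunctors C).shiftIso (-i) i 0 (by omega)).app A ≪≫
    (DerivedCategory.singleFunctorIsoCompQ C i).app A

/-- an object with cohomology only in degree `i` is its `i`-th cohomology placed in degree `i`. -/
lemma nonempty_iso_shift_single (K : DerivedCategory C) (i : ℤ)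
    (h : ∀ k : ℤ, k ≠ i → IsZero ((DerivedCategory.homologyFunctor C k).obj K)) :
    Nonempty (K ≅ ((DerivedCategory.singleFunctor C 0).obj
      ((DerivedCategory.homologyFunctor C i).obj K))⟦-i⟧) := by
  haveI : K.IsGE i := (DerivedCategory.isGE_iff K i).mpr (fun k hk => h k (by omega))
  haveI : K.IsLE i := (DerivedCategory.isLE_iff K i).mpr (fun k hk => h k (by omega))
  obtain ⟨A, ⟨e⟩⟩ := DerivedCategory.exists_iso_singleFunctor_obj_of_isGE_of_isLE K i
  let eA : A ≅ (DerivedCategory.homologyFunctor C i).obj K :=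
    ((DerivedCategory.singleFunctorCompHomologyFunctorIso C i).app A).symm ≪≫
      (DerivedCategory.homologyFunctor C i).mapIso e.symm
  exact ⟨e ≪≫ (DerivedCategory.singleFunctor C i).mapIso eA ≪≫
    (((DerivedCategory.singleFunctors C).shiftIso (-i) i 0 (by omega)).app _).symm⟩

/-- cohomology of an object placed in degree `i`. -/
noncomputable def homologySglIso (A : C) (i : ℤ) :
    (DerivedCategory.homologyFunctor C i).obj
      (DerivedCategory.Q.obj ((HomologicalComplex.single C (ComplexShape.up ℤ) i).obj A)) ≅ A :=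
  (DerivedCategory.homologyFunctor C i).mapIso ((DerivedCategory.singleFunctorIsoCompQ C i).app A).symm ≪≫
    (DerivedCategory.singleFunctorCompHomologyFunctorIso C i).app A

lemma isZero_homology_sgl (A : C) (i k : ℤ) (hk : k ≠ i) :
    IsZero ((DerivedCategory.homologyFunctor C k).obj
      (DerivedCategory.Q.obj ((HomologicalComplex.single C (ComplexShape.up ℤ) i).obj A))) := by
  refine IsZero.of_iso ?_ ((DerivedCategory.homologyFunctorFactors C k).app _)
  exact ShortComplex.isZero_homology_of_isZero_X₂ _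
    (HomologicalComplex.isZero_single_obj_X (ComplexShape.up ℤ) i A k hk)

end Abstract

section Scheme

variable {X : Scheme.{u}}

/-- Betti numbers on a chart where `E` is a finite locally free module in degree `i`. -/
theorem betti_of_chart [∀ x : X, DCoh.HasLpull (X.fromSpecResidueField x)]
    (E : DCoh.D X) (hE : DCoh.IsPerfect E) {U' : Scheme.{u}} (j : U' ⟶ X) [IsOpenImmersion j]
    (W : U'.Modules) (hW : FlatMod.IsFinLocFree W) (i : ℤ)
    (e : (rD j).obj E ≅ DerivedCategory.Q.obj (sgl W i)) (y : U') (n : ℕ) (hn : RankAt W n y)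
    (k : ℤ) : PerfD.betti E (j y) k = if k = i then n else 0 := by
  haveI := hasLpull j
  haveI := hasLpull (U'.fromSpecResidueField y)
  rw [← betti_lpull j E hE y k]
  exact betti_sgl W hW i _ ((lpullRestrictIso j).app E ≪≫ e) y n hn k

/-- the locus where the fibres of `E` are `κ^r` placed in degree `i`. -/
def goodSet [∀ x : X, DCoh.HasLpull (X.fromSpecResidueField x)] (E : DCoh.D X) (i : ℤ) (r : ℕ) :
    Set X :=
  {x | PerfD.betti E x i = r ∧ ∀ k : ℤ, k ≠ i → PerfD.betti E x k = 0}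

theorem isOpen_goodSet [∀ x : X, DCoh.HasLpull (X.fromSpecResidueField x)]
    (E : DCoh.D X) (hE : DCoh.IsPerfect E) (i : ℤ) (r : ℕ) : IsOpen (goodSet E i r) := by
  rw [isOpen_iff_forall_mem_open]
  rintro x ⟨hx1, hx2⟩
  obtain ⟨R, ι, hι, N, hxι, hNf, hNp, ⟨e⟩⟩ := exists_chart_single E hE i x hx2
  have hW : FlatMod.IsFinLocFree (tilde N) :=
    (Groth.Agent.Lib.Helper49.isFinLocFree_tilde_iff N).mpr ⟨hNf, hNp⟩
  haveI := Groth.Agent.Lib.Helper49.isQuasicoherent_of_isFinLocFree (tilde N) hW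
  obtain ⟨y₀, rfl⟩ := hxι
  refine ⟨ι '' {y | RankAt (tilde N) r y}, ?_,
    ι.isOpenEmbedding.isOpenMap _ (isOpen_setOf_rankAt _ r), ⟨y₀, ?_, rfl⟩⟩
  · rintro _ ⟨y, hy, rfl⟩
    refine ⟨?_, fun k hk => ?_⟩
    · rw [betti_of_chart E hE ι (tilde N) hW i e y r hy i, if_pos rfl]
    · rw [betti_of_chart E hE ι (tilde N) hW i e y r hy k, if_neg hk]
  · obtain ⟨n, hn⟩ := (isFinLocFree_iff_rankAt (tilde N)).mp hW y₀
    have h1 := betti_of_chart E hE ι (tilde N) hW i e y₀ n hn i
    rw [if_pos rfl, hx1] at h1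
    show RankAt (tilde N) r y₀
    rw [h1]
    exact hn

/-- if `Lf^*E` is a finite locally free module of rank `r` in degree `i`, then `f` lands in the
good locus. -/
theorem mem_goodSet_of_iso [∀ x : X, DCoh.HasLpull (X.fromSpecResidueField x)]
    {Y : Scheme.{u}} (f : Y ⟶ X) [DCoh.HasLpull f] (E : DCoh.D X) (hE : DCoh.IsPerfect E)
    (i : ℤ) (r : ℕ) (V' : Y.Modules) (hV' : FlatMod.IsFinLocFreeOfRank r V')
    (e : (DCoh.Lpull f).obj E ≅ (DCoh.inD Y V')⟦-i⟧) (y : Y) : f y ∈ goodSet E i r := by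
  haveI := hasLpull (Y.fromSpecResidueField y)
  have hfl := isFinLocFree_of_isFinLocFreeOfRank hV'
  haveI := Groth.Agent.Lib.Helper49.isQuasicoherent_of_isFinLocFree V' hfl
  have hr : RankAt V' r y := (isFinLocFreeOfRank_iff_rankAt V' r).mp hV' y
  have key : ∀ k : ℤ, PerfD.betti E (f y) k = if k = i then r else 0 := fun k => by
    rw [← betti_lpull f E hE y k]
    exact betti_sgl V' hfl i _ (e ≪≫ shiftSingleIso V' i) y r hr k
  exact ⟨by rw [key i, if_pos rfl], fun k hk => by rw [key k, if_neg hk]⟩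

/-- pulling back a chart. -/
theorem exists_local_single {Y : Scheme.{u}} (f : Y ⟶ X) [DCoh.HasLpull f] (E : DCoh.D X)
    (i : ℤ) {U' : Scheme.{u}} (j : U' ⟶ X) [IsOpenImmersion j] (W : U'.Modules)
    (hW : FlatMod.IsFinLocFree W) (e : (rD j).obj E ≅ DerivedCategory.Q.obj (sgl W i))
    (y : Y) (hy : f y ∈ Set.range j) :
    ∃ (Y' : Y.Opens) (W' : (Y' : Scheme.{u}).Modules), y ∈ Y' ∧ FlatMod.IsFinLocFree W' ∧
      Nonempty ((rD Y'.ι).obj ((DCoh.Lpull f).obj E) ≅ DerivedCategory.Q.obj (sgl W' i)) := by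
  let Y' : Y.Opens := f ⁻¹ᵁ j.opensRange
  let f' : (Y' : Scheme.{u}) ⟶ U' := IsOpenImmersion.lift j (Y'.ι ≫ f) (by
    rintro _ ⟨z, rfl⟩
    exact z.2)
  have hfac : f' ≫ j = Y'.ι ≫ f := IsOpenImmersion.lift_fac _ _ _
  haveI := hasLpull f'
  haveI := hasLpull j
  haveI := hasLpull Y'.ι
  haveI := hasLpull (Y'.ι ≫ f)
  haveI := hasLpull (f' ≫ j)
  refine ⟨Y', (Scheme.Modules.pullback f').obj W, hy, isFinLocFree_pullback f' W hW, ⟨?_⟩⟩
  exact ((lpullRestrictIso Y'.ι).symm).app _ ≪≫ (compIso Y'.ι f).app E ≪≫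
    (lpullCongr hfac.symm).app E ≪≫ ((compIso f' j).symm).app E ≪≫
    (DCoh.Lpull f').mapIso ((lpullRestrictIso j).app E ≪≫ e) ≪≫
    lpullIso f' (sgl W i) (pf_of_isStrictlyPerfect _ (isStrictlyPerfect_sgl W hW i)) ≪≫
    DerivedCategory.Q.mapIso ((HomologicalComplex.singleMapHomologicalComplex
      (Scheme.Modules.pullback f') (ComplexShape.up ℤ) i).app W)

lemma subsingleton_stalk_of_restrict {Y U : Scheme.{u}} (j : U ⟶ Y) [IsOpenImmersion j]
    (M : Y.Modules) (z : U)
    (h : Subsingleton ↑(((Scheme.Modules.restrictFunctor j).obj M).presheaf.stalk z)) :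
    Subsingleton ↑(M.presheaf.stalk (j z)) :=
  (Groth.Agent.Lib.Helper30.LocFreeHomology.stalkRestrictEquiv j M z).toEquiv.subsingleton

/-- a module which is locally zero is zero. -/
lemma isZero_of_forall_restrict {Y : Scheme.{u}} (M : Y.Modules)
    (h : ∀ y : Y, ∃ Y' : Y.Opens, y ∈ Y' ∧
      IsZero ((Scheme.Modules.restrictFunctor Y'.ι).obj M)) : IsZero M := by
  rw [Groth.Agent.Lib.Helper45.isZero_iff_stalk_subsingleton]
  intro y
  obtain ⟨Y', hy, hz⟩ := h y
  have h1 := (Groth.Agent.Lib.Helper45.isZero_iff_stalk_subsingleton _).mp hz ⟨y, hy⟩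
  exact subsingleton_stalk_of_restrict Y'.ι M ⟨y, hy⟩ h1

/-- cohomology sheaves commute with restriction to opens. -/
noncomputable def hdRestrictIso {Y : Scheme.{u}} (Y' : Y.Opens) (K : DCoh.D Y) (k : ℤ) :
    DCoh.HD ((rD Y'.ι).obj K) k ≅ (Scheme.Modules.restrictFunctor Y'.ι).obj (DCoh.HD K k) :=
  (Groth.Agent.Lib.Helper6.ExactDC.homologyIso (Scheme.Modules.restrictFunctor Y'.ι) k).app K

/-- **an object of `D(O_Y)` which is locally a finite locally free module placed in degree `i`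
is globally so.** -/
theorem single_of_local {Y : Scheme.{u}} (K : DCoh.D Y) (i : ℤ)
    (h : ∀ y : Y, ∃ (Y' : Y.Opens) (W' : (Y' : Scheme.{u}).Modules), y ∈ Y' ∧
      FlatMod.IsFinLocFree W' ∧
      Nonempty ((rD Y'.ι).obj K ≅ DerivedCategory.Q.obj (sgl W' i))) :
    FlatMod.IsFinLocFree (DCoh.HD K i) ∧ Nonempty (K ≅ (DCoh.inD Y (DCoh.HD K i))⟦-i⟧) := by
  constructor
  · refine Groth.Agent.Lib.Helper30.StrictPerfHomology.isFinLocFree_of_forall_restrict _
      (fun y => ?_)
    obtain ⟨Y', W', hy, hW', ⟨e⟩⟩ := h y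
    refine ⟨Y', hy, isFinLocFree_of_iso ?_ hW'⟩
    exact (homologySglIso W' i).symm ≪≫
      (DerivedCategory.homologyFunctor _ i).mapIso e.symm ≪≫ hdRestrictIso Y' K i
  · refine nonempty_iso_shift_single K i (fun k hk => ?_)
    refine isZero_of_forall_restrict _ (fun y => ?_)
    obtain ⟨Y', W', hy, hW', ⟨e⟩⟩ := h y
    refine ⟨Y', hy, IsZero.of_iso (isZero_homology_sgl W' i k hk) ?_⟩
    exact (hdRestrictIso Y' K k).symm ≪≫ (DerivedCategory.homologyFunctor _ k).mapIso e

end Scheme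

end Groth.Agent.Lib.Helper28.LocFreeLocus
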