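import Mathlib
import Groth.Agent.Lib.Helper73.LeftDerivedLES

/-!
# `Tor'_p(A/J, M) ≃ Hom(A/J, M)` for `J` generated by a weakly regular sequence of length `p`

* `homologyMap_smul'`, `leftDerived_map_smul_id`: left derived functors of an `R`-linear functor
  send `r • 𝟙 X` to `r • 𝟙`.
* `killedByList E rs`: the submodule of elements killed by every member of `rs`, with
  `killedByListCongr`, `killedByListNil`, `killedByListCons`, `homQuotOfListEquiv`.
* `TR M = - ⊗ M`, `TP M n X = Tor'_n(X, M)`; `TP_quotSMulTop` (one regular element),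
  `TP_quot_regular` (regular sequence, any module `N` with `Tor'_j(N, M) = 0` for `j > d`),
  `tor'_quotient_of_weaklyRegular`.
-/

universe v u v' u'
open CategoryTheory Limits

namespace Groth.Agent.Lib.Helper28

section Linear
variable {R : Type*} [Ring R]
variable {C : Type u} [Category.{v} C] [Abelian C] [Linear R C] [HasProjectiveResolutions C]
  {D : Type u'} [Category.{v'} D] [Abelian D] [Linear R D]

/-- homology of `r • φ` -/
lemma homologyMap_smul' {ι : Type*} {c : ComplexShape ι} {K L : HomologicalComplex D c}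
    (φ : K ⟶ L) (r : R) (i : ι) :
    HomologicalComplex.homologyMap (r • φ) i = r • HomologicalComplex.homologyMap φ i := by
  have : (HomologicalComplex.shortComplexFunctor D c i).map (r • φ) =
      r • (HomologicalComplex.shortComplexFunctor D c i).map φ := by
    ext <;> rfl
  unfold HomologicalComplex.homologyMap
  rw [this, ShortComplex.homologyMap_smul]
  rfl

/-- the left derived functors of a linear functor are linear (on scalar multiples of identities) -/
lemma leftDerived_map_smul_id (F : C ⥤ D) [F.Additive] [F.Linear R] (n : ℕ) (X : C) (r : R) :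
    (F.leftDerived n).map (r • 𝟙 X) = r • 𝟙 _ := by
  let P := projectiveResolution X
  rw [Functor.leftDerived_map_eq F n (r • 𝟙 X) (P := P) (Q := P) (r • 𝟙 P.complex) (by
    rw [Linear.smul_comp, Category.id_comp]
    ext
    simp only [HomologicalComplex.smul_f_apply, HomologicalComplex.comp_f,
      ChainComplex.single₀_map_f_zero]
    erw [Linear.comp_smul, Category.comp_id])]
  have h1 : (F.mapHomologicalComplex (ComplexShape.down ℕ)).map (r • 𝟙 P.complex) =
      r • 𝟙 _ := by
    rw [Functor.map_smul, CategoryTheory.Functor.map_id]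
  have h2 : (F.mapHomologicalComplex (ComplexShape.down ℕ) ⋙
      HomologicalComplex.homologyFunctor D (ComplexShape.down ℕ) n).map (r • 𝟙 P.complex) =
      r • 𝟙 _ := by
    rw [Functor.comp_map, h1, HomologicalComplex.homologyFunctor_map, homologyMap_smul',
      HomologicalComplex.homologyMap_id]
    rfl
  rw [h2, Linear.smul_comp, Linear.comp_smul]
  erw [Category.id_comp]
  rw [Iso.hom_inv_id]

end Linear

section Killed
variable {A : Type u} [CommRing A]

/-- elements killed by every member of a list -/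
def killedByList (E : Type*) [AddCommGroup E] [Module A E] (rs : List A) : Submodule A E where
  carrier := {t | ∀ r ∈ rs, r • t = 0}
  add_mem' := fun {a b} ha hb r hr => by rw [smul_add, ha r hr, hb r hr, add_zero]
  zero_mem' := fun r _ => smul_zero r
  smul_mem' := fun c t ht r hr => by rw [smul_comm, ht r hr, smul_zero]

variable {E E' : Type*} [AddCommGroup E] [Module A E] [AddCommGroup E'] [Module A E']

lemma mem_killedByList {rs : List A} {t : E} : t ∈ killedByList E rs ↔ ∀ r ∈ rs, r • t = 0 :=
  Iff.rfl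

/-- functoriality in linear equivalences -/
def killedByListCongr (φ : E ≃ₗ[A] E') (rs : List A) :
    killedByList E rs ≃ₗ[A] killedByList E' rs :=
  φ.submoduleMap (killedByList E rs) |>.trans (LinearEquiv.ofEq _ _ (by
    ext t
    simp only [Submodule.mem_map, mem_killedByList]
    constructor
    · rintro ⟨s, hs, rfl⟩ r hr
      rw [← map_smul, hs r hr, map_zero]
    · intro ht
      refine ⟨φ.symm t, fun r hr => ?_, by simp⟩
      rw [← map_smul, ht r hr, map_zero]))

/-- killed by the empty list -/
def killedByListNil : killedByList E ([] : List A) ≃ₗ[A] E :=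
  (LinearEquiv.ofEq _ _ (by ext t; simp [mem_killedByList])).trans Submodule.topEquiv

/-- iterated -/
def killedByListCons (x : A) (rs : List A) :
    killedByList (killedByList E [x]) rs ≃ₗ[A] killedByList E (x :: rs) where
  toFun t := ⟨t.1.1, fun r hr => by
    rcases List.mem_cons.mp hr with rfl | hr
    · exact t.1.2 r (by simp)
    · have := t.2 r hr
      exact congrArg Subtype.val this⟩
  map_add' _ _ := rfl
  map_smul' _ _ := rfl
  invFun t := ⟨⟨t.1, fun r hr => by
      rw [List.mem_singleton] at hr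
      subst hr
      exact t.2 r (by simp)⟩, fun r hr => by
      apply Subtype.ext
      exact t.2 r (List.mem_cons_of_mem _ hr)⟩
  left_inv _ := rfl
  right_inv _ := rfl

lemma smul_one_quot_eq_zero (xs : List A) {r : A} (hr : r ∈ Ideal.ofList xs) :
    r • (1 : A ⧸ Ideal.ofList xs) = 0 := by
  have : r • (1 : A ⧸ Ideal.ofList xs) = Ideal.Quotient.mk (Ideal.ofList xs) r := by
    rw [Algebra.smul_def, mul_one]; rfl
  rw [this]
  exact Ideal.Quotient.eq_zero_iff_mem.mpr hr

lemma smul_eq_zero_of_mem_ofList {M : Type*} [AddCommGroup M] [Module A M] (xs : List A)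
    {m : M} (hm : m ∈ killedByList M xs) {a : A} (ha : a ∈ Ideal.ofList xs) : a • m = 0 := by
  unfold Ideal.ofList at ha
  induction ha using Submodule.span_induction with
  | mem x hx => exact hm x hx
  | zero => exact zero_smul _ _
  | add x y _ _ hx hy => rw [add_smul, hx, hy, add_zero]
  | smul c x _ hx => rw [smul_eq_mul, mul_smul, hx, smul_zero]

/-- `Hom(A ⧸ (xs), M)` is the set of elements killed by `xs`. -/
noncomputable def homQuotOfListEquiv (M : Type*) [AddCommGroup M] [Module A M] (xs : List A) :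
    ((A ⧸ Ideal.ofList xs) →ₗ[A] M) ≃ₗ[A] killedByList M xs where
  toFun φ := ⟨φ 1, fun r hr => by
    rw [← map_smul, smul_one_quot_eq_zero xs (Ideal.subset_span hr), map_zero]⟩
  map_add' _ _ := rfl
  map_smul' _ _ := rfl
  invFun m := Submodule.liftQ _ (LinearMap.toSpanSingleton A M m.1) (by
    intro a ha
    rw [LinearMap.mem_ker, LinearMap.toSpanSingleton_apply]
    exact smul_eq_zero_of_mem_ofList xs m.2 ha)
  left_inv φ := by
    apply LinearMap.ext
    intro q
    obtain ⟨a, rfl⟩ := Submodule.Quotient.mk_surjective _ q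
    change a • φ 1 = φ (Submodule.Quotient.mk a)
    rw [← map_smul]
    congr 1
    change a • (Submodule.Quotient.mk (1 : A)) = _
    rw [← Submodule.Quotient.mk_smul, smul_eq_mul, mul_one]
  right_inv m := by
    apply Subtype.ext
    change (1 : A) • m.1 = m.1
    exact one_smul _ _

end Killed

section TorPrime
variable {A : Type u} [CommRing A] (M : ModuleCat.{u} A)

/-- `- ⊗ M` -/
noncomputable abbrev TR : ModuleCat.{u} A ⥤ ModuleCat.{u} A :=
  (MonoidalCategory.tensoringRight (ModuleCat.{u} A)).obj M

/-- `Tor'_n(X, M)` -/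
noncomputable abbrev TP (n : ℕ) (X : ModuleCat.{u} A) : ModuleCat.{u} A :=
  ((TR M).leftDerived n).obj X

example (n : ℕ) (X : ModuleCat.{u} A) :
    ((Tor' (ModuleCat.{u} A) n).obj X).obj M = TP M n X := rfl

instance : (TR M).Linear A := inferInstanceAs ((MonoidalCategory.tensorRight M).Linear A)

/-- the action of `x : N ⟶ N` on `Tor'` is multiplication by `x` -/
lemma TP_map_smul (n : ℕ) (N : ModuleCat.{u} A) (x : A) (t : TP M n N) :
    (((TR M).leftDerived n).map (x • 𝟙 N)).hom t = x • t := by
  rw [leftDerived_map_smul_id]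
  rfl

/-- one step -/
theorem TP_quotSMulTop (N : ModuleCat.{u} A) (x : A) (hx : IsSMulRegular N x) (d : ℕ)
    (hvan : ∀ j, d < j → IsZero (TP M j N)) :
    (∀ j, d + 1 < j → IsZero (TP M j (ModuleCat.of A (QuotSMulTop x N)))) ∧
    Nonempty (TP M (d + 1) (ModuleCat.of A (QuotSMulTop x N)) ≃ₗ[A]
      killedByList (TP M d N) [x]) := by
  have hS : (ModuleCat.smulShortComplex N x).ShortExact := hx.smulShortComplex_shortExact
  constructor
  · intro j hj
    obtain ⟨j', rfl⟩ : ∃ j', j = j' + 1 := ⟨j - 1, by omega⟩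
    obtain ⟨-, δ, w₁, w₂, h₁, -⟩ := Groth.Agent.Lib.Helper73.leftDerived_les (TR M) hS j'
    exact h₁.isZero_X₂ ((hvan (j' + 1) (by omega)).eq_of_src _ _)
      ((hvan j' (by omega)).eq_of_tgt _ _)
  · obtain ⟨-, δ, w₁, w₂, h₁, h₂⟩ := Groth.Agent.Lib.Helper73.leftDerived_les (TR M) hS d
    have hmono : Mono δ := h₁.mono_g ((hvan (d + 1) (by omega)).eq_of_src _ _)
    have hinj : Function.Injective δ.hom := (ModuleCat.mono_iff_injective δ).mp hmono
    have hex := (ShortComplex.ShortExact.moduleCat_exact_iff_function_exact _).mp h₂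
    have hf : ∀ t : TP M d N, (((TR M).leftDerived d).map (ModuleCat.smulShortComplex N x).f).hom t
        = x • t := fun t => TP_map_smul M d N x t
    let δ' : TP M (d + 1) (ModuleCat.of A (QuotSMulTop x N)) →ₗ[A] TP M d N := δ.hom
    have hex' : ∀ t : TP M d N, x • t = 0 ↔ ∃ s, δ' s = t := by
      intro t
      rw [← hf t]
      exact hex t
    have hmem : ∀ t, δ' t ∈ killedByList (TP M d N) [x] := by
      intro t r hr
      rw [List.mem_singleton] at hr
      rw [hr]
      exact (hex' (δ' t)).mpr ⟨t, rfl⟩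
    refine ⟨LinearEquiv.ofBijective (δ'.codRestrict _ hmem) ⟨?_, ?_⟩⟩
    · intro a b hab
      exact hinj (congrArg Subtype.val hab)
    · intro ⟨t, ht⟩
      obtain ⟨s, hs⟩ := (hex' t).mp (ht x (by simp))
      exact ⟨s, Subtype.ext hs⟩

/-- `Tor'` of isomorphic modules -/
noncomputable def TPCongr (n : ℕ) {X Y : ModuleCat.{u} A} (e : X ≅ Y) : TP M n X ≃ₗ[A] TP M n Y :=
  (((TR M).leftDerived n).mapIso e).toLinearEquiv

open RingTheory.Sequence in
/-- `Tor'` of a quotient by a weakly regular sequence -/
theorem TP_quot_regular : ∀ (xs : List A) (N : Type u) [AddCommGroup N]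
    [Module A N] (d : ℕ), IsWeaklyRegular N xs →
    (∀ j, d < j → IsZero (TP M j (ModuleCat.of A N))) →
    (∀ j, d + xs.length < j → IsZero
      (TP M j (ModuleCat.of A (N ⧸ (Ideal.ofList xs • ⊤ : Submodule A N))))) ∧
    ∀ n, n = d + xs.length → Nonempty
      (TP M n (ModuleCat.of A (N ⧸ (Ideal.ofList xs • ⊤ : Submodule A N))) ≃ₗ[A]
        killedByList (TP M d (ModuleCat.of A N)) xs) := by
  intro xs
  induction xs with
  | nil =>
    intro N _ _ d _ hvan
    have hbot : (Ideal.ofList ([] : List A) • ⊤ : Submodule A N) = ⊥ := by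
      rw [Ideal.ofList_nil, Submodule.bot_smul]
    let e₀ : (N ⧸ (Ideal.ofList ([] : List A) • ⊤ : Submodule A N)) ≃ₗ[A] N :=
      Submodule.quotEquivOfEqBot _ hbot
    constructor
    · intro j hj
      exact (hvan j (by simpa using hj)).of_iso (((TR M).leftDerived j).mapIso e₀.toModuleIso)
    · intro n hn
      obtain rfl : n = d := by simpa using hn
      exact ⟨(TPCongr M n e₀.toModuleIso).trans killedByListNil.symm⟩
  | cons r rs ih =>
    intro N _ _ d hreg hvan
    obtain ⟨hr, hrs⟩ := (isWeaklyRegular_cons_iff N r rs).mp hreg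
    obtain ⟨hstep1, ⟨φ⟩⟩ := TP_quotSMulTop M (ModuleCat.of A N) r hr d hvan
    obtain ⟨hih1, hih2⟩ := ih (QuotSMulTop r N) (d + 1) hrs hstep1
    let e₁ := Submodule.quotOfListConsSMulTopEquivQuotSMulTopInner N r rs
    constructor
    · intro j hj
      exact (hih1 j (by rw [List.length_cons] at hj; omega)).of_iso
        (((TR M).leftDerived j).mapIso e₁.toModuleIso)
    · intro n hn
      obtain ⟨ψ⟩ := hih2 n (by rw [List.length_cons] at hn; omega)
      exact ⟨(TPCongr M n e₁.toModuleIso).trans (ψ.trans
        ((killedByListCongr φ rs).trans (killedByListCons r rs)))⟩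

instance : PreservesFiniteColimits (TR M) :=
  inferInstanceAs (PreservesFiniteColimits (MonoidalCategory.tensorRight M))

/-- `Tor'_0(A, M) ≃ M` -/
noncomputable def TPZeroSelf : TP M 0 (ModuleCat.of A A) ≃ₗ[A] M :=
  (((TR M).leftDerivedZeroIsoSelf.app (ModuleCat.of A A)) ≪≫
    (MonoidalCategory.leftUnitor M)).toLinearEquiv

open RingTheory.Sequence in
/-- **`Tor'_p(A/J, M) ≃ Hom(A/J, M)`** for `J` generated by a weakly regular sequence of length
`p`. -/
theorem tor'_quotient_of_weaklyRegular (xs : List A) (hreg : IsWeaklyRegular A xs) :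
    Nonempty (TP M xs.length (ModuleCat.of A (A ⧸ Ideal.ofList xs)) ≃ₗ[A]
      ((A ⧸ Ideal.ofList xs) →ₗ[A] M)) := by
  have hvan : ∀ j, 0 < j → IsZero (TP M j (ModuleCat.of A A)) := by
    intro j hj
    obtain ⟨j', rfl⟩ : ∃ j', j = j' + 1 := ⟨j - 1, by omega⟩
    exact Functor.isZero_leftDerived_obj_projective_succ _ _ _
  obtain ⟨-, h2⟩ := TP_quot_regular M xs A 0 hreg hvan
  obtain ⟨ψ⟩ := h2 xs.length (by simp)
  have heq : (Ideal.ofList xs • ⊤ : Submodule A A) = Ideal.ofList xs := by
    rw [smul_eq_mul, Ideal.mul_top]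
  let e : (A ⧸ (Ideal.ofList xs • ⊤ : Submodule A A)) ≃ₗ[A] (A ⧸ Ideal.ofList xs) :=
    Submodule.quotEquivOfEq _ _ heq
  exact ⟨(TPCongr M xs.length e.toModuleIso).symm.trans (ψ.trans
    ((killedByListCongr (TPZeroSelf M) xs).trans (homQuotOfListEquiv M xs).symm))⟩

end TorPrime

end Groth.Agent.Lib.Helper28
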