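import Groth.Agent.S0463
import Mathlib.Topology.Sheaves.Flasque

/-!
helper28 (P1): free abelian sheaves on opens, injective ⇒ flasque, flasque ⇒ acyclic.
-/

set_option autoImplicit false
universe u

namespace Groth.Agent.Lib.Helper28.ShCoh

open CategoryTheory Opposite CategoryTheory.Limits TopologicalSpace Abelian CohTop
open Groth.Agent.S0463

variable {X : TopCat.{u}}

/-- the map of free abelian sheaves induced by an inclusion of opens -/
noncomputable def freeMap {V U : Opens X} (h : V ≤ U) : freeSheaf V ⟶ freeSheaf U :=
  (presheafToSheaf (Opens.grothendieckTopology X) AddCommGrpCat.{u}).map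
    (Functor.whiskerRight (yoneda.map (homOfLE h)) AddCommGrpCat.free.{u})

lemma β_freeMap {V U : Opens X} (h : V ≤ U) (F : Ab X) (g : freeSheaf U ⟶ F) :
    β V F (freeMap h ≫ g) = F.obj.map (homOfLE h).op (β U F g) := by
  dsimp only [β, Equiv.trans_apply, freeMap]
  have := freeAdj.homEquiv_naturality_left (yoneda.map (homOfLE h)) g
  dsimp only [Functor.comp_map, Functor.whiskeringRight_obj_map] at this
  rw [this]
  exact (yonedaEquiv_naturality _ _).symm

instance mono_freeMap {V U : Opens X} (h : V ≤ U) : Mono (freeMap h) := by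
  have h1 : Mono (Functor.whiskerRight (yoneda.map (homOfLE h)) AddCommGrpCat.free.{u}) := by
    apply NatTrans.mono_of_mono_app
  dsimp only [freeMap]
  infer_instance

/-- An injective abelian sheaf is flasque. -/
theorem isFlasque_of_injective (F : Ab X) [Injective F] : TopCat.Sheaf.IsFlasque F := by
  constructor
  intro U V i
  rw [AddCommGrpCat.epi_iff_surjective]
  intro s
  have hVU : V.unop ≤ U.unop := leOfHom i.unop
  let g : freeSheaf V.unop ⟶ F := (β V.unop F).symm s
  refine ⟨β U.unop F (Injective.factorThru g (freeMap hVU)), ?_⟩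
  have h1 := β_freeMap hVU F (Injective.factorThru g (freeMap hVU))
  rw [Injective.comp_factorThru] at h1
  have h2 : i = (homOfLE hVU).op := Subsingleton.elim _ _
  rw [h2, ← h1]
  exact Equiv.apply_symm_apply _ _

end Groth.Agent.Lib.Helper28.ShCoh
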