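import Groth.Prelude.Def_CohTop
import Mathlib.CategoryTheory.Sites.LocallyBijective
import Mathlib.Topology.Sheaves.SheafCondition.UniqueGluing
import Mathlib.Topology.Sheaves.Flasque

/-!
helper28 (P1): the constant sheaf on an irreducible space is flasque.
-/

set_option autoImplicit false
universe u

namespace Groth.Agent.Lib.Helper28.ShCoh

open CategoryTheory Opposite CategoryTheory.Limits TopologicalSpace CohTop

variable {X : TopCat.{u}}

/-- the constant presheaf -/
abbrev constPre (X : TopCat.{u}) (A : Type u) [AddCommGroup A] :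
    (Opens X)ᵒᵖ ⥤ AddCommGrpCat.{u} :=
  (Functor.const _).obj (AddCommGrpCat.of A)

/-- the unit `A → A_X` -/
noncomputable abbrev constUnit (X : TopCat.{u}) (A : Type u) [AddCommGroup A] :
    constPre X A ⟶ (CohTop.const X A).obj :=
  toSheafify (Opens.grothendieckTopology X) (constPre X A)

instance (A : Type u) [AddCommGroup A] :
    Presheaf.IsLocallySurjective (Opens.grothendieckTopology X) (constUnit X A) :=
  inferInstanceAs (Presheaf.IsLocallySurjective (Opens.grothendieckTopology X)
    (toSheafify (Opens.grothendieckTopology X) (constPre X A)))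

instance (A : Type u) [AddCommGroup A] :
    Presheaf.IsLocallyInjective (Opens.grothendieckTopology X) (constUnit X A) :=
  inferInstanceAs (Presheaf.IsLocallyInjective (Opens.grothendieckTopology X)
    (toSheafify (Opens.grothendieckTopology X) (constPre X A)))

lemma constUnit_res (A : Type u) [AddCommGroup A] {U V : Opens X} (g : V ⟶ U) (t : A) :
    (CohTop.const X A).obj.map g.op ((constUnit X A).app (op U) t) =
      (constUnit X A).app (op V) t :=
  (NatTrans.naturality_apply (constUnit X A) g.op t).symm

/-- On an irreducible space the constant sheaf is flasque. -/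
theorem isFlasque_const_of_irreducible [IrreducibleSpace X] (A : Type u) [AddCommGroup A] :
    TopCat.Sheaf.IsFlasque (CohTop.const X A) := by
  constructor
  intro U V i
  rw [AddCommGrpCat.epi_iff_surjective]
  intro s
  have hsurj := Presheaf.imageSieve_mem (Opens.grothendieckTopology X) (constUnit X A) s
  choose W f hW hxW using fun x : V.unop => hsurj x.1 x.2
  choose a ha using hW
  -- all the local values agree
  have hconst : ∀ x y : V.unop, a x = a y := by
    intro x y
    obtain ⟨z, hzx, hzy⟩ := nonempty_preirreducible_inter (W x).isOpen (W y).isOpen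
      ⟨x.1, hxW x⟩ ⟨y.1, hxW y⟩
    let W' : Opens X := W x ⊓ W y
    have e : (constUnit X A).app (op W') (a x) = (constUnit X A).app (op W') (a y) := by
      rw [← constUnit_res A (homOfLE inf_le_left : W' ⟶ W x) (a x),
        ← constUnit_res A (homOfLE inf_le_right : W' ⟶ W y) (a y), ha x, ha y]
      rw [← ConcreteCategory.comp_apply, ← ConcreteCategory.comp_apply,
        ← Functor.map_comp, ← Functor.map_comp]
      rfl
    have hinj := Presheaf.equalizerSieve_mem (Opens.grothendieckTopology X) (constUnit X A)
      (X := op W') (a x) (a y) e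
    obtain ⟨W'', g, hg, -⟩ := hinj z ⟨hzx, hzy⟩
    exact hg
  -- choose the common value
  obtain ⟨a₀, ha₀⟩ : ∃ a₀ : A, ∀ x : V.unop, a x = a₀ := by
    rcases isEmpty_or_nonempty ↥V.unop with hV | ⟨⟨x₀⟩⟩
    · exact ⟨0, fun x => (hV.false x).elim⟩
    · exact ⟨a x₀, fun x => hconst x x₀⟩
  refine ⟨(constUnit X A).app U a₀, ?_⟩
  refine TopCat.Sheaf.eq_of_locally_eq' (CohTop.const X A) W V.unop f ?_ _ _ (fun x => ?_)
  · intro z hz
    exact Opens.mem_iSup.mpr ⟨⟨z, hz⟩, hxW ⟨z, hz⟩⟩
  · rw [← ha x, ha₀ x, ← constUnit_res A (f x ≫ i.unop) a₀]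
    rw [← ConcreteCategory.comp_apply, ← Functor.map_comp]
    rfl

end Groth.Agent.Lib.Helper28.ShCoh
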