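import Mathlib
import Groth.Prelude.Def_DRing2
import Groth.Prelude.Def_DDual2
import Groth.Prelude.Def_DerCA
import Groth.Agent.Lib.Helper6.PCMap2
import Groth.Agent.Lib.Helper6.LocPC

/-! Graded restriction of scalars for `m`-pseudo-coherence: if `B` is `s`-pseudo-coherent as an
`A`-module and `K ∈ D^{≤ t}(B)` is `m`-pseudo-coherent over `B`, then `K` is
`max m (s + t)`-pseudo-coherent over `A`.  Application: composition of `n`-pseudo-coherent ring
maps (helper28). -/

set_option autoImplicit false
universe u

open CategoryTheory Limits Pretriangulated DerivedCategory ZeroObject TensorProduct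

namespace Groth.Agent.Lib.Helper28
namespace GradedRestr

attribute [local instance] HasDerivedCategory.standard

open Groth.Agent.Lib.Helper6 Groth.Agent.Lib.Helper6.MPC Groth.Agent.Lib.Helper6.RestrPC
  Groth.Agent.Lib.Helper35.FlatBC

section ModPC

variable {A : Type u} [CommRing A]

/-- The module `M` (in degree `0`) is `s`-pseudo-coherent. -/
def ModPC (s : ℤ) (M : ModuleCat.{u} A) : Prop :=
  DRing.IsPseudoCoherent A s ((DerivedCategory.singleFunctor (ModuleCat.{u} A) 0).obj M)

lemma modPC_of_iso {s : ℤ} {M N : ModuleCat.{u} A} (e : M ≅ N) (h : ModPC s M) : ModPC s N :=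
  isPC_of_iso ((DerivedCategory.singleFunctor (ModuleCat.{u} A) 0).mapIso e) h

lemma modPC_of_isZero {M : ModuleCat.{u} A} (h : IsZero M) (s : ℤ) : ModPC s M :=
  isPC_of_isZero ((DerivedCategory.singleFunctor (ModuleCat.{u} A) 0).map_isZero h) s

lemma modPC_of_shortExact {s : ℤ} {S : ShortComplex (ModuleCat.{u} A)} (hS : S.ShortExact)
    (h₁ : ModPC s S.X₁) (h₃ : ModPC s S.X₃) : ModPC s S.X₂ :=
  (isPC_triangle _ hS.singleTriangle_distinguished s).2.1 h₁ h₃

lemma modPC_prod {s : ℤ} (M N : ModuleCat.{u} A) (hM : ModPC s M) (hN : ModPC s N) :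
    ModPC s (ModuleCat.of A (M × N)) := by
  let S : ShortComplex (ModuleCat.{u} A) :=
    ShortComplex.mk (ModuleCat.ofHom (LinearMap.inl A M N)) (ModuleCat.ofHom (LinearMap.snd A M N))
      (by ext x; simp)
  have hS : S.ShortExact := by
    refine ModuleCat.shortComplex_shortExact S ?_ LinearMap.inl_injective LinearMap.snd_surjective
    intro x
    constructor
    · intro hx
      have hx' : (x : M × N).2 = 0 := hx
      refine ⟨(x : M × N).1, ?_⟩
      show ((x : M × N).1, (0 : N)) = x
      exact Prod.ext rfl hx'.symm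
    · rintro ⟨y, rfl⟩
      rfl
  exact modPC_of_shortExact hS hM hN

lemma modPC_pi {s : ℤ} (M : ModuleCat.{u} A) (hM : ModPC s M) (n : ℕ) :
    ModPC s (ModuleCat.of A (Fin n → M)) := by
  induction n with
  | zero => exact modPC_of_isZero (ModuleCat.isZero_of_subsingleton _) s
  | succ n ih =>
    exact modPC_of_iso (Fin.consLinearEquiv A (fun _ : Fin (n + 1) => (M : Type u))).toModuleIso
      (modPC_prod M _ hM ih)

end ModPC

variable {A B C : Type u} [CommRing A] [CommRing B] [CommRing C]

/-- the ring map `φ` makes `B` an `s`-pseudo-coherent `A`-module. -/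
def PCMapN (s : ℤ) (φ : A →+* B) : Prop := ModPC s ((Φ φ).obj (ModuleCat.of B B))

lemma pcMapN_of_pcMap {φ : A →+* B} (h : PCMap φ) (s : ℤ) : PCMapN s φ := h s

variable (φ : A →+* B)

lemma modPC_restr_of_finite_free {s : ℤ} (hB : PCMapN s φ)
    (F : ModuleCat.{u} B) [Module.Finite B F] [Module.Free B F] : ModPC s ((Φ φ).obj F) := by
  let ι := Module.Free.ChooseBasisIndex B F
  let n := Fintype.card ι
  have e : F ≃ₗ[B] (Fin n → B) :=
    ((Module.Free.chooseBasis B F).reindex (Fintype.equivFin ι)).equivFun
  have e' : F ≅ ModuleCat.of B (Fin n → B) := e.toModuleIso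
  exact modPC_of_iso ((piRestrIso φ n).symm ≪≫ ((Φ φ).mapIso e').symm)
    (modPC_pi _ hB n)

/-- graded restriction, inductive form. -/
theorem isPC_rD_graded_aux {s : ℤ} (hB : PCMapN s φ) (n : ℕ) :
    ∀ (K : Dual.D B) (t m : ℤ), t - m + 1 ≤ n → K.IsLE t →
      DRing.IsPseudoCoherent B m K →
        DRing.IsPseudoCoherent A (max m (s + t)) ((DRing.restrictD φ).obj K) := by
  induction n with
  | zero =>
    intro K t m hn hK _
    have : K.IsLE (m - 1) := TStructure.t.isLE_of_le K t (m - 1) (by omega)
    have : ((DRing.restrictD φ).obj K).IsLE (m - 1) := isLE_rD φ K (m - 1)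
    exact isPC_of_le (le_max_left _ _) (isPC_of_isLE m _)
  | succ n ih =>
    intro K t m hn hK h
    by_cases htm : t < m
    · have : K.IsLE (m - 1) := TStructure.t.isLE_of_le K t (m - 1) (by omega)
      have : ((DRing.restrictD φ).obj K).IsLE (m - 1) := isLE_rD φ K (m - 1)
      exact isPC_of_le (le_max_left _ _) (isPC_of_isLE m _)
    · have htm' : m ≤ t := by omega
      have hfinB : Module.Finite B ((homologyFunctor (ModuleCat.{u} B) t).obj K) :=
        finite_top _ t (isPC_of_le htm' h)
      obtain ⟨r, f, hf⟩ := Module.Finite.exists_fin' B ((homologyFunctor (ModuleCat.{u} B) t).obj K)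
      let F : ModuleCat.{u} B := ModuleCat.of B (Fin r → B)
      have hF1 : Module.Finite B F := inferInstanceAs (Module.Finite B (Fin r → B))
      have hF2 : Module.Free B F := inferInstanceAs (Module.Free B (Fin r → B))
      have hF3 : Projective F := (IsProjective.iff_projective (R := B) (P := F)).mp inferInstance
      have hepi : Epi (ModuleCat.ofHom f) := (ModuleCat.epi_iff_surjective _).2 hf
      obtain ⟨ψ, hψ⟩ := Resol.exists_cond_map_of_epi K t F (ModuleCat.ofHom f)
      obtain ⟨K', p, q, hT⟩ := distinguished_cocone_triangle ψ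
      have hK' : K'.IsLE (t - 1) := (cond_iff_isLE _ hT t).1 hψ
      have hT' := (DRing.restrictD φ).map_distinguished _ hT
      have hFB : DRing.IsPseudoCoherent B (m + 1)
          ((DerivedCategory.singleFunctor (ModuleCat.{u} B) t).obj F) :=
        isPC_single_degree F t (m + 1) (isPC_of_FF (FF_single F) (m + 1 - t))
      have h2 : DRing.IsPseudoCoherent B m K' := (isPC_triangle _ hT m).1 hFB h
      have h3 : DRing.IsPseudoCoherent A (max m (s + (t - 1))) ((DRing.restrictD φ).obj K') :=
        ih K' (t - 1) m (by omega) hK' h2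
      have h3' : DRing.IsPseudoCoherent A (max m (s + t)) ((DRing.restrictD φ).obj K') :=
        isPC_of_le (max_le_max le_rfl (by omega)) h3
      have hFA : DRing.IsPseudoCoherent A (max m (s + t)) ((DRing.restrictD φ).obj
          ((DerivedCategory.singleFunctor (ModuleCat.{u} B) t).obj F)) := by
        refine isPC_of_le (le_max_right m (s + t)) ?_
        refine isPC_of_iso (((Φ φ).mapDerivedCategorySingleFunctor t).app F).symm
          (isPC_single_degree _ t (s + t) ?_)
        have := modPC_restr_of_finite_free φ hB F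
        have hst : s + t - t = s := by omega
        rw [hst]
        exact this
      exact (isPC_triangle _ hT' _).2.1 hFA h3'

/-- **Graded restriction of scalars**: if `B` is an `s`-pseudo-coherent `A`-module and
`K ∈ D^{≤ t}(B)` is `m`-pseudo-coherent, then `K|_A` is `max m (s + t)`-pseudo-coherent. -/
theorem isPC_rD_graded {s : ℤ} (hB : PCMapN s φ) (K : Dual.D B) (t m : ℤ) [K.IsLE t]
    (h : DRing.IsPseudoCoherent B m K) :
    DRing.IsPseudoCoherent A (max m (s + t)) ((DRing.restrictD φ).obj K) :=
  isPC_rD_graded_aux φ hB (t - m + 1).toNat K t m (by omega) inferInstance h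

section comp

variable {φ}

/-- post-composition with a bijective ring map preserves `PCMapN`. -/
lemma pcMapN_comp_bijective {s : ℤ} (hφ : PCMapN s φ) (e : B →+* C)
    (he : Function.Bijective e) : PCMapN s (e.comp φ) := by
  let l : ((Φ φ).obj (ModuleCat.of B B)) ≃ₗ[A] ((Φ (e.comp φ)).obj (ModuleCat.of C C)) :=
    { toFun := fun b => e b
      invFun := fun c => (RingEquiv.ofBijective e he).symm c
      map_add' := fun b b' => map_add e b b'
      map_smul' := fun a b => map_mul e (φ a) b
      left_inv := fun b => (RingEquiv.ofBijective e he).symm_apply_apply b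
      right_inv := fun c => (RingEquiv.ofBijective e he).apply_symm_apply c }
  exact modPC_of_iso l.toModuleIso hφ

end comp

section baseChange

variable {P A' P' : Type u} [CommRing P] [CommRing A'] [CommRing P'] [Algebra P A']
  [Algebra P P'] [Module.Flat P P']

lemma pcMapN_includeLeft {s : ℤ} (h : PCMapN s (algebraMap P A')) :
    PCMapN s (Algebra.TensorProduct.includeLeftRingHom : P' →+* P' ⊗[P] A') := by
  have h1 : DRing.IsPseudoCoherent P s (Dual.inD P A') :=
    isPC_of_iso ((DerivedCategory.singleFunctor (ModuleCat.{u} P) 0).mapIso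
      (restrSelfIso P A').symm) h
  have h2 := isPseudoCoherent_G P' s _ h1
  have h3 := isPC_of_iso (GInDIso P' A') h2
  exact isPC_of_iso ((DerivedCategory.singleFunctor (ModuleCat.{u} P') 0).mapIso
    (tensorRestrIso (P := P) (A := A') (P' := P'))) h3

end baseChange

section mvPoly

variable {P A' : Type u} [CommRing P] [CommRing A']

lemma pcMapN_mvPolynomial_map {s : ℤ} (φ : P →+* A') (h : PCMapN s φ) (k : ℕ) :
    PCMapN s (MvPolynomial.map φ : MvPolynomial (Fin k) P →+* MvPolynomial (Fin k) A') := by
  letI : Algebra P A' := φ.toAlgebra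
  have h0 : PCMapN s (algebraMap P A') := h
  have h1 : PCMapN s (Algebra.TensorProduct.includeLeftRingHom :
      MvPolynomial (Fin k) P →+* MvPolynomial (Fin k) P ⊗[P] A') := pcMapN_includeLeft h0
  let e : MvPolynomial (Fin k) P ⊗[P] A' ≃+* MvPolynomial (Fin k) A' :=
    (Algebra.TensorProduct.comm P (MvPolynomial (Fin k) P) A').toRingEquiv.trans
      (MvPolynomial.algebraTensorAlgEquiv P A').toRingEquiv
  have heq : (MvPolynomial.map φ : MvPolynomial (Fin k) P →+* MvPolynomial (Fin k) A') =
      e.toRingHom.comp Algebra.TensorProduct.includeLeftRingHom := by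
    apply MvPolynomial.ringHom_ext
    · intro p
      simp [e]
      rfl
    · intro i
      simp [e]
  rw [heq]
  exact pcMapN_comp_bijective h1 e.toRingHom e.bijective

end mvPoly

section trans

variable {R A' B' : Type u} [CommRing R] [CommRing A'] [CommRing B'] [Algebra R A']
  [Algebra A' B'] [Algebra R B'] [IsScalarTower R A' B']

/-- `A'` is `s`-pseudo-coherent relative to `R`: presentations of `A'` are `PCMapN s`. -/
lemma pcMapN_of_relPC {s : ℤ} (hA : DerCA.IsRelPseudoCoherent R A' s (Dual.inD A' A'))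
    {n : ℕ} (α : MvPolynomial (Fin n) R →ₐ[R] A') (hα : Function.Surjective α) :
    PCMapN s (α : MvPolynomial (Fin n) R →+* A') :=
  isPC_of_iso (((Φ (α : MvPolynomial (Fin n) R →+* A')).mapDerivedCategorySingleFunctor 0).app
    (ModuleCat.of A' A')) ((relPC_of_via' α hα _ s).1 hA)

/-- **Graded transitivity of relative pseudo-coherence**: if `A'` is `s`-pseudo-coherent relative
to `R` and `K ∈ D^{≤ t}(B')` is `m`-pseudo-coherent relative to `A'`, then `K` is
`max m (s + t)`-pseudo-coherent relative to `R`. -/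
theorem relPC_trans_graded {s : ℤ} (hA : DerCA.IsRelPseudoCoherent R A' s (Dual.inD A' A'))
    (K : Dual.D B') (t m : ℤ) [K.IsLE t] (hK : DerCA.IsRelPseudoCoherent A' B' m K) :
    DerCA.IsRelPseudoCoherent R B' (max m (s + t)) K := by
  obtain ⟨n, α, hα, hAα⟩ := hA
  obtain ⟨k, β, hβ, hKβ⟩ := hK
  have hα' : PCMapN s (α : MvPolynomial (Fin n) R →+* A') := pcMapN_of_relPC ⟨n, α, hα, hAα⟩ α hα
  let μ : MvPolynomial (Fin k) (MvPolynomial (Fin n) R) →+* MvPolynomial (Fin k) A' :=
    MvPolynomial.map (α : MvPolynomial (Fin n) R →+* A')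
  have hμ : PCMapN s μ := pcMapN_mvPolynomial_map _ hα' k
  let σ : MvPolynomial (Fin (k + n)) R ≃ₐ[R] MvPolynomial (Fin k) (MvPolynomial (Fin n) R) :=
    (MvPolynomial.renameEquiv R finSumFinEquiv.symm).trans
      (MvPolynomial.sumAlgEquiv R (Fin k) (Fin n))
  let σ' : MvPolynomial (Fin (k + n)) R →+* MvPolynomial (Fin k) (MvPolynomial (Fin n) R) :=
    (σ : _ →+* _)
  have hσ : PCMap σ' := pcMap_of_bijective _ σ.bijective
  let β' : MvPolynomial (Fin k) A' →+* B' := (β : _ →+* B')
  let γ : MvPolynomial (Fin (k + n)) R →ₐ[R] B' :=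
    ((β.restrictScalars R).comp (MvPolynomial.mapAlgHom α)).comp σ.toAlgHom
  have hγ : Function.Surjective γ := by
    refine (hβ.comp ?_).comp σ.surjective
    exact MvPolynomial.map_surjective _ hα
  have heq : (γ : MvPolynomial (Fin (k + n)) R →+* B') = (β'.comp μ).comp σ' := rfl
  refine ⟨k + n, γ, hγ, ?_⟩
  show DRing.IsPseudoCoherent _ _
    ((DRing.restrictD (γ : MvPolynomial (Fin (k + n)) R →+* B')).obj K)
  rw [heq, ← isPC_rD_comp_iff (β'.comp μ) hσ K]
  have hK1 : DRing.IsPseudoCoherent _ m ((DRing.restrictD β').obj K) := hKβ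
  have : ((DRing.restrictD β').obj K).IsLE t := isLE_rD β' K t
  have h2 := isPC_rD_graded μ hμ ((DRing.restrictD β').obj K) t m hK1
  exact isPC_of_iso (rDCompIso μ β' K) h2

end trans

end GradedRestr
end Groth.Agent.Lib.Helper28
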