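import Groth.Agent.Lib.Helper30.RelPC.Local
import Groth.Agent.Lib.Helper6.MPC3

/-!
# Relative pseudo-coherence in ring terms; `(-1)`-pseudo-coherent morphisms (helper28)

* `isPseudoCoherentRel_iff_of_charts`: chart-form relative `m`-pseudo-coherence of `E ∈ D_QCoh`
  with given module charts is the ring-level condition on all affine pairs (from helper30's S7234 libs).
* `isRelPseudoCoherent_neg_one_self_iff`: `A[0]` is `(-1)`-pc relative to `R` iff `A` is f.p. over `R`.
* `isNPseudoCoherent_neg_one_iff` (= S6225).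
-/

set_option autoImplicit false
universe u
open CategoryTheory CategoryTheory.Limits AlgebraicGeometry TopologicalSpace Opposite
attribute [local instance] HasDerivedCategory.standard

namespace Groth.Agent.Lib.Helper28.RelPCRing

open Groth.Agent.Lib.Helper30.RelPCLoc Groth.Agent.Lib.Helper30.AffinePush Groth.Agent.Lib.Helper6

section General

variable {X S : Scheme.{u}} (f : X ⟶ S)

/-- chart-form relative pseudo-coherence in ring terms, given module charts of `E`. -/
theorem isPseudoCoherentRel_iff_of_charts [LocallyOfFiniteType f] (E : DCoh.D X)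
    (hE : DCoh.IsQCohD E)
    (M : ∀ U : X.affineOpens, Dual.D Γ(X, (U : X.Opens)))
    (e : ∀ U : X.affineOpens, chartObj U.2 E ≅ (DCoh.tildeD Γ(X, (U : X.Opens))).obj (M U))
    (m : ℤ) :
    DerSch.IsPseudoCoherentRel f m E ↔
      ∀ (U : X.affineOpens) (V : S.affineOpens) (h : (U : X.Opens) ≤ f ⁻¹ᵁ (V : S.Opens)),
        @DerCA.IsRelPseudoCoherent Γ(S, (V : S.Opens)) Γ(X, (U : X.Opens)) _ _
          (f.appLE (V : S.Opens) (U : X.Opens) h).hom.toAlgebra m (M U) := by
  constructor
  · intro hrel U V h
    exact relPCOn_of_isPseudoCoherentRel hE hrel U.2 V.2 h (M U) ⟨e U⟩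
  · intro H
    refine ⟨inferInstance, Set.univ, ?_, fun V _ =>
      ⟨{U | (U : X.Opens) ≤ f ⁻¹ᵁ (V : S.Opens)}, ?_, fun U _ h => ?_⟩⟩
    · rw [eq_top_iff]
      intro y _
      obtain ⟨_, ⟨W, hW, rfl⟩, hyW, -⟩ := S.isBasis_affineOpens.exists_subset_of_mem_open
        (Set.mem_univ y) isOpen_univ
      exact Opens.mem_iSup.2 ⟨⟨W, hW⟩, Opens.mem_iSup.2 ⟨Set.mem_univ _, hyW⟩⟩
    · apply le_antisymm
      · exact iSup₂_le fun U hU => hU
      · intro x hx
        obtain ⟨_, ⟨W, hW, rfl⟩, hxW, hWV⟩ := X.isBasis_affineOpens.exists_subset_of_mem_open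
          (show x ∈ ((f ⁻¹ᵁ (V : S.Opens) : X.Opens) : Set X) from hx) (f ⁻¹ᵁ (V : S.Opens)).2
        exact Opens.mem_iSup.2 ⟨⟨W, hW⟩, Opens.mem_iSup.2 ⟨hWV, hxW⟩⟩
    · let _ : Algebra Γ(S, (V : S.Opens)) Γ(X, (U : X.Opens)) :=
        (f.appLE (V : S.Opens) (U : X.Opens) h).hom.toAlgebra
      obtain ⟨n, α, hα, hvia⟩ := H U V h
      refine ⟨n, (α : MvPolynomial (Fin n) Γ(S, (V : S.Opens)) →+* Γ(X, (U : X.Opens))),
        ⟨hα, ?_⟩, ?_⟩
      · ext r
        exact α.commutes r
      · intro G' hG'
        obtain ⟨eG'⟩ := hG'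
        exact (isPC_restrictD_of_closedPush (m := m) U.2
          (CommRingCat.of (MvPolynomial (Fin n) Γ(S, (V : S.Opens))))
          (CommRingCat.ofHom (α : MvPolynomial (Fin n) Γ(S, (V : S.Opens)) →+* Γ(X, (U : X.Opens))))
          hα G' (M U)
          ((DCoh.restrictD U.2.isoSpec.inv).mapIso
            ((DCoh.restrictD (U : X.Opens).ι).mapIso eG') ≪≫ e U)).2 hvia

end General

section Ring

variable {P A : Type u} [CommRing P] [CommRing A]

/-- restriction of scalars of a module in degree `0`. -/
noncomputable def restrictDSingleIso (φ : P →+* A) (N : ModuleCat.{u} A) :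
    (DRing.restrictD φ).obj ((DerivedCategory.singleFunctor (ModuleCat.{u} A) 0).obj N) ≅
      (DerivedCategory.singleFunctor (ModuleCat.{u} P) 0).obj
        ((ModuleCat.restrictScalars.{u} φ).obj N) :=
  ((ModuleCat.restrictScalars.{u} φ).mapDerivedCategorySingleFunctor 0).app N

lemma isPC_restrictD_single_iff (φ : P →+* A) (N : ModuleCat.{u} A) (m : ℤ) :
    DRing.IsPseudoCoherent P m
        ((DRing.restrictD φ).obj ((DerivedCategory.singleFunctor (ModuleCat.{u} A) 0).obj N)) ↔
      DRing.IsPseudoCoherent P m ((DerivedCategory.singleFunctor (ModuleCat.{u} P) 0).obj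
        ((ModuleCat.restrictScalars.{u} φ).obj N)) :=
  ⟨fun h => MPC.isPC_of_iso (restrictDSingleIso φ N) h,
    fun h => MPC.isPC_of_iso (restrictDSingleIso φ N).symm h⟩

/-- for surjective `φ : P → A`, `A` is a finitely presented `P`-module iff `ker φ` is f.g. -/
lemma finitePresentation_restrictScalars_self_iff (φ : P →+* A) (hφ : Function.Surjective φ) :
    Module.FinitePresentation P ((ModuleCat.restrictScalars.{u} φ).obj (ModuleCat.of A A)) ↔
      (RingHom.ker φ).FG := by
  let l : P →ₗ[P] ((ModuleCat.restrictScalars.{u} φ).obj (ModuleCat.of A A)) :=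
    { toFun := fun p => (φ p : A)
      map_add' := fun a b => map_add φ a b
      map_smul' := fun a b => by
        show φ (a * b) = φ a * φ b
        exact map_mul φ a b }
  have hl : Function.Surjective l := hφ
  have hker : LinearMap.ker l = (RingHom.ker φ).restrictScalars P := by
    ext p
    rfl
  constructor
  · intro h
    have := Module.FinitePresentation.fg_ker l hl
    rw [hker] at this
    exact this
  · intro h
    refine Module.finitePresentation_of_surjective l hl ?_
    rw [hker]
    exact h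

end Ring

section Alg

variable {R A : Type u} [CommRing R] [CommRing A] [Algebra R A]

/-- `A[0]` is `(-1)`-pseudo-coherent relative to `R` iff `A` is a finitely presented `R`-algebra. -/
theorem isRelPseudoCoherent_neg_one_self_iff :
    DerCA.IsRelPseudoCoherent R A (-1)
        ((DerivedCategory.singleFunctor (ModuleCat.{u} A) 0).obj (ModuleCat.of A A)) ↔
      Algebra.FinitePresentation R A := by
  constructor
  · rintro ⟨n, α, hα, hvia⟩
    have h1 := (isPC_restrictD_single_iff (α : MvPolynomial (Fin n) R →+* A) _ (-1)).1 hvia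
    have h2 := MPC.fp_of_isPC_neg_one_single _ h1
    have h3 := (finitePresentation_restrictScalars_self_iff
      (α : MvPolynomial (Fin n) R →+* A) hα).1 h2
    exact Algebra.FinitePresentation.of_surjective hα h3
  · intro h
    obtain ⟨n, α, hα, hker⟩ := Algebra.FinitePresentation.out (R := R) (A := A)
    refine ⟨n, α, hα, ?_⟩
    have h2 := (finitePresentation_restrictScalars_self_iff
      (α : MvPolynomial (Fin n) R →+* A) hα).2 hker
    exact (isPC_restrictD_single_iff (α : MvPolynomial (Fin n) R →+* A) _ (-1)).2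
      (MPC.isPC_neg_one_single_of_fp _)

end Alg

section Unit

variable {X S : Scheme.{u}} (f : X ⟶ S)

lemma isQCohD_unit (X : Scheme.{u}) : DCoh.IsQCohD (DCoh.toD X (DerSch.unitCx X)) := by
  apply isQCohD_Q_of_termwise
  intro n
  by_cases hn : n = 0
  · subst hn
    exact Groth.Agent.Lib.Helper49.isQuasicoherent_of_iso
      (HomologicalComplex.singleObjXSelf (ComplexShape.up ℤ) 0 (Coh.structureModule X)).symm
      (Groth.Agent.Lib.Helper1.isQuasicoherent_structureModule X)
  · exact Groth.Agent.Lib.Helper1.isQuasicoherent_of_isZero _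
      (HomologicalComplex.isZero_single_obj_X (ComplexShape.up ℤ) 0 _ n hn)

/-- `O_X[0]` as a complex versus as an object of `D(O_X)`. -/
noncomputable def unitIso (X : Scheme.{u}) :
    DCoh.toD X (DerSch.unitCx X) ≅ DCoh.inD X (Coh.structureModule X) :=
  ((DerivedCategory.singleFunctorIsoCompQ X.Modules 0).app (Coh.structureModule X)).symm

/-- the chart of `O_X[0]` on an affine open. -/
noncomputable def chartUnitIso (U : X.affineOpens) :
    chartObj U.2 (DCoh.toD X (DerSch.unitCx X)) ≅
      (DCoh.tildeD Γ(X, (U : X.Opens))).obj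
        ((DerivedCategory.singleFunctor (ModuleCat.{u} Γ(X, (U : X.Opens))) 0).obj
          (ModuleCat.of Γ(X, (U : X.Opens)) Γ(X, (U : X.Opens)))) :=
  (DCoh.restrictD U.2.isoSpec.inv).mapIso ((DCoh.restrictD (U : X.Opens).ι).mapIso (unitIso X)) ≪≫
    chartObjStructureIso U.2

theorem isNPseudoCoherent_iff [LocallyOfFiniteType f] (m : ℤ) :
    DerSch.IsNPseudoCoherent f m ↔
      ∀ (U : X.affineOpens) (V : S.affineOpens) (h : (U : X.Opens) ≤ f ⁻¹ᵁ (V : S.Opens)),
        @DerCA.IsRelPseudoCoherent Γ(S, (V : S.Opens)) Γ(X, (U : X.Opens)) _ _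
          (f.appLE (V : S.Opens) (U : X.Opens) h).hom.toAlgebra m
          ((DerivedCategory.singleFunctor (ModuleCat.{u} Γ(X, (U : X.Opens))) 0).obj
            (ModuleCat.of Γ(X, (U : X.Opens)) Γ(X, (U : X.Opens)))) :=
  isPseudoCoherentRel_iff_of_charts f _ (isQCohD_unit X) _ chartUnitIso m

/-- **`f` is `(-1)`-pseudo-coherent iff it is locally of finite presentation.** -/
theorem isNPseudoCoherent_neg_one_iff [LocallyOfFiniteType f] :
    DerSch.IsNPseudoCoherent f (-1) ↔ LocallyOfFinitePresentation f := by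
  rw [isNPseudoCoherent_iff, HasRingHomProperty.iff_appLE (P := @LocallyOfFinitePresentation)]
  constructor
  · intro H V U h
    exact (@isRelPseudoCoherent_neg_one_self_iff _ _ _ _
      (f.appLE (V : S.Opens) (U : X.Opens) h).hom.toAlgebra).1 (H U V h)
  · intro H U V h
    exact (@isRelPseudoCoherent_neg_one_self_iff _ _ _ _
      (f.appLE (V : S.Opens) (U : X.Opens) h).hom.toAlgebra).2 (H V U h)

end Unit

end Groth.Agent.Lib.Helper28.RelPCRing
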