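import Groth.Agent.Lib.Helper30.ClosedPC.ChartIndep
import Groth.Agent.Lib.Helper28.RelPCRing
import Groth.Agent.Lib.Helper6.PCMap2
import Groth.Agent.Lib.Helper6.LocPC

/-!
# Absolute versus relative pseudo-coherence for pseudo-coherent morphisms (helper28)

* `isPseudoCoherentRel_of_forall_chart`: the easy direction of chart independence.
* `hO_jOf`: a chart `U ⟶ Spec Q` along a surjection making `Γ(X, U)` a pseudo-coherent `Q`-module
  has pseudo-coherent direct image of the structure sheaf.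
* `chartPC_iff_of_pcMap`: for such charts, the chart test is absolute pseudo-coherence of `E|_U`.
* `isPseudoCoherentD_iff_isPseudoCoherentRel`: for a pseudo-coherent morphism, absolute and
  relative `m`-pseudo-coherence agree.
-/

set_option autoImplicit false
universe u
open CategoryTheory CategoryTheory.Limits AlgebraicGeometry TopologicalSpace Opposite
attribute [local instance] HasDerivedCategory.standard

namespace Groth.Agent.Lib.Helper28.RelPCAbs

open Scheme.Modules Groth.Agent.Lib.Helper30.ClosedPC Groth.Agent.Lib.Helper30.PerfRestrict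
  Groth.Agent.Lib.Helper30.PCTriangle
  Groth.Agent.Lib.Helper28.ClosedPush Groth.Agent.Lib.Helper6 Groth.Agent.Lib.Helper6.RestrPC
  Groth.Agent.Lib.Helper28.RelPCRing

section General

variable {X S : Scheme.{u}} (f : X ⟶ S)

/-- easy direction of chart independence: charts with the pseudo-coherence test on all pairs of
affine opens give relative pseudo-coherence in chart form. -/
theorem isPseudoCoherentRel_of_forall_chart [LocallyOfFiniteType f] (E : DCoh.D X) (m : ℤ)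
    (H : ∀ (U : X.affineOpens) (V : S.affineOpens) (h : (U : X.Opens) ≤ f ⁻¹ᵁ (V : S.Opens)),
      ∃ (n : ℕ) (φ : MvPolynomial (Fin n) Γ(S, (V : S.Opens)) →+* Γ(X, (U : X.Opens))),
        DerSch.IsChart f (U : X.Opens) (V : S.Opens) h φ ∧
          DerSch.ChartPC m E (U : X.Opens) (V : S.Opens) φ) :
    DerSch.IsPseudoCoherentRel f m E := by
  refine ⟨inferInstance, Set.univ, ?_, fun V _ =>
    ⟨{U | (U : X.Opens) ≤ f ⁻¹ᵁ (V : S.Opens)}, ?_, fun U _ h => H U V h⟩⟩
  · rw [eq_top_iff]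
    intro y _
    obtain ⟨_, ⟨W, hW, rfl⟩, hyW, -⟩ := S.isBasis_affineOpens.exists_subset_of_mem_open
      (Set.mem_univ y) isOpen_univ
    exact Opens.mem_iSup.2 ⟨⟨W, hW⟩, Opens.mem_iSup.2 ⟨Set.mem_univ _, hyW⟩⟩
  · apply le_antisymm
    · exact iSup₂_le fun U hU => hU
    · intro x hx
      obtain ⟨_, ⟨W, hW, rfl⟩, hxW, hWV⟩ := X.isBasis_affineOpens.exists_subset_of_mem_open
        (show x ∈ ((f ⁻¹ᵁ (V : S.Opens) : X.Opens) : Set X) from hx) (f ⁻¹ᵁ (V : S.Opens)).2
      exact Opens.mem_iSup.2 ⟨⟨W, hW⟩, Opens.mem_iSup.2 ⟨hWV, hxW⟩⟩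

end General

section HO

variable {X : Scheme.{u}}

/-- direct image of the structure module along an isomorphism. -/
noncomputable def pushUnitIsoOfIso {Y Z : Scheme.{u}} (e : Y ≅ Z) :
    (pushforward e.hom).obj (Coh.structureModule Y) ≅ Coh.structureModule Z :=
  (Groth.Agent.Lib.Helper30.AffinePush.pushforwardIsoRestrict e).app (Coh.structureModule Y) ≪≫
    Scheme.Modules.restrictUnitIso e.inv

/-- a chart along a surjection making `Γ(X, U)` a pseudo-coherent module has pseudo-coherent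
direct image of the structure sheaf. -/
lemma hO_jOf {U : X.Opens} (hU : IsAffineOpen U) {Q : CommRingCat.{u}} (χ : Q ⟶ Γ(X, U))
    (hχ : Function.Surjective χ.hom) (h : PCMap χ.hom) :
    haveI := isClosedImmersion_jOf hU χ hχ
    HO (jOf U χ) := by
  have h2 : IsClosedImmersion (Spec.map χ) := IsClosedImmersion.spec_of_surjective χ hχ
  have h3 := hO_spec χ h
  intro m
  refine isPseudoCoherentD_of_iso ?_ m (h3 m)
  refine (DerivedCategory.singleFunctor _ 0).mapIso ?_
  have e1 : (pushforward U.toSpecΓ).obj (Coh.structureModule (U : Scheme.{u})) ≅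
      Coh.structureModule (Spec Γ(X, U)) := by
    have := pushUnitIsoOfIso hU.isoSpec
    rwa [hU.isoSpec_hom] at this
  exact (pushforward (Spec.map χ)).mapIso e1.symm ≪≫
    (Scheme.Modules.pushforwardComp U.toSpecΓ (Spec.map χ)).app _

/-- for a chart making `Γ(X, U)` a pseudo-coherent module over the polynomial ring, the chart test
is absolute pseudo-coherence of `E|_U`. -/
theorem chartPC_iff_of_pcMap {S : Scheme.{u}} (E : DCoh.D X) (m : ℤ) {U : X.Opens}
    (hU : IsAffineOpen U) (V : S.Opens) {n : ℕ}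
    (φ : MvPolynomial (Fin n) Γ(S, V) →+* Γ(X, U)) (hφ : Function.Surjective φ)
    (hpc : PCMap φ) :
    DerSch.ChartPC m E U V φ ↔ DCoh.IsPseudoCoherentD m ((rD U.ι).obj E) := by
  have h1 : IsClosedImmersion (DerSch.chartImm U φ) := isClosedImmersion_chartImm hU φ hφ
  rw [chartPC_iff]
  have hO : HO (DerSch.chartImm U φ) :=
    hO_jOf hU (CommRingCat.ofHom φ) hφ hpc
  exact (pc_iff (DerSch.chartImm U φ) hO ((rD U.ι).obj E) m).symm

end HO

section Main

variable {Y Z : Scheme.{u}} (g : Y ⟶ Z)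

/-- a chart of a pseudo-coherent morphism is a `PCMap`. -/
lemma pcMap_of_chart [LocallyOfFiniteType g] (hg : ∀ n : ℤ, DerSch.IsNPseudoCoherent g n)
    (U : Y.affineOpens) (V : Z.affineOpens) (h : (U : Y.Opens) ≤ g ⁻¹ᵁ (V : Z.Opens)) {n : ℕ}
    (φ : MvPolynomial (Fin n) Γ(Z, (V : Z.Opens)) →+* Γ(Y, (U : Y.Opens)))
    (hφ : DerSch.IsChart g (U : Y.Opens) (V : Z.Opens) h φ) : PCMap φ := by
  let _ : Algebra Γ(Z, (V : Z.Opens)) Γ(Y, (U : Y.Opens)) :=
    (g.appLE (V : Z.Opens) (U : Y.Opens) h).hom.toAlgebra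
  let α : MvPolynomial (Fin n) Γ(Z, (V : Z.Opens)) →ₐ[Γ(Z, (V : Z.Opens))] Γ(Y, (U : Y.Opens)) :=
    { toRingHom := φ
      commutes' := fun r => RingHom.congr_fun hφ.2 r }
  have hα : Function.Surjective α := hφ.1
  intro m'
  have h1 := (isNPseudoCoherent_iff g m').1 (hg m') U V h
  exact MPC.isPC_of_iso
    (((Φ (α : MvPolynomial (Fin n) Γ(Z, (V : Z.Opens)) →+* Γ(Y, (U : Y.Opens)))).mapDerivedCategorySingleFunctor
      0).app (ModuleCat.of Γ(Y, (U : Y.Opens)) Γ(Y, (U : Y.Opens))))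
    ((relPC_of_via' α hα _ m').1 h1)

/-- **Absolute versus relative pseudo-coherence** for a pseudo-coherent morphism. -/
theorem isPseudoCoherentD_iff_isPseudoCoherentRel [LocallyOfFiniteType g]
    (hg : ∀ n : ℤ, DerSch.IsNPseudoCoherent g n) (r : ℤ) (E : DCoh.D Y) :
    DCoh.IsPseudoCoherentD r E ↔ DerSch.IsPseudoCoherentRel g r E := by
  constructor
  · intro hE
    apply isPseudoCoherentRel_of_forall_chart
    intro U V h
    let _ : Algebra Γ(Z, (V : Z.Opens)) Γ(Y, (U : Y.Opens)) :=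
      (g.appLE (V : Z.Opens) (U : Y.Opens) h).hom.toAlgebra
    have hft : Algebra.FiniteType Γ(Z, (V : Z.Opens)) Γ(Y, (U : Y.Opens)) :=
      Groth.Agent.Lib.Helper30.RelPCLoc.finiteType_appLE U.2 V.2 h
    obtain ⟨n, α, hα⟩ := (Algebra.FiniteType.iff_quotient_mvPolynomial''
      (R := Γ(Z, (V : Z.Opens))) (S := Γ(Y, (U : Y.Opens)))).1 hft
    have hchart : DerSch.IsChart g (U : Y.Opens) (V : Z.Opens) h
        (α : MvPolynomial (Fin n) Γ(Z, (V : Z.Opens)) →+* Γ(Y, (U : Y.Opens))) := by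
      refine ⟨hα, ?_⟩
      ext r
      exact α.commutes r
    refine ⟨n, _, hchart, ?_⟩
    exact (chartPC_iff_of_pcMap E r U.2 (V : Z.Opens)
      (α : MvPolynomial (Fin n) Γ(Z, (V : Z.Opens)) →+* Γ(Y, (U : Y.Opens))) hα
      (pcMap_of_chart g hg U V h _ hchart)).2
      (Groth.Agent.S0914.isPseudoCoherentD_restrict _ r E hE)
  · rintro ⟨-, 𝒱, h𝒱, H⟩
    apply Groth.Agent.Lib.Helper30.RelTorRestrict.isPseudoCoherentD_of_cover
    intro y
    have hgy : g y ∈ (⨆ V ∈ 𝒱, (V : Z.Opens)) := by rw [h𝒱]; trivial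
    obtain ⟨V, hgy'⟩ := Opens.mem_iSup.1 hgy
    obtain ⟨hVmem, hgyV⟩ := Opens.mem_iSup.1 hgy'
    obtain ⟨𝒰, h𝒰, HU⟩ := H V hVmem
    have hy' : y ∈ (⨆ U ∈ 𝒰, (U : Y.Opens)) := by rw [h𝒰]; exact hgyV
    obtain ⟨U, hy''⟩ := Opens.mem_iSup.1 hy'
    obtain ⟨hUmem, hyU⟩ := Opens.mem_iSup.1 hy''
    have hUV : (U : Y.Opens) ≤ g ⁻¹ᵁ (V : Z.Opens) := by
      rw [← h𝒰]
      exact le_iSup₂ (f := fun (U : Y.affineOpens) (_ : U ∈ 𝒰) => (U : Y.Opens)) U hUmem
    obtain ⟨n, φ, hφ, hpc⟩ := HU U hUmem hUV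
    rw [chartPC_iff_of_pcMap E r U.2 (V : Z.Opens) φ hφ.1 (pcMap_of_chart g hg U V hUV φ hφ)] at hpc
    exact ⟨_, (U : Y.Opens).ι, inferInstance, ⟨⟨y, hyU⟩, rfl⟩, hpc⟩

end Main

end Groth.Agent.Lib.Helper28.RelPCAbs
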