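import Groth.Agent.Lib.Helper28.ClosedPCGraded
import Groth.Agent.Lib.Helper28.GradedRestr
import Groth.Agent.Lib.Helper28.RelPCAbs

/-!
# Graded pseudo-coherence on charts (helper28)

For a chart `φ : P = Γ(S,V)[x] ↠ Γ(X,U)` making `Γ(X,U)` an `s`-pseudo-coherent `P`-module
(always true for `s = 0`) and `E ∈ D^{≤ n}(O_X)`:

* `chartPC_of_pc_graded`: `E|_U` `m`-pseudo-coherent ⇒ `ChartPC (max m (s + n)) E U V φ`;
* `pc_of_chartPC_graded`: `ChartPC m E U V φ` and `s ≤ m + 1 - n` ⇒ `E|_U` `m`-pseudo-coherent.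
-/

set_option autoImplicit false
universe u
open CategoryTheory CategoryTheory.Limits AlgebraicGeometry TopologicalSpace Opposite
attribute [local instance] HasDerivedCategory.standard

namespace Groth.Agent.Lib.Helper28.ClosedPCChart

open Scheme.Modules Groth.Agent.Lib.Helper30.ClosedPC Groth.Agent.Lib.Helper30.PerfRestrict
  Groth.Agent.Lib.Helper30.PCTriangle
  Groth.Agent.Lib.Helper28.ClosedPush Groth.Agent.Lib.Helper6 Groth.Agent.Lib.Helper6.RestrPC
  Groth.Agent.Lib.Helper28.ClosedPCGraded Groth.Agent.Lib.Helper28.GradedRestr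
  Groth.Agent.Lib.Helper28.RelPCAbs

local instance tildeExact'' (R : CommRingCat.{u}) : PreservesFiniteLimits (tilde.functor R) :=
  Groth.Agent.Lib.Helper49.preservesFiniteLimits_tilde R

section Ring

variable {A B : Type u} [CommRing A] [CommRing B]

/-- a surjective ring map makes the target a `0`-pseudo-coherent module. -/
lemma pcMapN_zero_of_surjective (φ : A →+* B) (hφ : Function.Surjective φ) : PCMapN 0 φ := by
  let l : A →ₗ[A] ((Φ φ).obj (ModuleCat.of B B)) :=
    { toFun := fun a => (φ a : B)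
      map_add' := fun a b => map_add φ a b
      map_smul' := fun a b => map_mul φ a b }
  have hl : Function.Surjective l := hφ
  have : Module.Finite A ((Φ φ).obj (ModuleCat.of B B)) := Module.Finite.of_surjective l hl
  exact MPC.isPC_zero_single_of_finite _

end Ring

variable {X : Scheme.{u}}

lemma hOs_spec {Q' Q : CommRingCat.{u}} (σ : Q' ⟶ Q) [IsClosedImmersion (Spec.map σ)] {s : ℤ}
    (h : PCMapN s σ.hom) : HOs (Spec.map σ) s := by
  have h1 := Groth.Agent.Lib.Helper30.TildePC.isPseudoCoherentD_tildeD Q' _ s h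
  refine isPseudoCoherentD_of_iso ?_ s h1
  exact ((tilde.functor Q').mapDerivedCategorySingleFunctor 0).app _ ≪≫
    (DerivedCategory.singleFunctor _ 0).mapIso
      ((Groth.Agent.Lib.Helper30.AffinePush.tildePushIso σ).app (ModuleCat.of Q Q)).symm

lemma hOs_jOf {U : X.Opens} (hU : IsAffineOpen U) {Q : CommRingCat.{u}} (χ : Q ⟶ Γ(X, U))
    (hχ : Function.Surjective χ.hom) {s : ℤ} (h : PCMapN s χ.hom) :
    haveI := isClosedImmersion_jOf hU χ hχ
    HOs (jOf U χ) s := by
  have h2 : IsClosedImmersion (Spec.map χ) := IsClosedImmersion.spec_of_surjective χ hχ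
  have h3 := hOs_spec χ h
  refine isPseudoCoherentD_of_iso ?_ s h3
  refine (DerivedCategory.singleFunctor _ 0).mapIso ?_
  have e1 : (pushforward U.toSpecΓ).obj (Coh.structureModule (U : Scheme.{u})) ≅
      Coh.structureModule (Spec Γ(X, U)) := by
    have := pushUnitIsoOfIso hU.isoSpec
    rwa [hU.isoSpec_hom] at this
  exact (pushforward (Spec.map χ)).mapIso e1.symm ≪≫
    (Scheme.Modules.pushforwardComp U.toSpecΓ (Spec.map χ)).app _

variable {S : Scheme.{u}}

/-- graded restriction on a chart. -/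
theorem chartPC_of_pc_graded (E : DCoh.D X) (n m s : ℤ) [E.IsLE n] {U : X.Opens}
    (hU : IsAffineOpen U) (V : S.Opens) {k : ℕ}
    (φ : MvPolynomial (Fin k) Γ(S, V) →+* Γ(X, U)) (hφ : Function.Surjective φ)
    (hpc : PCMapN s φ) (h : DCoh.IsPseudoCoherentD m ((rD U.ι).obj E)) :
    DerSch.ChartPC (max m (s + n)) E U V φ := by
  have h1 : IsClosedImmersion (DerSch.chartImm U φ) := isClosedImmersion_chartImm hU φ hφ
  rw [chartPC_iff]
  have hO : HOs (DerSch.chartImm U φ) s := hOs_jOf hU (CommRingCat.ofHom φ) hφ hpc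
  have : ((rD U.ι).obj E).IsLE n := ExactDC.isLE_obj _ n
  exact pc_cD_graded (DerSch.chartImm U φ) hO _ n m h

/-- graded descent on a chart. -/
theorem pc_of_chartPC_graded (E : DCoh.D X) (n m s : ℤ) [E.IsLE n] {U : X.Opens}
    (hU : IsAffineOpen U) (V : S.Opens) {k : ℕ}
    (φ : MvPolynomial (Fin k) Γ(S, V) →+* Γ(X, U)) (hφ : Function.Surjective φ)
    (hpc : PCMapN s φ) (hs : s ≤ m + 1 - n) (h : DerSch.ChartPC m E U V φ) :
    DCoh.IsPseudoCoherentD m ((rD U.ι).obj E) := by
  have h1 : IsClosedImmersion (DerSch.chartImm U φ) := isClosedImmersion_chartImm hU φ hφ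
  rw [chartPC_iff] at h
  have hO : HOs (DerSch.chartImm U φ) s := hOs_jOf hU (CommRingCat.ofHom φ) hφ hpc
  have : ((rD U.ι).obj E).IsLE n := ExactDC.isLE_obj _ n
  exact pc_of_pc_cD_graded (DerSch.chartImm U φ) hO _ n m hs h

/-- for `E ∈ D^{≤ n}` and `m ≥ n`, the chart test is absolute `m`-pseudo-coherence of `E|_U`. -/
theorem chartPC_iff_of_le (E : DCoh.D X) (n m : ℤ) [E.IsLE n] (hnm : n ≤ m) {U : X.Opens}
    (hU : IsAffineOpen U) (V : S.Opens) {k : ℕ}
    (φ : MvPolynomial (Fin k) Γ(S, V) →+* Γ(X, U)) (hφ : Function.Surjective φ) :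
    DerSch.ChartPC m E U V φ ↔ DCoh.IsPseudoCoherentD m ((rD U.ι).obj E) := by
  have hpc := pcMapN_zero_of_surjective φ hφ
  constructor
  · exact pc_of_chartPC_graded E n m 0 hU V φ hφ hpc (by omega)
  · intro h
    have := chartPC_of_pc_graded E n m 0 hU V φ hφ hpc h
    rwa [zero_add, max_eq_left hnm] at this

end Groth.Agent.Lib.Helper28.ClosedPCChart
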