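import Groth.Agent.Lib.Helper30.ClosedPC.ChartIndep

/-!
# Graded pseudo-coherence along a closed immersion (helper28)

For a closed immersion `i : Z ⟶ X` with `i_* O_Z` `s`-pseudo-coherent (`HOs i s`) and
`E ∈ D^{≤ n}(O_Z)`:

* `pc_cD_graded`: `E` `m`-pseudo-coherent ⇒ `i_* E` is `max m (s + n)`-pseudo-coherent;
* `pc_of_pc_cD_graded`: `i_* E` `m`-pseudo-coherent and `s ≤ m + 1 - n` ⇒ `E` `m`-pseudo-coherent.

This is the graded version of helper30's `ClosedPC.pc_iff`, whose proof it follows.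
-/

set_option autoImplicit false
universe u
open CategoryTheory CategoryTheory.Limits AlgebraicGeometry TopologicalSpace Opposite
  Pretriangulated ZeroObject
attribute [local instance] HasDerivedCategory.standard

namespace Groth.Agent.Lib.Helper28.ClosedPCGraded

open Scheme.Modules Groth.Agent.Lib.Helper30.PerfRestrict Groth.Agent.Lib.Helper28.ClosedPush
open Groth.Agent.Lib.Helper30.PCTriangle Groth.Agent.Lib.Helper30.PCNoeth
open Groth.Agent.Lib.Helper30.SinglePC Groth.Agent.Lib.Helper49 Groth.Agent.Lib.Helper6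
open Groth.Agent.Lib.Helper45 Groth.Agent.Lib.Helper30.ClosedPC

section PCm

variable (X : Scheme.{u})

/-- `K` is `m`-pseudo-coherent, as an object property. -/
def PCm (m : ℤ) : ObjectProperty (DCoh.D X) := fun K => DCoh.IsPseudoCoherentD m K

instance (m : ℤ) : (PCm X m).IsClosedUnderIsomorphisms where
  of_iso e h := isPseudoCoherentD_of_iso e m h

instance (m : ℤ) : (PCm X m).ContainsZero where
  exists_zero := ⟨0, isZero_zero _, by
    have : (0 : DCoh.D X).IsLE (m - 1) := by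
      rw [DerivedCategory.isLE_iff]
      intro i _
      exact Functor.map_isZero _ (isZero_zero _)
    exact isPseudoCoherentD_of_isLE 0 (m - 1) m (by omega)⟩

instance (m : ℤ) : (PCm X m).IsTriangulatedClosed₂ :=
  ObjectProperty.IsTriangulatedClosed₂.mk' (fun T hT h₁ h₃ =>
    (Groth.Agent.S0889.result m T hT).2.1 h₁ h₃)

instance (m : ℤ) : (PCm X m).IsClosedUnderBinaryProducts where
  limitsOfShape_le := by
    rintro K ⟨p⟩
    refine (PCm X m).prop_of_iso ?_ ((PCm X m).ext_of_isTriangulatedClosed₂ _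
      (binaryProductTriangle_distinguished _ _)
      (p.prop_diag_obj (.mk .left)) (p.prop_diag_obj (.mk .right)))
    exact IsLimit.conePointUniqueUpToIso (prodIsProd _ _)
      ((IsLimit.postcomposeHomEquiv (diagramIsoPair p.diag) _).2 p.isLimit)

instance (m : ℤ) : (PCm X m).IsClosedUnderFiniteProducts := .mk'

end PCm

variable {Z X : Scheme.{u}} (i : Z ⟶ X) [IsClosedImmersion i]

/-- the hypothesis that `i_* O_Z` is `s`-pseudo-coherent -/
def HOs (s : ℤ) : Prop :=
  DCoh.IsPseudoCoherentD s (DCoh.inD X ((pushforward i).obj (Coh.structureModule Z)))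

variable {i}

lemma HOs.of_hO (h : HO i) (s : ℤ) : HOs i s := h s

lemma HOs.mono {s s' : ℤ} (hs : s ≤ s') (h : HOs i s) : HOs i s' :=
  isPseudoCoherentD_mono hs _ h

variable (i)

lemma HOs.restrict {s : ℤ} (h : HOs i s) (W : X.Opens) : HOs (i ∣_ W) s := by
  have h1 := Groth.Agent.S0914.isPseudoCoherentD_restrict W.ι s _ h
  exact isPseudoCoherentD_of_iso (restrictSingleIso W.ι _ ≪≫
    (DerivedCategory.singleFunctor _ 0).mapIso (pushUnitRestrictIso i W)) s h1

lemma pc_cD_single_unit {s : ℤ} (h : HOs i s) (n : ℤ) :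
    DCoh.IsPseudoCoherentD (s + n) ((cD i).obj ((DerivedCategory.singleFunctor Z.Modules n).obj
      (Coh.structureModule Z))) := by
  have h1 := isPseudoCoherentD_shift _ s (-n) h
  have e : s - -n = s + n := by omega
  rw [e] at h1
  exact isPseudoCoherentD_of_iso (singleShiftIso X _ n ≪≫
    (((pushforward i).mapDerivedCategorySingleFunctor n).app (Coh.structureModule Z)).symm) _ h1

lemma pc_cD_single_freeMod {s : ℤ} (h : HOs i s) (r : ℕ) (n : ℤ) :
    DCoh.IsPseudoCoherentD (s + n) ((cD i).obj ((DerivedCategory.singleFunctor Z.Modules n).obj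
      (FlatMod.freeMod Z r))) := by
  let G : Z.Modules ⥤ DCoh.D X := DerivedCategory.singleFunctor Z.Modules n ⋙ cD i
  let f : Fin r → Z.Modules := fun _ => Coh.structureModule Z
  haveI : HasFiniteBiproducts Z.Modules := Abelian.hasFiniteBiproducts
  have e : FlatMod.freeMod Z r ≅ ∏ᶜ f :=
    (biproduct.isoCoproduct f).symm ≪≫ biproduct.isoProduct f
  have e' : G.obj (FlatMod.freeMod Z r) ≅ ∏ᶜ fun j => G.obj (f j) :=
    G.mapIso e ≪≫ PreservesProduct.iso G f
  exact (PCm X (s + n)).prop_of_iso e'.symm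
    ((PCm X (s + n)).prop_product fun j => pc_cD_single_unit i h n)

/-! ### Graded restriction -/

/-- the induction statement for graded restriction -/
def KLat1 (k : ℕ) : Prop :=
  ∀ {Z X : Scheme.{u}} (i : Z ⟶ X) [IsClosedImmersion i] (s : ℤ), HOs i s →
    ∀ (E : DCoh.D Z) (n m : ℤ), E.IsLE n → n < m + k →
      DCoh.IsPseudoCoherentD m E → DCoh.IsPseudoCoherentD (max m (s + n)) ((cD i).obj E)

theorem local1_of_epi (k : ℕ) (ih : KLat1.{u} k) {s : ℤ} (hO : HOs i s) (E : DCoh.D Z) (n m : ℤ)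
    [E.IsLE n] (hn : n < m + k + 1) (r : ℕ) (π : FlatMod.freeMod Z r ⟶ DCoh.HD E n) [Epi π]
    (z : Z) : ∃ W : X.Opens, i z ∈ W ∧
      (DCoh.IsPseudoCoherentD m ((rD (i ⁻¹ᵁ W).ι).obj E) →
        DCoh.IsPseudoCoherentD (max m (s + n))
          ((cD (i ∣_ W)).obj ((rD (i ⁻¹ᵁ W).ι).obj E))) := by
  obtain ⟨V, hzV, β, hβ⟩ := exists_lift_epi E n r π z
  obtain ⟨W, rfl⟩ := exists_preimage_eq i V
  refine ⟨W, hzV, ?_⟩
  obtain ⟨C, g, h, hT⟩ := distinguished_cocone_triangle β
  have hE₂ : ((rD (i ⁻¹ᵁ W).ι).obj E).IsLE n := ExactDC.isLE_obj _ n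
  have hC : C.IsLE (n - 1) := by
    rw [DerivedCategory.isLE_iff]
    intro j hj
    refine isZero_homology_cone β g h hT n (fun j hj => ?_) hβ j (by omega)
    exact isIso_of_isZero _ (DerivedCategory.isZero_of_isLE _ n j hj)
      (DerivedCategory.isZero_of_isLE _ n j hj)
  have hS := pcAll_single_of_isFinLocFree _ _
    (isFinLocFree_freeMod ((i ⁻¹ᵁ W : Z.Opens) : Scheme.{u}) r) n
  have hΦS := pc_cD_single_freeMod (i ∣_ W) (hO.restrict i W) r n
  have hΦT := (cD (i ∣_ W)).map_distinguished _ hT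
  intro hE
  have h1 : DCoh.IsPseudoCoherentD m C := isPseudoCoherentD_obj₃ _ hT m (hS (m + 1)) hE
  have h2 := ih (i ∣_ W) s (hO.restrict i W) C (n - 1) m hC (by omega) h1
  have h2' : DCoh.IsPseudoCoherentD (max m (s + n)) ((cD (i ∣_ W)).obj C) :=
    isPseudoCoherentD_mono (max_le_max le_rfl (by omega)) _ h2
  have h3 : DCoh.IsPseudoCoherentD (max m (s + n)) ((cD (i ∣_ W)).obj
      ((DerivedCategory.singleFunctor _ n).obj
        (FlatMod.freeMod ((i ⁻¹ᵁ W : Z.Opens) : Scheme.{u}) r))) :=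
    isPseudoCoherentD_mono (le_max_right _ _) _ hΦS
  exact (Groth.Agent.S0889.result _ _ hΦT).2.1 h3 h2'

theorem klat1 (k : ℕ) : KLat1.{u} k := by
  induction k with
  | zero =>
    intro Z X i _ s hO E n m hE hn _
    have hn' : n < m := by simpa using hn
    have := ExactDC.isLE_obj (F := pushforward i) E n
    exact isPseudoCoherentD_mono (le_max_left _ _) _ (isPseudoCoherentD_of_isLE _ n m hn')
  | succ k ih =>
    intro Z X i _ s hO E n m hE hn h
    have hΦ := ExactDC.isLE_obj (F := pushforward i) E n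
    by_cases hnm : n < m
    · exact isPseudoCoherentD_mono (le_max_left _ _) _ (isPseudoCoherentD_of_isLE _ n m hnm)
    have hmn : m ≤ n := by omega
    have h1 : CohB1.IsFT (DCoh.HD E n) :=
      (Groth.Agent.S0890.result n E (isPseudoCoherentD_mono hmn E h)).1
        (fun j hj => DerivedCategory.isZero_of_isLE E n j hj)
    have hgen := locGen_of_isFT i _ h1
    apply pc_cD_of_local
    intro z
    obtain ⟨W, r, π, hzW, hπ⟩ := hgen z
    have hE₂ : ((rD (i ⁻¹ᵁ W).ι).obj E).IsLE n := ExactDC.isLE_obj _ n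
    let π' : FlatMod.freeMod ((i ⁻¹ᵁ W : Z.Opens) : Scheme.{u}) r ⟶
        DCoh.HD ((rD (i ⁻¹ᵁ W).ι).obj E) n := π ≫ (homologyRestrictIso (i ⁻¹ᵁ W).ι E n).inv
    have hπ' : Epi π' := epi_comp _ _
    have hloc : DCoh.IsPseudoCoherentD (max m (s + n))
        ((cD (i ∣_ W)).obj ((rD (i ⁻¹ᵁ W).ι).obj E)) := by
      apply pc_cD_of_local
      intro z'
      obtain ⟨W', hz'W', hW'⟩ := local1_of_epi (i ∣_ W) k ih (hO.restrict i W) _ n m
        (by push_cast at hn; omega) r π' z'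
      exact ⟨W', hz'W', hW' (Groth.Agent.S0914.isPseudoCoherentD_restrict _ m _
        (Groth.Agent.S0914.isPseudoCoherentD_restrict _ m E h))⟩
    exact ⟨W, hzW, hloc⟩

/-- **Graded restriction along a closed immersion.** -/
theorem pc_cD_graded {s : ℤ} (hO : HOs i s) (E : DCoh.D Z) (n m : ℤ) [E.IsLE n]
    (h : DCoh.IsPseudoCoherentD m E) :
    DCoh.IsPseudoCoherentD (max m (s + n)) ((cD i).obj E) :=
  klat1 (n - m + 1).toNat i s hO E n m inferInstance (by omega) h

/-! ### Graded descent -/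

/-- the induction statement for graded descent -/
def KLat2 (k : ℕ) : Prop :=
  ∀ {Z X : Scheme.{u}} (i : Z ⟶ X) [IsClosedImmersion i] (s : ℤ), HOs i s →
    ∀ (E : DCoh.D Z) (n m : ℤ), E.IsLE n → n < m + k → s ≤ m + 1 - n →
      DCoh.IsPseudoCoherentD m ((cD i).obj E) → DCoh.IsPseudoCoherentD m E

theorem local2_of_epi (k : ℕ) (ih : KLat2.{u} k) {s : ℤ} (hO : HOs i s) (E : DCoh.D Z) (n m : ℤ)
    [E.IsLE n] (hn : n < m + k + 1) (hs : s ≤ m + 1 - n) (r : ℕ)
    (π : FlatMod.freeMod Z r ⟶ DCoh.HD E n) [Epi π]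
    (z : Z) : ∃ W : X.Opens, i z ∈ W ∧
      (DCoh.IsPseudoCoherentD m ((cD (i ∣_ W)).obj ((rD (i ⁻¹ᵁ W).ι).obj E)) →
        DCoh.IsPseudoCoherentD m ((rD (i ⁻¹ᵁ W).ι).obj E)) := by
  obtain ⟨V, hzV, β, hβ⟩ := exists_lift_epi E n r π z
  obtain ⟨W, rfl⟩ := exists_preimage_eq i V
  refine ⟨W, hzV, ?_⟩
  obtain ⟨C, g, h, hT⟩ := distinguished_cocone_triangle β
  have hE₂ : ((rD (i ⁻¹ᵁ W).ι).obj E).IsLE n := ExactDC.isLE_obj _ n
  have hC : C.IsLE (n - 1) := by
    rw [DerivedCategory.isLE_iff]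
    intro j hj
    refine isZero_homology_cone β g h hT n (fun j hj => ?_) hβ j (by omega)
    exact isIso_of_isZero _ (DerivedCategory.isZero_of_isLE _ n j hj)
      (DerivedCategory.isZero_of_isLE _ n j hj)
  have hS := pcAll_single_of_isFinLocFree _ _
    (isFinLocFree_freeMod ((i ⁻¹ᵁ W : Z.Opens) : Scheme.{u}) r) n
  have hΦS := pc_cD_single_freeMod (i ∣_ W) (hO.restrict i W) r n
  have hΦT := (cD (i ∣_ W)).map_distinguished _ hT
  intro hE
  have hΦS' : DCoh.IsPseudoCoherentD (m + 1) ((cD (i ∣_ W)).obj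
      ((DerivedCategory.singleFunctor _ n).obj
        (FlatMod.freeMod ((i ⁻¹ᵁ W : Z.Opens) : Scheme.{u}) r))) :=
    isPseudoCoherentD_mono (by omega) _ hΦS
  have h1 : DCoh.IsPseudoCoherentD m ((cD (i ∣_ W)).obj C) :=
    isPseudoCoherentD_obj₃ _ hΦT m hΦS' hE
  have h2 := ih (i ∣_ W) s (hO.restrict i W) C (n - 1) m hC (by omega) (by omega) h1
  exact (Groth.Agent.S0889.result m _ hT).2.1 (hS m) h2

theorem klat2 (k : ℕ) : KLat2.{u} k := by
  induction k with
  | zero =>
    intro Z X i _ s hO E n m hE hn _ _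
    have hn' : n < m := by simpa using hn
    exact isPseudoCoherentD_of_isLE _ n m hn'
  | succ k ih =>
    intro Z X i _ s hO E n m hE hn hs h
    have hΦ := ExactDC.isLE_obj (F := pushforward i) E n
    by_cases hnm : n < m
    · exact isPseudoCoherentD_of_isLE _ n m hnm
    have hmn : m ≤ n := by omega
    have h1 : CohB1.IsFT (DCoh.HD ((cD i).obj E) n) :=
      (Groth.Agent.S0890.result n _ (isPseudoCoherentD_mono hmn _ h)).1
        (fun j hj => DerivedCategory.isZero_of_isLE _ n j hj)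
    have h2 : CohB1.IsFT ((pushforward i).obj (DCoh.HD E n)) :=
      isFiniteType_of_iso ((ExactDC.homologyIso (pushforward i) n).app E) h1
    have hgen := locGen_of_isFT_pushforward i _ h2
    apply pc_of_local i
    intro z
    obtain ⟨W, r, π, hzW, hπ⟩ := hgen z
    have hE₂ : ((rD (i ⁻¹ᵁ W).ι).obj E).IsLE n := ExactDC.isLE_obj _ n
    let π' : FlatMod.freeMod ((i ⁻¹ᵁ W : Z.Opens) : Scheme.{u}) r ⟶
        DCoh.HD ((rD (i ⁻¹ᵁ W).ι).obj E) n := π ≫ (homologyRestrictIso (i ⁻¹ᵁ W).ι E n).inv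
    have hπ' : Epi π' := epi_comp _ _
    have hW : DCoh.IsPseudoCoherentD m ((cD (i ∣_ W)).obj ((rD (i ⁻¹ᵁ W).ι).obj E)) :=
      isPseudoCoherentD_of_iso ((cDRestrictIso i W).app E) m
        (Groth.Agent.S0914.isPseudoCoherentD_restrict W.ι m _ h)
    refine ⟨W, hzW, ?_⟩
    apply pc_of_local (i ∣_ W)
    intro z'
    obtain ⟨W', hz'W', hW'⟩ := local2_of_epi (i ∣_ W) k ih (hO.restrict i W) _ n m
      (by push_cast at hn; omega) hs r π' z'
    refine ⟨W', hz'W', hW' ?_⟩
    exact isPseudoCoherentD_of_iso ((cDRestrictIso (i ∣_ W) W').app _) m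
      (Groth.Agent.S0914.isPseudoCoherentD_restrict W'.ι m _ hW)

/-- **Graded descent along a closed immersion.** -/
theorem pc_of_pc_cD_graded {s : ℤ} (hO : HOs i s) (E : DCoh.D Z) (n m : ℤ) [E.IsLE n]
    (hs : s ≤ m + 1 - n) (h : DCoh.IsPseudoCoherentD m ((cD i).obj E)) :
    DCoh.IsPseudoCoherentD m E :=
  klat2 (n - m + 1).toNat i s hO E n m inferInstance (by omega) hs h

end Groth.Agent.Lib.Helper28.ClosedPCGraded
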