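import Groth.Agent.Lib.Helper45.EpiStalk
import Groth.Agent.Lib.Helper45.ModulesBasic
import Groth.Agent.Lib.Helper49.QCohLocal
import Groth.Prelude.Def_DerSch2

/-!
# Pushforward along closed immersions is exact on all modules (helper28)

* `epi_pushforward_map`, instances `PreservesEpimorphisms`, `PreservesFiniteColimits` for
  `Scheme.Modules.pushforward g` with `g` a closed immersion.
* `ZeroOn M O`: the module `M` has no nonzero sections over opens inside `O`; API relating it to
  restriction, pushforward along inducing maps, covers.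
* `isClosedImmersion_chartImm`, `pushCxHomologyIso`, `restrictCxHomologyIso`,
  `exists_zeroOn_of_isPseudoCoherentD`.
-/

set_option autoImplicit false
set_option linter.style.haveILetI false
universe u
open CategoryTheory CategoryTheory.Limits AlgebraicGeometry TopologicalSpace

namespace Groth.Agent.Lib.Helper28.ClosedPush

open Groth.Agent.Lib.Helper45

section Epi

variable {Z X : Scheme.{u}} (g : Z ⟶ X)

lemma subsingleton_sections_of_eq_bot (M : Z.Modules) {O : Z.Opens} (h : O = ⊥) :
    Subsingleton (M.presheaf.obj (Opposite.op O)) := by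
  have ht : IsTerminal (M.presheaf.obj (Opposite.op O)) :=
    TopCat.Sheaf.isTerminalOfEqEmpty ⟨M.presheaf, M.isSheaf⟩ h
  have hz : IsZero (M.presheaf.obj (Opposite.op O)) := by
    rw [IsZero.iff_id_eq_zero]
    exact ht.hom_ext _ _
  exact AddCommGrpCat.subsingleton_of_isZero hz

theorem epi_pushforward_map (hg : Topology.IsClosedEmbedding g.base) {M N : Z.Modules} (φ : M ⟶ N)
    [Epi φ] : Epi ((Scheme.Modules.pushforward g).map φ) := by
  rw [epi_iff_isLocallySurjective, TopCat.Presheaf.isLocallySurjective_iff]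
  have hφ := (epi_iff_isLocallySurjective φ).mp inferInstance
  rw [TopCat.Presheaf.isLocallySurjective_iff] at hφ
  intro U t x hx
  by_cases hxr : x ∈ Set.range g.base
  · obtain ⟨z, rfl⟩ := hxr
    obtain ⟨V, hVU, ⟨s, hs⟩, hzV⟩ := hφ (g ⁻¹ᵁ U) t z hx
    obtain ⟨W, hW, hWV⟩ := hg.isInducing.isOpen_iff.mp V.2
    let W' : X.Opens := ⟨W, hW⟩ ⊓ U
    have hW'V : g ⁻¹ᵁ W' ≤ V := by
      intro a ha
      have : a ∈ g.base ⁻¹' W := ha.1
      rw [hWV] at this
      exact this
    refine ⟨W', inf_le_right, ⟨M.presheaf.map (homOfLE hW'V).op s, ?_⟩, ?_⟩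
    · have hle : g ⁻¹ᵁ W' ≤ g ⁻¹ᵁ U := fun a ha => ha.2
      change (ConcreteCategory.hom (φ.mapPresheaf.app (Opposite.op (g ⁻¹ᵁ W'))))
        ((ConcreteCategory.hom (M.presheaf.map (homOfLE hW'V).op)) s) =
        (ConcreteCategory.hom (N.presheaf.map (homOfLE hle).op)) t
      have nat := ConcreteCategory.congr_hom (φ.mapPresheaf.naturality (homOfLE hW'V).op) s
      simp only [ConcreteCategory.comp_apply] at nat
      rw [nat, hs]
      change (ConcreteCategory.hom (N.presheaf.map (homOfLE hW'V).op))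
        ((ConcreteCategory.hom (N.presheaf.map (homOfLE hVU).op)) t) = _
      let t' : ↑Γ(N, g ⁻¹ᵁ U) := t
      change (ConcreteCategory.hom (N.presheaf.map (homOfLE hW'V).op))
        ((ConcreteCategory.hom (N.presheaf.map (homOfLE hVU).op)) t') =
        (ConcreteCategory.hom (N.presheaf.map (homOfLE hle).op)) t'
      rw [← ConcreteCategory.comp_apply, ← N.presheaf.map_comp]
      rfl
    · refine ⟨?_, hx⟩
      have : z ∈ g.base ⁻¹' W := by rw [hWV]; exact hzV
      exact this
  · let W' : X.Opens := ⟨(Set.range g.base)ᶜ, hg.isClosed_range.isOpen_compl⟩ ⊓ U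
    have hbot : g ⁻¹ᵁ W' = ⊥ := by
      ext a
      simp only [W']
      constructor
      · intro ha
        exact (ha.1 ⟨a, rfl⟩).elim
      · intro ha
        exact ha.elim
    have hsub : Subsingleton (N.presheaf.obj (Opposite.op (g ⁻¹ᵁ W'))) :=
      subsingleton_sections_of_eq_bot N hbot
    refine ⟨W', inf_le_right, ⟨(0 : M.presheaf.obj (Opposite.op (g ⁻¹ᵁ W'))), ?_⟩, ⟨hxr, hx⟩⟩
    exact @Subsingleton.elim _ hsub _ _


instance preservesEpimorphisms_pushforward [IsClosedImmersion g] :
    (Scheme.Modules.pushforward g).PreservesEpimorphisms where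
  preserves φ _ := epi_pushforward_map g g.isClosedEmbedding φ

instance preservesFiniteColimits_pushforward [IsClosedImmersion g] :
    PreservesFiniteColimits (Scheme.Modules.pushforward g) :=
  Groth.Agent.Lib.Helper30.ModEpi.preservesFiniteColimits_of_preservesEpi _

end Epi

section ZeroOn

variable {X Z U : Scheme.{u}}

/-- the module `M` has no nonzero sections over opens contained in `O`. -/
def ZeroOn (M : X.Modules) (O : X.Opens) : Prop :=
  ∀ O' : X.Opens, O' ≤ O → Subsingleton Γ(M, O')

lemma subsingleton_congr (M : X.Modules) {O O' : X.Opens} (h : O = O')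
    (hs : Subsingleton Γ(M, O)) : Subsingleton Γ(M, O') := by
  subst h; exact hs

lemma ZeroOn.of_iso {M M' : X.Modules} (e : M ≅ M') {O : X.Opens} (h : ZeroOn M O) :
    ZeroOn M' O := by
  intro O' hO'
  have := h O' hO'
  refine ⟨fun s t => ?_⟩
  have h1 : (e.inv.app O') s = (e.inv.app O') t := Subsingleton.elim _ _
  have h2 := congrArg (fun a => (e.hom.app O') a) h1
  have h3 : ∀ a : Γ(M', O'), (e.hom.app O') ((e.inv.app O') a) = a := by
    intro a
    have h4 : e.inv.app O' ≫ e.hom.app O' = 𝟙 _ := by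
      rw [← Scheme.Modules.Hom.comp_app, e.inv_hom_id]; rfl
    have := ConcreteCategory.congr_hom h4 a
    rw [ConcreteCategory.comp_apply] at this
    exact this
  rw [h3, h3] at h2
  exact h2

lemma ZeroOn.mono {M : X.Modules} {O O' : X.Opens} (h : ZeroOn M O) (hle : O' ≤ O) :
    ZeroOn M O' := fun O'' hO'' => h O'' (hO''.trans hle)

/-- restriction to an open is zero iff no sections on smaller opens. -/
lemma isZero_restrict_iff (j : U ⟶ X) [IsOpenImmersion j] (M : X.Modules) :
    IsZero ((Scheme.Modules.restrictFunctor j).obj M) ↔ ZeroOn M j.opensRange := by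
  rw [isZero_iff_sections_subsingleton]
  constructor
  · intro h O' hO'
    have h1 := h (j ⁻¹ᵁ O')
    have h2 : j ''ᵁ (j ⁻¹ᵁ O') = O' := by
      rw [Scheme.Hom.image_preimage_eq_opensRange_inf]
      exact inf_eq_right.mpr hO'
    exact subsingleton_congr M h2 h1
  · intro h O'
    exact h (j ''ᵁ O') (Scheme.Hom.image_le_opensRange j O')

lemma ZeroOn.of_restrict (j : U ⟶ X) [IsOpenImmersion j] {M : X.Modules} {W : U.Opens}
    (h : ZeroOn ((Scheme.Modules.restrictFunctor j).obj M) W) : ZeroOn M (j ''ᵁ W) := by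
  intro O' hO'
  have hle : j ⁻¹ᵁ O' ≤ W := by
    intro a ha
    obtain ⟨b, hb, hab⟩ := hO' ha
    have : a = b := j.isOpenEmbedding.injective hab.symm
    rw [this]; exact hb
  have h1 := h (j ⁻¹ᵁ O') hle
  have h2 : j ''ᵁ (j ⁻¹ᵁ O') = O' := by
    rw [Scheme.Hom.image_preimage_eq_opensRange_inf]
    exact inf_eq_right.mpr (hO'.trans (Scheme.Hom.image_le_opensRange j W))
  exact subsingleton_congr M h2 h1

/-- a module vanishing locally is zero. -/
lemma isZero_of_zeroOn_cover (M : X.Modules) (h : ∀ x : X, ∃ O : X.Opens, x ∈ O ∧ ZeroOn M O) :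
    IsZero M := by
  rw [isZero_iff_stalk_subsingleton]
  intro x
  obtain ⟨O, hxO, hO⟩ := h x
  refine ⟨fun a b => ?_⟩
  have key : ∀ c : M.presheaf.stalk x, c = 0 := by
    intro c
    obtain ⟨V, hV, s, rfl⟩ := TopCat.Presheaf.exists_germ_eq M.presheaf c
    have hsub := hO (V ⊓ O) inf_le_right
    have h1 := TopCat.Presheaf.germ_res_apply M.presheaf (homOfLE (inf_le_left : V ⊓ O ≤ V)) x
      ⟨hV, hxO⟩ s
    rw [← h1]
    have : (ConcreteCategory.hom (M.presheaf.map (homOfLE (inf_le_left : V ⊓ O ≤ V)).op)) s = 0 :=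
      Subsingleton.elim _ _
    rw [this, map_zero]
  rw [key a, key b]

/-- zero-ness of pushforward along an inducing map passes to the preimage. -/
lemma ZeroOn.of_pushforward (g : Z ⟶ X) (hg : Topology.IsInducing g.base) {N : Z.Modules}
    {W : X.Opens} (h : ZeroOn ((Scheme.Modules.pushforward g).obj N) W) :
    ZeroOn N (g ⁻¹ᵁ W) := by
  intro O hO
  obtain ⟨O', hO'open, hO'⟩ := hg.isOpen_iff.mp O.2
  let O'' : X.Opens := ⟨O', hO'open⟩ ⊓ W
  have h1 : Subsingleton Γ(N, g ⁻¹ᵁ O'') := h O'' inf_le_right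
  have h2 : g ⁻¹ᵁ O'' = O := by
    ext a
    constructor
    · intro ha
      have : a ∈ g.base ⁻¹' O' := ha.1
      rw [hO'] at this
      exact this
    · intro ha
      refine ⟨?_, hO ha⟩
      have : a ∈ g.base ⁻¹' O' := by rw [hO']; exact ha
      exact this
  exact subsingleton_congr N h2 h1

end ZeroOn


section Chart

attribute [local instance] HasDerivedCategory.standard

variable {X Y Z : Scheme.{u}}

lemma isClosedImmersion_chartImm {U : X.Opens} (hU : IsAffineOpen U) {R : Type u} [CommRing R]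
    {n : ℕ} (φ : MvPolynomial (Fin n) R →+* Γ(X, U)) (hφ : Function.Surjective φ) :
    IsClosedImmersion (DerSch.chartImm U φ) := by
  have h1 : IsIso U.toSpecΓ := by rw [← hU.isoSpec_hom]; infer_instance
  have h2 : IsClosedImmersion (Spec.map (CommRingCat.ofHom φ)) :=
    IsClosedImmersion.spec_of_surjective _ hφ
  unfold DerSch.chartImm
  infer_instance

/-- homology of the termwise pushforward along a closed immersion. -/
noncomputable def pushCxHomologyIso (g : Z ⟶ X) [IsClosedImmersion g]
    (K : CochainComplex Z.Modules ℤ) (j : ℤ) :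
    ((DerSch.pushCx g).obj K).homology j ≅ (Scheme.Modules.pushforward g).obj (K.homology j) :=
  (K.sc j).mapHomologyIso (Scheme.Modules.pushforward g)

/-- homology of the termwise restriction to an open. -/
noncomputable def restrictCxHomologyIso (V : X.Opens) (K : CochainComplex X.Modules ℤ) (j : ℤ) :
    ((DCoh.restrictCx V).obj K).homology j ≅
      (Scheme.Modules.restrictFunctor V.ι).obj (K.homology j) :=
  (K.sc j).mapHomologyIso (Scheme.Modules.restrictFunctor V.ι)

/-- a pseudo-coherent complex is locally bounded above. -/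
lemma exists_zeroOn_of_isPseudoCoherentD (n : ℤ) (K : CochainComplex X.Modules ℤ)
    (hK : DCoh.IsPseudoCoherentD n (DCoh.toD X K)) (a : X) :
    ∃ (W : X.Opens) (b : ℤ), a ∈ W ∧ ∀ j, b < j → ZeroOn (K.homology j) W := by
  obtain ⟨W, haW, hW⟩ := hK a
  obtain ⟨P, α, hP, hiso, -⟩ := hW K ⟨Iso.refl _⟩
  obtain ⟨⟨a', b', hv⟩, -⟩ := hP
  refine ⟨W, max n b', haW, fun j hj => ?_⟩
  have hj1 : n < j := lt_of_le_of_lt (le_max_left _ _) hj
  have hj2 : b' < j := lt_of_le_of_lt (le_max_right _ _) hj
  haveI := hiso j hj1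
  have hex : P.ExactAt j := ShortComplex.exact_of_isZero_X₂ _ (hv j (Or.inr hj2))
  have hP0 : IsZero (P.homology j) := hex.isZero_homology
  have h1 : IsZero ((DerivedCategory.homologyFunctor _ j).obj (DerivedCategory.Q.obj P)) :=
    hP0.of_iso ((DerivedCategory.homologyFunctorFactors _ j).app P)
  have h2 : IsZero ((DerivedCategory.homologyFunctor _ j).obj
      (DerivedCategory.Q.obj ((DCoh.restrictCx W).obj K))) :=
    h1.of_iso (asIso ((DerivedCategory.homologyFunctor _ j).map α)).symm
  have h3 : IsZero (((DCoh.restrictCx W).obj K).homology j) :=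
    h2.of_iso ((DerivedCategory.homologyFunctorFactors _ j).app _).symm
  have h4 : IsZero ((Scheme.Modules.restrictFunctor W.ι).obj (K.homology j)) :=
    h3.of_iso (restrictCxHomologyIso W K j).symm
  have h5 := (isZero_restrict_iff W.ι (K.homology j)).mp h4
  rwa [Scheme.Opens.opensRange_ι] at h5

end Chart

end Groth.Agent.Lib.Helper28.ClosedPush
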