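import Groth.Agent.Lib.Helper28.RelPCBound
import Groth.Agent.Lib.Helper30.AffinePush.RpushIso
import Groth.Agent.Lib.Helper30.PCQCoh
import Groth.Agent.Lib.Helper30.PCTriangle

/-!
# Quasi-coherence descends along closed immersions of affine schemes; cohomology sheaves of
relatively pseudo-coherent objects are quasi-coherent (helper28)
-/

set_option autoImplicit false
set_option linter.style.haveILetI false
universe u
open CategoryTheory CategoryTheory.Limits AlgebraicGeometry TopologicalSpace Opposite

namespace Groth.Agent.Lib.Helper28.ClosedPushQCoh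

variable {R S : CommRingCat.{u}} (φ : R ⟶ S)

open PrimeSpectrum

open scoped ModuleCat.Algebra in
theorem isLocalizing_of_isLocalizing_pushforward (hφ : Function.Surjective φ.hom)
    {M : (Spec S).Modules}
    (h : IsLocalizing (modulesSpecToSheaf.obj ((Scheme.Modules.pushforward (Spec.map φ)).obj M))) :
    IsLocalizing (modulesSpecToSheaf.obj M) := by
  rw [← Functor.comp_obj,
    isLocalizing_iff_of_iso ((pushforwardCompModulesSpecToSheafIso φ).app M)] at h
  have : CommRing ((Spec S).ringCatSheaf.obj.obj ((Opens.map (Spec.map φ).base).op.obj (op ⊤))) :=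
    inferInstanceAs (CommRing Γ(Spec S, ⊤))
  algebraize [φ.hom]
  intro g
  obtain ⟨f, rfl⟩ := hφ g
  have hf := h f
  haveI : IsLocalizedModule (.powers f) (LinearMap.restrictScalars R
      ((modulesSpecToSheaf.obj M).obj.map (basicOpen (φ.hom f)).leTop.op).hom) := hf
  have := IsLocalizedModule.of_restrictScalars (R := R) (A := S) (.powers f)
    ((modulesSpecToSheaf.obj M).obj.map (basicOpen (φ.hom f)).leTop.op).hom
  rw [Algebra.algebraMapSubmonoid_powers] at this
  exact this


open Groth.Agent.Lib.Helper49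

/-- quasi-coherence descends along the closed immersion `Spec S ⟶ Spec R` of a surjection. -/
theorem isQuasicoherent_of_pushforward_SpecMap (hφ : Function.Surjective φ.hom)
    (M : (Spec S).Modules)
    (h : ((Scheme.Modules.pushforward (Spec.map φ)).obj M).IsQuasicoherent) :
    M.IsQuasicoherent := by
  rw [isQuasicoherent_iff_isIso_fromTildeΓ, isIso_fromTildeΓ_iff_isLocalizing] at h ⊢
  exact isLocalizing_of_isLocalizing_pushforward φ hφ h

/-- quasi-coherence descends along an isomorphism. -/
theorem isQuasicoherent_of_pushforward_iso {T T' : Scheme.{u}} (e : T ≅ T') (N : T.Modules)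
    (h : ((Scheme.Modules.pushforward e.hom).obj N).IsQuasicoherent) : N.IsQuasicoherent := by
  have h1 : ((Scheme.Modules.restrictFunctor e.inv).obj N).IsQuasicoherent :=
    isQuasicoherent_of_iso ((Groth.Agent.Lib.Helper30.AffinePush.pushforwardIsoRestrict e).app N) h
  have h2 : ((Scheme.Modules.restrictFunctor e.hom).obj
      ((Scheme.Modules.restrictFunctor e.inv).obj N)).IsQuasicoherent := inferInstance
  have i1 := (Scheme.Modules.restrictFunctorComp e.hom e.inv).app N
  have i2 := (Scheme.Modules.restrictFunctorCongr (e.hom_inv_id)).app N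
  have i3 := (Scheme.Modules.restrictFunctorId (X := T)).app N
  exact isQuasicoherent_of_iso (i1.symm ≪≫ i2 ≪≫ i3) h2

/-- quasi-coherence descends along a chart immersion. -/
theorem isQuasicoherent_of_pushforward_chartImm {X : Scheme.{u}} {U : X.Opens}
    (hU : IsAffineOpen U) {A : Type u} [CommRing A] {k : ℕ}
    (ψ : MvPolynomial (Fin k) A →+* Γ(X, U)) (hψ : Function.Surjective ψ)
    (N : (U : Scheme.{u}).Modules)
    (h : ((Scheme.Modules.pushforward (DerSch.chartImm U ψ)).obj N).IsQuasicoherent) :
    N.IsQuasicoherent := by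
  have h1 : ((Scheme.Modules.pushforward (Spec.map (CommRingCat.ofHom ψ))).obj
      ((Scheme.Modules.pushforward U.toSpecΓ).obj N)).IsQuasicoherent :=
    isQuasicoherent_of_iso
      ((Scheme.Modules.pushforwardComp U.toSpecΓ (Spec.map (CommRingCat.ofHom ψ))).app N).symm h
  have h2 := isQuasicoherent_of_pushforward_SpecMap (CommRingCat.ofHom ψ) hψ _ h1
  exact isQuasicoherent_of_pushforward_iso hU.isoSpec N h2


section Main

attribute [local instance] HasDerivedCategory.standard

open Groth.Agent.Lib.Helper28.ClosedPush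

variable {X Y : Scheme.{u}}

/-- **`H^i` of an object `m`-pseudo-coherent relative to `f` is quasi-coherent for `i > m`.** -/
theorem isQuasicoherent_HD_of_isPseudoCoherentRel (f : X ⟶ Y) (m : ℤ) (E : DCoh.D X)
    (hE : DerSch.IsPseudoCoherentRel f m E) (i : ℤ) (hi : m < i) :
    (DCoh.HD E i).IsQuasicoherent := by
  obtain ⟨-, 𝒱, h𝒱, h⟩ := hE
  let G : CochainComplex X.Modules ℤ := DerivedCategory.Q.objPreimage E
  let eG : DCoh.toD X G ≅ E := DerivedCategory.Q.objObjPreimageIso E
  have hloc : ∀ x : X, ∃ U : X.Opens, x ∈ U ∧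
      ((Scheme.Modules.restrictFunctor U.ι).obj (G.homology i)).IsQuasicoherent := by
    intro x
    have hy : f.base x ∈ (⨆ V ∈ 𝒱, (V : Y.Opens)) := by rw [h𝒱]; trivial
    simp only [Opens.mem_iSup] at hy
    obtain ⟨V, hV, hyV⟩ := hy
    obtain ⟨𝒰, h𝒰, hch⟩ := h V hV
    have hx : x ∈ (⨆ U ∈ 𝒰, (U : X.Opens)) := by rw [h𝒰]; exact hyV
    simp only [Opens.mem_iSup] at hx
    obtain ⟨U, hU, hxU⟩ := hx
    have hle : (U : X.Opens) ≤ f ⁻¹ᵁ (V : Y.Opens) := by
      rw [← h𝒰]
      exact le_iSup₂ (f := fun (U : X.affineOpens) (_ : U ∈ 𝒰) => (U : X.Opens)) U hU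
    obtain ⟨k, φ, hchart, hPC⟩ := hch U hU hle
    refine ⟨U, hxU, ?_⟩
    haveI := isClosedImmersion_chartImm U.2 φ hchart.1
    let Kc := (DerSch.pushCx (DerSch.chartImm (U : X.Opens) φ)).obj
      ((DCoh.restrictCx (U : X.Opens)).obj G)
    have h1 := Groth.Agent.Lib.Helper30.PCTriangle.isPseudoCoherentD_mono (m' := i - 1)
      (by omega) _ (hPC G ⟨eG⟩)
    have h2 := Groth.Agent.Lib.Helper30.PCQCoh.isQuasicoherent_HD_of_isPseudoCoherentD _ i h1
    have h3 : (Kc.homology i).IsQuasicoherent :=
      isQuasicoherent_of_iso ((DerivedCategory.homologyFunctorFactors _ i).app Kc) h2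
    have h4 := isQuasicoherent_of_iso (pushCxHomologyIso _ _ i) h3
    have h5 := isQuasicoherent_of_pushforward_chartImm U.2 φ hchart.1 _ h4
    exact isQuasicoherent_of_iso (restrictCxHomologyIso (U : X.Opens) G i) h5
  choose U hxU hU using hloc
  have hG : (G.homology i).IsQuasicoherent :=
    isQuasicoherent_of_forall_restrict (G.homology i) (fun x : X => ((U x : X.Opens) : Scheme.{u}))
      (fun x => (U x).ι) (fun x => ⟨x, by rw [Scheme.Opens.range_ι]; exact hxU x⟩) hU
  exact isQuasicoherent_of_iso (((DerivedCategory.homologyFunctor _ i).mapIso eG.symm ≪≫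
    (DerivedCategory.homologyFunctorFactors _ i).app G)).symm hG

end Main

end Groth.Agent.Lib.Helper28.ClosedPushQCoh
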