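import Groth.Agent.Lib.Helper28.ToposFin4
import Mathlib.CategoryTheory.Sites.LocallyBijective

/-!
# Sheaves associated to representable presheaves (helper28)

API for `ToposFin.eps J X`, the sheaf associated to the presheaf represented by `X`:
sections, generation, covering families, quasi-compactness.
-/

set_option autoImplicit false
open CategoryTheory CategoryTheory.Limits Opposite
universe u

namespace Groth.Agent.Lib.Helper28

variable {C : Type u} [SmallCategory C] (J : GrothendieckTopology C)

/-- morphisms out of `eps X` are sections over `X` -/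
noncomputable def epsEquiv (X : C) (F : ToposFin.Sh J) :
    (ToposFin.eps J X ⟶ F) ≃ F.obj.obj (op X) :=
  ((sheafificationAdjunction J (Type u)).homEquiv (yoneda.obj X) F).trans yonedaEquiv

/-- `eps` on morphisms -/
noncomputable abbrev epsMap {X Y : C} (f : X ⟶ Y) : ToposFin.eps J X ⟶ ToposFin.eps J Y :=
  (presheafToSheaf J (Type u)).map (yoneda.map f)

variable {J}

theorem epsMap_id (X : C) : epsMap J (𝟙 X) = 𝟙 _ := by
  simp [epsMap]

theorem epsMap_comp {X Y Z : C} (f : X ⟶ Y) (g : Y ⟶ Z) :
    epsMap J (f ≫ g) = epsMap J f ≫ epsMap J g := by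
  simp [epsMap]

theorem epsEquiv_comp {X : C} {F G : ToposFin.Sh J} (a : ToposFin.eps J X ⟶ F) (φ : F ⟶ G) :
    epsEquiv J X G (a ≫ φ) = φ.hom.app (op X) (epsEquiv J X F a) := by
  unfold epsEquiv
  simp only [Equiv.trans_apply]
  rw [Adjunction.homEquiv_naturality_right, yonedaEquiv_comp]
  rfl

theorem epsEquiv_map_comp {X Y : C} {F : ToposFin.Sh J} (f : X ⟶ Y) (a : ToposFin.eps J Y ⟶ F) :
    epsEquiv J X F (epsMap J f ≫ a) = F.obj.map f.op (epsEquiv J Y F a) := by
  unfold epsEquiv epsMap
  simp only [Equiv.trans_apply]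
  rw [Adjunction.homEquiv_naturality_left, yonedaEquiv_naturality]

/-- the tautological section of `eps X` attached to a morphism `V ⟶ X` -/
noncomputable def epsSec {V X : C} (t : V ⟶ X) : (ToposFin.eps J X).obj.obj (op V) :=
  epsEquiv J V _ (epsMap J t)

theorem epsSec_eq {V X : C} (t : V ⟶ X) :
    epsSec (J := J) t = (toSheafify J (yoneda.obj X)).app (op V) t := by
  unfold epsSec epsEquiv epsMap
  simp only [Equiv.trans_apply]
  have h : ((sheafificationAdjunction J (Type u)).homEquiv (yoneda.obj V) (ToposFin.eps J X))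
      ((presheafToSheaf J (Type u)).map (yoneda.map t)) =
      yoneda.map t ≫ toSheafify J (yoneda.obj X) := by
    rw [Adjunction.homEquiv_unit]
    have := (sheafificationAdjunction J (Type u)).unit.naturality (yoneda.map t)
    simp only [Functor.id_obj, Functor.comp_obj, Functor.id_map, Functor.comp_map,
      sheafificationAdjunction_unit_app] at this
    exact this.symm
  rw [h, yonedaEquiv_comp, yonedaEquiv_yoneda_map]

theorem epsSec_map {W V X : C} (w : W ⟶ V) (t : V ⟶ X) :
    (ToposFin.eps J X).obj.map w.op (epsSec (J := J) t) = epsSec (w ≫ t) := by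
  unfold epsSec
  rw [epsMap_comp, epsEquiv_map_comp]

theorem app_epsSec {V X : C} {F : ToposFin.Sh J} (a : ToposFin.eps J X ⟶ F) (t : V ⟶ X) :
    a.hom.app (op V) (epsSec t) = F.obj.map t.op (epsEquiv J X F a) := by
  rw [epsSec, ← epsEquiv_comp, epsEquiv_map_comp]

theorem epsEquiv_symm_comp {X : C} {F G : ToposFin.Sh J} (s : F.obj.obj (op X)) (φ : F ⟶ G) :
    (epsEquiv J X F).symm s ≫ φ = (epsEquiv J X G).symm (φ.hom.app (op X) s) := by
  apply (epsEquiv J X G).injective
  rw [epsEquiv_comp, Equiv.apply_symm_apply, Equiv.apply_symm_apply]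

theorem epsMap_comp_epsEquiv_symm {X Y : C} {F : ToposFin.Sh J} (f : X ⟶ Y)
    (s : F.obj.obj (op Y)) :
    epsMap J f ≫ (epsEquiv J Y F).symm s = (epsEquiv J X F).symm (F.obj.map f.op s) := by
  apply (epsEquiv J X F).injective
  rw [epsEquiv_map_comp, Equiv.apply_symm_apply, Equiv.apply_symm_apply]

theorem epsEquiv_symm_epsSec {V X : C} (t : V ⟶ X) :
    (epsEquiv J V (ToposFin.eps J X)).symm (epsSec t) = epsMap J t := by
  unfold epsSec
  rw [Equiv.symm_apply_apply]

/-- all the morphisms from the `eps U` to a sheaf form a jointly epimorphic family -/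
theorem jointlyEpi_epsEquiv_symm (F : ToposFin.Sh J) :
    JointlyEpi (fun p : Σ U : C, F.obj.obj (op U) => (epsEquiv J p.1 F).symm p.2) := by
  intro Z a b hab
  apply Sheaf.hom_ext
  ext U s
  have h2 := congrArg (epsEquiv J _ Z) (hab ⟨U.unop, s⟩)
  rw [epsEquiv_comp, epsEquiv_comp, Equiv.apply_symm_apply] at h2
  exact h2

/-- the sheaves `eps U` form a generating family -/
theorem isGenerating_range_eps : ToposFin.IsGenerating (Set.range (ToposFin.eps J)) := by
  intro F
  exact ⟨Σ U : C, F.obj.obj (op U), fun p => ToposFin.eps J p.1,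
    fun p => (epsEquiv J p.1 F).symm p.2, fun p => ⟨p.1, rfl⟩, jointlyEpi_epsEquiv_symm F⟩

/-- a quasi-compact object has a finite cover by sheaves `eps V` -/
theorem exists_finite_cover_eps {Q : ToposFin.Sh J} (hQ : ToposFin.IsQC Q) :
    ∃ (κ : Type u) (_ : Finite κ) (V : κ → C) (t : ∀ k, ToposFin.eps J (V k) ⟶ Q),
      JointlyEpi t := by
  obtain ⟨s, hs⟩ := (isQC_iff Q).mp hQ _ _ _ (jointlyEpi_epsEquiv_symm Q)
  exact ⟨s, inferInstance, fun p => p.1.1, fun p => (epsEquiv J p.1.1 Q).symm p.1.2, hs⟩

/-- a covering family of the site gives a jointly epimorphic family of associated sheaves -/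
theorem jointlyEpi_epsMap_of_mem {X : C} {ι : Type*} {V : ι → C} (g : ∀ k, V k ⟶ X)
    (h : Sieve.ofArrows V g ∈ J X) : JointlyEpi (fun k => epsMap J (g k)) := by
  intro Z a b hab
  apply (epsEquiv J X Z).injective
  have hZ : Presieve.IsSheaf J Z.obj := (isSheaf_iff_isSheaf_of_type J Z.obj).mp Z.property
  apply (hZ _ h).isSeparatedFor.ext
  intro Y f hf
  obtain ⟨W, w, _, ⟨k⟩, rfl⟩ := hf
  have h2 := congrArg (epsEquiv J _ Z) (hab k)
  rw [epsEquiv_map_comp, epsEquiv_map_comp] at h2
  rw [op_comp, Functor.map_comp]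
  change Z.obj.map w.op (Z.obj.map (g k).op _) = Z.obj.map w.op (Z.obj.map (g k).op _)
  rw [h2]

/-- the sieve over which a section is locally in the image of a family of morphisms -/
def imageSieveFamily {X : ToposFin.Sh J} {ι : Type*} {F : ι → ToposFin.Sh J} (π : ∀ i, F i ⟶ X)
    {U : C} (s : X.obj.obj (op U)) : Sieve U where
  arrows V v := ∃ (i : ι) (y : (F i).obj.obj (op V)), (π i).hom.app (op V) y = X.obj.map v.op s
  downward_closed := by
    rintro V W v ⟨i, y, hy⟩ w
    refine ⟨i, (F i).obj.map w.op y, ?_⟩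
    have := ConcreteCategory.congr_hom ((π i).hom.naturality w.op) y
    simp only [ConcreteCategory.comp_apply] at this
    rw [this, hy, op_comp, Functor.map_comp]
    rfl

/-- a jointly epimorphic family of sheaves of sets is locally jointly surjective -/
theorem imageSieveFamily_mem {X : ToposFin.Sh J} {ι : Type u} {F : ι → ToposFin.Sh J}
    (π : ∀ i, F i ⟶ X) (hπ : JointlyEpi π) {U : C} (s : X.obj.obj (op U)) :
    imageSieveFamily π s ∈ J U := by
  let P : Cᵒᵖ ⥤ Type u := ∐ (fun i => (F i).obj)
  let ψ : P ⟶ X.obj := Sigma.desc (fun i => (π i).hom)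
  have hepi : Epi ((presheafToSheaf J (Type u)).map ψ) := by
    constructor
    intro Z a b hab
    apply ((sheafificationAdjunction J (Type u)).homEquiv _ _).injective
    have h1 := congrArg ((sheafificationAdjunction J (Type u)).homEquiv _ _) hab
    rw [Adjunction.homEquiv_naturality_left, Adjunction.homEquiv_naturality_left] at h1
    have h2 : (ObjectProperty.homMk ((sheafificationAdjunction J (Type u)).homEquiv _ _ a) : X ⟶ Z) =
        ObjectProperty.homMk ((sheafificationAdjunction J (Type u)).homEquiv _ _ b) := by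
      apply hπ
      intro i
      apply Sheaf.hom_ext
      have := Sigma.ι (fun i => (F i).obj) i ≫= h1
      rw [← Category.assoc, ← Category.assoc, Sigma.ι_desc] at this
      exact this
    exact congrArg InducedCategory.Hom.hom h2
  have hls : Presheaf.IsLocallySurjective J ψ := by
    rw [← Presheaf.isLocallySurjective_presheafToSheaf_map_iff, Sheaf.isLocallySurjective_iff_epi]
    exact hepi
  have := Presheaf.imageSieve_mem J ψ s
  refine J.superset_covering ?_ this
  intro V v hv
  obtain ⟨z, hz⟩ := hv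
  obtain ⟨⟨i⟩, y, rfl⟩ := Types.jointly_surjective_of_isColimit
    (isColimitOfPreserves ((evaluation _ _).obj (op V)) (coproductIsCoproduct _)) z
  refine ⟨i, y, ?_⟩
  rw [← hz]
  have h3 := ConcreteCategory.congr_hom (NatTrans.congr_app
    (Sigma.ι_desc (fun i => (π i).hom) i) (op V)) y
  exact h3.symm

/-- the sheaf associated to a quasi-compact object of the site is quasi-compact -/
theorem isQC_eps_of_isQCSite {X : C} (hX : ToposFin.IsQCSite J X) :
    ToposFin.IsQC (ToposFin.eps J X) := by
  classical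
  rw [isQC_iff]
  intro ι F π hπ
  have hmem := imageSieveFamily_mem π hπ (epsSec (J := J) (𝟙 X))
  obtain ⟨n, V, g, hg, hcov⟩ := hX _ hmem
  choose idx y hy using hg
  refine ⟨Finset.univ.image idx, ?_⟩
  intro Z a b hab
  apply (epsEquiv J X Z).injective
  have hZ : Presieve.IsSheaf J Z.obj := (isSheaf_iff_isSheaf_of_type J Z.obj).mp Z.property
  apply (hZ _ hcov).isSeparatedFor.ext
  intro Y f hf
  obtain ⟨W, w, _, ⟨k⟩, rfl⟩ := hf
  have hk : idx k ∈ Finset.univ.image idx := Finset.mem_image_of_mem _ (Finset.mem_univ k)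
  have h1 := hab ⟨idx k, hk⟩
  have h2 : ∀ c : ToposFin.eps J X ⟶ Z, Z.obj.map (g k).op (epsEquiv J X Z c) =
      (π (idx k) ≫ c).hom.app (op (V k)) (y k) := by
    intro c
    rw [← app_epsSec]
    have : epsSec (J := J) (g k) = (ToposFin.eps J X).obj.map (g k).op (epsSec (𝟙 X)) := by
      rw [epsSec_map, Category.comp_id]
    rw [this, ← hy k]
    rfl
  rw [op_comp, Functor.map_comp]
  change Z.obj.map w.op (Z.obj.map (g k).op _) = Z.obj.map w.op (Z.obj.map (g k).op _)
  rw [h2 a, h2 b, h1]

/-- sections of `eps X` are locally representable -/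
theorem locallyRepresentable_mem {V X : C} (s : (ToposFin.eps J X).obj.obj (op V)) :
    ∃ R ∈ J V, ∀ ⦃W : C⦄ (w : W ⟶ V), R w →
      ∃ t : W ⟶ X, (ToposFin.eps J X).obj.map w.op s = epsSec t := by
  refine ⟨_, Presheaf.imageSieve_mem J (toSheafify J (yoneda.obj X)) s, ?_⟩
  intro W w hw
  obtain ⟨t, ht⟩ := hw
  refine ⟨t, ?_⟩
  rw [epsSec_eq]
  exact ht.symm

/-- the tautological sections are locally injective -/
theorem epsSec_locally_injective {V X : C} (t t' : V ⟶ X)
    (h : epsSec (J := J) t = epsSec t') :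
    ∃ R ∈ J V, ∀ ⦃W : C⦄ (w : W ⟶ V), R w → w ≫ t = w ≫ t' := by
  rw [epsSec_eq, epsSec_eq] at h
  refine ⟨_, Presheaf.equalizerSieve_mem J (toSheafify J (yoneda.obj X)) t t' h, ?_⟩
  intro W w hw
  exact hw

/-- morphisms `eps U ⟶ eps X` are locally representable, on a finite cover when `U` is
quasi-compact -/
theorem exists_finite_cover_representable {U X : C} (hU : ToposFin.IsQCSite J U)
    (c : ToposFin.eps J U ⟶ ToposFin.eps J X) :
    ∃ (κ : Type u) (_ : Finite κ) (Uk : κ → C) (u : ∀ k, Uk k ⟶ U) (ck : ∀ k, Uk k ⟶ X),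
      JointlyEpi (fun k => epsMap J (u k)) ∧ ∀ k, epsMap J (u k) ≫ c = epsMap J (ck k) := by
  obtain ⟨R, hR, hrep⟩ := locallyRepresentable_mem (epsEquiv J U _ c)
  obtain ⟨n, Uk, u, hu, hcov⟩ := hU R hR
  choose ck hck using fun k => hrep (u k) (hu k)
  refine ⟨ULift.{u} (Fin n), inferInstance, fun k => Uk k.down, fun k => u k.down,
    fun k => ck k.down, ?_, fun k => ?_⟩
  · exact JointlyEpi.of_reindex (π := fun k : ULift.{u} (Fin n) => epsMap J (u k.down))
      (fun k : Fin n => ULift.up k) (jointlyEpi_epsMap_of_mem u hcov)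
  · apply (epsEquiv J _ _).injective
    rw [epsEquiv_map_comp, hck]
    rfl

/-- refinement: a morphism from a quasi-compact object to `eps W` is representable on a finite
cover by sheaves `eps V` -/
theorem exists_finite_cover_eps_representable (hC : ∀ X : C, ToposFin.IsQCSite J X)
    {Q : ToposFin.Sh J} (hQ : ToposFin.IsQC Q) {W : C} (m : Q ⟶ ToposFin.eps J W) :
    ∃ (κ : Type u) (_ : Finite κ) (V : κ → C) (t : ∀ k, ToposFin.eps J (V k) ⟶ Q)
      (w : ∀ k, V k ⟶ W), JointlyEpi t ∧ ∀ k, t k ≫ m = epsMap J (w k) := by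
  obtain ⟨κ, _, V, t, ht⟩ := exists_finite_cover_eps hQ
  choose κ' hκ' Uk u ck hu hck using fun k =>
    exists_finite_cover_representable (hC (V k)) (t k ≫ m)
  refine ⟨Σ k, κ' k, inferInstance, fun p => Uk p.1 p.2, fun p => epsMap J (u p.1 p.2) ≫ t p.1,
    fun p => ck p.1 p.2, ht.comp hu, fun p => ?_⟩
  rw [Category.assoc, hck]

/-- `eps` preserves fibre products -/
theorem isPullback_epsMap [HasPullbacks C] {A B X : C} (f : A ⟶ X) (g : B ⟶ X) :
    IsPullback (epsMap J (pullback.fst f g)) (epsMap J (pullback.snd f g)) (epsMap J f)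
      (epsMap J g) :=
  ((IsPullback.of_hasPullback f g).map yoneda).map (presheafToSheaf J (Type u))

section Coherent

variable [HasPullbacks C] (hC : ∀ X : C, ToposFin.IsQCSite J X)
include hC

/-- fibre products of sheaves `eps U`, `eps V` over a sheaf `eps X` are quasi-compact -/
theorem isQC_pullback_eps {U V X : C} (c : ToposFin.eps J U ⟶ ToposFin.eps J X)
    (d : ToposFin.eps J V ⟶ ToposFin.eps J X) : ToposFin.IsQC (pullback c d) := by
  obtain ⟨κ, _, Uk, u, ck, hu, hck⟩ := exists_finite_cover_representable (hC U) c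
  obtain ⟨κ', _, Vl, v, dl, hv, hdl⟩ := exists_finite_cover_representable (hC V) d
  refine isQC_pullback_of_covers c d _ _ hu hv (fun k l => ?_)
  refine isQC_of_iso (pullback.congrHom (hck k) (hdl l)).symm ?_
  exact isQC_of_iso (isPullback_epsMap (ck k) (dl l)).isoPullback (isQC_eps_of_isQCSite (hC _))

/-- the sheaves `eps X` are coherent -/
theorem isCoherent_eps (X : C) : ToposFin.IsCoherent (ToposFin.eps J X) := by
  refine ⟨isQC_eps_of_isQCSite (hC X), ?_⟩
  apply isQS_of_generating (isGenerating_range_eps (J := J))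
  rintro K ⟨U, rfl⟩ L ⟨V, rfl⟩ a b
  exact isQC_pullback_eps hC a b

/-- key case: equalizers of maps `eps U ⇉ G` over a representable map to `eps X` -/
theorem isQC_equalizer_of_representable {U X : C} {G : ToposFin.Sh J} (g : G ⟶ ToposFin.eps J X)
    (hG : ToposFin.IsQS G) (a b : ToposFin.eps J U ⟶ G) (c₀ : U ⟶ X)
    (ha : a ≫ g = epsMap J c₀) (hb : b ≫ g = epsMap J c₀) : ToposFin.IsQC (equalizer a b) := by
  -- the object `W = U ×_X U` of the site and its diagonal
  let δ : U ⟶ pullback c₀ c₀ := pullback.lift (𝟙 U) (𝟙 U) rfl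
  have hδ1 : δ ≫ pullback.fst c₀ c₀ = 𝟙 U := pullback.lift_fst _ _ _
  have hδ2 : δ ≫ pullback.snd c₀ c₀ = 𝟙 U := pullback.lift_snd _ _ _
  have hW := isPullback_epsMap (J := J) c₀ c₀
  have hUqc : ToposFin.IsQC (ToposFin.eps J U) := isQC_eps_of_isQCSite (hC U)
  have hP : ToposFin.IsQC (pullback a b) := hG _ _ a b hUqc hUqc
  have hcond : pullback.fst a b ≫ epsMap J c₀ = pullback.snd a b ≫ epsMap J c₀ := by
    calc pullback.fst a b ≫ epsMap J c₀ = (pullback.fst a b ≫ a) ≫ g := by
          rw [Category.assoc, ha]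
      _ = (pullback.snd a b ≫ b) ≫ g := by rw [pullback.condition]
      _ = pullback.snd a b ≫ epsMap J c₀ := by rw [Category.assoc, hb]
  let m : pullback a b ⟶ ToposFin.eps J (pullback c₀ c₀) := hW.lift _ _ hcond
  have hm1 : m ≫ epsMap J (pullback.fst c₀ c₀) = pullback.fst a b := hW.lift_fst _ _ _
  have hm2 : m ≫ epsMap J (pullback.snd c₀ c₀) = pullback.snd a b := hW.lift_snd _ _ _
  obtain ⟨κ, _, V, t, w, ht, hw⟩ := exists_finite_cover_eps_representable hC hP m
  let d : equalizer a b ⟶ pullback a b :=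
    pullback.lift (equalizer.ι a b) (equalizer.ι a b) (equalizer.condition a b)
  have hd1 : d ≫ pullback.fst a b = equalizer.ι a b := pullback.lift_fst _ _ _
  have hd2 : d ≫ pullback.snd a b = equalizer.ι a b := pullback.lift_snd _ _ _
  have e1 : epsMap J δ ≫ epsMap J (pullback.fst c₀ c₀) = 𝟙 _ := by
    rw [← epsMap_comp, hδ1, epsMap_id]
  have e2 : epsMap J δ ≫ epsMap J (pullback.snd c₀ c₀) = 𝟙 _ := by
    rw [← epsMap_comp, hδ2, epsMap_id]
  -- the equalizer is the pullback of the diagonal
  have hstar : IsPullback (equalizer.ι a b) d (epsMap J δ) m := by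
    refine ⟨⟨?_⟩, ⟨PullbackCone.IsLimit.mk _ (fun s => equalizer.lift s.fst ?_) ?_ ?_ ?_⟩⟩
    · apply hW.hom_ext
      · rw [Category.assoc, Category.assoc, e1, hm1, hd1, Category.comp_id]
      · rw [Category.assoc, Category.assoc, e2, hm2, hd2, Category.comp_id]
    · have h1 : s.fst = s.snd ≫ pullback.fst a b := by
        have := s.condition =≫ epsMap J (pullback.fst c₀ c₀)
        rwa [Category.assoc, Category.assoc, e1, hm1, Category.comp_id] at this
      have h2 : s.fst = s.snd ≫ pullback.snd a b := by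
        have := s.condition =≫ epsMap J (pullback.snd c₀ c₀)
        rwa [Category.assoc, Category.assoc, e2, hm2, Category.comp_id] at this
      calc s.fst ≫ a = s.snd ≫ pullback.fst a b ≫ a := by rw [h1, Category.assoc]
        _ = s.snd ≫ pullback.snd a b ≫ b := by rw [pullback.condition]
        _ = s.fst ≫ b := by rw [← Category.assoc, ← h2]
    · intro s
      exact equalizer.lift_ι _ _
    · intro s
      have h1 : s.fst = s.snd ≫ pullback.fst a b := by
        have := s.condition =≫ epsMap J (pullback.fst c₀ c₀)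
        rwa [Category.assoc, Category.assoc, e1, hm1, Category.comp_id] at this
      have h2 : s.fst = s.snd ≫ pullback.snd a b := by
        have := s.condition =≫ epsMap J (pullback.snd c₀ c₀)
        rwa [Category.assoc, Category.assoc, e2, hm2, Category.comp_id] at this
      apply pullback.hom_ext
      · rw [Category.assoc, hd1, equalizer.lift_ι, h1]
      · rw [Category.assoc, hd2, equalizer.lift_ι, h2]
    · intro s l hl1 _
      apply equalizer.hom_ext
      rw [equalizer.lift_ι]
      exact hl1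
  refine isQC_of_finite_cover _ (ht.pullback_snd d) (fun j => ?_)
  have hbig : IsPullback (pullback.snd (t j) d ≫ equalizer.ι a b) (pullback.fst (t j) d)
      (epsMap J δ) (t j ≫ m) :=
    (IsPullback.of_hasPullback (t j) d).flip.paste_horiz hstar
  rw [hw j] at hbig
  exact isQC_of_iso (hbig.isoIsPullback _ _ (isPullback_epsMap (J := J) δ (w j))).symm
    (isQC_eps_of_isQCSite (hC _))

/-- every morphism from a quasi-separated object to a sheaf `eps X` is quasi-separated -/
theorem isQSHom_of_isQS_eps {X : C} {G : ToposFin.Sh J} (g : G ⟶ ToposFin.eps J X)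
    (hG : ToposFin.IsQS G) : ToposFin.IsQSHom g := by
  apply isQSHom_of_generating (isGenerating_range_eps (J := J))
  rintro K ⟨U, rfl⟩ a b hab
  obtain ⟨κ, _, Uk, u, ck, hu, hck⟩ := exists_finite_cover_representable (hC U) (a ≫ g)
  choose t ht using fun k => exists_fork_map (epsMap J (u k)) a b (equalizer.ι a b)
    (equalizer.condition a b) (equalizerIsEqualizer a b)
    (equalizer.ι (epsMap J (u k) ≫ a) (epsMap J (u k) ≫ b)) (equalizer.condition _ _)
  have hsq : ∀ k, IsPullback (equalizer.ι (epsMap J (u k) ≫ a) (epsMap J (u k) ≫ b)) (t k)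
      (epsMap J (u k)) (equalizer.ι a b) :=
    fun k => isPullback_fork_of_comp (epsMap J (u k)) a b _ _ (equalizerIsEqualizer a b) _ _
      (equalizerIsEqualizer _ _) (t k) (ht k)
  refine isQC_of_finite_cover t (hu.of_isPullback (equalizer.ι a b) _ t hsq) (fun k => ?_)
  refine isQC_equalizer_of_representable hC g hG _ _ (ck k) ?_ ?_
  · rw [Category.assoc, hck]
  · rw [Category.assoc, ← hab, hck]

end Coherent

instance qsHom_isMultiplicative : (qsHom J).IsMultiplicative := by
  rw [qsHom_eq_diagonal]; infer_instance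

/-- cancellation: if `f ≫ g` is quasi-separated then so is `f` -/
theorem isQSHom_of_comp {X Y Z : ToposFin.Sh J} (f : X ⟶ Y) (g : Y ⟶ Z)
    (h : ToposFin.IsQSHom (f ≫ g)) : ToposFin.IsQSHom f := by
  have hQ : (⊤ : MorphismProperty (ToposFin.Sh J)) ≤ (qsHom J).diagonal :=
    fun _ _ k _ => isQSHom_of_mono (pullback.diagonal k)
  have := (MorphismProperty.hasOfPostcompProperty_iff_le_diagonal (P := qsHom J)
    (Q := ⊤)).mpr hQ
  exact this.of_postcomp f g trivial h

end Groth.Agent.Lib.Helper28
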