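import Groth.Agent.Lib.Helper28.EpsSite

/-!
# Sheaves associated to representable presheaves, continued (helper28)
-/

set_option autoImplicit false
open CategoryTheory CategoryTheory.Limits Opposite
universe u

namespace Groth.Agent.Lib.Helper28

variable {C : Type u} [SmallCategory C] {J : GrothendieckTopology C}

theorem epsMap_app_epsSec {W V X : C} (v : V ⟶ X) (t : W ⟶ V) :
    (epsMap J v).hom.app (op W) (epsSec t) = epsSec (t ≫ v) := by
  rw [app_epsSec]
  exact epsSec_map t v

/-- if the associated sheaf is quasi-compact, the object of the site is quasi-compact -/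
theorem isQCSite_of_isQC_eps {X : C} (h : ToposFin.IsQC (ToposFin.eps J X)) :
    ToposFin.IsQCSite J X := by
  classical
  intro S hS
  let ι := Σ V : C, {v : V ⟶ X // S v}
  have hcov : Sieve.ofArrows (fun p : ι => p.1) (fun p => p.2.1) ∈ J X := by
    refine J.superset_covering ?_ hS
    intro V v hv
    exact ⟨V, 𝟙 V, v, Presieve.ofArrows.mk (⟨V, v, hv⟩ : ι), Category.id_comp v⟩
  have hje := jointlyEpi_epsMap_of_mem (J := J) (fun p : ι => p.2.1) hcov
  obtain ⟨s, hs⟩ := (isQC_iff _).mp h ι _ _ hje
  let e := s.equivFin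
  refine ⟨s.card, fun k => (e.symm k).1.1, fun k => (e.symm k).1.2.1,
    fun k => (e.symm k).1.2.2, ?_⟩
  have hmem := imageSieveFamily_mem _ hs (epsSec (J := J) (𝟙 X))
  refine J.transitive hmem _ ?_
  intro W w hw
  obtain ⟨p, y, hy⟩ := hw
  obtain ⟨R, hR, hrep⟩ := locallyRepresentable_mem y
  refine J.transitive hR _ ?_
  intro W' w' hw'
  obtain ⟨t, ht⟩ := hrep w' hw'
  have heq : epsSec (J := J) (t ≫ p.1.2.1) = epsSec (w' ≫ w) := by
    rw [← epsMap_app_epsSec, ← ht]
    have hnat := ConcreteCategory.congr_hom ((epsMap J p.1.2.1).hom.naturality w'.op) y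
    simp only [ConcreteCategory.comp_apply] at hnat
    rw [hnat, hy, epsSec_map, epsSec_map, Category.comp_id]
  obtain ⟨R', hR', hinj⟩ := epsSec_locally_injective _ _ heq
  refine J.superset_covering ?_ hR'
  intro W'' w'' hw''
  have h3 := hinj w'' hw''
  obtain ⟨k, hk⟩ : ∃ k, e.symm k = p := ⟨e p, e.symm_apply_apply p⟩
  subst hk
  change Sieve.ofArrows _ _ ((w'' ≫ w') ≫ w)
  rw [Category.assoc, ← h3, ← Category.assoc]
  exact ⟨_, w'' ≫ t, _, Presieve.ofArrows.mk k, rfl⟩

end Groth.Agent.Lib.Helper28

namespace Groth.Agent.Lib.Helper28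

variable {C : Type u} [SmallCategory C] {J : GrothendieckTopology C}

/-- quasi-separatedness is invariant under isomorphism -/
theorem isQS_of_iso {X X' : ToposFin.Sh J} (e : X ≅ X') (h : ToposFin.IsQS X) : ToposFin.IsQS X' :=
  isQS_of_isQSHom (isQSHom_of_mono e.inv) h

theorem isCoherent_of_iso {X X' : ToposFin.Sh J} (e : X ≅ X') (h : ToposFin.IsCoherent X) :
    ToposFin.IsCoherent X' :=
  ⟨isQC_of_iso e h.1, isQS_of_iso e h.2⟩

/-- a site all of whose objects are quasi-compact has enough quasi-compact objects -/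
theorem hasQCGenerators_of_isQCSite (hC : ∀ X : C, ToposFin.IsQCSite J X) :
    ToposFin.HasQCGenerators J := by
  intro F
  exact ⟨Σ U : C, F.obj.obj (op U), fun p => ToposFin.eps J p.1,
    fun p => (epsEquiv J p.1 F).symm p.2, fun p => isQC_eps_of_isQCSite (hC p.1),
    (epi_sigmaDesc_iff _).mpr (jointlyEpi_epsEquiv_symm F)⟩

section Pullback

variable {D : Type u} [SmallCategory D] {K : GrothendieckTopology D} (G : C ⥤ D)
  [Functor.IsContinuous G J K]

/-- the functor of sections over `G U` on sheaves on `D` -/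
noncomputable abbrev sectionsAt (V : D) : ToposFin.Sh K ⥤ Type u :=
  sheafToPresheaf K (Type u) ⋙ (evaluation Dᵒᵖ (Type u)).obj (op V)

/-- `eps V` corepresents sections over `V` -/
noncomputable def corepEps (V : D) : (sectionsAt (K := K) V).CorepresentableBy (ToposFin.eps K V) where
  homEquiv {Z} := epsEquiv K V Z
  homEquiv_comp g f := epsEquiv_comp f g

/-- the inverse image of `eps U` corepresents sections over `G U` -/
noncomputable def corepPullbackEps (U : C) :
    (sectionsAt (K := K) (G.obj U)).CorepresentableBy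
      ((G.sheafPullback (Type u) J K).obj (ToposFin.eps J U)) where
  homEquiv {Z} := ((G.sheafAdjunctionContinuous (Type u) J K).homEquiv (ToposFin.eps J U) Z).trans
    (epsEquiv J U ((G.sheafPushforwardContinuous (Type u) J K).obj Z))
  homEquiv_comp g f := by
    simp only [Equiv.trans_apply]
    rw [Adjunction.homEquiv_naturality_right]
    exact epsEquiv_comp _ _

/-- the inverse image of the sheaf associated to `U` is the sheaf associated to `G U` -/
noncomputable def sheafPullbackEpsIso (U : C) :
    (G.sheafPullback (Type u) J K).obj (ToposFin.eps J U) ≅ ToposFin.eps K (G.obj U) :=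
  (corepPullbackEps G U).uniqueUpToIso (corepEps (G.obj U))

end Pullback

end Groth.Agent.Lib.Helper28
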