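import Groth.Agent.Lib.Helper28.TensCx6
import Mathlib.CategoryTheory.Monoidal.Rigid.Basic

/-!
# Exact pairings of complexes of modules

If `M` and `N` are complexes of `R`-modules with an exact pairing (for the tensor product of
complexes), then `M` and `N` are bounded with finite projective terms.
-/

set_option autoImplicit false
universe u
open CategoryTheory CategoryTheory.Limits Category MonoidalCategory

namespace Groth.Agent.Lib.Helper28.TensCx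

variable {R : Type u} [CommRing R]

section Structure

lemma ι_ι_associator_hom (K₁ K₂ K₃ : DRing.Cx R) (a b c ab bc n : ℤ) (hab : a + b = ab)
    (hbc : b + c = bc) (h : ab + c = n) (h' : a + bc = n) :
    (ι K₁ K₂ a b ab hab ▷ K₃.X c) ≫ ι (K₁ ⊗ K₂) K₃ ab c n h ≫ (α_ K₁ K₂ K₃).hom.f n =
      (α_ (K₁.X a) (K₂.X b) (K₃.X c)).hom ≫ (K₁.X a ◁ ι K₂ K₃ b c bc hbc) ≫
        ι K₁ (K₂ ⊗ K₃) a bc n h' := by
  have h0 : ComplexShape.r (ComplexShape.up ℤ) (ComplexShape.up ℤ) (ComplexShape.up ℤ)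
      (ComplexShape.up ℤ) (ComplexShape.up ℤ) (a, b, c) = n := by
    change a + b + c = n
    omega
  have := HomologicalComplex.ι_mapBifunctorAssociatorX_hom
    (curriedAssociatorNatIso (ModuleCat.{u} R)) K₁ K₂ K₃ (ComplexShape.up ℤ) (ComplexShape.up ℤ)
    (ComplexShape.up ℤ) a b c n h0
  rw [HomologicalComplex.mapBifunctor₁₂.ι_eq _ _ K₁ K₂ K₃ _ _ a b c ab n hab h,
    HomologicalComplex.mapBifunctor₂₃.ι_eq _ _ K₁ K₂ K₃ _ _ _ a b c bc n hbc h'] at this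
  simp only [curriedTensor_obj_obj, curriedTensor_map_app, curriedTensor_obj_map,
    curriedAssociatorNatIso_hom_app_app_app, Category.assoc] at this
  exact this

lemma ι_ι_associator_inv (K₁ K₂ K₃ : DRing.Cx R) (a b c ab bc n : ℤ) (hab : a + b = ab)
    (hbc : b + c = bc) (h : ab + c = n) (h' : a + bc = n) :
    (K₁.X a ◁ ι K₂ K₃ b c bc hbc) ≫ ι K₁ (K₂ ⊗ K₃) a bc n h' ≫ (α_ K₁ K₂ K₃).inv.f n =
      (α_ (K₁.X a) (K₂.X b) (K₃.X c)).inv ≫ (ι K₁ K₂ a b ab hab ▷ K₃.X c) ≫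
        ι (K₁ ⊗ K₂) K₃ ab c n h := by
  have h1 := ι_ι_associator_hom K₁ K₂ K₃ a b c ab bc n hab hbc h h'
  have h2 : (α_ K₁ K₂ K₃).hom.f n ≫ (α_ K₁ K₂ K₃).inv.f n = 𝟙 _ := by
    rw [← HomologicalComplex.comp_f, Iso.hom_inv_id, HomologicalComplex.id_f]
  rw [← cancel_epi (α_ (K₁.X a) (K₂.X b) (K₃.X c)).hom, Iso.hom_inv_id_assoc]
  have h3 := congrArg (fun f => f ≫ (α_ K₁ K₂ K₃).inv.f n) h1
  simp only [Category.assoc] at h3
  rw [h2, comp_id] at h3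
  exact h3.symm

/-- the unit object in degree 0. -/
noncomputable abbrev unitIso : (𝟙_ (DRing.Cx R)).X 0 ≅ 𝟙_ (ModuleCat.{u} R) :=
  HomologicalComplex.singleObjXSelf (ComplexShape.up ℤ) 0 (𝟙_ (ModuleCat.{u} R))

lemma leftUnitor_inv_f (K : DRing.Cx R) (n : ℤ) :
    (λ_ K).inv.f n = (λ_ (K.X n)).inv ≫ (unitIso.inv ▷ K.X n) ≫
      ι (𝟙_ (DRing.Cx R)) K 0 n n (zero_add n) :=
  HomologicalComplex.leftUnitor'_inv K n

lemma rightUnitor_inv_f (K : DRing.Cx R) (n : ℤ) :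
    (ρ_ K).inv.f n = (ρ_ (K.X n)).inv ≫ (K.X n ◁ unitIso.inv) ≫
      ι K (𝟙_ (DRing.Cx R)) n 0 n (add_zero n) :=
  HomologicalComplex.rightUnitor'_inv K n

lemma isZero_unit_X (n : ℤ) (hn : n ≠ 0) : IsZero ((𝟙_ (DRing.Cx R)).X n) :=
  HomologicalComplex.isZero_single_obj_X (ComplexShape.up ℤ) 0 (𝟙_ (ModuleCat.{u} R)) n hn

lemma ι_leftUnitor_hom_f (K : DRing.Cx R) (n : ℤ) :
    ι (𝟙_ (DRing.Cx R)) K 0 n n (zero_add n) ≫ (λ_ K).hom.f n =
      (unitIso.hom ▷ K.X n) ≫ (λ_ (K.X n)).hom := by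
  have h1 : (λ_ K).inv.f n ≫ (λ_ K).hom.f n = 𝟙 _ := by
    rw [← HomologicalComplex.comp_f, Iso.inv_hom_id, HomologicalComplex.id_f]
  rw [leftUnitor_inv_f, assoc, assoc] at h1
  rw [← cancel_epi (unitIso.inv ▷ K.X n), ← cancel_epi (λ_ (K.X n)).inv, h1,
    ← comp_whiskerRight_assoc, Iso.inv_hom_id, id_whiskerRight, id_comp, Iso.inv_hom_id]

lemma ι_rightUnitor_hom_f (K : DRing.Cx R) (n : ℤ) :
    ι K (𝟙_ (DRing.Cx R)) n 0 n (add_zero n) ≫ (ρ_ K).hom.f n =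
      (K.X n ◁ unitIso.hom) ≫ (ρ_ (K.X n)).hom := by
  have h1 : (ρ_ K).inv.f n ≫ (ρ_ K).hom.f n = 𝟙 _ := by
    rw [← HomologicalComplex.comp_f, Iso.inv_hom_id, HomologicalComplex.id_f]
  rw [rightUnitor_inv_f, assoc, assoc] at h1
  rw [← cancel_epi (K.X n ◁ unitIso.inv), ← cancel_epi (ρ_ (K.X n)).inv, h1,
    ← MonoidalCategory.whiskerLeft_comp_assoc, Iso.inv_hom_id, MonoidalCategory.whiskerLeft_id,
    id_comp, Iso.inv_hom_id]

end Structure

section Pairing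

variable (M N : DRing.Cx R) [ExactPairing M N]

/-- `Ξ_n : (M ⊗ N)^0 ⊗ M^n ⟶ M^n`: insert, reassociate, evaluate. -/
noncomputable def Ξ (n : ℤ) : (M ⊗ N).X 0 ⊗ M.X n ⟶ M.X n :=
  ι (M ⊗ N) M 0 n n (zero_add n) ≫ (α_ M N M).hom.f n ≫ (M ◁ ε_ M N).f n ≫ (ρ_ M).hom.f n

lemma Ξ_coev (n : ℤ) :
    (λ_ (M.X n)).inv ≫ ((unitIso.inv ≫ (η_ M N).f 0) ▷ M.X n) ≫ Ξ M N n = 𝟙 _ := by
  have h1 : ((η_ M N ▷ M) ≫ (α_ M N M).hom ≫ (M ◁ ε_ M N)).f n =
      ((λ_ M).hom ≫ (ρ_ M).inv).f n := by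
    rw [ExactPairing.evaluation_coevaluation]
  simp only [HomologicalComplex.comp_f] at h1
  have h2 : (λ_ M).inv.f n ≫ (λ_ M).hom.f n = 𝟙 _ := by
    rw [← HomologicalComplex.comp_f, Iso.inv_hom_id, HomologicalComplex.id_f]
  have h3 : (ρ_ M).inv.f n ≫ (ρ_ M).hom.f n = 𝟙 _ := by
    rw [← HomologicalComplex.comp_f, Iso.inv_hom_id, HomologicalComplex.id_f]
  have h4 : (λ_ M).inv.f n ≫ ((η_ M N ▷ M).f n ≫ (α_ M N M).hom.f n ≫ (M ◁ ε_ M N).f n) ≫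
      (ρ_ M).hom.f n = 𝟙 _ := by
    rw [h1, assoc, h3, comp_id, h2]
  rw [leftUnitor_inv_f] at h4
  simp only [assoc] at h4
  rw [← assoc (ι (𝟙_ (DRing.Cx R)) M 0 n n (zero_add n)),
    isDiag_whiskerRight (η_ M N) M n 0 n (zero_add n)] at h4
  simp only [assoc] at h4
  rw [comp_whiskerRight, assoc]
  exact h4

/-- components with `b + n ≠ 0` do not contribute. -/
lemma ι_Ξ_of_ne (n a b : ℤ) (h : a + b = 0) (hne : b + n ≠ 0) :
    (ι M N a b 0 h ▷ M.X n) ≫ Ξ M N n = 0 := by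
  dsimp only [Ξ]
  rw [← assoc, ← assoc, assoc (ι M N a b 0 h ▷ M.X n),
    ι_ι_associator_hom M N M a b n 0 (b + n) n h rfl (zero_add n) (by omega)]
  simp only [assoc]
  rw [← assoc (ι M (N ⊗ M) a (b + n) n _), isDiag_whiskerLeft M (ε_ M N) n a (b + n) (by omega)]
  have hz : (ε_ M N).f (b + n) = 0 := (isZero_unit_X (b + n) hne).eq_of_tgt _ _
  dsimp only
  rw [hz, MonoidalPreadditive.whiskerLeft_zero]
  simp

/-- the component with `b + n = 0`. -/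
lemma ι_Ξ_of_eq (n b : ℤ) (h : n + b = 0) (hb : b + n = 0) :
    (ι M N n b 0 h ▷ M.X n) ≫ Ξ M N n =
      (α_ (M.X n) (N.X b) (M.X n)).hom ≫
        (M.X n ◁ (ι N M b n 0 hb ≫ (ε_ M N).f 0 ≫ unitIso.hom)) ≫ (ρ_ (M.X n)).hom := by
  dsimp only [Ξ]
  rw [← assoc, ← assoc, assoc (ι M N n b 0 h ▷ M.X n),
    ι_ι_associator_hom M N M n b n 0 0 n h hb (zero_add n) (add_zero n)]
  simp only [assoc]
  rw [← assoc (ι M (N ⊗ M) n 0 n _), isDiag_whiskerLeft M (ε_ M N) n n 0 (add_zero n)]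
  dsimp only
  simp only [assoc]
  rw [ι_rightUnitor_hom_f]
  simp only [MonoidalCategory.whiskerLeft_comp, assoc]

/-- `Ξ'_n : N^n ⊗ (M ⊗ N)^0 ⟶ N^n`. -/
noncomputable def Ξ' (n : ℤ) : N.X n ⊗ (M ⊗ N).X 0 ⟶ N.X n :=
  ι N (M ⊗ N) n 0 n (add_zero n) ≫ (α_ N M N).inv.f n ≫ (ε_ M N ▷ N).f n ≫ (λ_ N).hom.f n

lemma Ξ'_coev (n : ℤ) :
    (ρ_ (N.X n)).inv ≫ (N.X n ◁ (unitIso.inv ≫ (η_ M N).f 0)) ≫ Ξ' M N n = 𝟙 _ := by
  have h1 : ((N ◁ η_ M N) ≫ (α_ N M N).inv ≫ (ε_ M N ▷ N)).f n =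
      ((ρ_ N).hom ≫ (λ_ N).inv).f n := by
    rw [ExactPairing.coevaluation_evaluation]
  simp only [HomologicalComplex.comp_f] at h1
  have h2 : (λ_ N).inv.f n ≫ (λ_ N).hom.f n = 𝟙 _ := by
    rw [← HomologicalComplex.comp_f, Iso.inv_hom_id, HomologicalComplex.id_f]
  have h3 : (ρ_ N).inv.f n ≫ (ρ_ N).hom.f n = 𝟙 _ := by
    rw [← HomologicalComplex.comp_f, Iso.inv_hom_id, HomologicalComplex.id_f]
  have h4 : (ρ_ N).inv.f n ≫ ((N ◁ η_ M N).f n ≫ (α_ N M N).inv.f n ≫ (ε_ M N ▷ N).f n) ≫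
      (λ_ N).hom.f n = 𝟙 _ := by
    rw [h1, assoc, h2, comp_id, h3]
  rw [rightUnitor_inv_f] at h4
  simp only [assoc] at h4
  rw [← assoc (ι N (𝟙_ (DRing.Cx R)) n 0 n (add_zero n)),
    isDiag_whiskerLeft N (η_ M N) n n 0 (add_zero n)] at h4
  simp only [assoc] at h4
  rw [MonoidalCategory.whiskerLeft_comp, assoc]
  exact h4

lemma ι_Ξ'_of_ne (n a b : ℤ) (h : a + b = 0) (hne : n + a ≠ 0) :
    (N.X n ◁ ι M N a b 0 h) ≫ Ξ' M N n = 0 := by
  dsimp only [Ξ']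
  rw [← assoc, ← assoc, assoc (N.X n ◁ ι M N a b 0 h),
    ι_ι_associator_inv N M N n a b (n + a) 0 n rfl h (by omega) (add_zero n)]
  simp only [assoc]
  rw [← assoc (ι (N ⊗ M) N (n + a) b n _),
    isDiag_whiskerRight (ε_ M N) N n (n + a) b (by omega)]
  have hz : (ε_ M N).f (n + a) = 0 := (isZero_unit_X (n + a) hne).eq_of_tgt _ _
  dsimp only
  rw [hz, MonoidalPreadditive.zero_whiskerRight]
  simp

lemma ι_Ξ'_of_eq (n a : ℤ) (h : a + n = 0) (ha : n + a = 0) :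
    (N.X n ◁ ι M N a n 0 h) ≫ Ξ' M N n =
      (α_ (N.X n) (M.X a) (N.X n)).inv ≫
        ((ι N M n a 0 ha ≫ (ε_ M N).f 0 ≫ unitIso.hom) ▷ N.X n) ≫ (λ_ (N.X n)).hom := by
  dsimp only [Ξ']
  rw [← assoc, ← assoc, assoc (N.X n ◁ ι M N a n 0 h),
    ι_ι_associator_inv N M N n a n 0 0 n ha h (zero_add n) (add_zero n)]
  simp only [assoc]
  rw [← assoc (ι (N ⊗ M) N 0 n n _), isDiag_whiskerRight (ε_ M N) N n 0 n (zero_add n)]
  dsimp only
  simp only [assoc]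
  rw [ι_leftUnitor_hom_f]
  simp only [comp_whiskerRight, assoc]

end Pairing

section Good

variable {X : Type u} [AddCommGroup X] [Module R X]

/-- a linear endomorphism of the form `x ↦ ∑ φ_k(x) • m_k` (finite sum). -/
def Good (T : X →ₗ[R] X) : Prop :=
  ∃ (r : ℕ) (m : Fin r → X) (φ : Fin r → (X →ₗ[R] R)), ∀ x, T x = ∑ k, φ k x • m k

lemma good_zero : Good (0 : X →ₗ[R] X) :=
  ⟨0, Fin.elim0, Fin.elim0, fun x => by simp⟩

lemma good_add {T T' : X →ₗ[R] X} (h : Good T) (h' : Good T') : Good (T + T') := by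
  obtain ⟨r, m, φ, hT⟩ := h
  obtain ⟨r', m', φ', hT'⟩ := h'
  refine ⟨r + r', Fin.append m m', Fin.append φ φ', fun x => ?_⟩
  rw [LinearMap.add_apply, hT, hT', Fin.sum_univ_add]
  simp

lemma good_single (m : X) (φ : X →ₗ[R] R) (T : X →ₗ[R] X) (hT : ∀ x, T x = φ x • m) : Good T :=
  ⟨1, fun _ => m, fun _ => φ, fun x => by simp [hT]⟩

lemma finite_projective_of_good_id (h : Good (LinearMap.id : X →ₗ[R] X)) :
    Module.Finite R X ∧ Module.Projective R X := by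
  obtain ⟨r, m, φ, hT⟩ := h
  let i : X →ₗ[R] (Fin r → R) := LinearMap.pi φ
  let s : (Fin r → R) →ₗ[R] X := Fintype.linearCombination R m
  have hsi : s.comp i = LinearMap.id := by
    ext x
    change Fintype.linearCombination R m (fun k => φ k x) = x
    rw [Fintype.linearCombination_apply]
    exact (hT x).symm
  have hsurj : Function.Surjective s := fun x => ⟨i x, congrArg (fun f => f x) hsi⟩
  exact ⟨Module.Finite.of_surjective s hsurj, Module.Projective.of_split i s hsi⟩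

lemma subsingleton_of_id_eq_zero (h : (LinearMap.id : X →ₗ[R] X) = 0) : Subsingleton X :=
  ⟨fun x y => by
    have hx := congrArg (fun f => f x) h
    have hy := congrArg (fun f => f y) h
    simp only [LinearMap.id_apply, LinearMap.zero_apply] at hx hy
    rw [hx, hy]⟩

end Good

section Elementwise

variable (M N : DRing.Cx R) [ExactPairing M N]

/-- the coevaluation element `u ∈ (M ⊗ N)^0`. -/
noncomputable def coevElt : ↑((M ⊗ N).X 0) :=
  ((η_ M N).f 0).hom (unitIso.inv.hom (show ↑(𝟙_ (ModuleCat.{u} R)) from (1 : R)))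

/-- `Θ_n(w) = Ξ_n(w ⊗ -)`. -/
noncomputable def Θ (n : ℤ) (w : ↑((M ⊗ N).X 0)) : M.X n →ₗ[R] M.X n :=
  (Ξ M N n).hom ∘ₗ (TensorProduct.mk R ((M ⊗ N).X 0) (M.X n) w)

lemma Θ_add (n : ℤ) (w w' : ↑((M ⊗ N).X 0)) : Θ M N n (w + w') = Θ M N n w + Θ M N n w' := by
  ext x
  change (Ξ M N n).hom ((w + w') ⊗ₜ[R] x) = (Ξ M N n).hom (w ⊗ₜ[R] x) + (Ξ M N n).hom (w' ⊗ₜ[R] x)
  rw [TensorProduct.add_tmul, map_add]

lemma Θ_zero (n : ℤ) : Θ M N n 0 = 0 := by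
  ext x
  change (Ξ M N n).hom ((0 : ↑((M ⊗ N).X 0)) ⊗ₜ[R] x) = 0
  rw [TensorProduct.zero_tmul, map_zero]

lemma Θ_coev (n : ℤ) : Θ M N n (coevElt M N) = LinearMap.id := by
  ext x
  have h := congrArg (fun f => f.hom x) (Ξ_coev M N n)
  exact h

lemma Θ_ι_of_ne (n a b : ℤ) (h : a + b = 0) (hne : b + n ≠ 0) (t : ↑(M.X a ⊗ N.X b)) :
    Θ M N n ((ι M N a b 0 h).hom t) = 0 := by
  ext x
  have h := congrArg (fun f => f.hom (t ⊗ₜ[R] x)) (ι_Ξ_of_ne M N n a b h hne)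
  exact h

lemma Θ_ι_of_eq (n b : ℤ) (h : n + b = 0) (hb : b + n = 0) (m : M.X n) (ν : N.X b)
    (x : M.X n) :
    Θ M N n ((ι M N n b 0 h).hom (m ⊗ₜ[R] ν)) x =
      ((unitIso.hom.hom ∘ₗ ((ε_ M N).f 0).hom ∘ₗ (ι N M b n 0 hb).hom ∘ₗ
        (TensorProduct.mk R (N.X b) (M.X n) ν)) x : R) • m := by
  have h := congrArg (fun f => f.hom ((m ⊗ₜ[R] ν) ⊗ₜ[R] x)) (ι_Ξ_of_eq M N n b h hb)
  exact h

lemma good_Θ (n : ℤ) (w : ↑((M ⊗ N).X 0)) : Good (Θ M N n w) := by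
  have hw : w ∈ (⨆ (p : ℤ), LinearMap.range (ι M N p (0 - p) 0 (by omega)).hom) := by
    rw [iSup_range_ι]; trivial
  induction hw using Submodule.iSup_induction' with
  | mem p w hw =>
    obtain ⟨t, rfl⟩ := hw
    by_cases hp : p = n
    · subst hp
      induction t using TensorProduct.induction_on with
      | zero => rw [map_zero, Θ_zero]; exact good_zero
      | tmul m ν =>
        exact good_single m _ _ (fun x => Θ_ι_of_eq M N p (0 - p) (by omega) (by omega) m ν x)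
      | add t t' ht ht' => rw [map_add, Θ_add]; exact good_add ht ht'
    · rw [Θ_ι_of_ne M N n p (0 - p) (by omega) (by omega) t]
      exact good_zero
  | zero => rw [Θ_zero]; exact good_zero
  | add w w' _ _ hw hw' => rw [Θ_add]; exact good_add hw hw'

lemma exists_finset_Θ_eq_zero (w : ↑((M ⊗ N).X 0)) :
    ∃ S : Finset ℤ, ∀ n, n ∉ S → Θ M N n w = 0 := by
  have hw : w ∈ (⨆ (p : ℤ), LinearMap.range (ι M N p (0 - p) 0 (by omega)).hom) := by
    rw [iSup_range_ι]; trivial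
  induction hw using Submodule.iSup_induction' with
  | mem p w hw =>
    obtain ⟨t, rfl⟩ := hw
    refine ⟨{p}, fun n hn => ?_⟩
    rw [Finset.mem_singleton] at hn
    exact Θ_ι_of_ne M N n p (0 - p) (by omega) (by omega) t
  | zero => exact ⟨∅, fun n _ => Θ_zero M N n⟩
  | add w w' _ _ hw hw' =>
    obtain ⟨S, hS⟩ := hw
    obtain ⟨S', hS'⟩ := hw'
    refine ⟨S ∪ S', fun n hn => ?_⟩
    rw [Finset.mem_union, not_or] at hn
    rw [Θ_add, hS n hn.1, hS' n hn.2, add_zero]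

/-- `Θ'_n(w) = Ξ'_n(- ⊗ w)`. -/
noncomputable def Θ' (n : ℤ) (w : ↑((M ⊗ N).X 0)) : N.X n →ₗ[R] N.X n :=
  (Ξ' M N n).hom ∘ₗ ((TensorProduct.mk R (N.X n) ((M ⊗ N).X 0)).flip w)

lemma Θ'_add (n : ℤ) (w w' : ↑((M ⊗ N).X 0)) :
    Θ' M N n (w + w') = Θ' M N n w + Θ' M N n w' := by
  ext y
  change (Ξ' M N n).hom (y ⊗ₜ[R] (w + w')) =
    (Ξ' M N n).hom (y ⊗ₜ[R] w) + (Ξ' M N n).hom (y ⊗ₜ[R] w')
  rw [TensorProduct.tmul_add, map_add]

lemma Θ'_zero (n : ℤ) : Θ' M N n 0 = 0 := by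
  ext y
  change (Ξ' M N n).hom (y ⊗ₜ[R] (0 : ↑((M ⊗ N).X 0))) = 0
  rw [TensorProduct.tmul_zero, map_zero]

lemma Θ'_coev (n : ℤ) : Θ' M N n (coevElt M N) = LinearMap.id := by
  ext y
  have h := congrArg (fun f => f.hom y) (Ξ'_coev M N n)
  exact h

lemma Θ'_ι_of_ne (n a b : ℤ) (h : a + b = 0) (hne : n + a ≠ 0) (t : ↑(M.X a ⊗ N.X b)) :
    Θ' M N n ((ι M N a b 0 h).hom t) = 0 := by
  ext y
  have h := congrArg (fun f => f.hom (y ⊗ₜ[R] t)) (ι_Ξ'_of_ne M N n a b h hne)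
  exact h

lemma Θ'_ι_of_eq (n a : ℤ) (h : a + n = 0) (ha : n + a = 0) (m : M.X a) (ν : N.X n)
    (y : N.X n) :
    Θ' M N n ((ι M N a n 0 h).hom (m ⊗ₜ[R] ν)) y =
      ((unitIso.hom.hom ∘ₗ ((ε_ M N).f 0).hom ∘ₗ (ι N M n a 0 ha).hom ∘ₗ
        ((TensorProduct.mk R (N.X n) (M.X a)).flip m)) y : R) • ν := by
  have h := congrArg (fun f => f.hom (y ⊗ₜ[R] (m ⊗ₜ[R] ν))) (ι_Ξ'_of_eq M N n a h ha)
  exact h

lemma good_Θ' (n : ℤ) (w : ↑((M ⊗ N).X 0)) : Good (Θ' M N n w) := by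
  have hw : w ∈ (⨆ (p : ℤ), LinearMap.range (ι M N p (0 - p) 0 (by omega)).hom) := by
    rw [iSup_range_ι]; trivial
  induction hw using Submodule.iSup_induction' with
  | mem p w hw =>
    obtain ⟨t, rfl⟩ := hw
    by_cases hp : n = 0 - p
    · subst hp
      induction t using TensorProduct.induction_on with
      | zero => rw [map_zero, Θ'_zero]; exact good_zero
      | tmul m ν =>
        exact good_single ν _ _
          (fun y => Θ'_ι_of_eq M N (0 - p) p (by omega) (by omega) m ν y)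
      | add t t' ht ht' => rw [map_add, Θ'_add]; exact good_add ht ht'
    · rw [Θ'_ι_of_ne M N n p (0 - p) (by omega) (by omega) t]
      exact good_zero
  | zero => rw [Θ'_zero]; exact good_zero
  | add w w' _ _ hw hw' => rw [Θ'_add]; exact good_add hw hw'

lemma exists_finset_Θ'_eq_zero (w : ↑((M ⊗ N).X 0)) :
    ∃ S : Finset ℤ, ∀ n, n ∉ S → Θ' M N n w = 0 := by
  have hw : w ∈ (⨆ (p : ℤ), LinearMap.range (ι M N p (0 - p) 0 (by omega)).hom) := by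
    rw [iSup_range_ι]; trivial
  induction hw using Submodule.iSup_induction' with
  | mem p w hw =>
    obtain ⟨t, rfl⟩ := hw
    refine ⟨{-p}, fun n hn => ?_⟩
    rw [Finset.mem_singleton] at hn
    exact Θ'_ι_of_ne M N n p (0 - p) (by omega) (by omega) t
  | zero => exact ⟨∅, fun n _ => Θ'_zero M N n⟩
  | add w w' _ _ hw hw' =>
    obtain ⟨S, hS⟩ := hw
    obtain ⟨S', hS'⟩ := hw'
    refine ⟨S ∪ S', fun n hn => ?_⟩
    rw [Finset.mem_union, not_or] at hn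
    rw [Θ'_add, hS n hn.1, hS' n hn.2, add_zero]

lemma exists_bounds_of_finset (K : DRing.Cx R) (S : Finset ℤ)
    (hS : ∀ n, n ∉ S → Subsingleton (K.X n)) : ∃ a b : ℤ, DRing.VanishesOutside K a b := by
  refine ⟨-(S.sup Int.natAbs : ℕ), (S.sup Int.natAbs : ℕ), fun i hi => ?_⟩
  have : i ∉ S := fun hiS => by
    have := Finset.le_sup (f := Int.natAbs) hiS
    omega
  haveI := hS i this
  exact ModuleCat.isZero_of_subsingleton _

/-- **Dualizable complexes are bounded with finite projective terms.** -/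
theorem bounded_finite_projective_of_exactPairing :
    (∃ a b : ℤ, DRing.VanishesOutside M a b) ∧ (∃ a b : ℤ, DRing.VanishesOutside N a b) ∧
      DRing.TermwiseFiniteProjective M ∧ DRing.TermwiseFiniteProjective N := by
  refine ⟨?_, ?_, fun n => ?_, fun n => ?_⟩
  · obtain ⟨S, hS⟩ := exists_finset_Θ_eq_zero M N (coevElt M N)
    exact exists_bounds_of_finset M S (fun n hn =>
      subsingleton_of_id_eq_zero (R := R) (by rw [← Θ_coev M N n, hS n hn]))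
  · obtain ⟨S, hS⟩ := exists_finset_Θ'_eq_zero M N (coevElt M N)
    exact exists_bounds_of_finset N S (fun n hn =>
      subsingleton_of_id_eq_zero (R := R) (by rw [← Θ'_coev M N n, hS n hn]))
  · have h := good_Θ M N n (coevElt M N)
    rw [Θ_coev] at h
    exact finite_projective_of_good_id h
  · have h := good_Θ' M N n (coevElt M N)
    rw [Θ'_coev] at h
    exact finite_projective_of_good_id h

end Elementwise

end Groth.Agent.Lib.Helper28.TensCx
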