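import Groth.Agent.Lib.Helper28.ExtKilled
import Groth.Agent.Lib.Helper28.ExtReg

/-!
helper28: corepresentability of `M ↦ Ext^i(N, M)` on the modules killed by an ideal `J`,
and its behaviour under quotients by regular elements of `J`.
-/

set_option autoImplicit false
universe u

namespace Groth.Agent.Lib.Helper28

open CategoryTheory Abelian RingTheory.Sequence

variable {A : Type u} [CommRing A]

/-- postcomposition `φ ↦ τ ∘ φ` as a linear map -/
noncomputable def pc {N : ModuleCat.{u} A} {F M : Type u} [AddCommGroup F] [Module A F]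
    [AddCommGroup M] [Module A M] (i : ℕ) (τ : Ext N (ModuleCat.of A F) i) :
    (F →ₗ[A] M) →ₗ[A] Ext N (ModuleCat.of A M) i where
  toFun φ := τ.comp (Ext.mk₀ (ModuleCat.ofHom φ)) (add_zero i)
  map_add' φ ψ := by
    rw [ModuleCat.ofHom_add, Ext.mk₀_add, Ext.comp_add]
  map_smul' a φ := by
    have : ModuleCat.ofHom (a • φ) = a • ModuleCat.ofHom φ := rfl
    rw [this, Ext.mk₀_smul, Ext.comp_smul]
    rfl

lemma pc_apply {N : ModuleCat.{u} A} {F M : Type u} [AddCommGroup F] [Module A F]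
    [AddCommGroup M] [Module A M] (i : ℕ) (τ : Ext N (ModuleCat.of A F) i) (φ : F →ₗ[A] M) :
    pc i τ φ = τ.comp (Ext.mk₀ (ModuleCat.ofHom φ)) (add_zero i) := rfl

variable (J : Ideal A)

/-- `M ↦ Ext^i(N, M)`, on modules killed by `J`, is corepresented by a module `F ≃ (A/J)^c`. -/
def IsCorep (N : ModuleCat.{u} A) (i c : ℕ) : Prop :=
  ∃ (F : Type u) (_ : AddCommGroup F) (_ : Module A F), KilledBy J F ∧
    Nonempty (F ≃ₗ[A] (Fin c → A ⧸ J)) ∧
    ∃ τ : Ext N (ModuleCat.of A F) i, ∀ (M : Type u) [AddCommGroup M] [Module A M],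
      KilledBy J M → Function.Bijective (pc (M := M) i τ)

variable {J}

/-- `Hom(A ⧸ J, M) ≃ M` for `M` killed by `J`. -/
noncomputable def homQuotEquiv {M : Type u} [AddCommGroup M] [Module A M] (hM : KilledBy J M) :
    ((A ⧸ J) →ₗ[A] M) ≃ₗ[A] M where
  toFun φ := φ 1
  map_add' _ _ := rfl
  map_smul' _ _ := rfl
  invFun m := toKilled hM m
  left_inv φ := (eq_toKilled hM φ).symm
  right_inv m := toKilled_one hM m

/-- `Hom((A ⧸ J)^c, M) ≃ M^c` for `M` killed by `J`. -/
noncomputable def homPiQuotEquiv {M : Type u} [AddCommGroup M] [Module A M] (hM : KilledBy J M)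
    (c : ℕ) : ((Fin c → A ⧸ J) →ₗ[A] M) ≃ₗ[A] (Fin c → M) :=
  (LinearMap.lsum A (fun _ : Fin c => A ⧸ J) A).symm.trans
    (LinearEquiv.piCongrRight (fun _ => homQuotEquiv hM))

/-- From corepresentability to the computation of `Ext`. -/
theorem IsCorep.nonempty_linearEquiv {N : ModuleCat.{u} A} {i c : ℕ} (h : IsCorep J N i c)
    (M : Type u) [AddCommGroup M] [Module A M] (hM : KilledBy J M) :
    Nonempty (Ext N (ModuleCat.of A M) i ≃ₗ[A] (Fin c → M)) := by
  obtain ⟨F, _, _, _, ⟨e⟩, τ, hτ⟩ := h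
  exact ⟨(LinearEquiv.ofBijective (pc (M := M) i τ) (hτ M hM)).symm.trans
    ((LinearEquiv.congrLeft M A e).trans (homPiQuotEquiv hM c))⟩

/-- invariance under isomorphism in the first variable -/
theorem IsCorep.of_iso {N N' : ModuleCat.{u} A} (e : N ≅ N') {i c : ℕ} (h : IsCorep J N i c) :
    IsCorep J N' i c := by
  obtain ⟨F, _, _, hF, he, τ, hτ⟩ := h
  refine ⟨F, _, _, hF, he, (Ext.mk₀ e.inv).comp τ (zero_add i), fun M _ _ hM => ?_⟩
  have hb := hτ M hM
  have : (pc (M := M) i ((Ext.mk₀ e.inv).comp τ (zero_add i)) : (F →ₗ[A] M) → _) =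
      (extCongrLeft e (ModuleCat.of A M) i).symm ∘ (pc (M := M) i τ) := by
    funext φ
    simp only [pc_apply, Function.comp_apply]
    change _ = (Ext.mk₀ e.inv).comp _ (zero_add i)
    rw [Ext.comp_assoc_of_third_deg_zero]
  rw [this]
  exact (extCongrLeft e (ModuleCat.of A M) i).symm.bijective.comp hb

end Groth.Agent.Lib.Helper28
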