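import Groth.Agent.Lib.Helper28.ExtCorep

/-!
helper28: corepresentability of `Ext^i(N/rN, -)` from that of `Ext^i(N, -)`, `Ext^{i-1}(N, -)`.
-/

set_option autoImplicit false
universe u

namespace Groth.Agent.Lib.Helper28

open CategoryTheory Abelian RingTheory.Sequence

variable {A : Type u} [CommRing A] {J : Ideal A}

section Base

theorem isCorep_self_zero : IsCorep J (ModuleCat.of A A) 0 1 := by
  refine ⟨A ⧸ J, inferInstance, inferInstance, killedBy_quotient,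
    ⟨(LinearEquiv.funUnique (Fin 1) A (A ⧸ J)).symm⟩,
    Ext.mk₀ (ModuleCat.ofHom (Submodule.mkQ J)), fun M _ _ hM => ?_⟩
  constructor
  · intro φ ψ h
    simp only [pc_apply, Ext.mk₀_comp_mk₀] at h
    have h2 := (Ext.mk₀_bijective _ _).1 h
    apply LinearMap.ext
    intro y
    obtain ⟨a, rfl⟩ := Submodule.mkQ_surjective J y
    exact congrArg (fun f => f.hom a) h2
  · intro x
    obtain ⟨ψ, rfl⟩ := (Ext.mk₀_bijective _ _).2 x
    refine ⟨toKilled hM (ψ.hom (1 : A)), ?_⟩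
    rw [pc_apply, Ext.mk₀_comp_mk₀]
    congr 1
    apply ModuleCat.hom_ext
    apply LinearMap.ext_ring
    change toKilled hM (ψ.hom (1 : A)) (Ideal.Quotient.mk J 1) = _
    rw [toKilled_mk, one_smul]

theorem isCorep_self_succ (i : ℕ) : IsCorep J (ModuleCat.of A A) (i + 1) 0 := by
  refine ⟨PUnit.{u + 1}, inferInstance, inferInstance, ?_,
    ⟨LinearEquiv.ofSubsingleton _ _⟩, 0, fun M _ _ hM => ?_⟩
  · rw [killedBy_iff]
    intro a _ y
    rfl
  · constructor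
    · intro φ ψ _
      apply LinearMap.ext
      intro y
      rw [Subsingleton.elim y 0, map_zero, map_zero]
    · intro x
      refine ⟨0, ?_⟩
      rw [Ext.eq_zero_of_projective x, map_zero]

end Base

section LES

variable {N : ModuleCat.{u} A} {r : A}

/-- the quotient map `N → N/rN` -/
noncomputable def qmap (N : ModuleCat.{u} A) (r : A) : N ⟶ ModuleCat.of A (QuotSMulTop r N) :=
  (ModuleCat.smulShortComplex N r).g

/-- the class of `0 → N → N → N/rN → 0` -/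
noncomputable def ecl (hr : IsSMulRegular N r) : Ext (ModuleCat.of A (QuotSMulTop r N)) N 1 :=
  hr.smulShortComplex_shortExact.extClass

variable (hr : IsSMulRegular N r) (Y : ModuleCat.{u} A)

lemma smul_eq_mk₀_comp {i : ℕ} (x : Ext N Y i) :
    (Ext.mk₀ (ModuleCat.smulShortComplex N r).f).comp x (zero_add i) = r • x := by
  change (Ext.mk₀ (r • 𝟙 N)).comp x (zero_add i) = r • x
  rw [Ext.mk₀_smul, Ext.smul_comp, Ext.mk₀_id_comp]

include hr in
lemma les_exact₂ {i : ℕ} (x₂ : Ext N Y i) (h : r • x₂ = 0) :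
    ∃ x₁ : Ext (ModuleCat.of A (QuotSMulTop r N)) Y i,
      (Ext.mk₀ (qmap N r)).comp x₁ (zero_add i) = x₂ :=
  Ext.contravariant_sequence_exact₂ hr.smulShortComplex_shortExact Y x₂
    ((smul_eq_mk₀_comp Y x₂).trans h)

lemma les_exact₃ {q : ℕ} (x₃ : Ext (ModuleCat.of A (QuotSMulTop r N)) Y (q + 1))
    (h : (Ext.mk₀ (qmap N r)).comp x₃ (zero_add (q + 1)) = 0) :
    ∃ x₁ : Ext N Y q, (ecl hr).comp x₁ (add_comm 1 q) = x₃ :=
  Ext.contravariant_sequence_exact₃ hr.smulShortComplex_shortExact Y x₃ h (add_comm 1 q)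

lemma les_exact₁ {q : ℕ} (x₁ : Ext N Y q) (h : (ecl hr).comp x₁ (add_comm 1 q) = 0) :
    ∃ x₂ : Ext N Y q, r • x₂ = x₁ := by
  obtain ⟨x₂, hx₂⟩ := Ext.contravariant_sequence_exact₁ hr.smulShortComplex_shortExact Y x₁
    (add_comm 1 q) h
  exact ⟨x₂, (smul_eq_mk₀_comp Y x₂).symm.trans hx₂⟩

lemma qmap_comp_ecl : (Ext.mk₀ (qmap N r)).comp (ecl hr) (zero_add 1) = 0 :=
  hr.smulShortComplex_shortExact.comp_extClass

include hr in
lemma qmap_comp_injective₀ : Function.Injective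
    (fun x : Ext (ModuleCat.of A (QuotSMulTop r N)) Y 0 =>
      (Ext.mk₀ (qmap N r)).comp x (zero_add 0)) :=
  Ext.precomp_mk₀_injective_of_epi Y (ModuleCat.smulShortComplex N r).g
    (hg := hr.smulShortComplex_shortExact.epi_g)

end LES

section Step

variable {N : ModuleCat.{u} A} {r : A}

/-- multiplication by `r ∈ J` kills `Ext^i(N, M)` when `M` is killed by `J`. -/
lemma smul_ext_eq_zero (hrJ : r ∈ J) {M : Type u} [AddCommGroup M] [Module A M]
    (hM : KilledBy J M) {i : ℕ} (x : Ext N (ModuleCat.of A M) i) : r • x = 0 := by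
  have h1 : r • x = x.comp (Ext.mk₀ (r • 𝟙 (ModuleCat.of A M))) (add_zero i) := by
    rw [Ext.mk₀_smul, Ext.comp_smul, Ext.comp_mk₀_id]
  have h2 : r • 𝟙 (ModuleCat.of A M) = 0 := by
    apply ModuleCat.hom_ext
    apply LinearMap.ext
    intro m
    exact hM.smul_eq_zero hrJ m
  rw [h1, h2, Ext.mk₀_zero, Ext.comp_zero]

variable (hr : IsSMulRegular N r) (hrJ : r ∈ J)

include hr hrJ

theorem IsCorep.quotSMulTop_zero {c : ℕ} (h : IsCorep J N 0 c) :
    IsCorep J (ModuleCat.of A (QuotSMulTop r N)) 0 c := by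
  obtain ⟨F, _, _, hF, he, τ, hτ⟩ := h
  obtain ⟨τ₂, hτ₂⟩ := les_exact₂ hr (ModuleCat.of A F) τ (smul_ext_eq_zero hrJ hF τ)
  refine ⟨F, _, _, hF, he, τ₂, fun M _ _ hM => ?_⟩
  have hcomp : ∀ φ : F →ₗ[A] M,
      (Ext.mk₀ (qmap N r)).comp (pc 0 τ₂ φ) (zero_add 0) = pc 0 τ φ := by
    intro φ
    rw [pc_apply, pc_apply, ← hτ₂, Ext.comp_assoc_of_third_deg_zero]
  have hinj := qmap_comp_injective₀ hr (ModuleCat.of A M)
  constructor
  · intro φ ψ h
    apply (hτ M hM).1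
    rw [← hcomp φ, ← hcomp ψ, h]
  · intro t
    obtain ⟨φ, hφ⟩ := (hτ M hM).2 ((Ext.mk₀ (qmap N r)).comp t (zero_add 0))
    refine ⟨φ, hinj ?_⟩
    change (Ext.mk₀ _).comp (pc 0 τ₂ φ) (zero_add 0) = (Ext.mk₀ _).comp t (zero_add 0)
    rw [hcomp φ, hφ]

theorem IsCorep.quotSMulTop_succ {q c' c'' : ℕ} (h' : IsCorep J N q c')
    (h'' : IsCorep J N (q + 1) c'') :
    IsCorep J (ModuleCat.of A (QuotSMulTop r N)) (q + 1) (c'' + c') := by
  obtain ⟨F', _, _, hF', ⟨e'⟩, τ', hτ'⟩ := h'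
  obtain ⟨F'', _, _, hF'', ⟨e''⟩, τ'', hτ''⟩ := h''
  obtain ⟨τ₂, hτ₂⟩ := les_exact₂ hr (ModuleCat.of A F'') τ'' (smul_ext_eq_zero hrJ hF'' τ'')
  -- the new universal element on F'' × F'
  let δτ' : Ext (ModuleCat.of A (QuotSMulTop r N)) (ModuleCat.of A F') (q + 1) :=
    (ecl hr).comp τ' (add_comm 1 q)
  let τ : Ext (ModuleCat.of A (QuotSMulTop r N)) (ModuleCat.of A (F'' × F')) (q + 1) :=
    pc (q + 1) τ₂ (LinearMap.inl A F'' F') + pc (q + 1) δτ' (LinearMap.inr A F'' F')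
  have hFF : KilledBy J (F'' × F') := by
    rw [killedBy_iff]
    intro a ha y
    ext
    · exact hF''.smul_eq_zero ha y.1
    · exact hF'.smul_eq_zero ha y.2
  refine ⟨F'' × F', _, _, hFF,
    ⟨(e''.prodCongr e').trans ((LinearEquiv.sumArrowLequivProdArrow (Fin c'') (Fin c') A
      (A ⧸ J)).symm.trans (LinearEquiv.funCongrLeft A (A ⧸ J) finSumFinEquiv.symm))⟩,
    τ, fun M _ _ hM => ?_⟩
  -- formula for `pc τ`
  have hpc : ∀ φ : (F'' × F') →ₗ[A] M, pc (q + 1) τ φ =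
      pc (q + 1) τ₂ (φ ∘ₗ LinearMap.inl A F'' F') +
        (ecl hr).comp (pc q τ' (φ ∘ₗ LinearMap.inr A F'' F')) (add_comm 1 q) := by
    intro φ
    simp only [pc_apply, τ, δτ', Ext.add_comp]
    congr 1
    · rw [Ext.comp_assoc_of_third_deg_zero, Ext.mk₀_comp_mk₀, ← ModuleCat.ofHom_comp]
    · rw [Ext.comp_assoc_of_third_deg_zero, Ext.mk₀_comp_mk₀, ← ModuleCat.ofHom_comp,
        Ext.comp_assoc_of_third_deg_zero]
  -- π^* of the two pieces
  have hπ₂ : ∀ φ₁ : F'' →ₗ[A] M, (Ext.mk₀ (qmap N r)).comp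
      (pc (q + 1) τ₂ φ₁) (zero_add (q + 1)) = pc (q + 1) τ'' φ₁ := by
    intro φ₁
    rw [pc_apply, pc_apply, ← hτ₂, Ext.comp_assoc_of_third_deg_zero]
  have hπδ : ∀ s : Ext N (ModuleCat.of A M) q, (Ext.mk₀ (qmap N r)).comp
      ((ecl hr).comp s (add_comm 1 q)) (zero_add (q + 1)) = 0 := by
    intro s
    rw [← Ext.comp_assoc (Ext.mk₀ (qmap N r)) (ecl hr) s (zero_add 1) (add_comm 1 q)
      (by omega), qmap_comp_ecl, Ext.zero_comp]
  have hδinj : ∀ s : Ext N (ModuleCat.of A M) q, (ecl hr).comp s (add_comm 1 q) = 0 → s = 0 := by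
    intro s hs
    obtain ⟨x₂, hx₂⟩ := les_exact₁ hr (ModuleCat.of A M) s hs
    rw [← hx₂]
    exact smul_ext_eq_zero hrJ hM x₂
  constructor
  · rw [injective_iff_map_eq_zero]
    intro φ hφ
    rw [hpc] at hφ
    have h1 := congrArg (fun t => (Ext.mk₀ (qmap N r)).comp t (zero_add (q + 1))) hφ
    simp only [Ext.comp_add, hπ₂, hπδ, add_zero, Ext.comp_zero] at h1
    have hφ₁ : φ ∘ₗ LinearMap.inl A F'' F' = 0 :=
      (injective_iff_map_eq_zero _).mp (hτ'' M hM).1 _ h1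
    rw [hφ₁, map_zero, zero_add] at hφ
    have h2 := hδinj _ hφ
    have hφ₂ : φ ∘ₗ LinearMap.inr A F'' F' = 0 :=
      (injective_iff_map_eq_zero _).mp (hτ' M hM).1 _ h2
    apply LinearMap.ext
    rintro ⟨y₁, y₂⟩
    have e1 := congrArg (fun f => f y₁) hφ₁
    have e2 := congrArg (fun f => f y₂) hφ₂
    simp only [LinearMap.comp_apply, LinearMap.inl_apply, LinearMap.inr_apply,
      LinearMap.zero_apply] at e1 e2
    have : ((y₁, y₂) : F'' × F') = (y₁, 0) + (0, y₂) := by simp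
    rw [this, map_add, e1, e2, add_zero, LinearMap.zero_apply]
  · intro t
    obtain ⟨φ₁, hφ₁⟩ := (hτ'' M hM).2 ((Ext.mk₀ (qmap N r)).comp t (zero_add (q + 1)))
    have hker : (Ext.mk₀ (qmap N r)).comp (t - pc (q + 1) τ₂ φ₁) (zero_add (q + 1)) = 0 := by
      rw [sub_eq_add_neg, Ext.comp_add, Ext.comp_neg, hπ₂, hφ₁, add_neg_cancel]
    obtain ⟨s, hs⟩ := les_exact₃ hr (ModuleCat.of A M) _ hker
    obtain ⟨φ₂, hφ₂⟩ := (hτ' M hM).2 s
    refine ⟨LinearMap.coprod φ₁ φ₂, ?_⟩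
    rw [hpc, LinearMap.coprod_inl, LinearMap.coprod_inr, hφ₂, hs]
    abel

end Step

end Groth.Agent.Lib.Helper28
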