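import Groth.Agent.Lib.Helper28.ExtCorep2

/-!
helper28: `Ext^i(A/(xs), M) ≅ M^(len choose i)` for a weakly regular sequence `xs` and `M` killed
by `(xs)`.
-/

set_option autoImplicit false
universe u

namespace Groth.Agent.Lib.Helper28

open CategoryTheory Abelian RingTheory.Sequence

variable {A : Type u} [CommRing A] {J : Ideal A}

theorem isCorep_quot_regular : ∀ (rs : List A) (N : Type u) [AddCommGroup N] [Module A N]
    (k₀ : ℕ), IsWeaklyRegular N rs → (∀ r ∈ rs, r ∈ J) →
    (∀ i, IsCorep J (ModuleCat.of A N) i (k₀.choose i)) →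
    ∀ i, IsCorep J (ModuleCat.of A (N ⧸ (Ideal.ofList rs • ⊤ : Submodule A N))) i
      ((k₀ + rs.length).choose i) := by
  intro rs
  induction rs with
  | nil =>
    intro N _ _ k₀ _ _ h i
    have hbot : (Ideal.ofList ([] : List A) • ⊤ : Submodule A N) = ⊥ := by
      rw [Ideal.ofList_nil, Submodule.bot_smul]
    let e₀ : (N ⧸ (Ideal.ofList ([] : List A) • ⊤ : Submodule A N)) ≃ₗ[A] N :=
      Submodule.quotEquivOfEqBot _ hbot
    exact (h i).of_iso e₀.toModuleIso.symm
  | cons r rs ih =>
    intro N _ _ k₀ hreg hmem h i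
    obtain ⟨hr, hrs⟩ := (isWeaklyRegular_cons_iff N r rs).mp hreg
    have hrJ : r ∈ J := hmem r (List.mem_cons_self ..)
    have hstep : ∀ i, IsCorep J (ModuleCat.of A (QuotSMulTop r N)) i ((k₀ + 1).choose i) := by
      intro i
      rcases i with _ | q
      · have h0 := h 0
        rw [Nat.choose_zero_right] at h0 ⊢
        exact IsCorep.quotSMulTop_zero (N := ModuleCat.of A N) hr hrJ h0
      · rw [Nat.choose_succ_succ, add_comm (k₀.choose q)]
        exact IsCorep.quotSMulTop_succ (N := ModuleCat.of A N) hr hrJ (h q) (h (q + 1))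
    have hih := ih (QuotSMulTop r N) (k₀ + 1) hrs
      (fun x hx => hmem x (List.mem_cons_of_mem _ hx)) hstep i
    let e₁ := Submodule.quotOfListConsSMulTopEquivQuotSMulTopInner N r rs
    have hlen : k₀ + (r :: rs).length = k₀ + 1 + rs.length := by
      rw [List.length_cons]; omega
    rw [hlen]
    exact hih.of_iso e₁.toModuleIso.symm

/-- `Ext^i(A/(xs), M) ≅ M^(len choose i)` for `xs` weakly regular and `(xs) M = 0`. -/
theorem ext_quotient_regular_killed (xs : List A) (hreg : IsWeaklyRegular A xs)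
    (M : Type u) [AddCommGroup M] [Module A M]
    (hJM : Ideal.ofList xs • (⊤ : Submodule A M) = ⊥) (i : ℕ) :
    Nonempty (Ext (ModuleCat.of A (A ⧸ Ideal.ofList xs)) (ModuleCat.of A M) i ≃ₗ[A]
      (Fin (xs.length.choose i) → M)) := by
  have hbase : ∀ i, IsCorep (Ideal.ofList xs) (ModuleCat.of A A) i ((0 : ℕ).choose i) := by
    intro i
    rcases i with _ | q
    · rw [Nat.choose_zero_right]
      exact isCorep_self_zero
    · rw [Nat.choose_zero_succ]
      exact isCorep_self_succ q
  have h1 := isCorep_quot_regular (J := Ideal.ofList xs) xs A 0 hreg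
    (fun r hr => Ideal.subset_span hr) hbase i
  rw [Nat.zero_add] at h1
  let e₂ : (A ⧸ (Ideal.ofList xs • ⊤ : Submodule A A)) ≃ₗ[A] (A ⧸ Ideal.ofList xs) :=
    Submodule.quotEquivOfEq _ _ (by rw [smul_eq_mul, Ideal.mul_top])
  exact (h1.of_iso e₂.toModuleIso).nonempty_linearEquiv M hJM

end Groth.Agent.Lib.Helper28
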