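import Groth.Agent.Lib.Helper28.ExtPullback

/-!
helper28: modules killed by an ideal `J`: maps out of `A ⧸ J`, presentations by `(A ⧸ J)^b`.
-/

set_option autoImplicit false
universe u

namespace Groth.Agent.Lib.Helper28

open CategoryTheory Abelian

section Killed

variable {A : Type u} [CommRing A] (J : Ideal A)

/-- `N` is killed by `J`. -/
def KilledBy (N : Type u) [AddCommGroup N] [Module A N] : Prop :=
  J • (⊤ : Submodule A N) = ⊥

variable {J}

lemma KilledBy.smul_eq_zero {N : Type u} [AddCommGroup N] [Module A N] (hN : KilledBy J N)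
    {a : A} (ha : a ∈ J) (y : N) : a • y = 0 := by
  have : a • y ∈ J • (⊤ : Submodule A N) := Submodule.smul_mem_smul ha trivial
  rw [hN] at this
  exact this

lemma killedBy_iff {N : Type u} [AddCommGroup N] [Module A N] :
    KilledBy J N ↔ ∀ a ∈ J, ∀ y : N, a • y = 0 := by
  refine ⟨fun h a ha y => h.smul_eq_zero ha y, fun h => ?_⟩
  unfold KilledBy
  rw [eq_bot_iff, Submodule.smul_le]
  intro a ha y _
  rw [h a ha y]
  exact zero_mem _

lemma killedBy_quotient : KilledBy J (A ⧸ J) := by
  rw [killedBy_iff]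
  intro a ha y
  obtain ⟨b, rfl⟩ := Ideal.Quotient.mk_surjective y
  rw [← Ideal.Quotient.mk_eq_mk, ← Submodule.Quotient.mk_smul, Submodule.Quotient.mk_eq_zero,
    smul_eq_mul]
  exact J.mul_mem_right _ ha

lemma killedBy_pi (b : ℕ) : KilledBy J (Fin b → A ⧸ J) := by
  rw [killedBy_iff]
  intro a ha y
  funext j
  exact (killedBy_quotient (J := J)).smul_eq_zero ha (y j)

lemma KilledBy.submodule {N : Type u} [AddCommGroup N] [Module A N] (hN : KilledBy J N)
    (K : Submodule A N) : KilledBy J K := by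
  rw [killedBy_iff]
  intro a ha y
  ext
  simpa using hN.smul_eq_zero ha (y : N)

/-- the map `A ⧸ J → N`, `1 ↦ y`, for a module `N` killed by `J` -/
noncomputable def toKilled {N : Type u} [AddCommGroup N] [Module A N] (hN : KilledBy J N)
    (y : N) : (A ⧸ J) →ₗ[A] N :=
  Submodule.liftQ J (LinearMap.toSpanSingleton A N y) (by
    intro a ha
    rw [LinearMap.mem_ker, LinearMap.toSpanSingleton_apply]
    exact hN.smul_eq_zero ha y)

lemma toKilled_mk {N : Type u} [AddCommGroup N] [Module A N] (hN : KilledBy J N) (y : N)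
    (a : A) : toKilled hN y (Ideal.Quotient.mk J a) = a • y := by
  unfold toKilled
  rw [← Ideal.Quotient.mk_eq_mk, Submodule.liftQ_apply, LinearMap.toSpanSingleton_apply]

lemma toKilled_one {N : Type u} [AddCommGroup N] [Module A N] (hN : KilledBy J N) (y : N) :
    toKilled hN y 1 = y := by
  have := toKilled_mk hN y 1
  rwa [map_one, one_smul] at this

lemma eq_toKilled {N : Type u} [AddCommGroup N] [Module A N] (hN : KilledBy J N)
    (u : (A ⧸ J) →ₗ[A] N) : u = toKilled hN (u 1) := by
  apply LinearMap.ext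
  intro y
  obtain ⟨a, rfl⟩ := Ideal.Quotient.mk_surjective y
  rw [toKilled_mk]
  have : Ideal.Quotient.mk J a = a • (1 : A ⧸ J) := by
    rw [Algebra.smul_def, mul_one]
    rfl
  rw [this, map_smul]

/-- an endomorphism of `A ⧸ J` is a scalar -/
lemma exists_eq_smul_id (w : (A ⧸ J) →ₗ[A] (A ⧸ J)) :
    ∃ c : A, w = c • LinearMap.id := by
  obtain ⟨c, hc⟩ := Ideal.Quotient.mk_surjective (w 1)
  refine ⟨c, ?_⟩
  rw [eq_toKilled killedBy_quotient w]
  apply LinearMap.ext
  intro y
  obtain ⟨a, rfl⟩ := Ideal.Quotient.mk_surjective y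
  rw [toKilled_mk, ← hc, LinearMap.smul_apply, LinearMap.id_apply]
  rw [← Ideal.Quotient.mk_eq_mk, ← Ideal.Quotient.mk_eq_mk]
  change a • Submodule.Quotient.mk c = c • Submodule.Quotient.mk a
  rw [← Submodule.Quotient.mk_smul, ← Submodule.Quotient.mk_smul, smul_eq_mul, smul_eq_mul,
    mul_comm]

/-- decomposition of the identity of `(A ⧸ J)^b` -/
lemma sum_single_comp_proj (b : ℕ) :
    ∑ j : Fin b, (LinearMap.single A (fun _ : Fin b => A ⧸ J) j) ∘ₗ (LinearMap.proj j) =
      (LinearMap.id : (Fin b → A ⧸ J) →ₗ[A] (Fin b → A ⧸ J)) := by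
  apply LinearMap.ext
  intro f
  funext k
  simp [Finset.sum_apply, Pi.single_apply]

/-- a finite module killed by `J` is a quotient of some `(A ⧸ J)^b` -/
lemma exists_surjective_of_killedBy {N : Type u} [AddCommGroup N] [Module A N]
    [Module.Finite A N] (hN : KilledBy J N) :
    ∃ (b : ℕ) (π : (Fin b → A ⧸ J) →ₗ[A] N), Function.Surjective π := by
  obtain ⟨b, s, hs⟩ := Module.Finite.exists_fin (R := A) (M := N)
  refine ⟨b, ∑ j : Fin b, (toKilled hN (s j)) ∘ₗ (LinearMap.proj j), ?_⟩
  rw [← LinearMap.range_eq_top, eq_top_iff, ← hs, Submodule.span_le]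
  rintro _ ⟨j, rfl⟩
  refine ⟨Pi.single j 1, ?_⟩
  rw [LinearMap.sum_apply, Finset.sum_eq_single j]
  · simp [toKilled_one]
  · intro k _ hk
    simp [Pi.single_apply, hk]
  · simp

end Killed

end Groth.Agent.Lib.Helper28
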