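import Groth.Agent.Lib.Helper28.ExtKilled

/-!
helper28: over a Cohen–Macaulay local ring `A`, for an ideal `J` with `dim A/J + p ≤ dim A` and a
finite module `M` killed by `J`:  `Ext^p(M, A) ≅ Hom(Hom(A/J, M), Ext^p(A/J, A))`.
-/

set_option autoImplicit false
universe u

namespace Groth.Agent.Lib.Helper28

open CategoryTheory Abelian

section

variable (A : Type u) [CommRing A] [IsLocalRing A] [IsNoetherianRing A]
  (hA : LocCoh.IsCohenMacaulayModule A A) (J : Ideal A) (p : ℕ)
  (hJ : ringKrullDim (A ⧸ J) + p ≤ ringKrullDim A)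

include hA hJ

/-- vanishing of `Ext^i(N, A)`, `i < p`, for finite `N` killed by `J`. -/
theorem ext_subsingleton_of_killedBy (N : Type u) [AddCommGroup N] [Module A N]
    [Module.Finite A N] (hN : KilledBy J N) (i : ℕ) (hi : i < p) :
    Subsingleton (Ext (ModuleCat.of A N) (ModuleCat.of A A) i) := by
  refine ext_self_subsingleton_of_supportDim_add_le A hA p N ?_ i hi
  refine le_trans (add_le_add_left ?_ _) hJ
  rw [ringKrullDim_quotient]
  have hsub : ∀ q : PrimeSpectrum A, q ∈ Module.support A N →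
      q ∈ PrimeSpectrum.zeroLocus (J : Set A) := by
    intro q hq
    rw [Module.mem_support_iff_of_finite] at hq
    rw [PrimeSpectrum.mem_zeroLocus]
    intro a ha
    apply hq
    rw [Module.mem_annihilator]
    exact fun y => hN.smul_eq_zero ha y
  exact Order.krullDim_le_of_strictMono
    (fun q : Module.support A N => (⟨q.1, hsub q.1 q.2⟩ : PrimeSpectrum.zeroLocus (J : Set A)))
    (fun a b h => h)

/-- pullback along a surjection `(A ⧸ J)^b → N` is injective on `Ext^p(-, A)`. -/
theorem pb_injective_of_surjective (N : Type u) [AddCommGroup N] [Module A N]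
    [Module.Finite A N] (b : ℕ) (π : (Fin b → A ⧸ J) →ₗ[A] N) (hπ : Function.Surjective π) :
    Function.Injective (pb (ModuleCat.of A A) p π) := by
  have hS := LinearMap.shortExact_shortComplexKer hπ
  have key : ∀ ξ : Ext (ModuleCat.of A N) (ModuleCat.of A A) p,
      pb (ModuleCat.of A A) p π ξ = 0 → ξ = 0 := by
    intro ξ hξ
    rcases p with _ | q
    · have h0 := Ext.precomp_mk₀_injective_of_epi (ModuleCat.of A A) π.shortComplexKer.g
        (hg := hS.epi_g)
      apply h0
      rw [map_zero]
      exact hξ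
    · obtain ⟨x₁, hx₁⟩ := Ext.contravariant_sequence_exact₃ hS (ModuleCat.of A A) ξ hξ
        (add_comm 1 q)
      have hK : KilledBy J (LinearMap.ker π) := (killedBy_pi b).submodule _
      have hsub := ext_subsingleton_of_killedBy A hA J (q + 1) hJ (LinearMap.ker π) hK q
        (Nat.lt_succ_self q)
      rw [← hx₁, Subsingleton.elim x₁ 0, Ext.comp_zero]
  intro ξ₁ ξ₂ h
  have h2 : pb (ModuleCat.of A A) p π (ξ₁ - ξ₂) = 0 := by
    have : ξ₁ = (ξ₁ - ξ₂) + ξ₂ := by abel
    rw [this, pb_add] at h
    exact add_eq_right.mp h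
  exact sub_eq_zero.mp (key _ h2)

omit [IsLocalRing A] [IsNoetherianRing A] hA hJ in
/-- decomposition of a class on `(A ⧸ J)^b` along the coordinates -/
theorem ext_pi_decomp (b : ℕ) (Z : ModuleCat.{u} A) (η : Ext (ModuleCat.of A (Fin b → A ⧸ J)) Z p) :
    η = ∑ j : Fin b, pb Z p (LinearMap.proj j)
      (pb Z p (LinearMap.single A (fun _ : Fin b => A ⧸ J) j) η) := by
  conv_lhs => rw [← pb_id Z p η, ← sum_single_comp_proj (J := J) b, pb_sum_map]
  exact Finset.sum_congr rfl (fun j _ => pb_comp Z p _ _ η)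

/-- **Duality for modules killed by `J`.** -/
theorem ext_killed_dual (M : Type u) [AddCommGroup M] [Module A M] [Module.Finite A M]
    (hM : KilledBy J M) :
    Function.Injective (fun ξ : Ext (ModuleCat.of A M) (ModuleCat.of A A) p =>
      fun u : (A ⧸ J) →ₗ[A] M => pb (ModuleCat.of A A) p u ξ) ∧
    ∀ g : ((A ⧸ J) →ₗ[A] M) →ₗ[A] Ext (ModuleCat.of A (A ⧸ J)) (ModuleCat.of A A) p,
      ∃ ξ : Ext (ModuleCat.of A M) (ModuleCat.of A A) p,
        ∀ u : (A ⧸ J) →ₗ[A] M, g u = pb (ModuleCat.of A A) p u ξ := by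
  obtain ⟨b, π, hπ⟩ := exists_surjective_of_killedBy hM
  have hinj := pb_injective_of_surjective A hA J p hJ M b π hπ
  constructor
  · intro ξ₁ ξ₂ h
    apply hinj
    rw [ext_pi_decomp A J p b _ (pb (ModuleCat.of A A) p π ξ₁),
      ext_pi_decomp A J p b _ (pb (ModuleCat.of A A) p π ξ₂)]
    refine Finset.sum_congr rfl (fun j _ => ?_)
    have e : ∀ ξ : Ext (ModuleCat.of A M) (ModuleCat.of A A) p,
        pb (ModuleCat.of A A) p (LinearMap.single A (fun _ : Fin b => A ⧸ J) j)
          (pb (ModuleCat.of A A) p π ξ) =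
        pb (ModuleCat.of A A) p (π ∘ₗ LinearMap.single A (fun _ : Fin b => A ⧸ J) j) ξ :=
      fun ξ => (pb_comp _ p _ _ ξ).symm
    rw [e ξ₁, e ξ₂]
    exact congrArg _ (congrFun h _)
  · intro g
    let Z := ModuleCat.of A A
    let η : Ext (ModuleCat.of A (Fin b → A ⧸ J)) Z p :=
      ∑ j : Fin b, pb Z p (LinearMap.proj j)
        (g (π ∘ₗ LinearMap.single A (fun _ : Fin b => A ⧸ J) j))
    -- key computation
    have KC : ∀ w : (A ⧸ J) →ₗ[A] (Fin b → A ⧸ J), pb Z p w η = g (π ∘ₗ w) := by
      intro w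
      choose c hc using fun j : Fin b => exists_eq_smul_id (J := J) (LinearMap.proj j ∘ₗ w)
      have h1 : pb Z p w η = ∑ j : Fin b,
          c j • g (π ∘ₗ LinearMap.single A (fun _ : Fin b => A ⧸ J) j) := by
        dsimp only [η]
        rw [pb_sum]
        refine Finset.sum_congr rfl (fun j _ => ?_)
        rw [← pb_comp, hc j, pb_smul_map, pb_id]
      have h2 : π ∘ₗ w = ∑ j : Fin b,
          c j • (π ∘ₗ LinearMap.single A (fun _ : Fin b => A ⧸ J) j) := by
        apply LinearMap.ext
        intro y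
        have e1 := congrArg (fun f => f (w y)) (sum_single_comp_proj (J := J) b)
        simp only [LinearMap.sum_apply, LinearMap.comp_apply, LinearMap.proj_apply,
          LinearMap.id_apply] at e1
        rw [LinearMap.comp_apply, ← e1, map_sum, LinearMap.sum_apply]
        refine Finset.sum_congr rfl (fun j _ => ?_)
        have e2 : (w y) j = c j • y := by
          have := congrArg (fun f => f y) (hc j)
          simpa using this
        rw [LinearMap.smul_apply, LinearMap.comp_apply, e2, map_smul, map_smul]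
      rw [h1, h2, map_sum]
      exact Finset.sum_congr rfl (fun j _ => (map_smul g _ _).symm)
    -- η comes from M
    have hS := LinearMap.shortExact_shortComplexKer hπ
    have hη : pb Z p (LinearMap.ker π).subtype η = 0 := by
      have hK : KilledBy J (LinearMap.ker π) := (killedBy_pi b).submodule _
      obtain ⟨a, ρ, hρ⟩ := exists_surjective_of_killedBy hK
      apply pb_injective_of_surjective A hA J p hJ (LinearMap.ker π) a ρ hρ
      rw [pb_zero, ← pb_comp, ext_pi_decomp A J p a Z (pb Z p ((LinearMap.ker π).subtype ∘ₗ ρ) η)]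
      refine Finset.sum_eq_zero (fun l _ => ?_)
      rw [← pb_comp Z p (LinearMap.single A (fun _ : Fin a => A ⧸ J) l)
        ((LinearMap.ker π).subtype ∘ₗ ρ) η, KC]
      have : π ∘ₗ ((LinearMap.ker π).subtype ∘ₗ ρ) ∘ₗ
          LinearMap.single A (fun _ : Fin a => A ⧸ J) l = 0 := by
        apply LinearMap.ext
        intro y
        simp
      rw [this, map_zero, pb_zero]
    obtain ⟨ξ, hξ⟩ := Ext.contravariant_sequence_exact₂ hS Z η hη
    refine ⟨ξ, fun u => ?_⟩
    obtain ⟨y, hy⟩ := hπ (u 1)
    let w := toKilled (killedBy_pi (J := J) b) y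
    have hw : π ∘ₗ w = u := by
      rw [eq_toKilled hM (π ∘ₗ w), eq_toKilled hM u]
      congr 1
      rw [LinearMap.comp_apply, toKilled_one, hy]
    rw [← hw, pb_comp]
    have : pb Z p π ξ = η := hξ
    rw [this, KC]

end

end Groth.Agent.Lib.Helper28
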