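import Groth.Agent.Lib.Helper28.RegularCM

/-!
helper28: pullback maps on `Ext^p(-, Z)` along linear maps, and Ext of modules killed by an ideal
`J` with `dim A/J ≤ dim A - p` over a Cohen–Macaulay local ring.
-/

set_option autoImplicit false
universe u

namespace Groth.Agent.Lib.Helper28

open CategoryTheory Abelian

section Pullback

variable {A : Type u} [CommRing A]
variable {X Y W : Type u} [AddCommGroup X] [Module A X] [AddCommGroup Y] [Module A Y]
  [AddCommGroup W] [Module A W]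

/-- pullback on `Ext^p(-, Z)` along a linear map -/
noncomputable def pb (Z : ModuleCat.{u} A) (p : ℕ) (f : X →ₗ[A] Y)
    (ξ : Ext (ModuleCat.of A Y) Z p) : Ext (ModuleCat.of A X) Z p :=
  (Ext.mk₀ (ModuleCat.ofHom f)).comp ξ (zero_add p)

variable (Z : ModuleCat.{u} A) (p : ℕ)

lemma pb_comp (f : X →ₗ[A] Y) (g : Y →ₗ[A] W) (ξ : Ext (ModuleCat.of A W) Z p) :
    pb Z p (g ∘ₗ f) ξ = pb Z p f (pb Z p g ξ) := by
  unfold pb
  rw [Ext.mk₀_comp_mk₀_assoc, ModuleCat.ofHom_comp]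

lemma pb_id (ξ : Ext (ModuleCat.of A Y) Z p) : pb Z p (LinearMap.id : Y →ₗ[A] Y) ξ = ξ := by
  unfold pb
  rw [ModuleCat.ofHom_id, Ext.mk₀_id_comp]

lemma pb_add_map (f f' : X →ₗ[A] Y) (ξ : Ext (ModuleCat.of A Y) Z p) :
    pb Z p (f + f') ξ = pb Z p f ξ + pb Z p f' ξ := by
  unfold pb
  rw [ModuleCat.ofHom_add, Ext.mk₀_add, Ext.add_comp]

lemma pb_zero_map (ξ : Ext (ModuleCat.of A Y) Z p) :
    pb Z p (0 : X →ₗ[A] Y) ξ = 0 := by
  unfold pb
  have : ModuleCat.ofHom (0 : X →ₗ[A] Y) = 0 := rfl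
  rw [this, Ext.mk₀_zero, Ext.zero_comp]

lemma pb_smul_map (a : A) (f : X →ₗ[A] Y) (ξ : Ext (ModuleCat.of A Y) Z p) :
    pb Z p (a • f) ξ = a • pb Z p f ξ := by
  unfold pb
  have : ModuleCat.ofHom (a • f) = a • ModuleCat.ofHom f := rfl
  rw [this, Ext.mk₀_smul, Ext.smul_comp]

lemma pb_sum_map {ι : Type*} (s : Finset ι) (f : ι → (X →ₗ[A] Y))
    (ξ : Ext (ModuleCat.of A Y) Z p) :
    pb Z p (∑ i ∈ s, f i) ξ = ∑ i ∈ s, pb Z p (f i) ξ := by
  classical
  induction s using Finset.induction_on with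
  | empty => simp [pb_zero_map]
  | insert i s hi ih => rw [Finset.sum_insert hi, Finset.sum_insert hi, pb_add_map, ih]

lemma pb_add (f : X →ₗ[A] Y) (ξ ξ' : Ext (ModuleCat.of A Y) Z p) :
    pb Z p f (ξ + ξ') = pb Z p f ξ + pb Z p f ξ' := by
  unfold pb
  rw [Ext.comp_add]

lemma pb_zero (f : X →ₗ[A] Y) : pb Z p f (0 : Ext (ModuleCat.of A Y) Z p) = 0 := by
  unfold pb
  rw [Ext.comp_zero]

lemma pb_smul (f : X →ₗ[A] Y) (a : A) (ξ : Ext (ModuleCat.of A Y) Z p) :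
    pb Z p f (a • ξ) = a • pb Z p f ξ := by
  unfold pb
  rw [Ext.comp_smul]

lemma pb_sum {ι : Type*} (s : Finset ι) (f : X →ₗ[A] Y)
    (ξ : ι → Ext (ModuleCat.of A Y) Z p) :
    pb Z p f (∑ i ∈ s, ξ i) = ∑ i ∈ s, pb Z p f (ξ i) := by
  classical
  induction s using Finset.induction_on with
  | empty => simp [pb_zero]
  | insert i s hi ih => rw [Finset.sum_insert hi, Finset.sum_insert hi, pb_add, ih]

end Pullback

end Groth.Agent.Lib.Helper28
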