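import Mathlib
import Groth.Agent.Lib.Helper28.BiKFlat

/-!
# Factorization of a map of complexes through a resolution (helper28)

Abstract version of the factorization `K ⟶ N ⟶ L` with `N ⟶ L` a quasi-isomorphism and
`0 ⟶ K ⟶ N ⟶ M ⟶ 0` short exact where `M` is a (termwise epimorphic) resolution of the
cokernel of the mapping cylinder inclusion.
-/

set_option autoImplicit false
open CategoryTheory CategoryTheory.Limits

namespace Groth.Agent.Lib.Helper28.FactorRes

open Groth.Agent.Lib.Helper28.BiK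

variable {A : Type*} [Category A] [Abelian A]

/-- the base change of a short exact sequence `K' ⟶ Z ⟶ C'` along `q : M ⟶ C'` is a short exact
sequence `K' ⟶ Z ×_{C'} M ⟶ M`. -/
lemma shortExact_of_isPullback {A : Type*} [Category A] [Abelian A] {N Z M C' K' : A}
    {u : N ⟶ Z} {v : N ⟶ M} {p : Z ⟶ C'} {q : M ⟶ C'} (sq : IsPullback u v p q)
    {i : K' ⟶ Z} (hi : i ≫ p = 0) (hS : (ShortComplex.mk i p hi).ShortExact)
    (b : K' ⟶ N) (hbu : b ≫ u = i) (hbv : b ≫ v = 0) :
    (ShortComplex.mk b v hbv).ShortExact := by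
  haveI : Mono i := hS.mono_f
  haveI : Epi p := hS.epi_g
  haveI : Mono b := by
    haveI : Mono (b ≫ u) := by rw [hbu]; infer_instance
    exact mono_of_mono b u
  haveI : Epi v := Abelian.epi_snd_of_isLimit p q sq.isLimit
  refine ShortComplex.ShortExact.mk' ?_ ‹_› ‹_›
  apply ShortComplex.exact_of_f_is_kernel
  have key : ∀ {W : A} (x : W ⟶ N), x ≫ v = 0 → (x ≫ u) ≫ p = 0 := fun x hx => by
    rw [Category.assoc, sq.w, ← Category.assoc, hx, zero_comp]
  have fac : ∀ {W : A} (x : W ⟶ N) (hx : x ≫ v = 0),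
      hS.exact.lift (x ≫ u) (key x hx) ≫ b = x := fun x hx => by
    apply sq.hom_ext
    · rw [Category.assoc, hbu]
      exact hS.exact.lift_f (x ≫ u) (key x hx)
    · rw [Category.assoc, hbv, comp_zero, hx]
  refine KernelFork.IsLimit.ofι _ _
    (fun {W} x hx => hS.exact.lift (x ≫ u) (key x hx)) (fun x hx => fac x hx) ?_
  intro W x hx m hm
  rw [← cancel_mono b]
  exact hm.trans (fac x hx).symm

/-- **Abstract factorization.** If every complex has a termwise epimorphic resolution
satisfying `Pcx`, every map `a : K ⟶ L` factors as `K ⟶ N ⟶ L` with `N ⟶ L` a quasi-isomorphism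
and `N` an extension of a `Pcx`-complex by `K`. -/
theorem exists_factorization (Pcx : CochainComplex A ℤ → Prop)
    (res : ∀ G : CochainComplex A ℤ, ∃ (M : CochainComplex A ℤ) (q : M ⟶ G),
      Pcx M ∧ QuasiIso q ∧ ∀ n : ℤ, Epi (q.f n))
    {K L : CochainComplex A ℤ} (a : K ⟶ L) :
    ∃ (N M : CochainComplex A ℤ) (b : K ⟶ N) (v : N ⟶ M) (c : N ⟶ L) (w : b ≫ v = 0),
      Pcx M ∧ (ShortComplex.mk b v w).ShortExact ∧ QuasiIso c ∧ b ≫ c = a := by
  let Z : CochainComplex A ℤ := cylZ K L
  let i : K ⟶ Z := cylI a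
  let C' : CochainComplex A ℤ := cylC a
  let p : Z ⟶ C' := cokernel.π (cylI a)
  have hS₂ : (ShortComplex.mk i p (cokernel.condition _)).ShortExact := cylS₂_shortExact a
  obtain ⟨M, q, hM, hq, hqs⟩ := res C'
  let N : CochainComplex A ℤ := pullback p q
  let u : N ⟶ Z := pullback.fst p q
  let v : N ⟶ M := pullback.snd p q
  have sq : IsPullback u v p q := IsPullback.of_hasPullback p q
  let b : K ⟶ N := pullback.lift i 0 (by rw [zero_comp]; exact cokernel.condition _)
  have hbu : b ≫ u = i := pullback.lift_fst _ _ _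
  have hbv : b ≫ v = 0 := pullback.lift_snd _ _ _
  have hS₁ := shortExact_of_isPullback sq _ hS₂ b hbu hbv
  haveI : Epi q := HomologicalComplex.epi_of_epi_f _ hqs
  let k : kernel q ⟶ M := kernel.ι q
  have hSq : (ShortComplex.mk k q (kernel.condition q)).ShortExact :=
    { exact := ShortComplex.exact_kernel q
      mono_f := inferInstanceAs (Mono (kernel.ι q))
      epi_g := ‹Epi q› }
  have hker : (kernel q).Acyclic := hSq.acyclic_X₁ hq
  let b' : kernel q ⟶ N := pullback.lift 0 k (by rw [zero_comp]; exact (kernel.condition q).symm)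
  have hb'u : b' ≫ u = 0 := pullback.lift_fst _ _ _
  have hb'v : b' ≫ v = k := pullback.lift_snd _ _ _
  have hS₃ := shortExact_of_isPullback sq.flip _ hSq b' hb'v hb'u
  haveI : QuasiIso u := quasiIso_g_of_acyclic_X₁ hS₃ hker
  refine ⟨N, M, b, v, u ≫ (biprod.snd : Z ⟶ L), hbv, hM, hS₁, inferInstance, ?_⟩
  rw [← Category.assoc, hbu]
  exact cylI_snd a

end Groth.Agent.Lib.Helper28.FactorRes
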