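import Mathlib
import Groth.Prelude.Def_DTor2
import Groth.Prelude.Def_DCoh4
import Groth.Agent.Lib.Helper28.LTensorCompute

/-!
# The derived tensor product and distinguished triangles (helper28)

`isZero_HD_ltensor_obj₃`: for a distinguished triangle `K ⟶ L ⟶ M ⟶ K⟦1⟧` of `D(O_X)`, if
`H^i(L ⊗^L G) = 0` and `H^{i+1}(K ⊗^L G) = 0`, then `H^i(M ⊗^L G) = 0`.
-/

set_option autoImplicit false
universe u
open CategoryTheory CategoryTheory.Limits AlgebraicGeometry CategoryTheory.Pretriangulated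

namespace Groth.Agent.Lib.Helper28.LTensorTriangle

attribute [local instance] HasDerivedCategory.standard

open Groth.Agent.Lib.Helper28.LTensorCompute

variable {X : Scheme.{u}}

/-- every object of `D(O_X)` is represented by a K-flat complex. -/
lemma exists_kf_repr (K : DCoh.D X) :
    ∃ (E : CochainComplex X.Modules ℤ), KF E ∧ Nonempty (DCoh.toD X E ≅ K) := by
  obtain ⟨E, q, hE, hq⟩ := exists_kf_resolution (DerivedCategory.Q.objPreimage K)
  exact ⟨E, hE, ⟨asIso (DerivedCategory.Q.map q) ≪≫ DerivedCategory.Q.objObjPreimageIso K⟩⟩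

/-- a distinguished triangle is isomorphic to the image of a standard triangle of a morphism
between K-flat complexes, with prescribed K-flat target. -/
lemma exists_kf_triangle (T : Triangle (DCoh.D X)) (hT : T ∈ distTriang (DCoh.D X))
    (E₂ : CochainComplex X.Modules ℤ) (e₂ : DCoh.toD X E₂ ≅ T.obj₂) :
    ∃ (P : CochainComplex X.Modules ℤ) (_ : KF P) (f : P ⟶ E₂),
      Nonempty (T ≅ DerivedCategory.Q.mapTriangle.obj (CochainComplex.mappingCone.triangle f)) := by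
  let K₁ := DerivedCategory.Q.objPreimage T.obj₁
  let e₁ : DerivedCategory.Q.obj K₁ ≅ T.obj₁ := DerivedCategory.Q.objObjPreimageIso T.obj₁
  let φ : DerivedCategory.Q.obj K₁ ⟶ DerivedCategory.Q.obj E₂ := e₁.hom ≫ T.mor₁ ≫ e₂.inv
  obtain ⟨X', s, hs, g, hφ⟩ := DerivedCategory.right_fac φ
  obtain ⟨P, r, hP, hr⟩ := exists_kf_resolution X'
  haveI : IsIso (DerivedCategory.Q.map r) := by
    rw [DerivedCategory.isIso_Q_map_iff_quasiIso]; exact hr
  let e₁' : DerivedCategory.Q.obj P ≅ T.obj₁ :=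
    asIso (DerivedCategory.Q.map r) ≪≫ asIso (DerivedCategory.Q.map s) ≪≫ e₁
  refine ⟨P, hP, r ≫ g, ⟨?_⟩⟩
  refine isoTriangleOfIso₁₂ T _ hT (DerivedCategory.mappingCone_triangle_distinguished (r ≫ g))
    e₁'.symm e₂.symm ?_
  have h1 : φ ≫ e₂.hom = e₁.hom ≫ T.mor₁ := by
    simp only [φ, Category.assoc, Iso.inv_hom_id, Category.comp_id]
  have h2 : DerivedCategory.Q.map s ≫ φ = DerivedCategory.Q.map g := by
    rw [hφ, IsIso.hom_inv_id_assoc]
  have h3 : e₁'.hom ≫ T.mor₁ = DerivedCategory.Q.map (r ≫ g) ≫ e₂.hom := by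
    simp only [e₁', Iso.trans_hom, asIso_hom, Category.assoc, Functor.map_comp]
    rw [← h1, ← Category.assoc (DerivedCategory.Q.map s), h2]
  change T.mor₁ ≫ e₂.inv = e₁'.inv ≫ DerivedCategory.Q.map (r ≫ g)
  rw [← cancel_mono e₂.hom, Category.assoc, Category.assoc, Iso.inv_hom_id, Category.comp_id,
    ← cancel_epi e₁'.hom, Iso.hom_inv_id_assoc, h3]

/-- **Vanishing along a distinguished triangle**: if `H^i(L ⊗^L G) = 0` and
`H^{i+1}(K ⊗^L G) = 0`, then `H^i(M ⊗^L G) = 0` for a distinguished triangle `K ⟶ L ⟶ M ⟶`. -/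
theorem isZero_HD_ltensor_obj₃ (T : Triangle (DCoh.D X)) (hT : T ∈ distTriang (DCoh.D X))
    (G : X.Modules) [DCoh.HasLTensorMod G] (i j : ℤ) (hij : i + 1 = j)
    (h₂ : IsZero (DCoh.HD ((DCoh.LTensorMod G).obj T.obj₂) i))
    (h₁ : IsZero (DCoh.HD ((DCoh.LTensorMod G).obj T.obj₁) j)) :
    IsZero (DCoh.HD ((DCoh.LTensorMod G).obj T.obj₃) i) := by
  obtain ⟨E₂, hE₂, ⟨e₂⟩⟩ := exists_kf_repr T.obj₂
  obtain ⟨P, hP, f, ⟨e⟩⟩ := exists_kf_triangle T hT E₂ e₂
  have hcone : KF (CochainComplex.mappingCone f) :=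
    (BiK.kflat_mappingCone (DCoh.tensorBi (X := X)) f).1 hP hE₂
  let Ψ := DCoh.tensorModKh G
  let Tr := (DCoh.tensorRightMod G).mapHomologicalComplex (ComplexShape.up ℤ)
  have hΔ := Ψ.map_distinguished _ (HomotopyCategory.mappingCone_triangleh_distinguished f)
  have hex := DerivedCategory.HomologySequence.exact₃ _ hΔ i j hij
  have z₂ : IsZero ((DerivedCategory.homologyFunctor X.Modules i).obj
      (DCoh.toD X (Tr.obj E₂))) :=
    IsZero.of_iso h₂ ((DerivedCategory.homologyFunctor X.Modules i).mapIso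
      ((ltensorIso G E₂ hE₂).symm ≪≫ (DCoh.LTensorMod G).mapIso e₂))
  have z₁ : IsZero ((DerivedCategory.homologyFunctor X.Modules j).obj
      (DCoh.toD X (Tr.obj P))) :=
    IsZero.of_iso h₁ ((DerivedCategory.homologyFunctor X.Modules j).mapIso
      ((ltensorIso G P hP).symm ≪≫ (DCoh.LTensorMod G).mapIso (Triangle.π₁.mapIso e).symm))
  have z₃ : IsZero ((DerivedCategory.homologyFunctor X.Modules i).obj
      (DCoh.toD X (Tr.obj (CochainComplex.mappingCone f)))) :=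
    hex.isZero_of_both_zeros (z₂.eq_of_src _ _) (z₁.eq_of_tgt _ _)
  exact IsZero.of_iso z₃ ((DerivedCategory.homologyFunctor X.Modules i).mapIso
    ((DCoh.LTensorMod G).mapIso (Triangle.π₃.mapIso e) ≪≫ ltensorIso G _ hcone))

lemma hasFlatAmplitudeIn_shift_neg_one (K : DCoh.D X) (a b : ℤ)
    (h : DCoh.HasFlatAmplitudeIn a b K) :
    DCoh.HasFlatAmplitudeIn (a + 1) (b + 1) (K⟦(-1 : ℤ)⟧) := by
  obtain ⟨E, hv, hfl, ⟨e⟩⟩ := h
  refine ⟨E⟦(-1 : ℤ)⟧, ?_, ?_, ⟨?_⟩⟩
  · intro i hi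
    exact hv (i + -1) (by lia)
  · intro i
    exact hfl (i + -1)
  · exact (DerivedCategory.Q.commShiftIso (-1 : ℤ)).app E ≪≫
      (shiftFunctor (DCoh.D X) (-1 : ℤ)).mapIso e

end Groth.Agent.Lib.Helper28.LTensorTriangle
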