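import Mathlib
import Groth.Prelude.Def_DTor2
import Groth.Prelude.Def_DCoh4
import Groth.Agent.Lib.Helper28.TorOne
import Groth.Agent.Lib.Helper28.LTensorTriangle
import Groth.Agent.Lib.Helper30.ExtZeroFlat

/-!
# Tor amplitude (derived tensor form) implies flat amplitude (helper28)
-/

set_option autoImplicit false
universe u
open CategoryTheory CategoryTheory.Limits AlgebraicGeometry ZeroObject

namespace Groth.Agent.Lib.Helper28.TorAmpFlat

attribute [local instance] HasDerivedCategory.standard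

open Groth.Agent.Lib.Helper28.LTensorCompute Groth.Agent.Lib.Helper28.TorOne

section Trunc

open ComplexShape

variable {C : Type*} [Category C] [Abelian C] (K : CochainComplex C ℤ)

/-- the terms of `τ_{≥ n} K` in degrees `> n`. -/
noncomputable def truncGEXIsoOfLT (n i : ℤ) (hi : n < i) : (K.truncGE n).X i ≅ K.X i :=
  HomologicalComplex.truncGEXIso K (embeddingUpIntGE n) (i := (i - n).natAbs)
    (by
      change n + ((i - n).natAbs : ℤ) = i
      rw [Int.natAbs_of_nonneg (by lia)]; lia)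
    (fun h => by
      rw [boundaryGE_embeddingUpIntGE_iff, Int.natAbs_eq_zero] at h
      lia)

/-- the term of `τ_{≥ n} K` in degree `n`. -/
noncomputable def truncGEXIsoCokernel (m n : ℤ) (hmn : m + 1 = n) :
    (K.truncGE n).X n ≅ cokernel (K.d m n) :=
  HomologicalComplex.truncGEXIsoOpcycles K (embeddingUpIntGE n) (i := 0) (by simp)
    (by rw [boundaryGE_embeddingUpIntGE_iff]) ≪≫
  ((cokernelIsCokernel _).coconePointUniqueUpToIso
    (K.opcyclesIsCokernel m n (by simp; lia))).symm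

end Trunc

variable {X : Scheme.{u}}

variable (X) in
/-- the structure sheaf as an `O_X`-module. -/
noncomputable def unitMod : X.Modules := ModSite.unit X.sheaf

/-- `- ⊗ O_X ≅ id`. -/
noncomputable def tensorRightModUnitIso :
    DCoh.tensorRightMod (unitMod X) ≅ 𝟭 X.Modules :=
  tensorRightModIsoFlip _ ≪≫ Groth.Agent.Lib.Helper30.ExtZero.tensorUnitIso X.sheaf

/-- `K ⊗^L O_X ≅ K` on K-flat complexes. -/
noncomputable def ltensorUnitIso [DCoh.HasLTensorMod (unitMod X)]
    (P : CochainComplex X.Modules ℤ) (hP : KF P) :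
    (DCoh.LTensorMod (unitMod X)).obj (DCoh.toD X P) ≅ DCoh.toD X P :=
  ltensorIso _ P hP ≪≫ DerivedCategory.Q.mapIso
    ((NatIso.mapHomologicalComplex (tensorRightModUnitIso (X := X)) (ComplexShape.up ℤ)).app P ≪≫
      (Functor.mapHomologicalComplexIdIso X.Modules (ComplexShape.up ℤ)).app P)

/-- `K ⊗^L O_X ≅ K`. -/
lemma exists_ltensorUnitIso [DCoh.HasLTensorMod (unitMod X)]
    (K : DCoh.D X) :
    Nonempty ((DCoh.LTensorMod (unitMod X)).obj K ≅ K) := by
  obtain ⟨P, hP, ⟨e⟩⟩ := LTensorTriangle.exists_kf_repr K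
  exact ⟨(DCoh.LTensorMod _).mapIso e.symm ≪≫ ltensorUnitIso P hP ≪≫ e⟩

/-- tor-amplitude in `[a, b]` implies that the cohomology sheaves vanish outside `[a, b]`. -/
lemma isZero_HD_of_hasTorAmplitudeIn (hL : ∀ G : X.Modules, DCoh.HasLTensorMod G)
    (E : DCoh.D X) (a b : ℤ) (h : DCoh.HasTorAmplitudeIn a b E) (i : ℤ) (hi : i < a ∨ b < i) :
    IsZero (DCoh.HD E i) := by
  haveI := hL (unitMod X)
  obtain ⟨e⟩ := exists_ltensorUnitIso E
  exact IsZero.of_iso (h _ i hi) ((DerivedCategory.homologyFunctor X.Modules i).mapIso e.symm)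

lemma exactAt_iff_isZero_HD (K : CochainComplex X.Modules ℤ) (i : ℤ) :
    K.ExactAt i ↔ IsZero (DCoh.HD (DCoh.toD X K) i) := by
  rw [HomologicalComplex.exactAt_iff_isZero_homology]
  exact ((DerivedCategory.homologyFunctorFactors X.Modules i).app K).symm.isZero_iff

/-- **Tor amplitude in the derived tensor form implies flat amplitude.** -/
theorem hasFlatAmplitudeIn_of_hasTorAmplitudeIn (hL : ∀ G : X.Modules, DCoh.HasLTensorMod G)
    (E : DCoh.D X) (a b : ℤ) (hab : a ≤ b) (h : DCoh.HasTorAmplitudeIn a b E) :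
    DCoh.HasFlatAmplitudeIn a b E := by
  have hH := isZero_HD_of_hasTorAmplitudeIn hL E a b h
  let K₀ := DerivedCategory.Q.objPreimage E
  let e₀ : DCoh.toD X K₀ ≅ E := DerivedCategory.Q.objObjPreimageIso E
  haveI : K₀.IsLE b := by
    rw [CochainComplex.isLE_iff]
    intro i hi
    rw [exactAt_iff_isZero_HD]
    exact IsZero.of_iso (hH i (Or.inr hi))
      ((DerivedCategory.homologyFunctor X.Modules i).mapIso e₀)
  obtain ⟨P, α, hP, hflP, -, hα⟩ :=
    Groth.Agent.Lib.Helper32.LeftRes.exists_of_isStrictlyLE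
      (fun M : X.Modules => ModSite.IsFlat (O := X.sheaf) M)
      (fun M => by
        obtain ⟨L, hL, π, hπ⟩ := Groth.Agent.Lib.Helper30.FlatSES.exists_flat_epi X.sheaf M
        exact ⟨L, π, hL, hπ⟩)
      ⟨0, isZero_zero _,
        Groth.Agent.Lib.Helper30.AcyclicFlat.isFlat_of_isZero X.sheaf 0 (isZero_zero _)⟩
      (K₀.truncLE b) b
  haveI := hα
  let eP : DCoh.toD X P ≅ E :=
    asIso (DerivedCategory.Q.map α) ≪≫ asIso (DerivedCategory.Q.map (K₀.ιTruncLE b)) ≪≫ e₀
  have hKF : KF P := (kf_iff_isKFlat P).2 (Groth.Agent.S9058.result X.sheaf P b hP hflP)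
  have hPtor : DCoh.HasTorAmplitudeIn a b (DCoh.toD X P) :=
    TorAmp.hasTorAmplitudeIn_of_iso eP.symm a b h
  have hcok : ModSite.IsFlat (O := X.sheaf) (cokernel (P.d (a - 1) a)) := by
    refine Groth.Agent.Lib.Helper28.FlatCoker.isFlat_cokernel_of_exact X.sheaf
      (P.d (a - 2) (a - 1)) (P.d (a - 1) a) (P.d_comp_d _ _ _) (hflP a) (fun G => ?_)
    haveI := hL G
    have h1 := hPtor G (a - 1) (Or.inl (by lia))
    rw [isZero_HD_ltensor_iff G P hKF (a - 1)] at h1
    rw [HomologicalComplex.exactAt_iff' _ (a - 2) (a - 1) a (by simp; lia) (by simp)] at h1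
    exact h1
  haveI : P.IsGE a := by
    rw [CochainComplex.isGE_iff]
    intro i hi
    rw [exactAt_iff_isZero_HD]
    exact IsZero.of_iso (hH i (Or.inl hi))
      ((DerivedCategory.homologyFunctor X.Modules i).mapIso eP)
  refine ⟨P.truncGE a, ?_, ?_,
    ⟨(asIso (DerivedCategory.Q.map (P.πTruncGE a))).symm ≪≫ eP⟩⟩
  · intro i hi
    rcases hi with hi | hi
    · exact (P.truncGE a).isZero_of_isStrictlyGE a i hi
    · exact IsZero.of_iso (P.isZero_of_isStrictlyLE b i hi) (truncGEXIsoOfLT P a i (by lia))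
  · intro i
    rw [TorOne.flat_iff]
    rcases lt_trichotomy i a with hi | rfl | hi
    · exact Groth.Agent.Lib.Helper30.AcyclicFlat.isFlat_of_isZero X.sheaf _
        ((P.truncGE a).isZero_of_isStrictlyGE a i hi)
    · exact Groth.Agent.Lib.Helper5.KFlatSingle.isFlat_of_iso X.sheaf
        (truncGEXIsoCokernel P (i - 1) i (by lia)).symm hcok
    · exact Groth.Agent.Lib.Helper5.KFlatSingle.isFlat_of_iso X.sheaf
        (truncGEXIsoOfLT P a i hi).symm (hflP i)

end Groth.Agent.Lib.Helper28.TorAmpFlat
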