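import Mathlib
import Groth.Prelude.Def_DerSch
import Groth.Prelude.Def_DTor2
import Groth.Agent.Lib.Helper28.TorAmpFlat
import Groth.Agent.Lib.Helper28.LpullCompute
import Groth.Agent.Lib.Helper35.TARes

/-!
# Flat amplitude of a complex of `O_X`-modules, tested on a family of exact functors (helper28)

Let `G_j : Mod(O_X) ⥤ Mod(A_j)` be a family of exact additive functors which jointly detect zero
objects and jointly detect flatness (e.g. the stalk functors).  Then a complex `F` of `O_X`-modules
has flat amplitude in `[a, b]` (is isomorphic in `D(O_X)` to a complex of flat modules placed in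
`[a, b]`) iff every complex `G_j F` has tor amplitude in `[a, b]` over `A_j`.
-/

set_option autoImplicit false
universe w u
open CategoryTheory CategoryTheory.Limits AlgebraicGeometry ZeroObject

namespace Groth.Agent.Lib.Helper28.FlatAmpFamily

attribute [local instance] HasDerivedCategory.standard

open Groth.Agent.Lib.Helper35.TA

variable {X : Scheme.{u}}

section One

variable {A : Type u} [CommRing A] (G : X.Modules ⥤ ModuleCat.{u} A) [G.Additive]
  [PreservesFiniteLimits G] [PreservesFiniteColimits G]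

/-- termwise application of `G` -/
noncomputable abbrev GCx : CochainComplex X.Modules ℤ ⥤ DRing.Cx A :=
  G.mapHomologicalComplex (ComplexShape.up ℤ)

/-- an isomorphism in `D(O_X)` gives an isomorphism in `D(A)` after applying `G` termwise. -/
noncomputable def mapIsoD {E F : CochainComplex X.Modules ℤ} (e : DCoh.toD X E ≅ DCoh.toD X F) :
    DRing.toD ((GCx G).obj E) ≅ DRing.toD ((GCx G).obj F) :=
  (G.mapDerivedCategoryFactors.app E).symm ≪≫ G.mapDerivedCategory.mapIso e ≪≫
    G.mapDerivedCategoryFactors.app F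

/-- `G` commutes with homology. -/
noncomputable def homologyGIso (F : CochainComplex X.Modules ℤ) (i : ℤ) :
    ((GCx G).obj F).homology i ≅ G.obj (F.homology i) :=
  (F.sc i).mapHomologyIso G

/-- `G` commutes with opcycles. -/
noncomputable def opcyclesGIso (F : CochainComplex X.Modules ℤ) (i : ℤ) :
    ((GCx G).obj F).opcycles i ≅ G.obj (F.opcycles i) :=
  (F.sc i).mapOpcyclesIso G

lemma isZero_G_homology_of_TAmp (F : CochainComplex X.Modules ℤ) (a b : ℤ)
    (h : DRing.HasTorAmplitudeIn A a b (DRing.toD ((GCx G).obj F))) (i : ℤ)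
    (hi : i < a ∨ b < i) : IsZero (G.obj (F.homology i)) := by
  have h1 : (DerivedCategory.Q.obj ((GCx G).obj F)).IsGE a := TAmp.isGE h
  have h2 : (DerivedCategory.Q.obj ((GCx G).obj F)).IsLE b := TAmp.isLE h
  rw [DerivedCategory.isGE_Q_obj_iff] at h1
  rw [DerivedCategory.isLE_Q_obj_iff] at h2
  have hz : IsZero (((GCx G).obj F).homology i) := by
    rw [← HomologicalComplex.exactAt_iff_isZero_homology]
    rcases hi with hi | hi
    · exact ((GCx G).obj F).exactAt_of_isGE a i hi
    · exact ((GCx G).obj F).exactAt_of_isLE b i hi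
  exact hz.of_iso (homologyGIso G F i).symm

end One

variable {J : Type w} (A : J → Type u) [∀ j, CommRing (A j)]
  (G : ∀ j, X.Modules ⥤ ModuleCat.{u} (A j)) [∀ j, (G j).Additive]
  [∀ j, PreservesFiniteLimits (G j)] [∀ j, PreservesFiniteColimits (G j)]

/-- a jointly faithfully flat family of exact functors on `O_X`-modules. -/
structure JFF : Prop where
  flat : ∀ M : X.Modules, FlatMod.IsFlat M → ∀ j, Module.Flat (A j) ((G j).obj M)
  flatM : ∀ M : X.Modules, (∀ j, Module.Flat (A j) ((G j).obj M)) → FlatMod.IsFlat M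
  zero : ∀ M : X.Modules, (∀ j, IsZero ((G j).obj M)) → IsZero M

variable {A G}

/-- flat amplitude implies tor amplitude of the images under flatness preserving exact functors. -/
theorem TAmp_of_hasFlatAmplitudeIn
    (hflat : ∀ M : X.Modules, FlatMod.IsFlat M → ∀ j, Module.Flat (A j) ((G j).obj M))
    (F : CochainComplex X.Modules ℤ) (a b : ℤ)
    (h : DCoh.HasFlatAmplitudeIn a b (DCoh.toD X F)) (j : J) :
    DRing.HasTorAmplitudeIn (A j) a b (DRing.toD ((GCx (G j)).obj F)) := by
  obtain ⟨E, hE, hEfl, ⟨e⟩⟩ := h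
  exact ⟨(GCx (G j)).obj E, fun i hi => (G j).map_isZero (hE i hi),
    fun i => hflat _ (hEfl i) j, ⟨mapIsoD (G j) e⟩⟩

/-- **tor amplitude of the images under a jointly faithfully flat family of exact functors
implies flat amplitude.** -/
theorem hasFlatAmplitudeIn_of_TAmp (hG : JFF A G) (F : CochainComplex X.Modules ℤ) (a b : ℤ)
    (h : ∀ j, DRing.HasTorAmplitudeIn (A j) a b (DRing.toD ((GCx (G j)).obj F))) :
    DCoh.HasFlatAmplitudeIn a b (DCoh.toD X F) := by
  have hz : ∀ i : ℤ, (i < a ∨ b < i) → IsZero (F.homology i) := fun i hi =>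
    hG.zero _ (fun j => isZero_G_homology_of_TAmp (G j) F a b (h j) i hi)
  haveI : F.IsLE b := by
    rw [CochainComplex.isLE_iff]
    intro i hi
    rw [HomologicalComplex.exactAt_iff_isZero_homology]
    exact hz i (Or.inr hi)
  obtain ⟨P, α, hP, hflP, -, hα⟩ :=
    Groth.Agent.Lib.Helper32.LeftRes.exists_of_isStrictlyLE
      (fun M : X.Modules => ModSite.IsFlat (O := X.sheaf) M)
      (fun M => by
        obtain ⟨L, hL, π, hπ⟩ := Groth.Agent.Lib.Helper30.FlatSES.exists_flat_epi X.sheaf M
        exact ⟨L, π, hL, hπ⟩)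
      ⟨0, isZero_zero _,
        Groth.Agent.Lib.Helper30.AcyclicFlat.isFlat_of_isZero X.sheaf 0 (isZero_zero _)⟩
      (F.truncLE b) b
  haveI := hα
  let eP : DCoh.toD X P ≅ DCoh.toD X F :=
    asIso (DerivedCategory.Q.map α) ≪≫ asIso (DerivedCategory.Q.map (F.ιTruncLE b))
  have hflP' : ∀ i : ℤ, FlatMod.IsFlat (P.X i) := fun i => (TorOne.flat_iff _).2 (hflP i)
  -- the opcycles in degree `a` are flat
  have hop : FlatMod.IsFlat (P.opcycles a) := by
    refine hG.flatM _ (fun j => ?_)
    have hTA : TAmp a b (DRing.toD ((GCx (G j)).obj P)) :=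
      TAmp.of_iso (h j) (mapIsoD (G j) eP).symm
    have hv : DRing.VanishesAbove ((GCx (G j)).obj P) b := fun i hi =>
      (G j).map_isZero (P.isZero_of_isStrictlyLE b i hi)
    have hfl : ∀ i : ℤ, Module.Flat (A j) (((GCx (G j)).obj P).X i) := fun i =>
      hG.flat _ (hflP' i) j
    have := (flat_opcycles_of_TAmp' ((GCx (G j)).obj P) b hv hfl a b hTA).2
    exact Module.Flat.of_linearEquiv (opcyclesGIso (G j) P a).toLinearEquiv.symm
  haveI : P.IsGE a := by
    rw [CochainComplex.isGE_iff]
    intro i hi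
    rw [TorAmpFlat.exactAt_iff_isZero_HD]
    have h1 : IsZero (DCoh.HD (DCoh.toD X F) i) := by
      rw [← TorAmpFlat.exactAt_iff_isZero_HD, HomologicalComplex.exactAt_iff_isZero_homology]
      exact hz i (Or.inl hi)
    exact IsZero.of_iso h1 ((DerivedCategory.homologyFunctor X.Modules i).mapIso eP)
  refine ⟨P.truncGE a, ?_, ?_,
    ⟨(asIso (DerivedCategory.Q.map (P.πTruncGE a))).symm ≪≫ eP⟩⟩
  · intro i hi
    rcases hi with hi | hi
    · exact (P.truncGE a).isZero_of_isStrictlyGE a i hi
    · rcases lt_trichotomy i a with hia | rfl | hia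
      · exact (P.truncGE a).isZero_of_isStrictlyGE a i hia
      · have h0 : IsZero (P.opcycles i) :=
          IsZero.of_epi (P.pOpcycles i) (P.isZero_of_isStrictlyLE b i hi)
        exact IsZero.of_iso h0
          (HomologicalComplex.truncGEXIsoOpcycles P (ComplexShape.embeddingUpIntGE i) (i := 0)
            (by simp) (by rw [ComplexShape.boundaryGE_embeddingUpIntGE_iff]))
      · exact IsZero.of_iso (P.isZero_of_isStrictlyLE b i hi)
          (TorAmpFlat.truncGEXIsoOfLT P a i hia)
  · intro i
    rcases lt_trichotomy i a with hi | rfl | hi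
    · exact LpullCompute.isFlat_of_isZero _ ((P.truncGE a).isZero_of_isStrictlyGE a i hi)
    · exact LpullCompute.isFlat_of_iso
        (HomologicalComplex.truncGEXIsoOpcycles P (ComplexShape.embeddingUpIntGE i) (i := 0)
          (by simp) (by rw [ComplexShape.boundaryGE_embeddingUpIntGE_iff])).symm hop
    · exact LpullCompute.isFlat_of_iso (TorAmpFlat.truncGEXIsoOfLT P a i hi).symm (hflP' i)

theorem hasFlatAmplitudeIn_iff (hG : JFF A G) (F : CochainComplex X.Modules ℤ) (a b : ℤ) :
    DCoh.HasFlatAmplitudeIn a b (DCoh.toD X F) ↔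
      ∀ j, DRing.HasTorAmplitudeIn (A j) a b (DRing.toD ((GCx (G j)).obj F)) :=
  ⟨fun h j => TAmp_of_hasFlatAmplitudeIn hG.flat F a b h j, hasFlatAmplitudeIn_of_TAmp hG F a b⟩

end Groth.Agent.Lib.Helper28.FlatAmpFamily
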