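import Mathlib
import Groth.Prelude.Def_DerSch
import Groth.Prelude.Def_DTor2
import Groth.Agent.Lib.Helper28.FlatAmpFamily
import Groth.Agent.Lib.Helper30.StalkExactF
import Groth.Agent.Lib.Helper45.ModulesBasic

/-!
# Flat amplitude is tor amplitude of the stalks (helper28)
-/

set_option autoImplicit false
universe u
open CategoryTheory CategoryTheory.Limits AlgebraicGeometry

namespace Groth.Agent.Lib.Helper28.FlatAmpStalk

attribute [local instance] HasDerivedCategory.standard

open Groth.Agent.Lib.Helper28.FlatAmpFamily

section Transfer

variable {R' R : Type u} [CommRing R'] [CommRing R] (φ : R' →+* R)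

/-- restriction of scalars along a bijective ring homomorphism preserves flatness. -/
lemma flat_restrictScalars (hφ : Function.Bijective φ) (M : ModuleCat.{u} R)
    (hM : Module.Flat R M) : Module.Flat R' ((ModuleCat.restrictScalars φ).obj M) := by
  letI := φ.toAlgebra
  letI : Module R' M := Module.compHom M φ
  haveI : IsScalarTower R' R M := ⟨fun a b m => by
    change (φ a * b) • m = φ a • (b • m)
    rw [mul_smul]⟩
  haveI : Module.Flat R' R :=
    Module.Flat.of_linearEquiv (LinearEquiv.ofBijective (Algebra.linearMap R' R) hφ).symm
  exact Module.Flat.trans R' R M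

/-- restriction of scalars along a bijective ring homomorphism reflects flatness. -/
lemma flat_of_restrictScalars (hφ : Function.Bijective φ) (M : ModuleCat.{u} R)
    (h : Module.Flat R' ((ModuleCat.restrictScalars φ).obj M)) : Module.Flat R M := by
  let e : R' ≃+* R := RingEquiv.ofBijective φ hφ
  have h2 := flat_restrictScalars (e.symm : R →+* R') e.symm.bijective _ h
  let ε : M ≃ₗ[R] ((ModuleCat.restrictScalars (e.symm : R →+* R')).obj
      ((ModuleCat.restrictScalars φ).obj M)) :=
    { toFun := fun m => m
      invFun := fun m => m
      map_add' := fun _ _ => rfl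
      map_smul' := fun r m => by
        change r • m = φ (e.symm r) • m
        congr 1
        exact (e.apply_symm_apply r).symm
      left_inv := fun _ => rfl
      right_inv := fun _ => rfl }
  exact Module.Flat.of_linearEquiv ε

end Transfer

variable {X : Scheme.{u}}

/-- the stalk functors form a jointly faithfully flat family. -/
lemma jff_stalk : JFF (fun x : X => X.presheaf.stalk x) (fun x => DerSch.stalkFunctor X x) where
  flat M hM x := hM x
  flatM M hM := fun x => hM x
  zero M hM := by
    rw [Groth.Agent.Lib.Helper45.isZero_iff_stalk_subsingleton]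
    intro x
    exact ModuleCat.subsingleton_of_isZero (hM x)

/-- **flat amplitude is tor amplitude of the stalks.** -/
theorem hasFlatAmplitudeIn_iff_stalks (F : CochainComplex X.Modules ℤ) (a b : ℤ) :
    DCoh.HasFlatAmplitudeIn a b (DCoh.toD X F) ↔
      ∀ x : X, DRing.HasTorAmplitudeIn (X.presheaf.stalk x) a b
        (DRing.toD (((DerSch.stalkFunctor X x).mapHomologicalComplex (ComplexShape.up ℤ)).obj F)) :=
  hasFlatAmplitudeIn_iff jff_stalk F a b

lemma bijective_stalkMap_id (x : X) : Function.Bijective ((𝟙 X : X ⟶ X).stalkMap x).hom :=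
  ConcreteCategory.bijective_of_isIso ((𝟙 X : X ⟶ X).stalkMap x)

/-- the stalk functors relative to the identity form a jointly faithfully flat family. -/
lemma jff_stalkOver_id :
    JFF (fun x : X => X.presheaf.stalk ((𝟙 X : X ⟶ X).base x))
      (fun x => DerSch.stalkOver (𝟙 X) x) where
  flat M hM x := flat_restrictScalars _ (bijective_stalkMap_id x) _ (hM x)
  flatM M hM := fun x => flat_of_restrictScalars _ (bijective_stalkMap_id x)
    ((DerSch.stalkFunctor X x).obj M) (hM x)
  zero M hM := by
    rw [Groth.Agent.Lib.Helper45.isZero_iff_stalk_subsingleton]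
    intro x
    exact ModuleCat.subsingleton_of_isZero (hM x)

/-- **S6200**: flat amplitude is tor amplitude relative to the identity. -/
theorem hasFlatAmplitudeIn_iff_hasTorAmplitude_id (F : CochainComplex X.Modules ℤ) (a b : ℤ) :
    DCoh.HasFlatAmplitudeIn a b (DCoh.toD X F) ↔ DerSch.HasTorAmplitude (𝟙 X) a b F :=
  hasFlatAmplitudeIn_iff jff_stalkOver_id F a b

end Groth.Agent.Lib.Helper28.FlatAmpStalk
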