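import Mathlib
import Groth.Prelude.Def_DerSch
import Groth.Prelude.Def_DTor2
import Groth.Agent.Lib.Helper28.FlatAmpStalk
import Groth.Agent.Lib.Helper28.PullbackStalk
import Groth.Agent.Lib.Helper28.LpullCompute
import Groth.Agent.Lib.Helper18.PPFlat

/-!
# Flat amplitude descends along flat surjective morphisms (helper28)
-/

set_option autoImplicit false
universe u
open CategoryTheory CategoryTheory.Limits AlgebraicGeometry

namespace Groth.Agent.Lib.Helper28.FlatAmpDescent

attribute [local instance] HasDerivedCategory.standard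

open Groth.Agent.Lib.Helper28.FlatAmpFamily Groth.Agent.Lib.Helper28.FlatAmpStalk
  Groth.Agent.Lib.Helper28.SkyMod Groth.Agent.Lib.Helper35.TA

variable {X Y : Scheme.{u}}

lemma hasFlatAmplitudeIn_of_iso {K K' : DCoh.D X} (e : K ≅ K') (a b : ℤ)
    (h : DCoh.HasFlatAmplitudeIn a b K) : DCoh.HasFlatAmplitudeIn a b K' := by
  obtain ⟨E, h1, h2, ⟨e'⟩⟩ := h
  exact ⟨E, h1, h2, ⟨e' ≪≫ e⟩⟩

variable (f : X ⟶ Y)

/-- the stalk at `x` of the pullback. -/
noncomputable abbrev pullStalk (x : X) : Y.Modules ⥤ ModuleCat.{u} (X.presheaf.stalk x) :=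
  Scheme.Modules.pullback f ⋙ DerSch.stalkFunctor X x

instance (x : X) : PreservesFiniteColimits (pullStalk f x) := by
  haveI : PreservesFiniteColimits (Scheme.Modules.pullback f) := by
    have := (Scheme.Modules.pullbackPushforwardAdjunction f).leftAdjoint_preservesColimits
    infer_instance
  infer_instance

instance [Flat f] (x : X) : PreservesFiniteLimits (pullStalk f x) := by
  haveI := Groth.Agent.Lib.Helper18.PPFlat.preservesFiniteLimits_pullback_of_flat f
  infer_instance

section FF

variable [Flat f] (x : X)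

/-- the stalk maps of a flat morphism are faithfully flat. -/
lemma faithfullyFlat_stalkMap :
    letI := (f.stalkMap x).hom.toAlgebra
    Module.FaithfullyFlat (Y.presheaf.stalk (f.base x)) (X.presheaf.stalk x) := by
  letI := (f.stalkMap x).hom.toAlgebra
  exact @Module.FaithfullyFlat.of_flat_of_isLocalHom _ _ _ _ _ _ _
    (Flat.stalkMap f x) (f.toLRSHom.prop x)

lemma flat_of_flat_extendScalars {R S : Type u} [CommRing R] [CommRing S] (φ : R →+* S)
    (hφ : letI := φ.toAlgebra; Module.FaithfullyFlat R S) (N : ModuleCat.{u} R)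
    (h : Module.Flat S ((ModuleCat.extendScalars φ).obj N)) : Module.Flat R N := by
  letI := φ.toAlgebra
  haveI : Module.FaithfullyFlat R S := hφ
  haveI : Module.Flat S (TensorProduct R S N) := h
  exact Module.Flat.of_flat_tensorProduct R N S

lemma subsingleton_of_subsingleton_extendScalars {R S : Type u} [CommRing R] [CommRing S]
    (φ : R →+* S) (hφ : letI := φ.toAlgebra; Module.FaithfullyFlat R S) (N : ModuleCat.{u} R)
    (h : Subsingleton ((ModuleCat.extendScalars φ).obj N)) : Subsingleton N := by
  letI := φ.toAlgebra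
  haveI : Module.FaithfullyFlat R S := hφ
  have h' : Subsingleton (TensorProduct R S N) := h
  exact (Module.FaithfullyFlat.subsingleton_tensorProduct_iff_right R S).1 h'

end FF

/-- for a flat surjective morphism the functors `M ↦ (f^* M)_x` are jointly faithfully flat. -/
lemma jff_pullStalk [Flat f] [Surjective f] :
    JFF (fun x : X => X.presheaf.stalk x) (fun x => pullStalk f x) where
  flat M hM x := PullbackFlat.isFlat_pullback f M hM x
  flatM M hM := by
    intro y
    obtain ⟨x, rfl⟩ := f.surjective y
    have h1 : Module.Flat (X.presheaf.stalk x) ((ModuleCat.extendScalars (f.stalkMap x).hom).obj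
        ((DerSch.stalkFunctor Y (f.base x)).obj M)) :=
      (Module.Flat.equiv_iff ((pullbackStalkIso f x).app M).toLinearEquiv).1 (hM x)
    exact flat_of_flat_extendScalars _ (faithfullyFlat_stalkMap f x) _ h1
  zero M hM := by
    rw [Groth.Agent.Lib.Helper45.isZero_iff_stalk_subsingleton]
    intro y
    obtain ⟨x, rfl⟩ := f.surjective y
    have h1 : IsZero ((ModuleCat.extendScalars (f.stalkMap x).hom).obj
        ((DerSch.stalkFunctor Y (f.base x)).obj M)) :=
      IsZero.of_iso (hM x) ((pullbackStalkIso f x).app M).symm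
    exact subsingleton_of_subsingleton_extendScalars _ (faithfullyFlat_stalkMap f x)
      ((DerSch.stalkFunctor Y (f.base x)).obj M) (ModuleCat.subsingleton_of_isZero h1)

/-- **flat amplitude descends along flat surjective morphisms** (complex level). -/
theorem hasFlatAmplitudeIn_of_pullback [Flat f] [Surjective f]
    (P : CochainComplex Y.Modules ℤ) (a b : ℤ)
    (h : DCoh.HasFlatAmplitudeIn a b (DCoh.toD X
      (((Scheme.Modules.pullback f).mapHomologicalComplex (ComplexShape.up ℤ)).obj P))) :
    DCoh.HasFlatAmplitudeIn a b (DCoh.toD Y P) := by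
  refine hasFlatAmplitudeIn_of_TAmp (jff_pullStalk f) P a b (fun x => ?_)
  have h1 := (hasFlatAmplitudeIn_iff_stalks _ a b).1 h x
  exact TAmp.of_iso h1 (DerivedCategory.Q.mapIso
    ((Functor.mapHomologicalComplexCompIso
      (Iso.refl (Scheme.Modules.pullback f ⋙ DerSch.stalkFunctor X x)) (ComplexShape.up ℤ)).app P))

/-- **S7244**: flat amplitude descends along flat surjective morphisms. -/
theorem hasFlatAmplitudeIn_of_lpull [Flat f] [Surjective f] [DCoh.HasLpull f] (E : DCoh.D Y)
    (a b : ℤ) (h : DCoh.HasFlatAmplitudeIn a b ((DCoh.Lpull f).obj E)) :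
    DCoh.HasFlatAmplitudeIn a b E := by
  obtain ⟨P, q, hP, hq⟩ := LpullCompute.pf_res (DerivedCategory.Q.objPreimage E)
  haveI := hq
  let e0 : DCoh.toD Y P ≅ E :=
    asIso (DerivedCategory.Q.map q) ≪≫ DerivedCategory.Q.objObjPreimageIso E
  have h' := hasFlatAmplitudeIn_of_iso
    ((DCoh.Lpull f).mapIso e0.symm ≪≫ LpullCompute.lpullIso f P hP) a b h
  exact hasFlatAmplitudeIn_of_iso e0 a b (hasFlatAmplitudeIn_of_pullback f P a b h')

end Groth.Agent.Lib.Helper28.FlatAmpDescent
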