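import Mathlib

/-!
# Jointly faithfully flat finite families of flat algebras (helper28)
-/

set_option autoImplicit false
universe u
open TensorProduct

namespace Groth.Agent.Lib.Helper28.FpqcAlg

variable (A : Type u) [CommRing A] {ι : Type} (B : ι → Type u) [∀ i, CommRing (B i)]
  [∀ i, Algebra A (B i)]

/-- the family `Spec B_i → Spec A` is jointly surjective. -/
def JointlySurjective : Prop :=
  ∀ p : PrimeSpectrum A, ∃ (i : ι) (q : PrimeSpectrum (B i)),
    PrimeSpectrum.comap (algebraMap A (B i)) q = p

variable {A B}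

/-- a module which dies after all the base changes of a jointly surjective flat family is zero. -/
theorem subsingleton_of_tensor [∀ i, Module.Flat A (B i)] (hB : JointlySurjective A B)
    (M : Type u) [AddCommGroup M] [Module A M]
    (h : ∀ i, Subsingleton (B i ⊗[A] M)) : Subsingleton M := by
  refine ⟨fun m m' => ?_⟩
  suffices hz : ∀ m : M, m = 0 by rw [hz m, hz m']
  intro m
  by_contra hm
  -- the annihilator of `m` is a proper ideal
  let I : Ideal A := LinearMap.ker (LinearMap.toSpanSingleton A M m)
  have hI : I ≠ ⊤ := by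
    intro hI
    have : (1 : A) ∈ I := hI ▸ Submodule.mem_top
    have h1 : (1 : A) • m = 0 := this
    exact hm (by simpa using h1)
  obtain ⟨P, hP, hIP⟩ := Ideal.exists_le_maximal I hI
  obtain ⟨i, q, hq⟩ := hB ⟨P, hP.isPrime⟩
  -- the injection `A/I → M`
  let g : (A ⧸ I) →ₗ[A] M := Submodule.liftQ I (LinearMap.toSpanSingleton A M m) le_rfl
  have hg : Function.Injective g := by
    rw [← LinearMap.ker_eq_bot]
    exact Submodule.ker_liftQ_eq_bot _ _ _ le_rfl
  have hg' : Function.Injective (g.lTensor (B i)) :=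
    Module.Flat.lTensor_preserves_injective_linearMap g hg
  haveI : Subsingleton (B i ⊗[A] (A ⧸ I)) := hg'.subsingleton
  -- hence `I B_i = B_i`
  have h1 : (1 : B i) ⊗ₜ[A] (Ideal.Quotient.mk I (1 : A)) = 0 := Subsingleton.elim _ _
  have h2 := congrArg (TensorProduct.tensorQuotEquivQuotSMul (B i) I) h1
  rw [TensorProduct.tensorQuotEquivQuotSMul_tmul_mk, map_zero] at h2
  rw [one_smul, Submodule.Quotient.mk_eq_zero] at h2
  -- but `I B_i ⊆ q`
  have h3 : (I • (⊤ : Submodule A (B i))) ≤ q.asIdeal.restrictScalars A := by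
    rw [Submodule.smul_le]
    intro a ha b _
    have haP : a ∈ P := hIP ha
    have : algebraMap A (B i) a ∈ q.asIdeal := by
      have hq' := congrArg PrimeSpectrum.asIdeal hq
      have : a ∈ (PrimeSpectrum.comap (algebraMap A (B i)) q).asIdeal := by
        rw [hq']; exact haP
      exact this
    change a • b ∈ q.asIdeal
    rw [Algebra.smul_def]
    exact q.asIdeal.mul_mem_right _ this
  exact q.isPrime.ne_top ((Ideal.eq_top_iff_one _).2 (h3 h2))

/-- finiteness descends along a finite jointly surjective flat family. -/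
theorem finite_of_tensor [Finite ι] [∀ i, Module.Flat A (B i)] (hB : JointlySurjective A B)
    (M : Type u) [AddCommGroup M] [Module A M]
    (h : ∀ i, Module.Finite (B i) (B i ⊗[A] M)) : Module.Finite A M := by
  classical
  haveI := Fintype.ofFinite ι
  have hex : ∀ i, ∃ (n : ℕ) (s : Fin n → B i ⊗[A] M), Submodule.span (B i) (Set.range s) = ⊤ :=
    fun i => Module.Finite.exists_fin (R := B i) (M := B i ⊗[A] M)
  choose n s hs using hex
  choose k t m hm using fun (ij : Σ i, Fin (n i)) => TensorProduct.exists_sum_tmul_eq (s ij.1 ij.2)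
  let Idx := Σ ij : (Σ i, Fin (n i)), Fin (k ij)
  let f₀ : (Idx → A) →ₗ[A] M := (Pi.basisFun A Idx).constr A fun x => m x.1 x.2
  apply Module.Finite.of_surjective f₀
  rw [← LinearMap.range_eq_top]
  -- the cokernel dies after all base changes
  let N : Submodule A M := LinearMap.range f₀
  have hmem : ∀ x : Idx, m x.1 x.2 ∈ N := fun x => ⟨Pi.basisFun A Idx x, by simp [f₀]⟩
  haveI : Subsingleton (M ⧸ N) := by
    refine subsingleton_of_tensor hB (M ⧸ N) (fun i => ?_)
    have hsurj : Function.Surjective (N.mkQ.lTensor (B i)) :=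
      LinearMap.lTensor_surjective _ (Submodule.mkQ_surjective N)
    have hzero : (TensorProduct.AlgebraTensorModule.lTensor (B i) (B i) N.mkQ) = 0 := by
      apply LinearMap.ext_on_range (hs i)
      intro j
      rw [hm ⟨i, j⟩, map_sum, LinearMap.zero_apply]
      refine Finset.sum_eq_zero (fun l _ => ?_)
      rw [TensorProduct.AlgebraTensorModule.lTensor_tmul]
      have : N.mkQ (m ⟨i, j⟩ l) = 0 := by
        rw [Submodule.mkQ_apply, Submodule.Quotient.mk_eq_zero]
        exact hmem ⟨⟨i, j⟩, l⟩
      rw [this, TensorProduct.tmul_zero]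
    refine ⟨fun x y => ?_⟩
    obtain ⟨x', rfl⟩ := hsurj x
    obtain ⟨y', rfl⟩ := hsurj y
    have hx : N.mkQ.lTensor (B i) x' = 0 := congrArg (fun φ => φ x') hzero
    have hy : N.mkQ.lTensor (B i) y' = 0 := congrArg (fun φ => φ y') hzero
    rw [hx, hy]
  exact Submodule.Quotient.subsingleton_iff.mp this

end Groth.Agent.Lib.Helper28.FpqcAlg
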