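import Mathlib
import Groth.Agent.Lib.Helper28.LpullTilde
import Groth.Agent.Lib.Helper28.LocFreeLocus
import Groth.Agent.Lib.Helper49.QCohLocal
import Groth.Agent.Lib.Helper49.TildeExact
import Groth.Agent.Lib.Helper16.FlatPull.Chart
import Groth.Agent.Lib.Helper35.NilTA

/-!
# `Lf^*` preserves `D_QCoh`, modulo the essential image of `D(A) ⥤ D(Spec A)` (helper28)
-/

set_option autoImplicit false
universe u
open CategoryTheory CategoryTheory.Limits AlgebraicGeometry Opposite TopologicalSpace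

namespace Groth.Agent.Lib.Helper28.LpullQCoh

attribute [local instance] HasDerivedCategory.standard

open Groth.Agent.Lib.Helper28.LpullCompute Groth.Agent.Lib.Helper28.LpullComp
  Groth.Agent.Lib.Helper28.LpullRestrict Groth.Agent.Lib.Helper28.LpullPerf
  Groth.Agent.Lib.Helper30.PerfRestrict Groth.Agent.Lib.Helper28.LpullTilde
  Groth.Agent.Lib.Helper28.LocFreeLocus

/-- the essential image part of `D(A) ≃ D_QCoh(Spec A)`, as a hypothesis. -/
def EssImageHyp : Prop :=
  ∀ (R : CommRingCat.{u}) [PreservesFiniteLimits (tilde.functor R)]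
    (K : DCoh.D (Spec (CommRingCat.of R))), DCoh.IsQCohD K →
      ∃ M, Nonempty ((DCoh.tildeD R).obj M ≅ K)

/-- cohomology sheaves commute with restriction along open immersions. -/
noncomputable def hdRestrictIso' {Y U : Scheme.{u}} (j : U ⟶ Y) [IsOpenImmersion j]
    (K : DCoh.D Y) (k : ℤ) :
    DCoh.HD ((rD j).obj K) k ≅ (Scheme.Modules.restrictFunctor j).obj (DCoh.HD K k) :=
  (Groth.Agent.Lib.Helper6.ExactDC.homologyIso (Scheme.Modules.restrictFunctor j) k).app K

lemma isQuasicoherent_restrict {Y U : Scheme.{u}} (j : U ⟶ Y) [IsOpenImmersion j]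
    (M : Y.Modules) (hM : M.IsQuasicoherent) :
    ((Scheme.Modules.restrictFunctor j).obj M).IsQuasicoherent :=
  Groth.Agent.Lib.Helper49.isQuasicoherent_of_iso
    ((Scheme.Modules.restrictFunctorIsoPullback j).app M).symm
    (Groth.Agent.Lib.Helper16.FlatPull.isQuasicoherent_pullback j M)

lemma isQCohD_restrict {Y U : Scheme.{u}} (j : U ⟶ Y) [IsOpenImmersion j]
    (K : DCoh.D Y) (hK : DCoh.IsQCohD K) : DCoh.IsQCohD ((rD j).obj K) := fun k =>
  Groth.Agent.Lib.Helper49.isQuasicoherent_of_iso (hdRestrictIso' j K k).symm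
    (isQuasicoherent_restrict j _ (hK k))

/-- `M~` has quasi-coherent cohomology sheaves. -/
lemma isQCohD_tildeD (R : CommRingCat.{u}) [PreservesFiniteLimits (tilde.functor R)]
    (N : DerivedCategory (ModuleCat.{u} R)) : DCoh.IsQCohD ((DCoh.tildeD R).obj N) := fun k => by
  haveI := Groth.Agent.Lib.Helper49.preservesFiniteColimits_tilde R
  exact Groth.Agent.Lib.Helper49.isQuasicoherent_of_iso
    ((Groth.Agent.Lib.Helper6.ExactDC.homologyIso (tilde.functor R) k).app N).symm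
    (inferInstanceAs ((tilde.functor R).obj
      ((DerivedCategory.homologyFunctor (ModuleCat.{u} R) k).obj N)).IsQuasicoherent)

/-- **`Lf^*` preserves `D_QCoh`**, given the essential surjectivity of `D(A) ⥤ D_QCoh(Spec A)`. -/
theorem lpull_isQCohD (hEss : EssImageHyp.{u}) {Y X : Scheme.{u}} (f : Y ⟶ X) [DCoh.HasLpull f]
    (K : DCoh.D X) (hK : DCoh.IsQCohD K) : DCoh.IsQCohD ((DCoh.Lpull f).obj K) := by
  intro k
  have hch : ∀ y : Y, ∃ (U : X.Opens) (V : Y.Opens), IsAffineOpen U ∧ IsAffineOpen V ∧ y ∈ V ∧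
      V ≤ f ⁻¹ᵁ U := by
    intro y
    obtain ⟨_, ⟨U, hU : IsAffineOpen U, rfl⟩, hxU, -⟩ :=
      X.isBasis_affineOpens.exists_subset_of_mem_open (Set.mem_univ (f y)) isOpen_univ
    obtain ⟨_, ⟨V, hV : IsAffineOpen V, rfl⟩, hyV, hVU⟩ :=
      Y.isBasis_affineOpens.exists_subset_of_mem_open (show y ∈ f ⁻¹ᵁ U from hxU) (f ⁻¹ᵁ U).2
    exact ⟨U, V, hU, hV, hyV, hVU⟩
  choose U V hU hV hyV hVU using hch
  refine Groth.Agent.Lib.Helper49.isQuasicoherent_of_forall_restrict _
    (fun y : Y => Spec Γ(Y, V y)) (fun y => (hV y).fromSpec)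
    (fun y => ⟨y, by rw [(hV y).range_fromSpec]; exact hyV y⟩) (fun y => ?_)
  let A : CommRingCat.{u} := Γ(X, U y)
  let B : CommRingCat.{u} := Γ(Y, V y)
  let φ : A ⟶ B := f.appLE (U y) (V y) (hVU y)
  let j : Spec (CommRingCat.of B) ⟶ Y := (hV y).fromSpec
  let j' : Spec (CommRingCat.of A) ⟶ X := (hU y).fromSpec
  haveI : IsOpenImmersion j := (hV y).isOpenImmersion_fromSpec
  haveI : IsOpenImmersion j' := (hU y).isOpenImmersion_fromSpec
  have hfac : specMap φ ≫ j' = j ≫ f := (hU y).SpecMap_appLE_fromSpec f (hV y) (hVU y)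
  haveI := Groth.Agent.Lib.Helper49.preservesFiniteLimits_tilde A
  haveI := Groth.Agent.Lib.Helper49.preservesFiniteLimits_tilde B
  haveI : DRing.HasLBaseChange φ.hom := Groth.Agent.Lib.Helper35.TA.hasLBaseChange _
  haveI := hasLpull (specMap φ)
  haveI := hasLpull j
  haveI := hasLpull j'
  haveI := hasLpull (j ≫ f)
  haveI := hasLpull (specMap φ ≫ j')
  obtain ⟨M, ⟨eM⟩⟩ := hEss A ((rD j').obj K) (isQCohD_restrict j' K hK)
  obtain ⟨eT⟩ := LpullTilde.nonempty_iso φ
  let e : (rD j).obj ((DCoh.Lpull f).obj K) ≅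
      (DCoh.tildeD B).obj ((DRing.LBaseChange φ.hom).obj M) :=
    ((lpullRestrictIso j).symm).app _ ≪≫ (compIso j f).app K ≪≫
      (lpullCongr hfac.symm).app K ≪≫ ((compIso (specMap φ) j').symm).app K ≪≫
      (DCoh.Lpull (specMap φ)).mapIso ((lpullRestrictIso j').app K ≪≫ eM.symm) ≪≫
      (eT.symm).app M
  have h1 : (DCoh.HD ((rD j).obj ((DCoh.Lpull f).obj K)) k).IsQuasicoherent :=
    Groth.Agent.Lib.Helper49.isQuasicoherent_of_iso
      ((DerivedCategory.homologyFunctor _ k).mapIso e.symm) (isQCohD_tildeD B _ k)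
  exact Groth.Agent.Lib.Helper49.isQuasicoherent_of_iso (hdRestrictIso' j _ k) h1

end Groth.Agent.Lib.Helper28.LpullQCoh
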