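import Mathlib
import Groth.Agent.Lib.Helper28.FpqcAlg
import Groth.Agent.Lib.Helper28.LpullQCoh
import Groth.Agent.Lib.Helper28.LpullPC
import Groth.Agent.Lib.Helper6.FlatDescent
import Groth.Agent.Lib.Helper6.HomBC6
import Groth.Agent.Lib.Helper30.RelTorRestrict
import Groth.Agent.S0997
import Groth.Agent.S1004

/-!
# fpqc descent of `m`-pseudo-coherence for `D_QCoh` (helper28)
-/

set_option autoImplicit false
set_option linter.style.haveILetI false
universe u
open CategoryTheory CategoryTheory.Limits AlgebraicGeometry Opposite TopologicalSpace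

namespace Groth.Agent.Lib.Helper28.FpqcPC

attribute [local instance] HasDerivedCategory.standard

open Groth.Agent.Lib.Helper28.FpqcAlg Groth.Agent.Lib.Helper6 Groth.Agent.Lib.Helper35.FlatBC
  Groth.Agent.Lib.Helper28.LpullCompute Groth.Agent.Lib.Helper28.LpullComp
  Groth.Agent.Lib.Helper28.LpullRestrict Groth.Agent.Lib.Helper28.LpullPerf
  Groth.Agent.Lib.Helper30.PerfRestrict Groth.Agent.Lib.Helper28.LpullTilde
  Groth.Agent.Lib.Helper28.LocFreeLocus Groth.Agent.Lib.Helper28.LpullQCoh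

/-- ring-level fpqc descent of `m`-pseudo-coherence along a finite jointly surjective family of
flat ring maps. -/
theorem pc_descent_ring {A : Type u} [CommRing A] {ι : Type} [Finite ι] (B : ι → Type u)
    [∀ i, CommRing (B i)] (φ : ∀ i, A →+* B i) (hflat : ∀ i, (φ i).Flat)
    (hsurj : ∀ p : PrimeSpectrum A, ∃ (i : ι) (q : PrimeSpectrum (B i)),
      PrimeSpectrum.comap (φ i) q = p)
    [∀ i, DRing.HasLBaseChange (φ i)] (M : Dual.D A) (m : ℤ)
    (h : ∀ i, DRing.IsPseudoCoherent (B i) m ((DRing.LBaseChange (φ i)).obj M)) :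
    DRing.IsPseudoCoherent A m M := by
  let _ : ∀ i, Algebra A (B i) := fun i => (φ i).toAlgebra
  have : ∀ i, Module.Flat A (B i) := fun i => hflat i
  have hJS : JointlySurjective A B := hsurj
  have : ∀ i, DRing.HasLBaseChange (algebraMap A (B i)) := fun i =>
    (inferInstance : DRing.HasLBaseChange (φ i))
  refine PCDescent.descent (R' := B) (PCDescent.hyp_of_flat B
    (fun N hN => subsingleton_of_tensor hJS N hN)
    (fun N hN => finite_of_tensor hJS N hN)) M m (fun i => ?_)
  exact MPC.isPC_of_iso ((HomBC.lbcIsoG A (B i)).app M) (h i)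

/-- restriction to an open preserves `m`-pseudo-coherence. -/
lemma isPseudoCoherentD_rD {Y U : Scheme.{u}} (j : U ⟶ Y) [IsOpenImmersion j] (m : ℤ)
    (K : DCoh.D Y) (hK : DCoh.IsPseudoCoherentD m K) : DCoh.IsPseudoCoherentD m ((rD j).obj K) := by
  haveI := hasLpull j
  exact Groth.Agent.Lib.Helper30.RelTorRestrict.isPseudoCoherentD_of_iso m
    ((lpullRestrictIso j).app K)
    (Groth.Agent.Lib.Helper28.LpullPC.isPseudoCoherentD_lpull j m K hK)

/-- **fpqc descent of `m`-pseudo-coherence** for objects of `D_QCoh`. -/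
theorem isPseudoCoherentD_of_lpull {X' X : Scheme.{u}} (f : X' ⟶ X) [Flat f] [Surjective f]
    [QuasiCompact f] [DCoh.HasLpull f] (E : DCoh.D X) (hE : DCoh.IsQCohD E) (m : ℤ)
    (h : DCoh.IsPseudoCoherentD m ((DCoh.Lpull f).obj E)) : DCoh.IsPseudoCoherentD m E := by
  apply Groth.Agent.Lib.Helper30.RelTorRestrict.isPseudoCoherentD_of_cover
  intro x
  obtain ⟨_, ⟨U, hU : IsAffineOpen U, rfl⟩, hxU, -⟩ :=
    X.isBasis_affineOpens.exists_subset_of_mem_open (Set.mem_univ x) isOpen_univ
  let A : CommRingCat.{u} := Γ(X, U)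
  let j' : Spec (CommRingCat.of A) ⟶ X := hU.fromSpec
  haveI : IsOpenImmersion j' := hU.isOpenImmersion_fromSpec
  refine ⟨Spec (CommRingCat.of A), j', inferInstance, ?_, ?_⟩
  · rw [hU.range_fromSpec]; exact hxU
  -- the finite affine cover of `f⁻¹ U`
  have hc : IsCompact (X := X') (f ⁻¹ᵁ U) :=
    QuasiCompact.isCompact_preimage (f := f) _ U.2 hU.isCompact
  obtain ⟨s, hs, hsU⟩ := isCompact_iff_finite_and_eq_biUnion_affineOpens.mp hc
  haveI : Finite s := hs.to_subtype
  obtain ⟨n, ⟨en⟩⟩ := Finite.exists_equiv_fin s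
  let V : Fin n → X'.Opens := fun k => ((en.symm k).1 : X'.Opens)
  have hV : ∀ k, IsAffineOpen (V k) := fun k => (en.symm k).1.2
  have hVU : ∀ k, V k ≤ f ⁻¹ᵁ U := fun k => by
    rw [hsU]
    exact le_iSup₂ (f := fun (i : X'.affineOpens) (_ : i ∈ s) => (i : X'.Opens))
      (en.symm k).1 (en.symm k).2
  haveI := Groth.Agent.Lib.Helper49.preservesFiniteLimits_tilde A
  obtain ⟨M, ⟨eM⟩⟩ := ((Groth.Agent.S0997.result A).2.2 ((rD j').obj E)).mp
    (isQCohD_restrict j' E hE)
  let B : Fin n → CommRingCat.{u} := fun k => Γ(X', V k)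
  let φ : ∀ k, A ⟶ B k := fun k => f.appLE U (V k) (hVU k)
  refine Groth.Agent.Lib.Helper30.RelTorRestrict.isPseudoCoherentD_of_iso m eM ?_
  refine (Groth.Agent.S1004.result A M m).mpr ?_
  haveI : ∀ k, DRing.HasLBaseChange (φ k).hom := fun k =>
    Groth.Agent.Lib.Helper35.TA.hasLBaseChange _
  refine pc_descent_ring (fun k => B k) (fun k => (φ k).hom)
    (fun k => f.flat_appLE hU (hV k) (hVU k)) ?_ M m ?_
  · -- joint surjectivity
    intro p
    obtain ⟨x', hx'⟩ := f.surjective (j' p)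
    have hjp : j' p ∈ U := by
      have : j' p ∈ Set.range j' := ⟨p, rfl⟩
      rw [hU.range_fromSpec] at this
      exact this
    have hx'U : x' ∈ f ⁻¹ᵁ U := by
      change f x' ∈ U
      rw [hx']
      exact hjp
    rw [hsU] at hx'U
    obtain ⟨W, hW⟩ := Opens.mem_iSup.mp hx'U
    obtain ⟨hWs, hxW⟩ := Opens.mem_iSup.mp hW
    let k := en ⟨W, hWs⟩
    have hVk : V k = W := by simp [V, k]
    have hxV : x' ∈ V k := hVk ▸ hxW
    have hr : x' ∈ Set.range (hV k).fromSpec := by
      rw [(hV k).range_fromSpec]; exact hxV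
    obtain ⟨q, hq⟩ := hr
    refine ⟨k, q, ?_⟩
    apply j'.isOpenEmbedding.injective
    have hfac : specMap (φ k) ≫ j' = (hV k).fromSpec ≫ f :=
      hU.SpecMap_appLE_fromSpec f (hV k) (hVU k)
    have h1 : j' ((specMap (φ k)) q) = f ((hV k).fromSpec q) := by
      have := congrArg (fun g => g q) hfac
      simpa using this
    rw [← hx', ← hq]
    exact h1
  · intro k
    let j : Spec (CommRingCat.of (B k)) ⟶ X' := (hV k).fromSpec
    haveI : IsOpenImmersion j := (hV k).isOpenImmersion_fromSpec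
    have hfac : specMap (φ k) ≫ j' = j ≫ f := hU.SpecMap_appLE_fromSpec f (hV k) (hVU k)
    haveI := Groth.Agent.Lib.Helper49.preservesFiniteLimits_tilde (B k)
    haveI := hasLpull (specMap (φ k))
    haveI := hasLpull j
    haveI := hasLpull j'
    haveI := hasLpull (j ≫ f)
    haveI := hasLpull (specMap (φ k) ≫ j')
    obtain ⟨eT⟩ := LpullTilde.nonempty_iso (φ k)
    let e : (rD j).obj ((DCoh.Lpull f).obj E) ≅
        (DCoh.tildeD (B k)).obj ((DRing.LBaseChange (φ k).hom).obj M) :=
      ((lpullRestrictIso j).symm).app _ ≪≫ (compIso j f).app E ≪≫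
        (lpullCongr hfac.symm).app E ≪≫ ((compIso (specMap (φ k)) j').symm).app E ≪≫
        (DCoh.Lpull (specMap (φ k))).mapIso ((lpullRestrictIso j').app E ≪≫ eM.symm) ≪≫
        (eT.symm).app M
    have h1 : DCoh.IsPseudoCoherentD m ((rD j).obj ((DCoh.Lpull f).obj E)) :=
      isPseudoCoherentD_rD j m _ h
    have h2 := Groth.Agent.Lib.Helper30.RelTorRestrict.isPseudoCoherentD_of_iso m e h1
    exact (Groth.Agent.S1004.result (B k) _ m).mp h2

end Groth.Agent.Lib.Helper28.FpqcPC
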