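import Mathlib
import Groth.Agent.Lib.Helper5.LTensorCompute

/-!
# The derived tensor product with a module exists (helper28)
-/

set_option autoImplicit false
universe u
open CategoryTheory CategoryTheory.Limits AlgebraicGeometry

namespace Groth.Agent.Lib.Helper28.HasLTensorMod

attribute [local instance] HasDerivedCategory.standard

open Groth.Agent.Lib.Helper5.LTensorCompute

variable {X : Scheme.{u}}

/-- **the derived tensor product `- ⊗^L M` exists.** -/
theorem hasLTensorMod (M : X.Modules) : DCoh.HasLTensorMod M := by
  have h := Groth.Agent.Lib.Helper5.LeftDerivedRes.hasPointwiseRightKanExtension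
    DerivedCategory.Qh (HomotopyCategory.quasiIso X.Modules (ComplexShape.up ℤ))
    (DCoh.tensorModKh M) PP hres (fun s h₀ h₁ hs => hinv M s h₀ h₁ hs)
  exact (Functor.hasLeftDerivedFunctor_iff (DCoh.tensorModKh M) DerivedCategory.Qh
    (HomotopyCategory.quasiIso X.Modules (ComplexShape.up ℤ))).2 inferInstance

end Groth.Agent.Lib.Helper28.HasLTensorMod
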