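import Mathlib.Algebra.Homology.DerivedCategory.KInjective
import Mathlib.Algebra.Homology.DerivedCategory.TStructure
import Mathlib.Algebra.Homology.Factorizations.CM5a
import Mathlib.CategoryTheory.Abelian.GrothendieckCategory.EnoughInjectives

/-!
# Injective amplitude: `Ext`-vanishing iff bounded complex of injectives
-/

set_option autoImplicit false
universe w v u
open CategoryTheory CategoryTheory.Limits Category DerivedCategory

namespace Groth.Agent.Lib.Helper28.InjAmp

variable {C : Type u} [Category.{v} C] [Abelian C]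

/-- chain map from a single object complex given by a cycle in degree `0`. -/
noncomputable def fromSingle (K : CochainComplex C ℤ) (F : C) (f : F ⟶ K.X 0)
    (hf : f ≫ K.d 0 1 = 0) :
    (HomologicalComplex.single C (ComplexShape.up ℤ) 0).obj F ⟶ K :=
  HomologicalComplex.mkHomFromSingle f (fun k hk => by
    obtain rfl : k = 1 := by simpa using hk.symm
    exact hf)

lemma fromSingle_f (K : CochainComplex C ℤ) (F : C) (f : F ⟶ K.X 0)
    (hf : f ≫ K.d 0 1 = 0) :
    (fromSingle K F f hf).f 0 = (HomologicalComplex.singleObjXSelf (ComplexShape.up ℤ) 0 F).hom ≫ f :=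
  HomologicalComplex.mkHomFromSingle_f _ _

/-- the map induced on `H⁰` by a map which is an epimorphism on cycles is an epimorphism. -/
lemma epi_homologyMap_fromSingle (K : CochainComplex C ℤ) :
    Epi (HomologicalComplex.homologyMap (fromSingle K (K.cycles 0) (K.iCycles 0) (by simp)) 0) := by
  have h1 : HomologicalComplex.cyclesMap (fromSingle K (K.cycles 0) (K.iCycles 0) (by simp)) 0 =
      ((HomologicalComplex.single C (ComplexShape.up ℤ) 0).obj (K.cycles 0)).iCycles 0 ≫
        (HomologicalComplex.singleObjXSelf (ComplexShape.up ℤ) 0 (K.cycles 0)).hom := by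
    rw [← cancel_mono (K.iCycles 0), HomologicalComplex.cyclesMap_i, assoc, fromSingle_f]
  haveI : IsIso (((HomologicalComplex.single C (ComplexShape.up ℤ) 0).obj (K.cycles 0)).iCycles 0) :=
    HomologicalComplex.isIso_iCycles _ 0 1 (by simp) (by simp)
  haveI : IsIso (HomologicalComplex.cyclesMap
      (fromSingle K (K.cycles 0) (K.iCycles 0) (by simp)) 0) := by
    rw [h1]; infer_instance
  have h2 := HomologicalComplex.homologyπ_naturality
    (fromSingle K (K.cycles 0) (K.iCycles 0) (by simp)) 0
  haveI : Epi (((HomologicalComplex.single C (ComplexShape.up ℤ) 0).obj (K.cycles 0)).homologyπ 0 ≫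
      HomologicalComplex.homologyMap (fromSingle K (K.cycles 0) (K.iCycles 0) (by simp)) 0) := by
    rw [h2]; infer_instance
  exact epi_of_epi
    (((HomologicalComplex.single C (ComplexShape.up ℤ) 0).obj (K.cycles 0)).homologyπ 0) _

end Groth.Agent.Lib.Helper28.InjAmp

namespace Groth.Agent.Lib.Helper28.InjAmp

variable {C : Type u} [Category.{v} C] [Abelian C] [HasDerivedCategory.{w} C]

/-- if every morphism from an object of `C` (in degree 0) to `Y` vanishes, then `H⁰(Y) = 0`. -/
lemma isZero_homology_zero (Y : DerivedCategory C)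
    (h : ∀ (F : C) (φ : (DerivedCategory.singleFunctor C 0).obj F ⟶ Y), φ = 0) :
    IsZero ((homologyFunctor C 0).obj Y) := by
  obtain ⟨K, ⟨e⟩⟩ : ∃ K : CochainComplex C ℤ, Nonempty (Q.obj K ≅ Y) :=
    ⟨_, ⟨Q.objObjPreimageIso Y⟩⟩
  have h0 : Q.map (fromSingle K (K.cycles 0) (K.iCycles 0) (by simp)) = 0 := by
    have := h (K.cycles 0) (show (DerivedCategory.singleFunctor C 0).obj (K.cycles 0) ⟶ Y from
      Q.map (fromSingle K (K.cycles 0) (K.iCycles 0) (by simp)) ≫ e.hom)
    rw [← cancel_mono e.hom, zero_comp]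
    exact this
  have h1 : HomologicalComplex.homologyMap
      (fromSingle K (K.cycles 0) (K.iCycles 0) (by simp)) 0 = 0 := by
    have := (homologyFunctorFactors C 0).hom.naturality
      (fromSingle K (K.cycles 0) (K.iCycles 0) (by simp))
    rw [Functor.comp_map, h0, Functor.map_zero, zero_comp] at this
    exact (cancel_epi ((homologyFunctorFactors C 0).hom.app _)).1 (this.symm.trans comp_zero.symm)
  have h2 : IsZero (K.homology 0) := by
    haveI := epi_homologyMap_fromSingle K
    rw [IsZero.iff_id_eq_zero, ← cancel_epi (HomologicalComplex.homologyMap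
      (fromSingle K (K.cycles 0) (K.iCycles 0) _) 0), h1, zero_comp, zero_comp]
  exact IsZero.of_iso h2 ((homologyFunctor C 0).mapIso e.symm ≪≫ (homologyFunctorFactors C 0).app K)

/-- if every morphism from an object of `C` (in degree 0) to `X⟦i⟧` vanishes, then `Hⁱ(X) = 0`. -/
lemma isZero_homology (X : DerivedCategory C) (i : ℤ)
    (h : ∀ (F : C) (φ : (DerivedCategory.singleFunctor C 0).obj F ⟶
      (shiftFunctor (DerivedCategory C) i).obj X), φ = 0) :
    IsZero ((homologyFunctor C i).obj X) :=
  IsZero.of_iso (isZero_homology_zero _ h)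
    (((homologyFunctor C 0).shiftIso i 0 i (by simp)).app X).symm

end Groth.Agent.Lib.Helper28.InjAmp

namespace Groth.Agent.Lib.Helper28.InjAmp

open CochainComplex HomComplex

variable {C : Type u} [Category.{v} C] [Abelian C] [HasDerivedCategory.{w} C]

/-- a chain map to a K-injective complex which vanishes in the derived category is zero in the
homotopy category. -/
lemma quotient_map_eq_zero_of_Q_map_eq_zero {K L : CochainComplex C ℤ} [L.IsKInjective]
    (ψ : K ⟶ L) (h : Q.map ψ = 0) :
    (HomotopyCategory.quotient C (ComplexShape.up ℤ)).map ψ = 0 := by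
  apply (IsKInjective.Qh_map_bijective ((HomotopyCategory.quotient C (ComplexShape.up ℤ)).obj K)
    L).injective
  rw [Functor.map_zero]
  have := quotientCompQhIso_hom_naturality ψ
  rw [h, comp_zero] at this
  rw [← cancel_mono ((quotientCompQhIso C).hom.app L), this, zero_comp]

/-- the cocycle of degree `n` from `F[0]` to `J` given by `f : F ⟶ J.X n` with `f ≫ d = 0`. -/
noncomputable def singleCocycle (J : CochainComplex C ℤ) (F : C) (n n' : ℤ) (hn' : n + 1 = n')
    (f : F ⟶ J.X n) (hf : f ≫ J.d n n' = 0) :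
    Cocycle ((HomologicalComplex.single C (ComplexShape.up ℤ) 0).obj F) J n :=
  Cocycle.mk (Cochain.single (p := 0) (q := n)
    ((HomologicalComplex.singleObjXSelf (ComplexShape.up ℤ) 0 F).hom ≫ f) n) n' hn' (by
    ext p q hpq
    rw [δ_v n n' hn' _ p q hpq (q - 1) (p + 1) rfl rfl, Cochain.zero_v,
      HomologicalComplex.single_obj_d, zero_comp, smul_zero, add_zero]
    by_cases hp : p = 0
    · subst hp
      obtain rfl : n' = q := by omega
      obtain rfl : n = n' - 1 := by omega
      rw [Cochain.single_v, assoc, hf, comp_zero]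
    · rw [Cochain.single_v_eq_zero _ _ _ _ _ hp, zero_comp])

end Groth.Agent.Lib.Helper28.InjAmp

namespace Groth.Agent.Lib.Helper28.InjAmp

open CochainComplex HomComplex

variable {C : Type u} [Category.{v} C] [Abelian C] [HasDerivedCategory.{w} C]

/-- If `J` is K-injective with `Q J ≅ X` and all maps `F[0] ⟶ X⟦n⟧` vanish, every
`f : F ⟶ J.X n` with `f ≫ d = 0` factors through `d`. -/
lemma exists_lift_of_vanishing (X : DerivedCategory C) (J : CochainComplex C ℤ) [J.IsKInjective]
    (e : Q.obj J ≅ X) (n : ℤ)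
    (h : ∀ (F : C) (φ : (DerivedCategory.singleFunctor C 0).obj F ⟶
      (CategoryTheory.shiftFunctor (DerivedCategory C) n).obj X), φ = 0)
    (F : C) (f : F ⟶ J.X n) (m : ℤ) (hm : m + 1 = n) (n' : ℤ) (hn' : n + 1 = n')
    (hf : f ≫ J.d n n' = 0) :
    ∃ g : F ⟶ J.X m, g ≫ J.d m n = f := by
  let z := singleCocycle J F n n' hn' f hf
  let ψ : (HomologicalComplex.single C (ComplexShape.up ℤ) 0).obj F ⟶ J⟦n⟧ :=
    Cocycle.equivHomShift.symm z
  have h0 : Q.map ψ = 0 := by
    have := h F (show (DerivedCategory.singleFunctor C 0).obj F ⟶ _ from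
      Q.map ψ ≫ (Q.commShiftIso n).hom.app J ≫ (CategoryTheory.shiftFunctor (DerivedCategory C) n).map e.hom)
    rw [← cancel_mono ((Q.commShiftIso n).hom.app J ≫
      (CategoryTheory.shiftFunctor (DerivedCategory C) n).map e.hom), zero_comp]
    exact this
  have h1 : CohomologyClass.toHom (CohomologyClass.mk z) = 0 := by
    rw [CohomologyClass.toHom_mk]
    exact quotient_map_eq_zero_of_Q_map_eq_zero ψ h0
  rw [CohomologyClass.toHom_mk_eq_zero_iff, mem_coboundaries_iff z m hm] at h1
  obtain ⟨β, hβ⟩ := h1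
  refine ⟨(HomologicalComplex.singleObjXSelf (ComplexShape.up ℤ) 0 F).inv ≫
    β.v 0 m (by omega), ?_⟩
  have h2 := congr_arg (fun γ : Cochain _ _ n => γ.v 0 n (by omega)) hβ
  rw [δ_v m n hm β 0 n (by omega) m 1 (by omega) (by omega), HomologicalComplex.single_obj_d,
    zero_comp, smul_zero, add_zero] at h2
  rw [assoc, h2]
  change _ ≫ (Cochain.single _ n).v 0 n _ = _
  rw [Cochain.single_v, Iso.inv_hom_id_assoc]

end Groth.Agent.Lib.Helper28.InjAmp

namespace Groth.Agent.Lib.Helper28.InjAmp

variable {C : Type u} [Category.{v} C] [Abelian C]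

/-- if the inclusion of the `(b+1)`-cycles lifts along `d`, the `b`-cycles are a retract of
`J.X b`. -/
lemma injective_cycles (J : CochainComplex C ℤ) (b b' : ℤ) (hb' : b + 1 = b') [Injective (J.X b)]
    (g : J.cycles b' ⟶ J.X b) (hg : g ≫ J.d b b' = J.iCycles b') : Injective (J.cycles b) := by
  have h0 : J.iCycles b ≫ J.toCycles b b' = 0 := by
    rw [← cancel_mono (J.iCycles b'), assoc, HomologicalComplex.toCycles_i,
      HomologicalComplex.iCycles_d, zero_comp]
  have hp : (𝟙 (J.X b) - J.toCycles b b' ≫ g) ≫ J.d b b' = 0 := by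
    rw [Preadditive.sub_comp, id_comp, assoc, hg, HomologicalComplex.toCycles_i, sub_self]
  refine Retract.injective (Y := J.X b)
    { i := J.iCycles b
      r := J.liftCycles (𝟙 (J.X b) - J.toCycles b b' ≫ g) b' (by simp [← hb']) hp
      retract := ?_ }
  rw [← cancel_mono (J.iCycles b), assoc, HomologicalComplex.liftCycles_i, Preadditive.comp_sub,
    comp_id, reassoc_of% h0, zero_comp, sub_zero, id_comp]

end Groth.Agent.Lib.Helper28.InjAmp

namespace Groth.Agent.Lib.Helper28.InjAmp

open CochainComplex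

variable {C : Type u} [Category.{v} C] [Abelian C] [HasDerivedCategory.{w} C]

/-- `Ext`-vanishing outside `[a, b]` gives a complex of injectives placed in `[a, b]`. -/
theorem exists_bounded_injective [EnoughInjectives C] (X : DerivedCategory C) (a b : ℤ)
    (hab : a ≤ b)
    (h : ∀ (F : C) (i : ℤ), (i < a ∨ b < i) →
      ∀ φ : (DerivedCategory.singleFunctor C 0).obj F ⟶
        (CategoryTheory.shiftFunctor (DerivedCategory C) i).obj X, φ = 0) :
    ∃ I : CochainComplex C ℤ, (∀ i, Injective (I.X i)) ∧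
      (∀ i, (i < a ∨ b < i) → IsZero (I.X i)) ∧ Nonempty (Q.obj I ≅ X) := by
  haveI hGE : X.IsGE a := (isGE_iff X a).2 (fun i hi =>
    isZero_homology X i (fun F φ => h F i (Or.inl hi) φ))
  haveI hLE : X.IsLE b := (isLE_iff X b).2 (fun i hi =>
    isZero_homology X i (fun F φ => h F i (Or.inr hi) φ))
  obtain ⟨K, hK1, hK2, ⟨e⟩⟩ := X.exists_iso_Q_obj_of_isGE_of_isLE a b
  obtain ⟨J, i, hi, hJ, hJ'⟩ := CochainComplex.Plus.modelCategoryQuillen.exists_quasiIso_injective K a
  haveI : J.IsKInjective := isKInjective_of_injective J a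
  haveI : IsIso (Q.map i) := by rw [isIso_Q_map_iff_quasiIso]; exact hi
  let eJ : Q.obj J ≅ X := (asIso (Q.map i)).symm ≪≫ e.symm
  haveI : (Q.obj J).IsLE b := TStructure.t.isLE_of_iso eJ.symm b
  haveI : J.IsLE b := (isLE_Q_obj_iff J b).1 inferInstance
  obtain ⟨g, hg⟩ := exists_lift_of_vanishing X J eJ (b + 1)
    (fun F φ => h F (b + 1) (Or.inr (by omega)) φ) (J.cycles (b + 1)) (J.iCycles (b + 1)) b rfl
    (b + 1 + 1) rfl (HomologicalComplex.iCycles_d _ _ _)
  haveI : Injective (J.cycles b) := injective_cycles J b (b + 1) rfl g hg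
  haveI : QuasiIso (J.ιTruncLE b) := (quasiIso_ιTruncLE_iff J b).2 inferInstance
  haveI : IsIso (Q.map (J.ιTruncLE b)) := by rw [isIso_Q_map_iff_quasiIso]; infer_instance
  refine ⟨J.truncLE b, fun n => ?_, fun n hn => ?_, ⟨asIso (Q.map (J.ιTruncLE b)) ≪≫ eJ⟩⟩
  · obtain hn | rfl | hn := lt_trichotomy n b
    · exact Injective.of_iso (J.truncLEXIso b n hn).symm inferInstance
    · exact Injective.of_iso (J.truncLEXIsoCycles n).symm inferInstance
    · exact ((J.truncLE b).isZero_of_isStrictlyLE b n hn).injective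
  · obtain hn | hn := hn
    · exact IsZero.of_iso (J.isZero_of_isStrictlyGE a n hn) (J.truncLEXIso b n (by omega))
    · exact (J.truncLE b).isZero_of_isStrictlyLE b n hn

end Groth.Agent.Lib.Helper28.InjAmp

namespace Groth.Agent.Lib.Helper28.InjAmp

open CochainComplex

variable {C : Type u} [Category.{v} C] [Abelian C] [HasDerivedCategory.{w} C]

/-- a complex of injectives placed in `[a, b]` has `Ext`-vanishing outside `[a, b]`. -/
theorem vanishing_of_bounded_injective (X : DerivedCategory C) (a b : ℤ)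
    (I : CochainComplex C ℤ) (hI : ∀ i, Injective (I.X i))
    (hz : ∀ i, (i < a ∨ b < i) → IsZero (I.X i)) (e : Q.obj I ≅ X) (F : C) (i : ℤ)
    (hi : i < a ∨ b < i)
    (φ : (DerivedCategory.singleFunctor C 0).obj F ⟶
      (CategoryTheory.shiftFunctor (DerivedCategory C) i).obj X) : φ = 0 := by
  haveI : I.IsStrictlyGE a := (isStrictlyGE_iff I a).2 (fun j hj => hz j (Or.inl hj))
  haveI : I.IsKInjective := isKInjective_of_injective I a
  let S := (HomologicalComplex.single C (ComplexShape.up ℤ) 0).obj F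
  let φ' : Q.obj S ⟶ Q.obj (I⟦i⟧) :=
    φ ≫ (CategoryTheory.shiftFunctor (DerivedCategory C) i).map e.inv ≫
      (Q.commShiftIso i).inv.app I
  have hφ : φ = φ' ≫ (Q.commShiftIso i).hom.app I ≫
      (CategoryTheory.shiftFunctor (DerivedCategory C) i).map e.hom := by
    simp only [φ', assoc, Iso.inv_hom_id_app_assoc, ← Functor.map_comp, Iso.inv_hom_id,
      CategoryTheory.Functor.map_id, comp_id]
  obtain ⟨g, hg⟩ := (IsKInjective.Qh_map_bijective
    ((HomotopyCategory.quotient C (ComplexShape.up ℤ)).obj S) (I⟦i⟧)).surjective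
      ((quotientCompQhIso C).hom.app S ≫ φ' ≫ (quotientCompQhIso C).inv.app _)
  obtain ⟨ψ, rfl⟩ := (HomotopyCategory.quotient C (ComplexShape.up ℤ)).map_surjective g
  have hψ : ψ = 0 := by
    apply HomologicalComplex.from_single_hom_ext
    have hz' : IsZero ((I⟦i⟧).X 0) := hz (0 + i) (by omega)
    exact hz'.eq_of_tgt _ _
  rw [hψ, Functor.map_zero, Functor.map_zero] at hg
  have h0 : φ' = 0 := by
    rw [← cancel_epi ((quotientCompQhIso C).hom.app S),
      ← cancel_mono ((quotientCompQhIso C).inv.app (I⟦i⟧)), assoc, ← hg, comp_zero, zero_comp]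
  rw [hφ, h0]
  exact zero_comp

end Groth.Agent.Lib.Helper28.InjAmp
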