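import Groth.Agent.Lib.Helper28.TensCx4

/-!
# Tensor products of complexes of modules: K-flat complexes preserve quasi-isomorphisms
-/

set_option autoImplicit false
universe u
open CategoryTheory CategoryTheory.Limits Category MonoidalCategory

namespace Groth.Agent.Lib.Helper28.TensCx

variable {R : Type u} [CommRing R]

/-- the short complex `S ⊗ K`. -/
noncomputable def whiskerRightShortComplex (S : ShortComplex (DRing.Cx R)) (K : DRing.Cx R) :
    ShortComplex (DRing.Cx R) :=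
  ShortComplex.mk (S.f ▷ K) (S.g ▷ K) (by
    rw [← MonoidalCategory.comp_whiskerRight, S.zero, zero_whiskerRight])

/-- tensoring on the right with `K` preserves the short exact sequences of complexes for which
injectivity is preserved termwise. -/
theorem shortExact_whiskerRight' (S : ShortComplex (DRing.Cx R)) (K : DRing.Cx R)
    (hS : S.ShortExact)
    (hinj : ∀ p q : ℤ, Function.Injective (S.f.f p ▷ K.X q).hom) :
    (whiskerRightShortComplex S K).ShortExact := by
  have hS' := (HomologicalComplex.shortExact_iff_degreewise_shortExact S).1 hS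
  apply HomologicalComplex.shortExact_of_degreewise_shortExact
  intro n
  apply ModuleCat.shortComplex_shortExact
  · refine IsDiag.exact (isDiag_whiskerRight S.f K n) (isDiag_whiskerRight S.g K n)
      (fun p q _ => ?_)
    rw [ModuleCat.hom_whiskerRight, ModuleCat.hom_whiskerRight]
    exact rTensor_exact (K.X q)
      ((ShortComplex.ShortExact.moduleCat_exact_iff_function_exact _).1 (hS' p).exact)
      (hS' p).moduleCat_surjective_g
  · exact IsDiag.injective (isDiag_whiskerRight S.f K n) (fun p q _ => hinj p q)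
  · refine IsDiag.surjective (isDiag_whiskerRight S.g K n) (fun p q _ => ?_)
    rw [ModuleCat.hom_whiskerRight]
    exact LinearMap.rTensor_surjective (K.X q) (hS' p).moduleCat_surjective_g

/-- tensoring on the right with `K` preserves short exact sequences with degreewise
retractions. -/
theorem shortExact_whiskerRight_of_retraction (S : ShortComplex (DRing.Cx R)) (K : DRing.Cx R)
    (hS : S.ShortExact) (r : ∀ p, S.X₂.X p ⟶ S.X₁.X p) (hr : ∀ p, S.f.f p ≫ r p = 𝟙 _) :
    (whiskerRightShortComplex S K).ShortExact := by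
  refine shortExact_whiskerRight' S K hS (fun p q => ?_)
  have h : (S.f.f p ▷ K.X q) ≫ (r p ▷ K.X q) = 𝟙 _ := by
    rw [← MonoidalCategory.comp_whiskerRight, hr, MonoidalCategory.id_whiskerRight]
  intro x y hxy
  have := congr_arg (r p ▷ K.X q).hom hxy
  change ((S.f.f p ▷ K.X q) ≫ (r p ▷ K.X q)).hom x =
    ((S.f.f p ▷ K.X q) ≫ (r p ▷ K.X q)).hom y at this
  rw [h] at this
  exact this

end Groth.Agent.Lib.Helper28.TensCx

namespace Groth.Agent.Lib.Helper28.TensCx

variable {R : Type u} [CommRing R]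

section Cyl

open CochainComplex

/-- the mapping cylinder of `η : M ⟶ Q`, as `cone(𝟙 M) ⊞ Q`. -/
noncomputable abbrev cylZ (M Q : DRing.Cx R) : DRing.Cx R := (mappingCone (𝟙 M) : DRing.Cx R) ⊞ Q

variable {M Q : DRing.Cx R} (η : M ⟶ Q)

/-- the inclusion `M ⟶ cone(𝟙 M) ⊞ Q`. -/
noncomputable def cylI : M ⟶ cylZ M Q := biprod.lift (mappingCone.inr (𝟙 M)) η

lemma cylI_snd : cylI η ≫ (biprod.snd : cylZ M Q ⟶ Q) = η := biprod.lift_snd _ _

/-- the cokernel of `cylI η` (homotopy equivalent to the cone of `η`). -/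
noncomputable def cylC : DRing.Cx R := cokernel (cylI η)

variable (M Q) in
/-- the split short exact sequence `cone(𝟙 M) ⟶ cone(𝟙 M) ⊞ Q ⟶ Q`. -/
noncomputable def cylS₁ : ShortComplex (DRing.Cx R) :=
  ShortComplex.mk (biprod.inl : (mappingCone (𝟙 M) : DRing.Cx R) ⟶ cylZ M Q)
    (biprod.snd : cylZ M Q ⟶ Q) (by simp)

variable (M Q) in
lemma cylS₁_shortExact : (cylS₁ M Q).ShortExact :=
  (ShortComplex.Splitting.ofHasBinaryBiproduct (mappingCone (𝟙 M) : DRing.Cx R) Q).shortExact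

variable (M Q) in
/-- the degreewise retraction of `cylS₁`. -/
noncomputable def cylR₁ (q : ℤ) : (cylS₁ M Q).X₂.X q ⟶ (cylS₁ M Q).X₁.X q :=
  (biprod.fst : cylZ M Q ⟶ (mappingCone (𝟙 M) : DRing.Cx R)).f q

variable (M Q) in
lemma cylS₁_f_cylR₁ (q : ℤ) : (cylS₁ M Q).f.f q ≫ cylR₁ M Q q = 𝟙 _ := by
  change (biprod.inl : (mappingCone (𝟙 M) : DRing.Cx R) ⟶ cylZ M Q).f q ≫
    (biprod.fst : cylZ M Q ⟶ (mappingCone (𝟙 M) : DRing.Cx R)).f q = 𝟙 _
  rw [← HomologicalComplex.comp_f, biprod.inl_fst]; rfl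

variable (M Q) in
/-- the degreewise retraction of `cylI`. -/
noncomputable def cylR₂ (q : ℤ) : (cylZ M Q).X q ⟶ M.X q :=
  (biprod.fst : cylZ M Q ⟶ (mappingCone (𝟙 M) : DRing.Cx R)).f q ≫
    (mappingCone.snd (𝟙 M)).v q q (add_zero q)

lemma cylI_f_cylR₂ (q : ℤ) : (cylI η).f q ≫ cylR₂ M Q q = 𝟙 _ := by
  dsimp only [cylR₂, cylI]
  rw [← assoc, ← HomologicalComplex.comp_f, biprod.lift_fst, mappingCone.inr_f_snd_v]

instance (q : ℤ) : Mono ((cylI η).f q) := mono_of_mono_fac (cylI_f_cylR₂ η q)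

instance : Mono (cylI η) := HomologicalComplex.mono_of_mono_f _ inferInstance

/-- the short exact sequence `M ⟶ cone(𝟙 M) ⊞ Q ⟶ cylC η`. -/
noncomputable def cylS₂ : ShortComplex (DRing.Cx R) :=
  ShortComplex.mk (cylI η) (cokernel.π (cylI η)) (cokernel.condition (cylI η))

lemma cylS₂_shortExact : (cylS₂ η).ShortExact :=
  { exact := ShortComplex.exact_cokernel (cylI η)
    mono_f := inferInstanceAs (Mono (cylI η))
    epi_g := inferInstanceAs (Epi (cokernel.π (cylI η))) }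

lemma acyclic_cone_id (M : DRing.Cx R) : (mappingCone (𝟙 M) : DRing.Cx R).Acyclic :=
  (quasiIso_iff_acyclic_mappingCone (𝟙 M)).1 inferInstance

instance quasiIso_cyl_snd : QuasiIso (biprod.snd : cylZ M Q ⟶ Q) :=
  quasiIso_g_of_acyclic_X₁ (cylS₁_shortExact M Q) (acyclic_cone_id M)

instance quasiIso_cylI [QuasiIso η] : QuasiIso (cylI η) := by
  haveI : QuasiIso (cylI η ≫ (biprod.snd : cylZ M Q ⟶ Q)) := by rw [cylI_snd]; infer_instance
  exact quasiIso_of_comp_right (cylI η) (biprod.snd : cylZ M Q ⟶ Q)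

lemma acyclic_cylC [QuasiIso η] : (cylC η).Acyclic :=
  (cylS₂_shortExact η).acyclic_X₃ (inferInstanceAs (QuasiIso (cylI η)))

/-- `L ◁ η` is a quasi-isomorphism as soon as `L ⊗ cone(𝟙)` and `L ⊗ cylC η` are acyclic. -/
theorem quasiIso_whiskerLeft_of (L : DRing.Cx R) [QuasiIso η]
    (h₀ : (L ⊗ (mappingCone (𝟙 M) : DRing.Cx R)).Acyclic) (h' : (L ⊗ cylC η).Acyclic) :
    QuasiIso (L ◁ η) := by
  have hLS₁ := shortExact_whiskerLeft_of_retraction L (cylS₁ M Q) (cylS₁_shortExact M Q)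
    (cylR₁ M Q) (cylS₁_f_cylR₁ M Q)
  haveI : QuasiIso (L ◁ (biprod.snd : cylZ M Q ⟶ Q)) := quasiIso_g_of_acyclic_X₁ hLS₁ h₀
  have hLS₂ := shortExact_whiskerLeft_of_retraction L (cylS₂ η) (cylS₂_shortExact η)
    (cylR₂ M Q) (cylI_f_cylR₂ η)
  haveI : QuasiIso (L ◁ cylI η) := quasiIso_f_of_acyclic_X₃ hLS₂ h'
  rw [← cylI_snd η, MonoidalCategory.whiskerLeft_comp]
  infer_instance

/-- `η ▷ K` is a quasi-isomorphism as soon as `cone(𝟙) ⊗ K` and `cylC η ⊗ K` are acyclic. -/
theorem quasiIso_whiskerRight_of (K : DRing.Cx R) [QuasiIso η]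
    (h₀ : ((mappingCone (𝟙 M) : DRing.Cx R) ⊗ K).Acyclic) (h' : (cylC η ⊗ K).Acyclic) :
    QuasiIso (η ▷ K) := by
  have hLS₁ := shortExact_whiskerRight_of_retraction (cylS₁ M Q) K (cylS₁_shortExact M Q)
    (cylR₁ M Q) (cylS₁_f_cylR₁ M Q)
  haveI : QuasiIso ((biprod.snd : cylZ M Q ⟶ Q) ▷ K) := quasiIso_g_of_acyclic_X₁ hLS₁ h₀
  have hLS₂ := shortExact_whiskerRight_of_retraction (cylS₂ η) K (cylS₂_shortExact η)
    (cylR₂ M Q) (cylI_f_cylR₂ η)
  haveI : QuasiIso (cylI η ▷ K) := quasiIso_f_of_acyclic_X₃ hLS₂ h'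
  rw [← cylI_snd η, MonoidalCategory.comp_whiskerRight]
  infer_instance

/-- a K-flat complex (on the right) preserves quasi-isomorphisms. -/
theorem quasiIso_whiskerRight_of_kflat (K : DRing.Cx R) (hK : KFlat K) [QuasiIso η] :
    QuasiIso (η ▷ K) :=
  quasiIso_whiskerRight_of η K
    ((acyclic_iff _).2 (hK _ ((acyclic_iff _).1 (acyclic_cone_id M))))
    ((acyclic_iff _).2 (hK _ ((acyclic_iff _).1 (acyclic_cylC η))))

end Cyl

end Groth.Agent.Lib.Helper28.TensCx
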