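import Groth.Agent.Lib.Helper28.KFlatRes
import Groth.Agent.Lib.Helper28.TensCx5

/-!
# Factorization through a K-flat complex

For `a : K ⟶ L` with `K` K-flat, there are `b : K ⟶ N`, `c : N ⟶ L` with `N` K-flat, `c` a
quasi-isomorphism and `b ≫ c = a`; `N` has flat terms if `K` does.

Construction: `Z = cone(𝟙 K) ⊞ L` the mapping cylinder, `K ↪ Z ↠ C'` (`C'` the cokernel,
homotopy equivalent to the cone of `a`), `q : M ⟶ C'` a degreewise surjective K-flat resolution with
projective terms and `N = Z ×_{C'} M`.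
-/

set_option autoImplicit false
universe u
open CategoryTheory CategoryTheory.Limits MonoidalCategory

namespace Groth.Agent.Lib.Helper28.KFlatFact

open Groth.Agent.Lib.Helper28 Groth.Agent.Lib.Helper28.TensCx

section Abstract

variable {A : Type*} [Category A] [Abelian A]

/-- the base change of a short exact sequence `K' ⟶ Z ⟶ C'` along `q : M ⟶ C'` is a short exact
sequence `K' ⟶ Z ×_{C'} M ⟶ M`. -/
lemma shortExact_of_isPullback {N Z M C' K' : A}
    {u : N ⟶ Z} {v : N ⟶ M} {p : Z ⟶ C'} {q : M ⟶ C'} (sq : IsPullback u v p q)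
    {i : K' ⟶ Z} (hi : i ≫ p = 0) (hS : (ShortComplex.mk i p hi).ShortExact)
    (b : K' ⟶ N) (hbu : b ≫ u = i) (hbv : b ≫ v = 0) :
    (ShortComplex.mk b v hbv).ShortExact := by
  haveI : Mono i := hS.mono_f
  haveI : Epi p := hS.epi_g
  haveI : Mono b := by
    haveI : Mono (b ≫ u) := by rw [hbu]; infer_instance
    exact mono_of_mono b u
  haveI : Epi v := Abelian.epi_snd_of_isLimit p q sq.isLimit
  refine ShortComplex.ShortExact.mk' ?_ ‹_› ‹_›
  apply ShortComplex.exact_of_f_is_kernel
  have key : ∀ {W : A} (x : W ⟶ N), x ≫ v = 0 → (x ≫ u) ≫ p = 0 := fun x hx => by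
    rw [Category.assoc, sq.w, ← Category.assoc, hx, zero_comp]
  have fac : ∀ {W : A} (x : W ⟶ N) (hx : x ≫ v = 0),
      hS.exact.lift (x ≫ u) (key x hx) ≫ b = x := fun x hx => by
    apply sq.hom_ext
    · rw [Category.assoc, hbu]
      exact hS.exact.lift_f (x ≫ u) (key x hx)
    · rw [Category.assoc, hbv, comp_zero, hx]
  refine KernelFork.IsLimit.ofι _ _
    (fun {W} x hx => hS.exact.lift (x ≫ u) (key x hx)) (fun x hx => fac x hx) ?_
  intro W x hx m hm
  rw [← cancel_mono b]
  exact hm.trans (fac x hx).symm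

end Abstract

section Flat

variable {R : Type u} [CommRing R]

/-- a module with a "splitting" by flat modules is flat. -/
lemma flat_of_splitting {A B C : Type u} [AddCommGroup A] [AddCommGroup B] [AddCommGroup C]
    [Module R A] [Module R B] [Module R C] [Module.Flat R A] [Module.Flat R C]
    (f : A →ₗ[R] B) (g : B →ₗ[R] C) (r : B →ₗ[R] A) (s : C →ₗ[R] B)
    (h : f.comp r + s.comp g = LinearMap.id) : Module.Flat R B := by
  rw [Module.Flat.iff_rTensor_injectiveₛ]
  intro P _ _ Q
  have hA := (Module.Flat.iff_rTensor_injectiveₛ (R := R) (M := A)).1 inferInstance Q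
  have hC := (Module.Flat.iff_rTensor_injectiveₛ (R := R) (M := C)).1 inferInstance Q
  intro x y hxy
  have h1 : (LinearMap.lTensor Q r) x = (LinearMap.lTensor Q r) y := by
    apply hA
    have := congrArg (LinearMap.lTensor P r) hxy
    rwa [← LinearMap.comp_apply, ← LinearMap.comp_apply, LinearMap.lTensor_comp_rTensor,
      ← LinearMap.rTensor_comp_lTensor] at this
  have h2 : (LinearMap.lTensor Q g) x = (LinearMap.lTensor Q g) y := by
    apply hC
    have := congrArg (LinearMap.lTensor P g) hxy
    rwa [← LinearMap.comp_apply, ← LinearMap.comp_apply, LinearMap.lTensor_comp_rTensor,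
      ← LinearMap.rTensor_comp_lTensor] at this
  have hid : ∀ z : TensorProduct R Q B,
      z = (LinearMap.lTensor Q f) ((LinearMap.lTensor Q r) z) +
        (LinearMap.lTensor Q s) ((LinearMap.lTensor Q g) z) := by
    intro z
    rw [← LinearMap.comp_apply, ← LinearMap.comp_apply, ← LinearMap.lTensor_comp,
      ← LinearMap.lTensor_comp, ← LinearMap.add_apply, ← LinearMap.lTensor_add, h,
      LinearMap.lTensor_id, LinearMap.id_apply]
  rw [hid x, hid y, h1, h2]

end Flat

section Main

variable {R : Type u} [CommRing R]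

/-- **Factorization through a K-flat complex.** -/
theorem exists_kflat_factorization {K L : DRing.Cx R} (a : K ⟶ L) (hK : KFlat K) :
    ∃ (N : DRing.Cx R) (b : K ⟶ N) (c : N ⟶ L), KFlat N ∧ QuasiIso c ∧ b ≫ c = a ∧
      (DRing.TermwiseFlat K → DRing.TermwiseFlat N) := by
  let Z : DRing.Cx R := cylZ K L
  let i : K ⟶ Z := cylI a
  let C' : DRing.Cx R := cylC a
  let p : Z ⟶ C' := cokernel.π (cylI a)
  have hS₂ : (ShortComplex.mk i p (cokernel.condition _)).ShortExact := cylS₂_shortExact a
  obtain ⟨M, q, hM, hMproj, hq, hqs⟩ := KFlatRes.exists_kflat_resolution C'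
  let N : DRing.Cx R := pullback p q
  let u : N ⟶ Z := pullback.fst p q
  let v : N ⟶ M := pullback.snd p q
  have sq : IsPullback u v p q := IsPullback.of_hasPullback p q
  let b : K ⟶ N := pullback.lift i 0 (by rw [zero_comp]; exact cokernel.condition _)
  have hbu : b ≫ u = i := pullback.lift_fst _ _ _
  have hbv : b ≫ v = 0 := pullback.lift_snd _ _ _
  have hS₁ := shortExact_of_isPullback sq _ hS₂ b hbu hbv
  haveI : Epi q := by
    haveI : ∀ n, Epi (q.f n) := fun n => (ModuleCat.epi_iff_surjective _).2 (hqs n)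
    exact HomologicalComplex.epi_of_epi_f _ inferInstance
  let k : kernel q ⟶ M := kernel.ι q
  have hSq : (ShortComplex.mk k q (kernel.condition q)).ShortExact :=
    { exact := ShortComplex.exact_kernel q
      mono_f := inferInstanceAs (Mono (kernel.ι q))
      epi_g := ‹Epi q› }
  have hker : (kernel q).Acyclic := hSq.acyclic_X₁ hq
  let b' : kernel q ⟶ N := pullback.lift 0 k (by rw [zero_comp]; exact (kernel.condition q).symm)
  have hb'u : b' ≫ u = 0 := pullback.lift_fst _ _ _
  have hb'v : b' ≫ v = k := pullback.lift_snd _ _ _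
  have hS₃ := shortExact_of_isPullback sq.flip _ hSq b' hb'v hb'u
  haveI : QuasiIso u := quasiIso_g_of_acyclic_X₁ hS₃ hker
  have hMflat : ∀ n, Module.Flat R (M.X n) := fun n => by
    haveI := hMproj n
    exact flat_of_projective (M.X n)
  refine ⟨N, b, u ≫ (biprod.snd : Z ⟶ L), ?_, inferInstance, ?_, ?_⟩
  · exact (kflat_two_out_of_three _ hS₁ hMflat).2.1 hK hM
  · rw [← Category.assoc, hbu]
    exact cylI_snd a
  · intro hKf n
    have hS₁' := (HomologicalComplex.shortExact_iff_degreewise_shortExact _).1 hS₁ n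
    haveI : Projective ((ShortComplex.mk b v hbv).map
        (HomologicalComplex.eval (ModuleCat.{u} R) (ComplexShape.up ℤ) n)).X₃ := hMproj n
    let σ := hS₁'.splittingOfProjective
    haveI : Module.Flat R (K.X n) := hKf n
    haveI : Module.Flat R (M.X n) := hMflat n
    refine flat_of_splitting (R := R) (A := K.X n) (B := N.X n) (C := M.X n)
      (b.f n).hom (v.f n).hom σ.r.hom σ.s.hom ?_
    have h := congrArg ModuleCat.Hom.hom σ.id
    exact h

end Main

end Groth.Agent.Lib.Helper28.KFlatFact
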