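import Groth.Agent.Lib.Helper32.KProjRes

/-!
# K-injective / K-projective resolutions with injective / projective terms

(Extension of helper32's Spaltenstein resolutions: the resolution constructed there has
injective terms; dually, projective terms.)
-/

set_option autoImplicit false
universe v u
open CategoryTheory CategoryTheory.Limits CochainComplex HomComplex Opposite

namespace Groth.Agent.Lib.Helper28.KProjRes2

open Groth.Agent.Lib.Helper32 Groth.Agent.Lib.Helper32.KInjTower

section Abstract

variable {C : Type*} [Category C] [Preadditive C]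

/-- a tower limit of injective objects along split epimorphisms is injective. -/
lemma injective_of_isTowerLimit {X : ℕ → C} {p : ∀ n, X (n + 1) ⟶ X n} {T : C}
    {π : ∀ n, T ⟶ X n} (h : IsTowerLimit X p T π) (σ : ∀ n, X n ⟶ X (n + 1))
    (hσ : ∀ n, σ n ≫ p n = 𝟙 _) (hX : ∀ n, Injective (X n)) : Injective T := by
  constructor
  intro Y Z g f hf
  let step : ∀ n, {G : Z ⟶ X n // f ≫ G = g ≫ π n} → {G : Z ⟶ X (n + 1) // f ≫ G = g ≫ π (n + 1)} :=
    fun n G => ⟨Injective.factorThru (g ≫ π (n + 1)) f -
      (Injective.factorThru (g ≫ π (n + 1)) f ≫ p n - G.1) ≫ σ n, by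
        rw [Preadditive.comp_sub, Injective.comp_factorThru, ← Category.assoc,
          Preadditive.comp_sub, ← Category.assoc, Injective.comp_factorThru, G.2, Category.assoc,
          h.w n, sub_self, zero_comp, sub_zero]⟩
  let G : ∀ n, {G : Z ⟶ X n // f ≫ G = g ≫ π n} := fun n =>
    Nat.rec ⟨Injective.factorThru (g ≫ π 0) f, Injective.comp_factorThru _ _⟩ step n
  have hG : ∀ n, (G (n + 1)).1 ≫ p n = (G n).1 := by
    intro n
    change (Injective.factorThru (g ≫ π (n + 1)) f -
      (Injective.factorThru (g ≫ π (n + 1)) f ≫ p n - (G n).1) ≫ σ n) ≫ p n = (G n).1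
    rw [Preadditive.sub_comp, Category.assoc, hσ, Category.comp_id]
    abel
  obtain ⟨l, hl⟩ := h.exists_lift (fun n => (G n).1) hG
  refine ⟨l, h.hom_ext _ _ (fun n => ?_)⟩
  rw [Category.assoc, hl n, (G n).2]

end Abstract

section Main

variable {A : Type u} [Category.{v} A] [Abelian A] [EnoughInjectives A]
variable (K : CochainComplex A ℤ)

/-- **Spaltenstein**, with injective terms. -/
theorem exists_kInjective_resolution_termwise [HasLimitsOfShape (Discrete ℕ) A]
    [HasExactLimitsOfShape (Discrete ℕ) A] :
    ∃ (I : CochainComplex A ℤ) (f : K ⟶ I), I.IsKInjective ∧ QuasiIso f ∧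
      ∀ j, Injective (I.X j) := by
  let X : ℕ → CochainComplex A ℤ := fun n => (stage K n).I
  let p : ∀ n, X (n + 1) ⟶ X n := fun n => (step K n).p
  let φ : ∀ n, K ⟶ X n := fun n => (stage K n).φ
  have hφ : ∀ n, φ (n + 1) ≫ p n = φ n := fun n => (step K n).comm
  let σ : ∀ (n : ℕ) (j : ℤ), (X n).X j ⟶ (X (n + 1)).X j := fun n j => (step K n).σ j
  have hσ : ∀ (n : ℕ) (j : ℤ), σ n j ≫ (p n).f j = 𝟙 _ := fun n j => (step K n).hσ j
  haveI : ∀ n, (X n).IsKInjective := fun n => by
    haveI := (stage K n).hGE
    haveI := (stage K n).hinj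
    exact isKInjective_of_injective _ (-(n : ℤ))
  have hTl := isTowerLimit_kernel X p
  have hTf := isTowerLimit_kernel_f X p
  obtain ⟨ψ, hψ⟩ := hTl.exists_lift φ hφ
  refine ⟨kernel (towerD X p), ψ, isKInjective_of_isTowerLimit hTl σ hσ, ?_, ?_⟩
  · apply quasiIso_of_acyclic_mappingCone
    intro q
    have hC := isTowerLimit_of_termwise (isTowerLimit_cone_f φ hφ ψ hψ hTf)
    have hiso : ∀ (n : ℕ) (j : ℤ), -(n : ℤ) ≤ j →
        IsIso (HomologicalComplex.homologyMap (φ n) j) :=
      fun n j hj => by
        have := (stage K n).hq j hj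
        rwa [quasiIsoAt_iff_isIso_homologyMap] at this
    have hex : ∀ (n : ℕ) (j : ℤ), -(n : ℤ) ≤ j → (mappingCone (φ n)).ExactAt j := fun n j hj => by
      haveI := hiso n j hj
      haveI := hiso n (j + 1) (by lia)
      exact exactAt_mappingCone (φ n) j inferInstance inferInstance
    refine exactAt_of_isTowerLimit' q (1 - q).toNat hC
      (fun n j => (mappingCone.fst (φ n)).1.v j (j + 1) rfl ≫
          (mappingCone.inl (φ (n + 1))).v (j + 1) j (by lia) +
        (mappingCone.snd (φ n)).v j j (add_zero j) ≫ σ n j ≫ (mappingCone.inr (φ (n + 1))).f j)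
      (fun n j => coneP_section φ hφ σ hσ n j)
      (fun n hn => hex n q (by lia)) (fun n hn => hex n (q - 1) (by lia))
  · intro j
    exact injective_of_isTowerLimit (hTf j) (fun n => σ n j) (fun n => hσ n j)
      (fun n => (stage K n).hinj j)

end Main

section Dual

open Groth.Agent.Lib.Helper32.KProjRes

variable {C : Type u} [Category.{v} C] [Abelian C] [EnoughProjectives C]
  [HasColimitsOfShape (Discrete ℕ) C] [HasExactColimitsOfShape (Discrete ℕ) C]
  [HasLimitsOfShape (Discrete ℕ) Cᵒᵖ]

set_option backward.isDefEq.respectTransparency.types false in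
set_option backward.defeqAttrib.useBackward true in
/-- Dual Spaltenstein with projective terms. -/
theorem exists_kProjective_resolution_termwise (K : CochainComplex C ℤ) :
    ∃ (P : CochainComplex C ℤ) (f : P ⟶ K), P.IsKProjective ∧ QuasiIso f ∧
      ∀ j, Projective (P.X j) := by
  haveI : HasExactLimitsOfShape (Discrete ℕ) Cᵒᵖ := hasExactLimitsOfShape_discrete_op ℕ
  let E := CochainComplex.opEquivalence C
  let K' := E.functor.obj (op K)
  obtain ⟨I', f', hI', hf', hinj⟩ := exists_kInjective_resolution_termwise K'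
  let P := (E.inverse.obj I').unop
  let α₀ : P ⟶ (E.inverse.obj K').unop := (E.inverse.map f').unop
  let u : (E.inverse.obj K').unop ≅ K := (E.unitIso.app (op K)).unop
  refine ⟨P, α₀ ≫ u.hom, ?_, ?_, ?_⟩
  · apply CochainComplex.isKProjective_of_op
    haveI : ((𝟭 (CochainComplex Cᵒᵖ ℤ)).obj I').IsKInjective := hI'
    exact CochainComplex.isKInjective_of_iso (E.counitIso.app I').symm
  · have h1 : QuasiIso α₀ := LeftRes.quasiIso_unop_inverse_map f'
    infer_instance
  · intro j
    haveI := hinj (-j)
    change Projective (unop (I'.X (-j)))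
    infer_instance

end Dual

section ModuleCat

variable (R : Type u) [Ring R]

theorem exists_kProjective_resolution_termwise_moduleCat
    (K : CochainComplex (ModuleCat.{u} R) ℤ) :
    ∃ (P : CochainComplex (ModuleCat.{u} R) ℤ) (f : P ⟶ K), P.IsKProjective ∧ QuasiIso f ∧
      ∀ j, Projective (P.X j) :=
  exists_kProjective_resolution_termwise K

end ModuleCat

end Groth.Agent.Lib.Helper28.KProjRes2
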