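import Groth.Prelude.Def_KZero2
import Mathlib.CategoryTheory.Limits.Shapes.Products
import Mathlib.CategoryTheory.Limits.Preserves.Shapes.Products
import Mathlib.CategoryTheory.Adjunction.Limits

/-! Basic facts on K₀ of a pretriangulated category (helper28). -/

set_option autoImplicit false
universe v u
open CategoryTheory CategoryTheory.Limits CategoryTheory.Pretriangulated ZeroObject

namespace Groth.Agent.Lib.Helper28

variable {C : Type u} [Category.{v} C] [Preadditive C] [HasZeroObject C]
    [HasShift C ℤ] [∀ n : ℤ, (shiftFunctor C n).Additive] [Pretriangulated C]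

theorem clTri_triangle (T : Triangle C) (hT : T ∈ distinguishedTriangles) :
    KZero.clTri T.obj₂ = KZero.clTri T.obj₁ + KZero.clTri T.obj₃ := by
  have h : FreeAbelianGroup.of (⟨T.obj₂, trivial⟩ : Subtype (⊤ : ObjectProperty C)) -
      FreeAbelianGroup.of ⟨T.obj₁, trivial⟩ - FreeAbelianGroup.of ⟨T.obj₃, trivial⟩ ∈
      KZero.relTr (⊤ : ObjectProperty C) :=
    AddSubgroup.subset_closure ⟨T, trivial, trivial, trivial, hT, rfl⟩
  have h2 := (QuotientAddGroup.eq_zero_iff _).mpr h
  simp only [QuotientAddGroup.mk_sub] at h2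
  unfold KZero.clTri
  rw [sub_sub, sub_eq_zero] at h2
  exact h2

theorem clTri_zero_obj : KZero.clTri (0 : C) = 0 := by
  have h := clTri_triangle _ (contractible_distinguished (0 : C))
  simpa using h

theorem clTri_of_isZero (Z : C) (hZ : IsZero Z) : KZero.clTri Z = 0 := by
  have h := clTri_triangle _ (contractible_distinguished Z)
  have hT : Triangle.mk (𝟙 Z) (𝟙 Z) (0 : Z ⟶ Z⟦(1 : ℤ)⟧) ∈ distTriang C := by
    refine isomorphic_distinguished _ (contractible_distinguished Z) _ ?_
    refine Triangle.isoMk _ _ (Iso.refl _) (Iso.refl _) (hZ.iso (isZero_zero C)) ?_ ?_ ?_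
    · exact hZ.eq_of_tgt _ _
    · exact (isZero_zero C).eq_of_tgt _ _
    · exact (Functor.map_isZero _ hZ).eq_of_tgt _ _
  have h2 := clTri_triangle _ hT
  simpa using h2

theorem clTri_of_iso {X Y : C} (e : X ≅ Y) : KZero.clTri X = KZero.clTri Y := by
  obtain ⟨Z, g, h, hT⟩ := distinguished_cocone_triangle e.hom
  have hZ : IsZero Z := (Triangle.isZero₃_iff_isIso₁ _ hT).mpr (by change IsIso e.hom; infer_instance)
  have := clTri_triangle _ hT
  change KZero.clTri Y = KZero.clTri X + KZero.clTri Z at this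
  rw [this, clTri_of_isZero Z hZ, add_zero]

theorem clTri_biprod (X Y : C) : KZero.clTri (X ⊞ Y) = KZero.clTri X + KZero.clTri Y :=
  clTri_triangle _ (binaryBiproductTriangle_distinguished X Y)

theorem clTri_shift_one (X : C) : KZero.clTri (X⟦(1 : ℤ)⟧) = - KZero.clTri X := by
  have h := clTri_triangle _ (contractible_distinguished₂ X)
  change KZero.clTri (0 : C) = KZero.clTri X + KZero.clTri (X⟦(1 : ℤ)⟧) at h
  rw [clTri_zero_obj] at h
  exact eq_neg_of_add_eq_zero_right h.symm

theorem clTri_shift_succ (X : C) (a b : ℤ) (h : a + 1 = b) :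
    KZero.clTri (X⟦b⟧) = - KZero.clTri (X⟦a⟧) := by
  rw [← clTri_shift_one]
  exact clTri_of_iso ((shiftFunctorAdd' C a 1 b h).app X)

theorem clTri_shift_add_two (X : C) (a b : ℤ) (h : a + 2 = b) :
    KZero.clTri (X⟦b⟧) = KZero.clTri (X⟦a⟧) := by
  rw [clTri_shift_succ X (a + 1) b (by omega), clTri_shift_succ X a (a + 1) rfl, neg_neg]

theorem clTri_shift_zero (X : C) (a : ℤ) (h : a = 0) : KZero.clTri (X⟦a⟧) = KZero.clTri X :=
  clTri_of_iso ((shiftFunctorZero' C a h).app X)

theorem clTri_shift_two_mul (X : C) (n : ℤ) : KZero.clTri (X⟦2 * n⟧) = KZero.clTri X := by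
  induction n using Int.induction_on with
  | zero => exact clTri_shift_zero X _ (by simp)
  | succ i ih =>
    rw [clTri_shift_add_two X (2 * (i : ℤ)) (2 * ((i : ℤ) + 1)) (by omega)]
    exact ih
  | pred i ih =>
    rw [← clTri_shift_add_two X (2 * (-(i : ℤ) - 1)) (2 * (-(i : ℤ))) (by omega)]
    exact ih

end Groth.Agent.Lib.Helper28
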