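import Groth.Agent.Lib.Helper28.TorAmpBC
import Groth.Agent.Lib.Helper28.FlatAmpStalk
import Groth.Agent.Lib.Helper28.StalkKFlat
import Groth.Agent.Lib.Helper5.PullAcyclic
import Groth.Agent.Lib.Helper35.StalkTA
import Groth.Agent.Lib.Helper28.LpullCompute

/-!
# Tor amplitude of `Lf^* G` relative to a composite (helper28)
-/

set_option autoImplicit false
set_option linter.style.haveILetI false
universe u
open CategoryTheory CategoryTheory.Limits AlgebraicGeometry MonoidalCategory

namespace Groth.Agent.Lib.Helper28.LpullTorAmp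

attribute [local instance] HasDerivedCategory.standard

open Groth.Agent.Lib.Helper28.FlatAmpFamily Groth.Agent.Lib.Helper28.TorAmpBC
  Groth.Agent.Helper19.KFlatExt Groth.Agent.Lib.Helper35.TA Groth.Agent.Lib.Helper35.StalkTA
  Groth.Agent.Lib.Helper5.StalkTensorCx Groth.Agent.Lib.Helper5.PullTensorIso
  Groth.Agent.Lib.Helper5.PullAcyclic Groth.Agent.Lib.Helper28.LpullCompute

section Ring

variable {R S : Type u} [CommRing R] [CommRing S] (ρ : R →+* S)

/-- restriction of scalars of an isomorphism of `D(S)`, on representatives. -/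
noncomputable def resIsoD {K K' : DRing.Cx S} (e : DRing.toD K ≅ DRing.toD K') :
    DRing.toD (resCx ρ K) ≅ DRing.toD (resCx ρ K') :=
  ((ModuleCat.restrictScalars.{u} ρ).mapDerivedCategoryFactors.app K).symm ≪≫
    (DRing.restrictD ρ).mapIso e ≪≫
    (ModuleCat.restrictScalars.{u} ρ).mapDerivedCategoryFactors.app K'

end Ring

variable {X Y Z : Scheme.{u}}

/-- the complex of stalks of `O_X[0]` is the unit complex. -/
noncomputable def stalkUnitCxIso (x : X) :
    (stalkCx X x).obj (DerSch.unitCx X) ≅ 𝟙_ (DRing.Cx (X.presheaf.stalk x)) :=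
  (HomologicalComplex.singleMapHomologicalComplex (DerSch.stalkFunctor X x)
      (ComplexShape.up ℤ) 0).app (Coh.structureModule X) ≪≫
    (HomologicalComplex.single (ModuleCat.{u} (X.presheaf.stalk x)) (ComplexShape.up ℤ) 0).mapIso
      (unitStalkEquiv x).toModuleIso

/-- **tor amplitude of `Lf^* G` relative to a composite, at a point.** -/
theorem hasTorAmplitudeAt_lpull_comp (f : X ⟶ Y) (g : Y ⟶ Z) [DCoh.HasLpull f] (m : ℕ) (x : X)
    (hf : DerSch.HasTorAmplitudeAt f (-(m : ℤ)) 0 (DerSch.unitCx X) x)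
    (G : CochainComplex Y.Modules ℤ) (c d : ℤ)
    (hG : DerSch.HasTorAmplitudeAt g c d G (f.base x))
    (F' : CochainComplex X.Modules ℤ)
    (e : DCoh.toD X F' ≅ (DCoh.Lpull f).obj (DCoh.toD Y G)) :
    DerSch.HasTorAmplitudeAt (f ≫ g) (c - m) d F' x := by
  obtain ⟨P, q, hP, hq⟩ := pf_res G
  haveI := hq
  haveI : IsIso (DerivedCategory.Q.map q) := by
    rw [DerivedCategory.isIso_Q_map_iff_quasiIso]; infer_instance
  let y := f.base x
  let ψ : Z.presheaf.stalk (g.base y) →+* Y.presheaf.stalk y := (g.stalkMap y).hom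
  let φ : Y.presheaf.stalk y →+* X.presheaf.stalk x := (f.stalkMap x).hom
  let Py : DRing.Cx (Y.presheaf.stalk y) := (stalkCx Y y).obj P
  have hPy : TensCx.KFlat Py := StalkKFlat.isKFlat_stalk y P hP.1
  have hL : DRing.HasTorAmplitudeIn (Z.presheaf.stalk (g.base y)) c d
      (DRing.toD (resCx ψ Py)) :=
    TAmp.of_iso hG (mapIsoD (DerSch.stalkOver g y) (asIso (DerivedCategory.Q.map q))).symm
  have hC : DRing.HasTorAmplitudeIn (Y.presheaf.stalk y) (-(m : ℤ)) 0
      (DRing.toD (unitRes φ)) :=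
    TAmp.of_iso hf (DerivedCategory.Q.mapIso
      (((ModuleCat.restrictScalars φ).mapHomologicalComplex (ComplexShape.up ℤ)).mapIso
        (stalkUnitCxIso x)))
  have h := TAmp_res_res_ext ψ φ Py hPy (-(m : ℤ)) 0 c d hC hL
  let e1 : DCoh.toD X F' ≅ DCoh.toD X ((pullCx f).obj P) :=
    e ≪≫ (DCoh.Lpull f).mapIso (asIso (DerivedCategory.Q.map q)).symm ≪≫ lpullIso f P hP
  let e2 : DRing.toD ((stalkCx X x).obj F') ≅ DRing.toD (extCx φ Py) :=
    mapIsoD (DerSch.stalkFunctor X x) e1 ≪≫ DerivedCategory.Q.mapIso (stalkPullCxIso f x P)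
  let e3 := resIsoD ψ (resIsoD φ e2)
  let e4 : DRing.toD ((DerSch.stalkCxOver (f ≫ g) x).obj F') ≅
      DRing.toD (resCx ψ (resCx φ ((stalkCx X x).obj F'))) :=
    DerivedCategory.Q.mapIso (stalkCxOverCompIso f g x F')
  have h' := TAmp.of_iso h (e3.symm ≪≫ e4.symm)
  have hcd : (-(m : ℤ) + c = c - m) ∧ ((0 : ℤ) + d = d) := ⟨by ring, by ring⟩
  rw [hcd.1, hcd.2] at h'
  exact h'

end Groth.Agent.Lib.Helper28.LpullTorAmp
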