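import Groth.Agent.Lib.Helper28.TorAmpBC2
import Groth.Agent.Lib.Helper28.LpullTorAmp
import Groth.Agent.Lib.Helper5.LpullKFlat

/-!
# Tor amplitude of `Lf^* G ⊗^L F` relative to a composite (helper28)
-/

set_option autoImplicit false
set_option linter.style.haveILetI false
universe u
open CategoryTheory CategoryTheory.Limits AlgebraicGeometry MonoidalCategory

namespace Groth.Agent.Lib.Helper28.LpullTorAmp

attribute [local instance] HasDerivedCategory.standard

open Groth.Agent.Lib.Helper28.FlatAmpFamily Groth.Agent.Lib.Helper28.TorAmpBC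
  Groth.Agent.Helper19.KFlatExt Groth.Agent.Lib.Helper35.TA Groth.Agent.Lib.Helper35.StalkTA
  Groth.Agent.Lib.Helper5.StalkTensorCx Groth.Agent.Lib.Helper5.PullTensorIso
  Groth.Agent.Lib.Helper5.PullAcyclic Groth.Agent.Lib.Helper28.LpullCompute
  Groth.Agent.Lib.Helper5.LTensorCxCompute

variable {X Y Z : Scheme.{u}}

/-- **tor amplitude of `Lf^* G ⊗^L F` relative to a composite, at a point.** -/
theorem hasTorAmplitudeAt_ltensor_lpull_comp (f : X ⟶ Y) (g : Y ⟶ Z) [DCoh.HasLpull f] (x : X)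
    (F : CochainComplex X.Modules ℤ) [DCoh.HasLTensorCx F] (a b : ℤ)
    (hF : DerSch.HasTorAmplitudeAt f a b F x)
    (G : CochainComplex Y.Modules ℤ) (c d : ℤ)
    (hG : DerSch.HasTorAmplitudeAt g c d G (f.base x))
    (F' : CochainComplex X.Modules ℤ)
    (e : DCoh.toD X F' ≅ (DCoh.LTensorCx F).obj ((DCoh.Lpull f).obj (DCoh.toD Y G))) :
    DerSch.HasTorAmplitudeAt (f ≫ g) (a + c) (b + d) F' x := by
  obtain ⟨P, q, hP, hq⟩ := TowerFlat.exists_tf_resolution G
  haveI := hq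
  haveI : IsIso (DerivedCategory.Q.map q) := by
    rw [DerivedCategory.isIso_Q_map_iff_quasiIso]; infer_instance
  have hPF : PF P := hP.pf
  have hfP : DCoh.IsKFlat ((pullCx f).obj P) := (hP.pullback f).pf.1
  let y := f.base x
  let ψ : Z.presheaf.stalk (g.base y) →+* Y.presheaf.stalk y := (g.stalkMap y).hom
  let φ : Y.presheaf.stalk y →+* X.presheaf.stalk x := (f.stalkMap x).hom
  let Py : DRing.Cx (Y.presheaf.stalk y) := (stalkCx Y y).obj P
  let Fx : DRing.Cx (X.presheaf.stalk x) := (stalkCx X x).obj F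
  have hPy : TensCx.KFlat Py := StalkKFlat.isKFlat_stalk y P hPF.1
  have hL : DRing.HasTorAmplitudeIn (Z.presheaf.stalk (g.base y)) c d
      (DRing.toD (resCx ψ Py)) :=
    TAmp.of_iso hG (mapIsoD (DerSch.stalkOver g y) (asIso (DerivedCategory.Q.map q))).symm
  have hN : DRing.HasTorAmplitudeIn (Y.presheaf.stalk y) a b (DRing.toD (resCx φ Fx)) := hF
  have h := TAmp_res_tensor_kflat ψ (resCx φ Fx) Py hPy a b c d hN hL
  let e1 : DCoh.toD X F' ≅ DCoh.toD X ((DCoh.tensorCx.obj ((pullCx f).obj P)).obj F) :=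
    e ≪≫ (DCoh.LTensorCx F).mapIso
      ((DCoh.Lpull f).mapIso (asIso (DerivedCategory.Q.map q)).symm ≪≫ lpullIso f P hPF) ≪≫
      ltensorCxIso F ((pullCx f).obj P) hfP
  let e2 : DRing.toD ((stalkCx X x).obj F') ≅ DRing.toD (extCx φ Py ⊗ Fx) :=
    mapIsoD (DerSch.stalkFunctor X x) e1 ≪≫
      DerivedCategory.Q.mapIso (stalkTotIso X x ((pullCx f).obj P) F ≪≫
        tensorIso (stalkPullCxIso f x P) (Iso.refl Fx))
  let e3 : DRing.toD (resCx φ ((stalkCx X x).obj F')) ≅ DRing.toD (resCx φ Fx ⊗ Py) :=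
    resIsoD φ e2 ≪≫ DerivedCategory.Q.mapIso (resExtTensorIso φ Py Fx)
  let e4 : DRing.toD ((DerSch.stalkCxOver (f ≫ g) x).obj F') ≅
      DRing.toD (resCx ψ (resCx φ ((stalkCx X x).obj F'))) :=
    DerivedCategory.Q.mapIso (stalkCxOverCompIso f g x F')
  exact TAmp.of_iso h ((resIsoD ψ e3).symm ≪≫ e4.symm)

end Groth.Agent.Lib.Helper28.LpullTorAmp
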