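import Groth.Agent.S7011
import Groth.Agent.Lib.Helper35.ConeRep
import Groth.Agent.Lib.Helper28.MinimalCxA

/-!
# Minimal complexes over a local ring (Stacks 15.75, minimal complexes)

`R` a commutative ring, `I` a maximal ideal contained in the Jacobson radical (i.e. `R` local).
* `exists_minimal`: a pseudo-coherent `K` is represented by a bounded above complex of finite free
  modules `P` with `rank P^i = dim H^i(K ⊗^L R/I)`.
* `minimal_unique`: two such complexes are isomorphic.
-/

set_option autoImplicit false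
universe u v
open CategoryTheory CategoryTheory.Limits
attribute [local instance] HasDerivedCategory.standard

namespace Groth.Agent.Lib.Helper28.MinimalCx

open Groth.Agent.Lib.Helper32.LBC

section Ring

variable {R : Type u} [CommRing R] (I : Ideal R) [I.IsMaximal]

attribute [local instance] Ideal.Quotient.field

/-- cohomology of an object of `D(R/I)` represented by a complex -/
noncomputable def hdEquiv (W : DRing.Cx (R ⧸ I)) (X : Dual.D (R ⧸ I)) (e : DRing.toD W ≅ X) (i : ℤ) :
    Dual.HD (R ⧸ I) X i ≃ₗ[R ⧸ I] W.homology i :=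
  ((DerivedCategory.homologyFunctor _ i).mapIso e.symm ≪≫
    (DerivedCategory.homologyFunctorFactors _ i).app W).toLinearEquiv

omit [I.IsMaximal] in
lemma finite_extCx_X (Q : DRing.Cx R) (i : ℤ) [Module.Finite R (Q.X i)] :
    Module.Finite (R ⧸ I) (((extCx (Ideal.Quotient.mk I)).obj Q).X i) :=
  Module.Finite.base_change R (R ⧸ I) (Q.X i)

lemma finrank_extCx_X (Q : DRing.Cx R) (i : ℤ) [Module.Free R (Q.X i)] :
    Module.finrank (R ⧸ I) (((extCx (Ideal.Quotient.mk I)).obj Q).X i) =
      Module.finrank R (Q.X i) := by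
  haveI : Nontrivial R := ⟨⟨0, 1, fun h => (Ideal.IsMaximal.ne_top ‹I.IsMaximal›)
    (by rw [Ideal.eq_top_iff_one, ← h]; exact I.zero_mem)⟩⟩
  exact Module.finrank_baseChange (R := R ⧸ I) (S := R) (M' := Q.X i)

omit [I.IsMaximal] in
lemma isZero_homology_of_isZero {A : Type u} [CommRing A] (V : DRing.Cx A) (i : ℤ)
    (h : IsZero (V.X i)) : IsZero (V.homology i) :=
  ShortComplex.isZero_homology_of_isZero_X₂ (V.sc i) h

theorem exists_minimal (hI : I ≤ Ideal.jacobson ⊥) [DRing.HasLBaseChange (Ideal.Quotient.mk I)]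
    (K : Dual.D R) (hK : DRing.IsPseudoCoherent' R K) :
    (∀ i : ℤ, Module.Finite (R ⧸ I)
      (Dual.HD (R ⧸ I) ((DRing.LBaseChange (Ideal.Quotient.mk I)).obj K) i)) ∧
    (∃ b : ℤ, ∀ i : ℤ, b < i → Subsingleton
      (Dual.HD (R ⧸ I) ((DRing.LBaseChange (Ideal.Quotient.mk I)).obj K) i)) ∧
    ∃ P : DRing.Cx R, (∃ b : ℤ, DRing.VanishesAbove P b) ∧
      (∀ i : ℤ, Module.Free R (P.X i) ∧ Module.Finite R (P.X i) ∧
        Module.finrank R (P.X i) = Module.finrank (R ⧸ I)
          (Dual.HD (R ⧸ I) ((DRing.LBaseChange (Ideal.Quotient.mk I)).obj K) i)) ∧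
      Nonempty (DRing.toD P ≅ K) := by
  obtain ⟨Q, c, hQc, hQf, ⟨eQ⟩⟩ := hK
  let f := Ideal.Quotient.mk I
  haveI : Q.IsKProjective := isKProjective_of_vanishesAbove Q c hQc
    (fun i => by have := (hQf i).2; infer_instance)
  let V : DRing.Cx (R ⧸ I) := (extCx f).obj Q
  let eV : DRing.toD V ≅ (DRing.LBaseChange f).obj K :=
    (lbcIso f Q).symm ≪≫ (DRing.LBaseChange f).mapIso eQ
  have hVfin : ∀ i, Module.Finite (R ⧸ I) (V.X i) := fun i => by
    have := (hQf i).1
    exact finite_extCx_X I Q i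
  have hVzero : ∀ i, c < i → IsZero (V.X i) := fun i hi =>
    Functor.map_isZero (ModuleCat.extendScalars f) (hQc i hi)
  have c1 : ∀ i : ℤ, Module.Finite (R ⧸ I)
      (Dual.HD (R ⧸ I) ((DRing.LBaseChange (Ideal.Quotient.mk I)).obj K) i) := fun i => by
    haveI := hVfin i
    haveI := finite_homology V i
    exact Module.Finite.equiv (hdEquiv I V _ eV i).symm
  have c2 : ∀ i : ℤ, c < i → Subsingleton
      (Dual.HD (R ⧸ I) ((DRing.LBaseChange (Ideal.Quotient.mk I)).obj K) i) := fun i hi => by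
    have hz : IsZero (V.homology i) := isZero_homology_of_isZero V i (hVzero i hi)
    haveI : Subsingleton (V.homology i) := ModuleCat.subsingleton_of_isZero hz
    exact (hdEquiv I V _ eV i).toEquiv.subsingleton
  let E : DRing.Cx (R ⧸ I) := homCx V
  have hEb : DRing.VanishesAbove E c := fun i hi => isZero_homology_of_isZero V i (hVzero i hi)
  have hEfree : ∀ i, Module.Free (R ⧸ I) (E.X i) := fun i => Module.Free.of_divisionRing _ _
  have hEs : ∀ i : ℤ, Module.Finite (R ⧸ I) (E.X i) ∧ Module.IsStablyFree (R ⧸ I) (E.X i) :=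
    fun i => by
      haveI := hVfin i
      haveI := hEfree i
      exact ⟨finite_homology V i, inferInstance⟩
  have hE : Nonempty (DRing.toD E ≅ (DRing.LBaseChange (Ideal.Quotient.mk I)).obj K) :=
    ⟨asIso (DerivedCategory.Q.map (sect V)) ≪≫ eV⟩
  obtain ⟨P, b', hPb, hPfs, ⟨eP⟩, ⟨e2⟩, hfree⟩ := Groth.Agent.S7011.result R I hI K
    ⟨Q, c, hQc, hQf, ⟨eQ⟩⟩ E c hEb hEs hE
  refine ⟨c1, ⟨c, c2⟩, P, ⟨b', hPb⟩, fun i => ?_, ⟨eP⟩⟩
  have hfr : Module.Free R (P.X i) := hfree i (hEfree i)
  refine ⟨hfr, (hPfs i).1, ?_⟩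
  rw [← finrank_extCx_X I P i]
  have e3 : ((extCx f).obj P).X i ≃ₗ[R ⧸ I] E.X i :=
    ((HomologicalComplex.eval _ _ i).mapIso e2).toLinearEquiv
  rw [e3.finrank_eq]
  exact (hdEquiv I V _ eV i).finrank_eq.symm

/-- the reduction of a minimal complex has zero differentials -/
theorem extCx_d_eq_zero [DRing.HasLBaseChange (Ideal.Quotient.mk I)] (K : Dual.D R)
    (P : DRing.Cx R) (b : ℤ) (hPb : DRing.VanishesAbove P b)
    (hPf : ∀ i : ℤ, Module.Free R (P.X i) ∧ Module.Finite R (P.X i) ∧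
      Module.finrank R (P.X i) = Module.finrank (R ⧸ I)
        (Dual.HD (R ⧸ I) ((DRing.LBaseChange (Ideal.Quotient.mk I)).obj K) i))
    (eP : DRing.toD P ≅ K) (i j : ℤ) :
    ((extCx (Ideal.Quotient.mk I)).obj P).d i j = 0 := by
  let f := Ideal.Quotient.mk I
  haveI : P.IsKProjective := isKProjective_of_vanishesAbove P b hPb
    (fun i => by have := (hPf i).1; infer_instance)
  let V : DRing.Cx (R ⧸ I) := (extCx f).obj P
  let eV : DRing.toD V ≅ (DRing.LBaseChange f).obj K :=
    (lbcIso f P).symm ≪≫ (DRing.LBaseChange f).mapIso eP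
  haveI := (hPf i).1
  haveI := (hPf i).2.1
  haveI : Module.Finite (R ⧸ I) (V.X i) := finite_extCx_X I P i
  have h : Module.finrank (R ⧸ I) (V.homology i) = Module.finrank (R ⧸ I) (V.X i) := by
    rw [← (hdEquiv I V _ eV i).finrank_eq, ← (hPf i).2.2]
    exact (finrank_extCx_X I P i).symm
  exact (d_eq_zero_of_finrank_homology_eq V i h).1 j

theorem minimal_unique (hI : I ≤ Ideal.jacobson ⊥) [DRing.HasLBaseChange (Ideal.Quotient.mk I)]
    (K : Dual.D R) (P P' : DRing.Cx R)
    (hP : (∃ b : ℤ, DRing.VanishesAbove P b) ∧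
      (∀ i : ℤ, Module.Free R (P.X i) ∧ Module.Finite R (P.X i) ∧
        Module.finrank R (P.X i) = Module.finrank (R ⧸ I)
          (Dual.HD (R ⧸ I) ((DRing.LBaseChange (Ideal.Quotient.mk I)).obj K) i)) ∧
      Nonempty (DRing.toD P ≅ K))
    (hP' : (∃ b : ℤ, DRing.VanishesAbove P' b) ∧
      (∀ i : ℤ, Module.Free R (P'.X i) ∧ Module.Finite R (P'.X i) ∧
        Module.finrank R (P'.X i) = Module.finrank (R ⧸ I)
          (Dual.HD (R ⧸ I) ((DRing.LBaseChange (Ideal.Quotient.mk I)).obj K) i)) ∧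
      Nonempty (DRing.toD P' ≅ K)) : Nonempty (P ≅ P') := by
  obtain ⟨⟨b, hPb⟩, hPf, ⟨eP⟩⟩ := hP
  obtain ⟨⟨b', hPb'⟩, hPf', ⟨eP'⟩⟩ := hP'
  let f := Ideal.Quotient.mk I
  haveI : P.IsKProjective := isKProjective_of_vanishesAbove P b hPb
    (fun i => by have := (hPf i).1; infer_instance)
  haveI : P'.IsKProjective := isKProjective_of_vanishesAbove P' b' hPb'
    (fun i => by have := (hPf' i).1; infer_instance)
  obtain ⟨α, hα⟩ := Groth.Agent.Lib.Helper35.KL.exists_Q_map_eq_of_isKProjective P P'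
    (eP.hom ≫ eP'.inv)
  haveI : QuasiIso α := by
    rw [← DerivedCategory.isIso_Q_map_iff_quasiIso, hα]
    infer_instance
  obtain ⟨e, he⟩ := (CochainComplex.IsKProjective.quasiIso_iff α).1 inferInstance
  let e' := (ModuleCat.extendScalars f).mapHomotopyEquiv e
  have he' : e'.hom = (extCx f).map α := by
    rw [← he]
    rfl
  haveI : QuasiIso ((extCx f).map α) := by
    rw [← he']
    infer_instance
  have hiso : ∀ i : ℤ, IsIso (α.f i) := by
    intro i
    haveI h1 : IsIso (((extCx f).map α).f i) :=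
      isIso_f_of_quasiIso_of_d_eq_zero (extCx_d_eq_zero I K P b hPb hPf eP)
        (extCx_d_eq_zero I K P' b' hPb' hPf' eP') ((extCx f).map α) i
    have h2 : Function.Surjective ((ModuleCat.extendScalars f).map (α.f i)).hom := by
      have : IsIso ((ModuleCat.extendScalars f).map (α.f i)) := h1
      exact ((ConcreteCategory.isIso_iff_bijective _).1 this).2
    haveI := (hPf i).1
    haveI := (hPf i).2.1
    haveI := (hPf' i).1
    haveI := (hPf' i).2.1
    have h3 : Function.Surjective (α.f i).hom :=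
      StablyFreeLift.surjective_of_range_sup_smul_top I hI (α.f i).hom
        (LiftCx2.range_sup_smul_top_eq_top I (α.f i) h2)
    haveI : Nontrivial R := ⟨⟨0, 1, fun h => (Ideal.IsMaximal.ne_top ‹I.IsMaximal›)
      (by rw [Ideal.eq_top_iff_one, ← h]; exact I.zero_mem)⟩⟩
    have hrk : Module.finrank R (P.X i) = Module.finrank R (P'.X i) := by
      rw [(hPf i).2.2, (hPf' i).2.2]
    let g : P.X i ≃ₗ[R] P'.X i := LinearEquiv.ofFinrankEq _ _ hrk
    have h4 : Function.Injective (α.f i).hom :=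
      OrzechProperty.injective_of_surjective_of_injective g.toLinearMap (α.f i).hom
        g.injective h3
    exact (ConcreteCategory.isIso_iff_bijective _).2 ⟨h4, h3⟩
  haveI : IsIso α := HomologicalComplex.Hom.isIso_of_components α
  exact ⟨asIso α⟩

end Ring

end Groth.Agent.Lib.Helper28.MinimalCx
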