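import Groth.Agent.Lib.Helper28.NPCMor
import Groth.Agent.Lib.Helper28.GradedRestr

/-!
# Composition of `n`-pseudo-coherent morphisms (helper28)

`npcQ_comp`: ring-level graded composition; `npcMor n` is stable under composition and monotone
in `n`; `isNPseudoCoherent_comp`.
-/

set_option autoImplicit false
universe u
open CategoryTheory CategoryTheory.Limits AlgebraicGeometry TopologicalSpace Opposite
attribute [local instance] HasDerivedCategory.standard

namespace Groth.Agent.Lib.Helper28.NPCMor

open Groth.Agent.Lib.Helper6 Groth.Agent.Lib.Helper6.MPC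

lemma npcQ_mono {n n' : ℤ} (h : n ≤ n') {R S : Type u} [CommRing R] [CommRing S] (f : R →+* S)
    (hf : npcQ n f) : npcQ n' f := by
  letI : Algebra R S := f.toAlgebra
  obtain ⟨k, α, hα, hK⟩ := hf
  exact ⟨k, α, hα, isPC_of_le h hK⟩

/-- ring-level graded composition. -/
lemma npcQ_comp (r s : ℤ) {R A B : Type u} [CommRing R] [CommRing A] [CommRing B]
    (φ : R →+* A) (ψ : A →+* B) (hφ : npcQ s φ) (hψ : npcQ r ψ) :
    npcQ (max r s) (ψ.comp φ) := by
  letI : Algebra R A := φ.toAlgebra
  letI : Algebra A B := ψ.toAlgebra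
  letI : Algebra R B := (ψ.comp φ).toAlgebra
  haveI : IsScalarTower R A B := IsScalarTower.of_algebraMap_eq (fun _ => rfl)
  haveI : (Dual.inD B B).IsLE 0 := by
    unfold Dual.inD
    infer_instance
  have := GradedRestr.relPC_trans_graded (s := s) hφ (Dual.inD B B) 0 r hψ
  rw [add_zero] at this
  exact this

lemma npcQ_stableUnderComposition (n : ℤ) : RingHom.StableUnderComposition (@npcQ n) := by
  intro R S T _ _ _ f g hf hg
  have := npcQ_comp n n f g hf hg
  rwa [max_self] at this

instance npcMor_isStableUnderComposition (n : ℤ) : (npcMor.{u} n).IsStableUnderComposition :=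
  HasRingHomProperty.stableUnderComposition (npcQ_stableUnderComposition n)

variable {X Y Z : Scheme.{u}}

theorem npcMor_mono {n n' : ℤ} (h : n ≤ n') (f : X ⟶ Y) (hf : npcMor n f) : npcMor n' f := by
  rw [HasRingHomProperty.iff_appLE (P := npcMor n')]
  intro U V e
  exact npcQ_mono h _ (HasRingHomProperty.appLE (npcMor n) f hf U V e)

/-- **Composition**: `f` `r`-pseudo-coherent, `g` `s`-pseudo-coherent ⇒ `f ≫ g`
`max r s`-pseudo-coherent. -/
theorem isNPseudoCoherent_comp (f : X ⟶ Y) (g : Y ⟶ Z)
    [LocallyOfFiniteType f] [LocallyOfFiniteType g] (r s : ℤ)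
    (hf : DerSch.IsNPseudoCoherent f r) (hg : DerSch.IsNPseudoCoherent g s) :
    DerSch.IsNPseudoCoherent (f ≫ g) (max r s) := by
  rw [← npcMor_iff] at hf hg ⊢
  exact (npcMor (max r s)).comp_mem f g (npcMor_mono (le_max_left _ _) f hf)
    (npcMor_mono (le_max_right _ _) g hg)

end Groth.Agent.Lib.Helper28.NPCMor
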