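import Groth.Agent.Lib.Helper28.NPCRing
import Groth.Agent.Lib.Helper6.PCMor3

/-!
# `n`-pseudo-coherent morphisms: `HasRingHomProperty`, flat base change, fpqc descent (helper28)
-/

set_option autoImplicit false
universe u
open CategoryTheory CategoryTheory.Limits AlgebraicGeometry TopologicalSpace Opposite MorphismProperty
attribute [local instance] HasDerivedCategory.standard

namespace Groth.Agent.Lib.Helper28.NPCMor

open Groth.Agent.Lib.Helper28.RelPCRing

variable (n : ℤ)

/-- the morphism property "`n`-pseudo-coherent (and locally of finite type)". -/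
def npcMor : MorphismProperty Scheme.{u} := affineLocally (@npcQ n)

instance : HasRingHomProperty (npcMor.{u} n) (@npcQ n) where
  isLocal_ringHomProperty := npcQ_isLocal n
  eq_affineLocally' := rfl

variable {X Y : Scheme.{u}}

theorem locallyOfFiniteType_of_npcMor (f : X ⟶ Y) (hf : npcMor n f) : LocallyOfFiniteType f := by
  rw [HasRingHomProperty.iff_appLE (P := @LocallyOfFiniteType)]
  intro U V e
  exact npcQ_finiteType n _ (HasRingHomProperty.appLE (npcMor n) f hf U V e)

theorem npcMor_iff (f : X ⟶ Y) [LocallyOfFiniteType f] :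
    npcMor n f ↔ DerSch.IsNPseudoCoherent f n := by
  rw [isNPseudoCoherent_iff, HasRingHomProperty.iff_appLE (P := npcMor n)]
  constructor
  · intro h U V e
    exact h V U e
  · intro h U V e
    exact h V U e

/-- ring hom version of flat base change -/
lemma npcQ_baseChange {R B R' B' : CommRingCat.{u}} {a : R ⟶ B} {b : R ⟶ R'} {c : B ⟶ B'}
    {d : R' ⟶ B'} (H : IsPushout a b c d) (hb : b.hom.Flat) (ha : npcQ n a.hom) :
    npcQ n d.hom := by
  let _ : Algebra R B := a.hom.toAlgebra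
  let _ : Algebra R R' := b.hom.toAlgebra
  let _ : Algebra B B' := c.hom.toAlgebra
  let _ : Algebra R' B' := d.hom.toAlgebra
  let _ : Algebra R B' := (c.hom.comp a.hom).toAlgebra
  have t1 : IsScalarTower R B B' := IsScalarTower.of_algebraMap_eq (fun _ => rfl)
  have t2 : IsScalarTower R R' B' := IsScalarTower.of_algebraMap_eq (fun r => by
    have := congr($(H.w).hom r)
    exact this)
  have hflat : Module.Flat R R' := hb
  have hpo : Algebra.IsPushout R B R' B' :=
    CommRingCat.isPushout_iff_isPushout.1 H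
  exact relPC_self_baseChange n (R := R) (B := B) (R' := R') (B' := B') ha

theorem npcMor_flat_baseChange {X S X' S' : Scheme.{u}} (f : X ⟶ S) (f' : X' ⟶ S') (g' : X' ⟶ X)
    (g : S' ⟶ S) [Flat g] (hc : IsPullback g' f' f g) (hf : npcMor n f) : npcMor n f' := by
  rw [HasRingHomProperty.iff_exists_appLE (P := npcMor n) (npcQ_awaySource n)]
  intro x'
  obtain ⟨V, hV, hxV, -⟩ := TopologicalSpace.Opens.isBasis_iff_nbhd.mp S.isBasis_affineOpens
    (TopologicalSpace.Opens.mem_top (g (f' x')))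
  obtain ⟨V', hV', hxV', hV'V⟩ := TopologicalSpace.Opens.isBasis_iff_nbhd.mp
    S'.isBasis_affineOpens (show f' x' ∈ g ⁻¹ᵁ V from hxV)
  have hxU0 : g' x' ∈ f ⁻¹ᵁ V := by
    show f (g' x') ∈ V
    have : f (g' x') = g (f' x') := by
      rw [← Scheme.Hom.comp_apply, ← Scheme.Hom.comp_apply, hc.w]
    rw [this]
    exact hxV
  obtain ⟨U, hU, hxU, hUV⟩ := TopologicalSpace.Opens.isBasis_iff_nbhd.mp
    X.isBasis_affineOpens hxU0
  have hiso := isIso_pushoutSection_of_isAffineOpen hc hV'V hUV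
    (UY := g' ⁻¹ᵁ U ⊓ f' ⁻¹ᵁ V') rfl hV hV' hU
  have hpo := (isIso_pushoutSection_iff hc hV'V hUV (UY := g' ⁻¹ᵁ U ⊓ f' ⁻¹ᵁ V') rfl).1 hiso
  have hU' : IsAffineOpen (g' ⁻¹ᵁ U ⊓ f' ⁻¹ᵁ V') := by
    have : IsAffine (V : Scheme) := hV
    have : IsAffine (V' : Scheme) := hV'
    have : IsAffine (U : Scheme) := hU
    exact .of_isIso (Scheme.Hom.isPullback_resLE hc hV'V hUV
      (UY := g' ⁻¹ᵁ U ⊓ f' ⁻¹ᵁ V') rfl).isoPullback.hom
  refine ⟨⟨V', hV'⟩, ⟨g' ⁻¹ᵁ U ⊓ f' ⁻¹ᵁ V', hU'⟩, ⟨hxU, hxV'⟩, inf_le_right, ?_⟩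
  have hflat : (g.appLE V V' hV'V).hom.Flat :=
    HasRingHomProperty.appLE (P := @Flat) g inferInstance ⟨V, hV⟩ ⟨V', hV'⟩ hV'V
  have hpc : npcQ n (f.appLE V U hUV).hom :=
    HasRingHomProperty.appLE (P := npcMor n) f hf ⟨V, hV⟩ ⟨U, hU⟩ hUV
  exact npcQ_baseChange n hpo hflat hpc

/-- **flat base change of an `n`-pseudo-coherent morphism.** -/
theorem isNPseudoCoherent_baseChange {X Y Y' : Scheme.{u}} (f : X ⟶ Y) [LocallyOfFiniteType f]
    (hf : DerSch.IsNPseudoCoherent f n) (h : Y' ⟶ Y) [Flat h] :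
    DerSch.IsNPseudoCoherent (pullback.snd f h) n := by
  rw [← npcMor_iff] at hf ⊢
  exact npcMor_flat_baseChange n f (pullback.snd f h) (pullback.fst f h) h
    (IsPullback.of_hasPullback f h) hf

lemma npcQ_codescendsAlong : RingHom.CodescendsAlong (@npcQ n) RingHom.FaithfullyFlat := by
  intro R S R' S' _ _ _ _ _ _ _ _ _ _ _ _ hff h
  rw [npcQ_algebraMap] at h ⊢
  have : Module.FaithfullyFlat R R' := RingHom.faithfullyFlat_algebraMap_iff.1 hff
  exact relPC_self_descent n (R := R) (B := S) (R' := R') (B' := S') h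

set_option backward.isDefEq.respectTransparency.types false in
instance npcMor_descendsAlong :
    (npcMor.{u} n).DescendsAlong (@Surjective ⊓ @Flat ⊓ @QuasiCompact) := by
  apply IsZariskiLocalAtTarget.descendsAlong
  intro R X Y f g hf h
  wlog hX : ∃ T, X = Spec T generalizing X
  · have _ : CompactSpace X := by simpa [← quasiCompact_iff_compactSpace f] using hf.2
    obtain ⟨Y', p, hsurj, hP', hY'⟩ := X.exists_hom_isAffine_of_isZariskiLocalAtSource @IsLocalIso
    have hflat : Flat (Y'.isoSpec.inv ≫ p) := by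
      have : Flat p := IsLocalIso.le_of_isZariskiLocalAtSource @Flat _ _ _ hP'
      infer_instance
    refine this (f := (Y'.isoSpec.inv ≫ p) ≫ f) ?_ ?_ ⟨_, rfl⟩
    · have h1 : Surjective f := hf.1.1
      have h2 : Flat f := hf.1.2
      have h3 : QuasiCompact f := hf.2
      exact ⟨⟨inferInstance, inferInstance⟩, inferInstance⟩
    · rw [← pullbackRightPullbackFstIso_inv_fst f g _, (npcMor n).cancel_left_of_respectsIso]
      exact npcMor_flat_baseChange n (pullback.fst f g)
        (pullback.fst (Y'.isoSpec.inv ≫ p) (pullback.fst f g))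
        (pullback.snd (Y'.isoSpec.inv ≫ p) (pullback.fst f g)) (Y'.isoSpec.inv ≫ p)
        (IsPullback.of_hasPullback _ _).flip h
  obtain ⟨T, rfl⟩ := hX
  obtain ⟨φ, rfl⟩ := Spec.map_surjective f
  wlog hY : ∃ S, Y = Spec S generalizing Y
  · rw [IsZariskiLocalAtSource.iff_of_openCover (P := npcMor n) Y.affineCover]
    intro i
    have heq : pullback.fst (Spec.map φ) (Y.affineCover.f i ≫ g) =
        pullback.map _ _ _ _ (𝟙 _) (Y.affineCover.f i) (𝟙 _) (by simp) (by simp) ≫
          pullback.fst (Spec.map φ) g := (pullback.lift_fst _ _ _).symm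
    exact this _ (heq ▸ AlgebraicGeometry.IsZariskiLocalAtSource.comp h _) ⟨_, rfl⟩
  obtain ⟨S, rfl⟩ := hY
  refine of_pullback_fst_Spec_of_codescendsAlong (P := npcMor n)
    (P' := @Surjective ⊓ @Flat ⊓ @QuasiCompact) (npcQ_codescendsAlong n) ?_ ?_ hf h
  · intro R S f hf
    rw [RingHom.FaithfullyFlat.iff_flat_and_comap_surjective]
    have h1 : Surjective (Spec.map f) := hf.1.1
    have h2 : Flat (Spec.map f) := hf.1.2
    refine ⟨?_, (Spec.map f).surjective⟩
    rwa [HasRingHomProperty.Spec_iff (P := @Flat)] at h2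
  · intro R S f
    exact HasRingHomProperty.Spec_iff (P := npcMor n)

theorem npcMor_descent {X S X' S' : Scheme.{u}} (f : X ⟶ S) (f' : X' ⟶ S') (g' : X' ⟶ X)
    (g : S' ⟶ S) [Flat g] [Surjective g] [QuasiCompact g] (hc : IsPullback g' f' f g)
    (hf' : npcMor n f') : npcMor n f :=
  MorphismProperty.of_isPullback_of_descendsAlong (P := npcMor n)
    (Q := @Surjective ⊓ @Flat ⊓ @QuasiCompact) hc.flip
    ⟨⟨inferInstance, inferInstance⟩, inferInstance⟩ hf'

/-- **faithfully flat quasi-compact descent of `n`-pseudo-coherence of a morphism.** -/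
theorem isNPseudoCoherent_of_baseChange {X Y Y' : Scheme.{u}} (f : X ⟶ Y) [LocallyOfFiniteType f]
    (h : Y' ⟶ Y) [Flat h] [Surjective h] [QuasiCompact h]
    (hf' : DerSch.IsNPseudoCoherent (pullback.snd f h) n) : DerSch.IsNPseudoCoherent f n := by
  rw [← npcMor_iff] at hf' ⊢
  exact npcMor_descent n f (pullback.snd f h) (pullback.fst f h) h
    (IsPullback.of_hasPullback f h) hf'

end Groth.Agent.Lib.Helper28.NPCMor
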