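import Groth.Agent.Lib.Helper28.RelPCRing
import Groth.Agent.Lib.Helper6.PCHom
import Groth.Agent.Lib.Helper6.PCBC2

/-!
# `n`-pseudo-coherent morphisms as a `HasRingHomProperty` (helper28): ring level

`npcQ n f`: `S[0]` is `n`-pseudo-coherent relative to `R` along `f : R →+* S`; `npcQ_isLocal`;
flat base change `relPC_self_baseChange` and faithfully flat descent `relPC_self_descent`.
-/

set_option autoImplicit false
universe u
open CategoryTheory CategoryTheory.Limits AlgebraicGeometry TopologicalSpace Opposite
attribute [local instance] HasDerivedCategory.standard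

namespace Groth.Agent.Lib.Helper28.NPCMor

open Groth.Agent.Lib.Helper30.RelPCLoc Groth.Agent.Lib.Helper6 Groth.Agent.Lib.Helper35.FlatBC
  Groth.Agent.Lib.Helper6.PCHom Groth.Agent.Lib.Helper6.RestrPC

section Ring

/-- the ring hom property: `S[0]` is `n`-pseudo-coherent relative to `R`. -/
def npcQ (n : ℤ) {R S : Type u} [CommRing R] [CommRing S] (f : R →+* S) : Prop :=
  @DerCA.IsRelPseudoCoherent R S _ _ f.toAlgebra n (Dual.inD S S)

variable (n : ℤ)

lemma npcQ_algebraMap {A B : Type u} [CommRing A] [CommRing B] [Algebra A B] :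
    npcQ n (algebraMap A B) ↔ DerCA.IsRelPseudoCoherent A B n (Dual.inD B B) := by
  have : (algebraMap A B).toAlgebra = ‹Algebra A B› := Algebra.algebra_ext _ _ (fun _ => rfl)
  unfold npcQ
  rw [this]

lemma finiteType_of_relPC {A B : Type u} [CommRing A] [CommRing B] [Algebra A B] {K : Dual.D B}
    (h : DerCA.IsRelPseudoCoherent A B n K) : Algebra.FiniteType A B := by
  obtain ⟨k, α, hα, -⟩ := h
  exact Algebra.FiniteType.of_surjective α hα

lemma npcQ_finiteType {R S : Type u} [CommRing R] [CommRing S] (f : R →+* S) (h : npcQ n f) :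
    f.FiniteType := by
  let _ : Algebra R S := f.toAlgebra
  exact finiteType_of_relPC n h

/-- `G (A[0]) = A'[0]`. -/
noncomputable def GSelfIso (A A' : Type u) [CommRing A] [CommRing A'] [Algebra A A']
    [Module.Flat A A'] : (G A A').obj (Dual.inD A A) ≅ Dual.inD A' A' :=
  ((ext A A').mapDerivedCategorySingleFunctor 0).app (ModuleCat.of A A) ≪≫
    (DerivedCategory.singleFunctor (ModuleCat.{u} A') 0).mapIso extSelfIso

section Tower

variable {R S T : Type u} [CommRing R] [CommRing S] [CommRing T] [Algebra R S] [Algebra S T]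
  [Algebra R T] [IsScalarTower R S T]

/-- localizing the target. -/
lemma relPC_self_away_target (s : S) [IsLocalization.Away s T]
    (h : DerCA.IsRelPseudoCoherent R S n (Dual.inD S S)) :
    DerCA.IsRelPseudoCoherent R T n (Dual.inD T T) := by
  have := finiteType_of_relPC n h
  have : Module.Flat S T := flat_of_away s
  exact Groth.Agent.Lib.Helper30.RelPCLoc.relPC_of_iso (GSelfIso S T)
    (relPC_G_of_away s (Dual.inD S S) n h)

/-- localizing the base. -/
lemma relPC_self_away_source_iff (r : R) [IsLocalization.Away r S] [Algebra.FiniteType R T]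
    (K : Dual.D T) :
    DerCA.IsRelPseudoCoherent S T n K ↔ DerCA.IsRelPseudoCoherent R T n K :=
  relPC_base_iff r K n

end Tower

lemma npcQ_awayTarget : RingHom.StableUnderCompositionWithLocalizationAwayTarget (@npcQ n) := by
  intro R S T _ _ _ _ s _ f hf
  let _ : Algebra R S := f.toAlgebra
  let _ : Algebra R T := ((algebraMap S T).comp f).toAlgebra
  have : IsScalarTower R S T := IsScalarTower.of_algebraMap_eq (fun _ => rfl)
  exact relPC_self_away_target n s hf

lemma npcQ_awaySource : RingHom.StableUnderCompositionWithLocalizationAwaySource (@npcQ n) := by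
  intro R S T _ _ _ _ r _ f hf
  let _ : Algebra S T := f.toAlgebra
  let _ : Algebra R T := (f.comp (algebraMap R S)).toAlgebra
  have : IsScalarTower R S T := IsScalarTower.of_algebraMap_eq (fun _ => rfl)
  have h1 : Algebra.FiniteType S T := finiteType_of_relPC n hf
  have hfp : Algebra.FinitePresentation R S := IsLocalization.Away.finitePresentation r
  have h2 : Algebra.FiniteType R S := Algebra.FiniteType.of_finitePresentation
  have : Algebra.FiniteType R T := Algebra.FiniteType.trans h2 h1
  exact (relPC_self_away_source_iff n r _).1 hf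

lemma npcQ_localizationAwayPreserves : RingHom.LocalizationAwayPreserves (@npcQ n) := by
  intro R S _ _ f r R' S' _ _ _ _ _ _ hf
  let _ : Algebra R S := f.toAlgebra
  let g : R' →+* S' := IsLocalization.Away.map R' S' f r
  let _ : Algebra R' S' := g.toAlgebra
  let _ : Algebra R S' := ((algebraMap S S').comp f).toAlgebra
  have t1 : IsScalarTower R S S' := IsScalarTower.of_algebraMap_eq (fun _ => rfl)
  have t2 : IsScalarTower R R' S' := IsScalarTower.of_algebraMap_eq (fun x => by
    show (algebraMap S S') (f x) = g (algebraMap R R' x)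
    exact (IsLocalization.map_eq _ x).symm)
  have h3 : DerCA.IsRelPseudoCoherent R S' n (Dual.inD S' S') :=
    relPC_self_away_target n (f r) hf
  have : Algebra.FiniteType R S' := finiteType_of_relPC n h3
  exact (relPC_self_away_source_iff n r _).2 h3

theorem relPC_self_of_span_target {A B : Type u} [CommRing A] [CommRing B] [Algebra A B] {r : ℕ}
    (f : Fin r → B) (hf : Ideal.span (Set.range f) = ⊤)
    (H : ∀ i, DerCA.IsRelPseudoCoherent A (Localization.Away (f i)) n
      (Dual.inD (Localization.Away (f i)) (Localization.Away (f i)))) :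
    DerCA.IsRelPseudoCoherent A B n (Dual.inD B B) := by
  have hft : Algebra.FiniteType A B :=
    Algebra.FiniteType.of_span_eq_top_target (Set.range f) hf (by
      rintro _ ⟨i, rfl⟩
      exact finiteType_of_relPC n (H i))
  have : ∀ i, Module.Flat B (Localization.Away (f i)) := fun i => flat_of_away (f i)
  refine relPC_of_cover f hf (fun i => Localization.Away (f i)) (Dual.inD B B) n (fun i => ?_)
  exact Groth.Agent.Lib.Helper30.RelPCLoc.relPC_of_iso
    (GSelfIso B (Localization.Away (f i))).symm (H i)

lemma npcQ_ofLocalizationFiniteSpanTarget : RingHom.OfLocalizationFiniteSpanTarget (@npcQ n) := by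
  intro R S _ _ f s hs H
  let _ : Algebra R S := f.toAlgebra
  let e := s.equivFin
  let g : Fin s.card → S := fun i => ((e.symm i : s) : S)
  have hg : Set.range g = (s : Set S) := by
    ext x
    constructor
    · rintro ⟨i, rfl⟩
      exact (e.symm i).2
    · intro hx
      exact ⟨e ⟨x, hx⟩, by simp [g]⟩
  refine relPC_self_of_span_target n (A := R) (B := S) g (by rw [hg]; exact hs) (fun i => ?_)
  have hi := H (e.symm i)
  have heq : ((algebraMap S (Localization.Away ((e.symm i : s) : S))).comp f).toAlgebra =
      (inferInstance : Algebra R (Localization.Away (g i))) :=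
    Algebra.algebra_ext _ _ (fun x => by
      rw [IsScalarTower.algebraMap_apply R S (Localization.Away (g i))]
      rfl)
  unfold npcQ at hi
  rw [heq] at hi
  exact hi

lemma npcQ_ofLocalizationSpanTarget : RingHom.OfLocalizationSpanTarget (@npcQ n) :=
  (RingHom.ofLocalizationSpanTarget_iff_finite _).2 (npcQ_ofLocalizationFiniteSpanTarget n)

theorem npcQ_isLocal : RingHom.PropertyIsLocal (@npcQ n) :=
  ⟨npcQ_localizationAwayPreserves n, npcQ_ofLocalizationSpanTarget n,
    (npcQ_ofLocalizationSpanTarget n).ofLocalizationSpan (npcQ_awaySource n),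
    npcQ_awayTarget n⟩

end Ring

section Via

variable {P B : Type u} [CommRing P] [CommRing B] [Algebra P B]

/-- `B[0]` restricted along `P → B` is the `P`-module `B` in degree `0`. -/
noncomputable def restrictDSelfIso :
    (DRing.restrictD (algebraMap P B)).obj (Dual.inD B B) ≅ Dual.inD P B :=
  ((Φ (algebraMap P B)).mapDerivedCategorySingleFunctor 0).app (ModuleCat.of B B) ≪≫
    (DerivedCategory.singleFunctor (ModuleCat.{u} P) 0).mapIso (restrSelfIso P B).symm

end Via

section baseChange

variable (n : ℤ) {R B R' B' : Type u} [CommRing R] [CommRing B] [CommRing R'] [CommRing B']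
  [Algebra R B] [Algebra R R'] [Algebra B B'] [Algebra R' B'] [Algebra R B']
  [IsScalarTower R B B'] [IsScalarTower R R' B']

attribute [local instance] MvPolynomial.algebraMvPolynomial

/-- flat base change of relative `n`-pseudo-coherence of the algebra itself. -/
theorem relPC_self_baseChange [Module.Flat R R'] [Algebra.IsPushout R B R' B']
    (h : DerCA.IsRelPseudoCoherent R B n (Dual.inD B B)) :
    DerCA.IsRelPseudoCoherent R' B' n (Dual.inD B' B') := by
  obtain ⟨k, φ, hφ, hB⟩ := h
  obtain ⟨φ', hφ', ⟨e⟩⟩ := exists_baseChange_presentation (R' := R') (B' := B') φ hφ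
  refine ⟨k, φ', hφ', ?_⟩
  let _ : Algebra (MvPolynomial (Fin k) R) B := φ.toRingHom.toAlgebra
  let _ : Algebra (MvPolynomial (Fin k) R') B' := φ'.toRingHom.toAlgebra
  have hfl : Module.Flat (MvPolynomial (Fin k) R) (MvPolynomial (Fin k) R') :=
    flat_mvPolynomial (R := R) (R' := R') k
  have h1 : DRing.IsPseudoCoherent (MvPolynomial (Fin k) R) n
      (Dual.inD (MvPolynomial (Fin k) R) B) :=
    MPC.isPC_of_iso (restrictDSelfIso (P := MvPolynomial (Fin k) R) (B := B)) hB
  have h2 := isPseudoCoherent_G (MvPolynomial (Fin k) R') n _ h1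
  have e2 : (G (MvPolynomial (Fin k) R) (MvPolynomial (Fin k) R')).obj
        (Dual.inD (MvPolynomial (Fin k) R) B) ≅ Dual.inD (MvPolynomial (Fin k) R') B' :=
    GInDIso (MvPolynomial (Fin k) R') B ≪≫
      (DerivedCategory.singleFunctor (ModuleCat.{u} (MvPolynomial (Fin k) R')) 0).mapIso
        e.toModuleIso
  exact MPC.isPC_of_iso (e2 ≪≫ (restrictDSelfIso (P := MvPolynomial (Fin k) R') (B := B')).symm) h2

/-- faithfully flat descent of relative `n`-pseudo-coherence of the algebra itself. -/
theorem relPC_self_descent [Module.FaithfullyFlat R R'] [Algebra.IsPushout R B R' B']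
    (h : DerCA.IsRelPseudoCoherent R' B' n (Dual.inD B' B')) :
    DerCA.IsRelPseudoCoherent R B n (Dual.inD B B) := by
  have hft' : Algebra.FiniteType R' B' := by
    obtain ⟨k, α, hα, -⟩ := h
    exact Algebra.FiniteType.of_surjective α hα
  have hsymm : Algebra.IsPushout R R' B B' := Algebra.IsPushout.symm inferInstance
  have hft'' : Algebra.FiniteType R' (TensorProduct R R' B) :=
    Algebra.FiniteType.equiv hft' (Algebra.IsPushout.equiv R R' B B').symm
  have hft : Algebra.FiniteType R B :=
    Algebra.FiniteType.of_finiteType_tensorProduct_of_faithfullyFlat R'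
  obtain ⟨k, φ, hφ⟩ := Algebra.FiniteType.iff_quotient_mvPolynomial''.mp hft
  obtain ⟨φ', hφ', ⟨e⟩⟩ := exists_baseChange_presentation (R' := R') (B' := B') φ hφ
  have hB' : DerCA.IsRelPseudoCoherentVia φ' n (Dual.inD B' B') :=
    (relPC_of_via' φ' hφ' _ n).1 h
  refine ⟨k, φ, hφ, ?_⟩
  let _ : Algebra (MvPolynomial (Fin k) R) B := φ.toRingHom.toAlgebra
  let _ : Algebra (MvPolynomial (Fin k) R') B' := φ'.toRingHom.toAlgebra
  have hff := faithfullyFlat_mvPolynomial (R := R) (R' := R') k
  have hfl : Module.Flat (MvPolynomial (Fin k) R) (MvPolynomial (Fin k) R') := inferInstance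
  have H : PCDescent.Hyp (fun _ : Unit => MvPolynomial (Fin k) R')
      (fun _ => G (MvPolynomial (Fin k) R) (MvPolynomial (Fin k) R')) :=
    PCDescent.hyp_of_flat (fun _ : Unit => MvPolynomial (Fin k) R')
      (fun M hM => by
        have := hM ()
        exact Module.FaithfullyFlat.lTensor_reflects_triviality (MvPolynomial (Fin k) R)
          (MvPolynomial (Fin k) R') M)
      (fun M hM => by
        have := hM ()
        exact Module.Finite.of_finite_tensorProduct_of_faithfullyFlat (MvPolynomial (Fin k) R'))
  have e2 : (G (MvPolynomial (Fin k) R) (MvPolynomial (Fin k) R')).obj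
        (Dual.inD (MvPolynomial (Fin k) R) B) ≅ Dual.inD (MvPolynomial (Fin k) R') B' :=
    GInDIso (MvPolynomial (Fin k) R') B ≪≫
      (DerivedCategory.singleFunctor (ModuleCat.{u} (MvPolynomial (Fin k) R')) 0).mapIso
        e.toModuleIso
  have h3 : DRing.IsPseudoCoherent (MvPolynomial (Fin k) R) n
      (Dual.inD (MvPolynomial (Fin k) R) B) := by
    refine PCDescent.descent H _ n (fun _ => ?_)
    exact MPC.isPC_of_iso
      ((restrictDSelfIso (P := MvPolynomial (Fin k) R') (B := B')) ≪≫ e2.symm) hB'
  exact MPC.isPC_of_iso (restrictDSelfIso (P := MvPolynomial (Fin k) R) (B := B)).symm h3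

end baseChange

end Groth.Agent.Lib.Helper28.NPCMor
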