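import Groth.Prelude.Def_PCoh
import Groth.Agent.S5602
import Mathlib.Algebra.Homology.DerivedCategory.Fractions
import Mathlib.Algebra.Homology.DerivedCategory.TStructure
import Mathlib.CategoryTheory.ObjectProperty.ContainsZero
import Mathlib.Algebra.Homology.SingleHomology

/-!
# Pseudo-coherence relative to a subcategory (SGA 6 I §2), foundations

Chain-level lemmas: terms of mapping cones, cells, quasi-lifting of cells.
Derived-level lemmas: `n`-isomorphisms, Lemma B (`npc_of_nIso`), cones (`npc_cone`).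
-/

set_option autoImplicit false
universe w v u
open CategoryTheory CategoryTheory.Limits Category Pretriangulated DerivedCategory

namespace Groth.Agent.Lib.Helper28.PC

section chain

variable {C : Type u} [Category.{v} C]

lemma IsOfFiniteType.of_epi [Abelian C] {P : ObjectProperty C} {A B : C} (f : A ⟶ B) [Epi f]
    (h : PCoh.IsOfFiniteType P A) : PCoh.IsOfFiniteType P B := by
  obtain ⟨E, π, hE, hπ⟩ := h
  exact ⟨E, π ≫ f, hE, epi_comp π f⟩

lemma IsOfFiniteType.of_iso [Abelian C] {P : ObjectProperty C} {A B : C} (e : A ≅ B)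
    (h : PCoh.IsOfFiniteType P A) : PCoh.IsOfFiniteType P B :=
  IsOfFiniteType.of_epi e.hom h

lemma IsOfFiniteType.of_prop [Abelian C] {P : ObjectProperty C} {A : C} (h : P A) :
    PCoh.IsOfFiniteType P A := ⟨A, 𝟙 A, h, inferInstance⟩

variable [Abelian C]

lemma isZero_biprod {A B : C} (hA : IsZero A) (hB : IsZero B) : IsZero (A ⊞ B) := by
  rw [IsZero.iff_id_eq_zero]
  apply biprod.hom_ext
  · exact hA.eq_of_tgt _ _
  · exact hB.eq_of_tgt _ _

lemma prop_biprod (P : ObjectProperty C) [P.IsClosedUnderIsomorphisms]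
    (hsum : ∀ X Y : C, P X → P Y → P (X ⨯ Y)) {A B : C} (hA : P A) (hB : P B) : P (A ⊞ B) :=
  P.prop_of_iso (biprod.isoProd A B).symm (hsum A B hA hB)

/-- terms of a mapping cone -/
noncomputable def coneXIso {K L : CochainComplex C ℤ} (φ : K ⟶ L) (i : ℤ) :
    (CochainComplex.mappingCone φ).X i ≅ K.X (i + 1) ⊞ L.X i :=
  HomologicalComplex.homotopyCofiber.XIsoBiprod φ i (i + 1) (by simp)

lemma isStrictPC_mappingCone (P : ObjectProperty C) [P.IsClosedUnderIsomorphisms]
    (hsum : ∀ X Y : C, P X → P Y → P (X ⨯ Y)) {K L : CochainComplex C ℤ} (φ : K ⟶ L) (n : ℤ)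
    (hK : PCoh.IsStrictPC P (n + 1) K) (hL : PCoh.IsStrictPC P n L) :
    PCoh.IsStrictPC P n (CochainComplex.mappingCone φ) := by
  obtain ⟨⟨b, hb⟩, hP⟩ := hK
  obtain ⟨⟨b', hb'⟩, hP'⟩ := hL
  refine ⟨⟨max b b', fun i hi => ?_⟩, fun i hi => ?_⟩
  · exact (isZero_biprod (hb (i + 1) (by omega)) (hb' i (by omega))).of_iso (coneXIso φ i)
  · exact P.prop_of_iso (coneXIso φ i).symm (prop_biprod P hsum (hP (i + 1) (by omega)) (hP' i hi))

/-- the cell complex: `G` placed in degree `k`. -/
noncomputable abbrev cell (G : C) (k : ℤ) : CochainComplex C ℤ :=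
  (HomologicalComplex.single C (ComplexShape.up ℤ) k).obj G

lemma isZero_cell_X (G : C) (k i : ℤ) (h : i ≠ k) : IsZero ((cell G k).X i) :=
  HomologicalComplex.isZero_single_obj_X _ _ _ _ h

lemma isStrictPC_cell (P : ObjectProperty C) [P.IsClosedUnderIsomorphisms] [P.ContainsZero]
    (G : C) (hG : P G) (k n : ℤ) : PCoh.IsStrictPC P n (cell G k) := by
  refine ⟨⟨k, fun i hi => isZero_cell_X G k i (by omega)⟩, fun i _ => ?_⟩
  by_cases h : i = k
  · subst h
    exact P.prop_of_iso (HomologicalComplex.singleObjXSelf (ComplexShape.up ℤ) i G).symm hG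
  · exact P.prop_of_isZero (isZero_cell_X G k i h)

/-- quasi-lifting of a cell along `Z^k → H^k`. -/
lemma exists_cell (P : ObjectProperty C) (hql : PCoh.IsQuasiLiftable P) (M : CochainComplex C ℤ)
    (k : ℤ) (hft : PCoh.IsOfFiniteType P (M.homology k)) :
    ∃ (G : C) (_ : P G) (ψ : cell G k ⟶ M), Epi (HomologicalComplex.homologyMap ψ k) := by
  obtain ⟨G₀, π₀, hG₀, hπ₀⟩ := hft
  obtain ⟨G, v, hG, hv⟩ := hql _ _ (pullback.snd (M.homologyπ k) π₀) inferInstance hG₀
  let p : G ⟶ M.cycles k := v ≫ pullback.fst _ _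
  have hp : Epi (p ≫ M.homologyπ k) := by
    have : p ≫ M.homologyπ k = (v ≫ pullback.snd _ _) ≫ π₀ := by
      simp only [p, assoc, pullback.condition]
    rw [this]; infer_instance
  let ψ : cell G k ⟶ M := HomologicalComplex.mkHomFromSingle (p ≫ M.iCycles k)
    (fun j hj => by simp)
  refine ⟨G, hG, ψ, ?_⟩
  let S := cell G k
  have h1 : IsIso (S.homologyπ k) :=
    S.isIso_homologyπ (k - 1) k (by simp) (by
      apply (isZero_cell_X G k (k - 1) (by omega)).eq_of_src)
  have h2 : IsIso (S.iCycles k) :=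
    S.isIso_iCycles k (k + 1) (by simp) (by
      apply (isZero_cell_X G k (k + 1) (by omega)).eq_of_tgt)
  have h3 : HomologicalComplex.cyclesMap ψ k =
      (S.iCycles k ≫ (HomologicalComplex.singleObjXSelf (ComplexShape.up ℤ) k G).hom) ≫ p := by
    rw [← cancel_mono (M.iCycles k), HomologicalComplex.cyclesMap_i, assoc, assoc]
    congr 1
    exact HomologicalComplex.mkHomFromSingle_f _ _
  have h4 : Epi (S.homologyπ k ≫ HomologicalComplex.homologyMap ψ k) := by
    rw [HomologicalComplex.homologyπ_naturality, h3, assoc]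
    infer_instance
  exact epi_of_epi (S.homologyπ k) _

end chain

variable {C : Type u} [Category.{v} C] [Abelian C] [HasDerivedCategory.{w} C]

/-- acyclic in degrees `> b` -/
def AcycGT (F : DerivedCategory C) (b : ℤ) : Prop :=
  ∀ i : ℤ, b < i → IsZero ((homologyFunctor C i).obj F)

/-- `n`-isomorphism: iso on `H^i` for `i > n`, epi on `H^n`. -/
def NIso (n : ℤ) {X Y : DerivedCategory C} (α : X ⟶ Y) : Prop :=
  (∀ i : ℤ, n < i → IsIso ((homologyFunctor C i).map α)) ∧ Epi ((homologyFunctor C n).map α)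

/-- `n`-pseudo-coherent, literally as in the statements. -/
def NPC (P : ObjectProperty C) (n : ℤ) (F : DerivedCategory C) : Prop :=
  ∃ E : CochainComplex C ℤ, PCoh.IsStrictPC P n E ∧ Nonempty (DerivedCategory.Q.obj E ≅ F)

lemma AcycGT.of_iso {F F' : DerivedCategory C} (e : F ≅ F') {b : ℤ} (h : AcycGT F b) :
    AcycGT F' b := fun i hi => (h i hi).of_iso ((homologyFunctor C i).mapIso e.symm)

lemma AcycGT.mono {F : DerivedCategory C} {b b' : ℤ} (h : AcycGT F b) (hb : b ≤ b') :
    AcycGT F b' := fun i hi => h i (by omega)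

lemma NPC.of_iso {P : ObjectProperty C} {n : ℤ} {F F' : DerivedCategory C} (e : F ≅ F')
    (h : NPC P n F) : NPC P n F' := by
  obtain ⟨E, hE, ⟨e'⟩⟩ := h
  exact ⟨E, hE, ⟨e' ≪≫ e⟩⟩

lemma NPC.mono {P : ObjectProperty C} {n n' : ℤ} {F : DerivedCategory C} (h : NPC P n F)
    (hn : n ≤ n') : NPC P n' F := by
  obtain ⟨E, ⟨hb, hP⟩, e⟩ := h
  exact ⟨E, ⟨hb, fun i hi => hP i (by omega)⟩, e⟩

lemma NIso.comp {n : ℤ} {X Y Z : DerivedCategory C} {α : X ⟶ Y} {β : Y ⟶ Z}
    (hα : NIso n α) (hβ : NIso n β) : NIso n (α ≫ β) := by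
  refine ⟨fun i hi => ?_, ?_⟩
  · have := hα.1 i hi
    have := hβ.1 i hi
    rw [Functor.map_comp]; infer_instance
  · have := hα.2
    have := hβ.2
    rw [Functor.map_comp]; infer_instance

lemma NIso.of_isIso {n : ℤ} {X Y : DerivedCategory C} (α : X ⟶ Y) [IsIso α] : NIso n α :=
  ⟨fun _ _ => inferInstance, inferInstance⟩

/-- In a distinguished triangle `Φ → X → Y →`, if `X → Y` is an `n`-iso then `Φ` is acyclic in
degrees `> n`. -/
lemma acycGT_obj₁_of_nIso (T : Triangle (DerivedCategory C)) (hT : T ∈ distTriang _) (n : ℤ)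
    (h : NIso n T.mor₂) : AcycGT T.obj₁ n := by
  intro i hi
  have hepi : Epi ((homologyFunctor C (i - 1)).map T.mor₂) := by
    by_cases h' : i - 1 = n
    · rw [h']; exact h.2
    · have := h.1 (i - 1) (by omega); infer_instance
  have hmono : Mono ((homologyFunctor C i).map T.mor₂) := by
    have := h.1 i hi; infer_instance
  have h1 := (HomologySequence.epi_homologyMap_mor₂_iff T hT (i - 1) i (by omega)).1 hepi
  have h2 := (HomologySequence.mono_homologyMap_mor₂_iff T hT i).1 hmono
  exact (HomologySequence.exact₁ T hT (i - 1) i (by omega)).isZero_of_both_zeros h1 h2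

/-- In a distinguished triangle `Z → Y → G →`, if `Z` is acyclic in degrees `> n` then `Y → G`
is an `n`-iso. -/
lemma nIso_mor₂_of_acycGT (T : Triangle (DerivedCategory C)) (hT : T ∈ distTriang _) (n : ℤ)
    (h : AcycGT T.obj₁ n) : NIso n T.mor₂ := by
  have hepi : ∀ i, n ≤ i → Epi ((homologyFunctor C i).map T.mor₂) := fun i hi => by
    rw [HomologySequence.epi_homologyMap_mor₂_iff T hT i (i + 1) rfl]
    exact (h (i + 1) (by omega)).eq_of_tgt _ _
  have hmono : ∀ i, n < i → Mono ((homologyFunctor C i).map T.mor₂) := fun i hi => by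
    rw [HomologySequence.mono_homologyMap_mor₂_iff T hT i]
    exact (h i hi).eq_of_src _ _
  refine ⟨fun i hi => ?_, hepi n le_rfl⟩
  have := hepi i hi.le
  have := hmono i hi
  exact isIso_of_mono_of_epi _

/-- In a distinguished triangle `X → Y → G →`, `X → Y` is an `n`-iso if `G` is acyclic in degrees
`≥ n`. -/
lemma nIso_mor₁_of_acycGT (T : Triangle (DerivedCategory C)) (hT : T ∈ distTriang _) (n : ℤ)
    (h : AcycGT T.obj₃ (n - 1)) : NIso n T.mor₁ := by
  have hepi : ∀ i, n ≤ i → Epi ((homologyFunctor C i).map T.mor₁) := fun i hi => by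
    rw [HomologySequence.epi_homologyMap_mor₁_iff T hT i]
    exact (h i (by omega)).eq_of_tgt _ _
  have hmono : ∀ i, n < i → Mono ((homologyFunctor C i).map T.mor₁) := fun i hi => by
    rw [HomologySequence.mono_homologyMap_mor₁_iff T hT (i - 1) i (by omega)]
    exact (h (i - 1) (by omega)).eq_of_src _ _
  refine ⟨fun i hi => ?_, hepi n le_rfl⟩
  have := hepi i hi.le
  have := hmono i hi
  exact isIso_of_mono_of_epi _

/-- Cone of an `n`-iso is acyclic in degrees `≥ n`. -/
lemma acycGT_obj₃_of_nIso (T : Triangle (DerivedCategory C)) (hT : T ∈ distTriang _) (n : ℤ)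
    (h : NIso n T.mor₁) : AcycGT T.obj₃ (n - 1) := by
  intro i hi
  have hepi : Epi ((homologyFunctor C i).map T.mor₁) := by
    by_cases h' : i = n
    · rw [h']; exact h.2
    · have := h.1 i (by omega); infer_instance
  have hmono : Mono ((homologyFunctor C (i + 1)).map T.mor₁) := by
    have := h.1 (i + 1) (by omega); infer_instance
  have h1 := (HomologySequence.epi_homologyMap_mor₁_iff T hT i).1 hepi
  have h2 := (HomologySequence.mono_homologyMap_mor₁_iff T hT i (i + 1) rfl).1 hmono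
  exact (HomologySequence.exact₃ T hT i (i + 1) rfl).isZero_of_both_zeros h1 h2

lemma isLE_of_acycGT (T : CochainComplex C ℤ) (n : ℤ) (h : AcycGT (Q.obj T) n) : T.IsLE n := by
  rw [← isLE_Q_obj_iff, DerivedCategory.isLE_iff]
  exact h

/-- **Lemma B**: if a bounded-above complex with terms in `C₀` in degrees `≥ n` maps to `F` by an
`n`-isomorphism in `D(C)`, then `F` is `n`-pseudo-coherent. -/
theorem npc_of_nIso (P : ObjectProperty C) [P.IsClosedUnderIsomorphisms] [P.ContainsZero]
    (hsum : ∀ X Y : C, P X → P Y → P (X ⨯ Y)) (n : ℤ) (K : CochainComplex C ℤ)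
    (hK : PCoh.IsStrictPC P n K) (F : DerivedCategory C) (α : Q.obj K ⟶ F) (hα : NIso n α) :
    NPC P n F := by
  obtain ⟨Φ, f, h, hT⟩ := distinguished_cocone_triangle₁ α
  have hΦ : AcycGT Φ n := acycGT_obj₁_of_nIso _ hT n hα
  let Φ₀ := Q.objPreimage Φ
  let eΦ : Q.obj Φ₀ ≅ Φ := Q.objObjPreimageIso Φ
  obtain ⟨T', s, hs, w, hw⟩ := right_fac (eΦ.hom ≫ f)
  have hT' : T'.IsLE n := isLE_of_acycGT T' n (hΦ.of_iso ((asIso (Q.map s) ≪≫ eΦ).symm))
  let ι := T'.ιTruncLE n
  have hι : QuasiIso ι := inferInstance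
  let w'' := ι ≫ w
  have hT2 := mappingCone_triangle_distinguished w''
  let e₁ : Q.obj (T'.truncLE n) ≅ Φ := asIso (Q.map ι) ≪≫ asIso (Q.map s) ≪≫ eΦ
  have comm : Q.map w'' ≫ 𝟙 _ = e₁.hom ≫ f := by
    simp only [w'', e₁, Functor.map_comp, comp_id, Iso.trans_hom, asIso_hom, assoc, hw,
      IsIso.hom_inv_id_assoc]
  let e := isoTriangleOfIso₁₂ _ _ hT2 hT e₁ (Iso.refl _) comm
  refine ⟨CochainComplex.mappingCone w'', ?_, ⟨Triangle.π₃.mapIso e⟩⟩
  apply isStrictPC_mappingCone P hsum w'' n _ hK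
  refine ⟨⟨n, fun i hi => CochainComplex.isZero_of_isStrictlyLE _ n i hi⟩, fun i hi => ?_⟩
  exact P.prop_of_isZero (CochainComplex.isZero_of_isStrictlyLE _ n i (by omega))

/-- the comparison `H^i(Q K) ≅ H^i(K)`. -/
noncomputable def homologyQIso (K : CochainComplex C ℤ) (i : ℤ) :
    (homologyFunctor C i).obj (Q.obj K) ≅ K.homology i :=
  (homologyFunctorFactors C i).app K

lemma homologyQIso_naturality {K L : CochainComplex C ℤ} (φ : K ⟶ L) (i : ℤ) :
    (homologyFunctor C i).map (Q.map φ) ≫ (homologyQIso L i).hom =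
      (homologyQIso K i).hom ≫ HomologicalComplex.homologyMap φ i :=
  (homologyFunctorFactors C i).hom.naturality φ

lemma epi_homologyFunctor_map_Q_iff {K L : CochainComplex C ℤ} (φ : K ⟶ L) (i : ℤ) :
    Epi ((homologyFunctor C i).map (Q.map φ)) ↔ Epi (HomologicalComplex.homologyMap φ i) := by
  have h := homologyQIso_naturality φ i
  constructor
  · intro _
    have : Epi ((homologyQIso K i).hom ≫ HomologicalComplex.homologyMap φ i) := by
      rw [← h]; infer_instance
    exact epi_of_epi (homologyQIso K i).hom _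
  · intro _
    have : Epi ((homologyFunctor C i).map (Q.map φ) ≫ (homologyQIso L i).hom) := by
      rw [h]; infer_instance
    have h2 : (homologyFunctor C i).map (Q.map φ) =
        ((homologyFunctor C i).map (Q.map φ) ≫ (homologyQIso L i).hom) ≫
          (homologyQIso L i).inv := by simp
    rw [h2]; infer_instance

lemma isZero_homology_Q_cell (G : C) (k i : ℤ) (h : i ≠ k) :
    IsZero ((homologyFunctor C i).obj (Q.obj (cell G k))) :=
  (HomologicalComplex.isZero_single_obj_homology _ _ G i h).of_iso (homologyQIso _ i)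

/-- attaching a cell which is epi on the top cohomology lowers the top degree. -/
lemma acycGT_cone_of_cell (T : Triangle (DerivedCategory C)) (hT : T ∈ distTriang _) (k : ℤ)
    (h₁ : ∀ i, i ≠ k → IsZero ((homologyFunctor C i).obj T.obj₁)) (h₂ : AcycGT T.obj₂ k)
    (hepi : Epi ((homologyFunctor C k).map T.mor₁)) : AcycGT T.obj₃ (k - 1) := by
  intro i hi
  have h3 : (homologyFunctor C i).map T.mor₂ = 0 := by
    by_cases h' : i = k
    · subst h'
      exact (HomologySequence.epi_homologyMap_mor₁_iff T hT i).1 hepi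
    · exact (h₂ i (by omega)).eq_of_src _ _
  have h4 : HomologySequence.δ T i (i + 1) rfl = 0 := (h₁ (i + 1) (by omega)).eq_of_tgt _ _
  exact (HomologySequence.exact₃ T hT i (i + 1) rfl).isZero_of_both_zeros h3 h4

lemma isZero_homology_of_acycGT {K : CochainComplex C ℤ} {F : DerivedCategory C}
    (e : Q.obj K ≅ F) {b : ℤ} (h : AcycGT F b) (i : ℤ) (hi : b < i) : IsZero (K.homology i) :=
  ((h i hi).of_iso ((homologyFunctor C i).mapIso e)).of_iso (homologyQIso K i).symm

/-- the top cohomology of an `n`-pseudo-coherent object is of finite type. -/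
lemma finiteType_top (P : ObjectProperty C) [P.IsClosedUnderIsomorphisms]
    (hqs : PCoh.IsQuasiStableUnderKernels P) {n b : ℤ} (hnb : n ≤ b) {F : DerivedCategory C}
    (hF : NPC P n F) (hac : AcycGT F b) :
    PCoh.IsOfFiniteType P ((homologyFunctor C b).obj F) := by
  obtain ⟨E, ⟨hb, hP⟩, ⟨e⟩⟩ := hF
  have h := Groth.Agent.S5602.result P hqs b E ⟨hb, fun i hi => hP i (by omega)⟩
    (fun i hi => isZero_homology_of_acycGT e hac i hi)
  exact IsOfFiniteType.of_iso ((homologyQIso E b).symm ≪≫ (homologyFunctor C b).mapIso e) h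

/-- **Fact 1**: in a distinguished triangle `Z → Y → G →` with `Z` acyclic in degrees `> n` and `Y`
`n`-pseudo-coherent, `G` is `n`-pseudo-coherent. -/
lemma npc_obj₃_of_acycGT (P : ObjectProperty C) [P.IsClosedUnderIsomorphisms] [P.ContainsZero]
    (hsum : ∀ X Y : C, P X → P Y → P (X ⨯ Y)) (T : Triangle (DerivedCategory C))
    (hT : T ∈ distTriang _) (n : ℤ) (h₁ : AcycGT T.obj₁ n) (h₂ : NPC P n T.obj₂) :
    NPC P n T.obj₃ := by
  obtain ⟨L, hL, ⟨e⟩⟩ := h₂
  exact npc_of_nIso P hsum n L hL _ (e.hom ≫ T.mor₂)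
    (NIso.comp (NIso.of_isIso _) (nIso_mor₂_of_acycGT T hT n h₁))

end Groth.Agent.Lib.Helper28.PC
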