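import Groth.Agent.Lib.Helper28.PCohB

/-!
# Pseudo-coherence (SGA 6 I §2), continued: the cohomological criterion in top degree
-/

set_option autoImplicit false
universe w v u
open CategoryTheory CategoryTheory.Limits Category Pretriangulated DerivedCategory

namespace Groth.Agent.Lib.Helper28.PC

variable {C : Type u} [Category.{v} C] [Abelian C] [HasDerivedCategory.{w} C]

omit [Abelian C] in
lemma isIso_of_isZero [HasZeroMorphisms C] {X Y : C} (f : X ⟶ Y) (hX : IsZero X) (hY : IsZero Y) :
    IsIso f :=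
  ⟨⟨0, hX.eq_of_src _ _, hY.eq_of_tgt _ _⟩⟩

/-- a morphism from a cell in degree `n`, epi on `H^n`, to an object acyclic in degrees `> n`, is an
`n`-iso. -/
lemma nIso_of_cell {G : C} {n : ℤ} {M : CochainComplex C ℤ} (ψ : cell G n ⟶ M)
    (hψ : Epi (HomologicalComplex.homologyMap ψ n)) {F : DerivedCategory C} (e : Q.obj M ≅ F)
    (hac : AcycGT F n) : NIso n (Q.map ψ ≫ e.hom) := by
  refine ⟨fun i hi => ?_, ?_⟩
  · exact isIso_of_isZero _ (isZero_homology_Q_cell G n i (by omega)) (hac i hi)
  · have := (epi_homologyFunctor_map_Q_iff ψ n).2 hψ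
    rw [Functor.map_comp]
    infer_instance

/-- if `F` is acyclic in degrees `> n` and `H^n(F)` is of finite type then `F` is
`n`-pseudo-coherent. -/
lemma npc_of_finiteType_top (P : ObjectProperty C) [P.IsClosedUnderIsomorphisms] [P.ContainsZero]
    (hsum : ∀ X Y : C, P X → P Y → P (X ⨯ Y)) (hql : PCoh.IsQuasiLiftable P) (n : ℤ)
    (F : DerivedCategory C) (hac : AcycGT F n)
    (hft : PCoh.IsOfFiniteType P ((homologyFunctor C n).obj F)) : NPC P n F := by
  let M := Q.objPreimage F
  let e : Q.obj M ≅ F := Q.objObjPreimageIso F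
  have hftM : PCoh.IsOfFiniteType P (M.homology n) :=
    IsOfFiniteType.of_iso ((homologyFunctor C n).mapIso e.symm ≪≫ homologyQIso M n) hft
  obtain ⟨G, hG, ψ, hψ⟩ := exists_cell P hql M n hftM
  exact npc_of_nIso P hsum n (cell G n) (isStrictPC_cell P G hG n n) F _
    (nIso_of_cell ψ hψ e hac)

end Groth.Agent.Lib.Helper28.PC
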