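import Groth.Agent.Lib.Helper28.PCohC

/-!
# Pseudo-coherence (SGA 6 I §2), continued: approximation by strictly perfect complexes
-/


set_option autoImplicit false
universe w v u
open CategoryTheory CategoryTheory.Limits Category Pretriangulated DerivedCategory ZeroObject

namespace Groth.Agent.Lib.Helper28.PC

variable {C : Type u} [Category.{v} C] [Abelian C] [HasDerivedCategory.{w} C]

/-- **L10'**: a morphism in `D(C)` from a complex strictly `≤ k` to a cell in degree `k` is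
represented by a morphism of complexes. -/
lemma exists_map_to_cell (X : CochainComplex C ℤ) (k : ℤ) [X.IsStrictlyLE k] (A : C)
    (f : Q.obj X ⟶ Q.obj (cell A k)) : ∃ g : X ⟶ cell A k, Q.map g = f := by
  obtain ⟨X', hX', s, hs, g₀, hf⟩ := right_fac_of_isStrictlyLE f k
  have hs' : QuasiIso s := (isIso_Q_map_iff_quasiIso C s).1 hs
  let φ₀ : X'.X k ⟶ A := g₀.f k ≫ (HomologicalComplex.singleObjXSelf (ComplexShape.up ℤ) k A).hom
  have hφ₀ : X'.d (k - 1) k ≫ φ₀ = 0 := by
    dsimp [φ₀]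
    rw [← assoc, ← g₀.comm (k - 1) k]
    have : (cell A k).d (k - 1) k = 0 := (isZero_cell_X A k (k - 1) (by omega)).eq_of_src _ _
    rw [this, comp_zero, zero_comp]
  have hdX' : X'.d k (k + 1) = 0 :=
    (CochainComplex.isZero_of_isStrictlyLE X' k (k + 1) (by omega)).eq_of_tgt _ _
  have hdX : X.d k (k + 1) = 0 :=
    (CochainComplex.isZero_of_isStrictlyLE X k (k + 1) (by omega)).eq_of_tgt _ _
  let eX' := X'.isoHomologyι k (k + 1) (by simp) hdX'
  let eX := X.isoHomologyι k (k + 1) (by simp) hdX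
  let φ : X.X k ⟶ A := X.pOpcycles k ≫ eX.inv ≫ inv (HomologicalComplex.homologyMap s k) ≫
    eX'.hom ≫ X'.descOpcycles φ₀ (k - 1) (by simp) hφ₀
  let g : X ⟶ cell A k := HomologicalComplex.mkHomToSingle φ (fun i hi => by
    dsimp [φ]
    rw [HomologicalComplex.d_pOpcycles_assoc, zero_comp])
  refine ⟨g, ?_⟩
  have hsg : s ≫ g = g₀ := by
    apply HomologicalComplex.to_single_hom_ext (j := k)
    rw [HomologicalComplex.comp_f, HomologicalComplex.mkHomToSingle_f]
    have h1 : s.f k ≫ φ = φ₀ := by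
      dsimp [φ]
      rw [← HomologicalComplex.p_opcyclesMap_assoc]
      have h2 : HomologicalComplex.opcyclesMap s k ≫ eX.inv =
          eX'.inv ≫ HomologicalComplex.homologyMap s k := by
        rw [← cancel_mono eX.hom, assoc, Iso.inv_hom_id, comp_id, assoc]
        dsimp [eX, eX']
        rw [HomologicalComplex.isoHomologyι_hom, HomologicalComplex.homologyι_naturality,
          HomologicalComplex.isoHomologyι_inv_hom_id_assoc]
      rw [reassoc_of% h2, IsIso.hom_inv_id_assoc, Iso.inv_hom_id_assoc,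
        HomologicalComplex.p_descOpcycles]
    rw [reassoc_of% h1]
    simp [φ₀]
  rw [hf, ← hsg, Functor.map_comp, IsIso.inv_hom_id_assoc]

/-- `H^i(X⟦1⟧) ≅ H^{i+1}(X)`, naturally. -/
noncomputable def homologyShiftIso (i : ℤ) :
    shiftFunctor (DerivedCategory C) (1 : ℤ) ⋙ homologyFunctor C i ≅ homologyFunctor C (i + 1) :=
  (homologyFunctor C 0).shiftIso 1 i (i + 1) (by omega)

lemma isIso_map_iff_of_natIso {D E : Type*} [Category D] [Category E] {F G : D ⥤ E} (e : F ≅ G)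
    {X Y : D} (f : X ⟶ Y) : IsIso (F.map f) ↔ IsIso (G.map f) :=
  (MorphismProperty.isomorphisms E).arrow_mk_iso_iff
    (Arrow.isoMk (e.app X) (e.app Y) (by simp))

lemma epi_map_iff_of_natIso {D E : Type*} [Category D] [Category E] {F G : D ⥤ E} (e : F ≅ G)
    {X Y : D} (f : X ⟶ Y) : Epi (F.map f) ↔ Epi (G.map f) :=
  (MorphismProperty.epimorphisms E).arrow_mk_iso_iff
    (Arrow.isoMk (e.app X) (e.app Y) (by simp))

lemma nIso_of_shift {n : ℤ} {X Y : DerivedCategory C} (a : X ⟶ Y)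
    (h : NIso (n - 1) ((shiftFunctor (DerivedCategory C) (1 : ℤ)).map a)) : NIso n a := by
  refine ⟨fun i hi => ?_, ?_⟩
  · have h1 := h.1 (i - 1) (by omega)
    have h2 := (isIso_map_iff_of_natIso (homologyShiftIso (C := C) (i - 1)) a).1 h1
    have : i - 1 + 1 = i := by omega
    rw [this] at h2
    exact h2
  · have h1 := h.2
    have h2 := (epi_map_iff_of_natIso (homologyShiftIso (C := C) (n - 1)) a).1 h1
    have : n - 1 + 1 = n := by omega
    rw [this] at h2
    exact h2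


/-- terms of a mapping cocone -/
noncomputable def coconeXIso {K L : CochainComplex C ℤ} (φ : K ⟶ L) (i : ℤ) :
    (CochainComplex.mappingCocone φ).X i ≅ K.X (i + -1 + 1) ⊞ L.X (i + -1) :=
  coneXIso φ (i + -1)

lemma epi_of_isZero_tgt {X Y : C} (f : X ⟶ Y) (hY : IsZero Y) : Epi f :=
  ⟨fun _ _ _ => hY.eq_of_src _ _⟩

lemma nIso_zero_of_acycGT (F : DerivedCategory C) (n : ℤ) (hac : AcycGT F (n - 1)) :
    NIso n (0 : Q.obj (0 : CochainComplex C ℤ) ⟶ F) := by
  have h0 : IsZero (Q.obj (0 : CochainComplex C ℤ)) :=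
    (Q (C := C)).map_isZero (isZero_zero _)
  refine ⟨fun i hi => ?_, ?_⟩
  · exact isIso_of_isZero _ ((homologyFunctor C i).map_isZero h0) (hac i (by omega))
  · exact epi_of_isZero_tgt _ (hac n (by omega))

theorem exists_strictPerfect_nIso_aux (P : ObjectProperty C) [P.IsClosedUnderIsomorphisms]
    [P.ContainsZero] (hsum : ∀ X Y : C, P X → P Y → P (X ⨯ Y))
    (hqs : PCoh.IsQuasiStableUnderKernels P) (hql : PCoh.IsQuasiLiftable P) (n : ℤ) :
    ∀ (r : ℕ) (b : ℤ), b - n + 1 ≤ r → ∀ (F : DerivedCategory C), NPC P n F → AcycGT F b →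
      ∃ K : CochainComplex C ℤ, (∀ i, P (K.X i)) ∧ (∀ i, i < n ∨ b < i → IsZero (K.X i)) ∧
        ∃ α : Q.obj K ⟶ F, NIso n α := by
  have base : ∀ (b : ℤ), b < n → ∀ (F : DerivedCategory C), AcycGT F b →
      ∃ K : CochainComplex C ℤ, (∀ i, P (K.X i)) ∧ (∀ i, i < n ∨ b < i → IsZero (K.X i)) ∧
        ∃ α : Q.obj K ⟶ F, NIso n α := by
    intro b hb F hac
    have hz : ∀ i, IsZero ((0 : CochainComplex C ℤ).X i) := fun i =>
      (HomologicalComplex.eval C (ComplexShape.up ℤ) i).map_isZero (isZero_zero _)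
    exact ⟨0, fun i => P.prop_of_isZero (hz i), fun i _ => hz i, 0,
      nIso_zero_of_acycGT F n (hac.mono (by omega))⟩
  intro r
  induction r with
  | zero =>
    intro b hb F _ hac
    exact base b (by omega) F hac
  | succ r ih =>
    intro b hb F hF hac
    by_cases hbn : b < n
    · exact base b hbn F hac
    have hnb : n ≤ b := by omega
    let M := Q.objPreimage F
    let e : Q.obj M ≅ F := Q.objObjPreimageIso F
    have hft := finiteType_top P hqs hnb hF hac
    have hftM : PCoh.IsOfFiniteType P (M.homology b) :=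
      IsOfFiniteType.of_iso ((homologyFunctor C b).mapIso e.symm ≪≫ homologyQIso M b) hft
    obtain ⟨G, hG, ψ, hψ⟩ := exists_cell P hql M b hftM
    have t₁ := mappingCone_triangle_distinguished ψ
    have hF₁ : NPC P n (Q.obj (CochainComplex.mappingCone ψ)) :=
      npc_cone P hsum hqs hql n _ t₁ ⟨cell G b, isStrictPC_cell P G hG b _, ⟨Iso.refl _⟩⟩
        (hF.of_iso e.symm)
    have hac₁ : AcycGT (Q.obj (CochainComplex.mappingCone ψ)) (b - 1) :=
      acycGT_cone_of_cell _ t₁ b (fun i hi => isZero_homology_Q_cell G b i hi)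
        (hac.of_iso e.symm) ((epi_homologyFunctor_map_Q_iff ψ b).2 hψ)
    obtain ⟨K₁, hP₁, hz₁, α₁, hα₁⟩ := ih (b - 1) (by omega) _ hF₁ hac₁
    let T₁ := Q.mapTriangle.obj (CochainComplex.mappingCone.triangle ψ)
    let del : Q.obj (CochainComplex.mappingCone ψ) ⟶
      (shiftFunctor (DerivedCategory C) (1 : ℤ)).obj (Q.obj (cell G b)) := T₁.mor₃
    let σ : (shiftFunctor (CochainComplex C ℤ) (1 : ℤ)).obj (cell G b) ≅ cell G (b - 1) :=
      ((CochainComplex.singleFunctors C).shiftIso 1 (b - 1) b (by omega)).app G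
    let c : Q.obj (cell G (b - 1)) ≅
        (shiftFunctor (DerivedCategory C) (1 : ℤ)).obj (Q.obj (cell G b)) :=
      Q.mapIso σ.symm ≪≫ ((Q (C := C)).commShiftIso (1 : ℤ)).app (cell G b)
    haveI : K₁.IsStrictlyLE (b - 1) := by
      rw [CochainComplex.isStrictlyLE_iff]
      intro i hi
      exact hz₁ i (Or.inr hi)
    obtain ⟨g, hg⟩ := exists_map_to_cell K₁ (b - 1) G (α₁ ≫ del ≫ c.inv)
    let T₂ := Q.mapTriangle.obj (CochainComplex.mappingCocone.triangle g)
    have t₂ : T₂ ∈ distTriang _ := mappingCocone_triangle_distinguished g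
    obtain ⟨C₁, v₁₂, w₁₂, h₁₂⟩ := distinguished_cocone_triangle α₁
    have hC₁ : AcycGT C₁ (n - 1) := acycGT_obj₃_of_nIso _ h₁₂ n hα₁
    have h₂₃ := rot_of_distTriang _ (rot_of_distTriang _ t₁)
    have h₁₃' := rot_of_distTriang _ t₂
    have h₁₃ : Triangle.mk (α₁ ≫ del) (c.inv ≫ T₂.rotate.mor₂) T₂.rotate.mor₃ ∈ distTriang _ := by
      refine isomorphic_distinguished _ h₁₃' _
        (Triangle.isoMk _ _ (Iso.refl _) c.symm (Iso.refl _) ?_ ?_ ?_)
      · change (α₁ ≫ del) ≫ c.inv = 𝟙 _ ≫ Q.map g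
        rw [hg, id_comp, assoc]
      · change (c.inv ≫ T₂.rotate.mor₂) ≫ 𝟙 _ = c.inv ≫ T₂.rotate.mor₂
        rw [comp_id]
      · change T₂.rotate.mor₃ ≫ (shiftFunctor (DerivedCategory C) (1 : ℤ)).map (𝟙 _) =
          𝟙 _ ≫ T₂.rotate.mor₃
        rw [CategoryTheory.Functor.map_id, comp_id, id_comp]
    have oct := Triangulated.someOctahedron rfl h₁₂ h₂₃ h₁₃
    have hm₃ : NIso (n - 1) oct.m₃ := nIso_mor₂_of_acycGT _ oct.mem (n - 1) hC₁
    obtain ⟨a, ha⟩ := (shiftFunctor (DerivedCategory C) (1 : ℤ)).map_surjective oct.m₃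
    have hNa : NIso n a := nIso_of_shift a (by rw [ha]; exact hm₃)
    refine ⟨CochainComplex.mappingCocone g, fun i => ?_, fun i hi => ?_, a ≫ e.hom,
      hNa.comp (NIso.of_isIso e.hom)⟩
    · exact P.prop_of_iso (coconeXIso g i).symm (prop_biprod P hsum (hP₁ _)
        ((isStrictPC_cell P G hG (b - 1) (i + -1)).2 (i + -1) le_rfl))
    · exact (isZero_biprod (hz₁ _ (by omega)) (isZero_cell_X G (b - 1) (i + -1) (by omega))).of_iso
        (coconeXIso g i)


/-- an `n`-pseudo-coherent object acyclic in degrees `> b` receives an `n`-isomorphism from a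
strictly perfect complex concentrated in degrees `[n, b]`. -/
theorem exists_strictPerfect_nIso (P : ObjectProperty C) [P.IsClosedUnderIsomorphisms]
    [P.ContainsZero] (hsum : ∀ X Y : C, P X → P Y → P (X ⨯ Y))
    (hqs : PCoh.IsQuasiStableUnderKernels P) (hql : PCoh.IsQuasiLiftable P) (n b : ℤ)
    (F : DerivedCategory C) (hF : NPC P n F) (hac : AcycGT F b) :
    ∃ K : CochainComplex C ℤ, (∀ i, P (K.X i)) ∧ (∀ i, i < n ∨ b < i → IsZero (K.X i)) ∧
      ∃ α : Q.obj K ⟶ F, NIso n α :=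
  exists_strictPerfect_nIso_aux P hsum hqs hql n (b - n + 1).toNat b (by omega) F hF hac

/-- Lemma B with control on the vanishing of the terms in degrees `≥ n`. -/
theorem npc_of_nIso' (P : ObjectProperty C) [P.IsClosedUnderIsomorphisms] [P.ContainsZero]
    (hsum : ∀ X Y : C, P X → P Y → P (X ⨯ Y)) (n : ℤ) (K : CochainComplex C ℤ)
    (hK : PCoh.IsStrictPC P n K) (F : DerivedCategory C) (α : Q.obj K ⟶ F) (hα : NIso n α) :
    ∃ E : CochainComplex C ℤ, PCoh.IsStrictPC P n E ∧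
      (∀ i, n ≤ i → IsZero (K.X i) → IsZero (E.X i)) ∧ Nonempty (Q.obj E ≅ F) := by
  obtain ⟨Φ, f, h, hT⟩ := distinguished_cocone_triangle₁ α
  have hΦ : AcycGT Φ n := acycGT_obj₁_of_nIso _ hT n hα
  let Φ₀ := Q.objPreimage Φ
  let eΦ : Q.obj Φ₀ ≅ Φ := Q.objObjPreimageIso Φ
  obtain ⟨T', s, hs, w, hw⟩ := right_fac (eΦ.hom ≫ f)
  have hT' : T'.IsLE n := isLE_of_acycGT T' n (hΦ.of_iso ((asIso (Q.map s) ≪≫ eΦ).symm))
  let ι := T'.ιTruncLE n
  have hι : QuasiIso ι := inferInstance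
  let w'' := ι ≫ w
  have hT2 := mappingCone_triangle_distinguished w''
  let e₁ : Q.obj (T'.truncLE n) ≅ Φ := asIso (Q.map ι) ≪≫ asIso (Q.map s) ≪≫ eΦ
  have comm : Q.map w'' ≫ 𝟙 _ = e₁.hom ≫ f := by
    simp only [w'', e₁, Functor.map_comp, comp_id, Iso.trans_hom, asIso_hom, assoc, hw,
      IsIso.hom_inv_id_assoc]
  let e := isoTriangleOfIso₁₂ _ _ hT2 hT e₁ (Iso.refl _) comm
  refine ⟨CochainComplex.mappingCone w'', ?_, fun i hi hz => ?_, ⟨Triangle.π₃.mapIso e⟩⟩
  · apply isStrictPC_mappingCone P hsum w'' n _ hK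
    refine ⟨⟨n, fun i hi => CochainComplex.isZero_of_isStrictlyLE _ n i hi⟩, fun i hi => ?_⟩
    exact P.prop_of_isZero (CochainComplex.isZero_of_isStrictlyLE _ n i (by omega))
  · exact (isZero_biprod (CochainComplex.isZero_of_isStrictlyLE _ n (i + 1) (by omega)) hz).of_iso
      (coneXIso w'' i)

end Groth.Agent.Lib.Helper28.PC
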