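import Groth.Agent.Lib.Helper28.PCohD

/-!
# Pseudo-coherence (SGA 6 I §2), continued: retracts
-/


set_option autoImplicit false
universe w v u
open CategoryTheory CategoryTheory.Limits Category Pretriangulated DerivedCategory ZeroObject

namespace Groth.Agent.Lib.Helper28.PC

variable {C : Type u} [Category.{v} C] [Abelian C] [HasDerivedCategory.{w} C]

lemma AcycGT.of_retract {X Y : DerivedCategory C} (i : X ⟶ Y) (p : Y ⟶ X) (h : i ≫ p = 𝟙 X)
    {b : ℤ} (hY : AcycGT Y b) : AcycGT X b := by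
  intro j hj
  rw [IsZero.iff_id_eq_zero, ← CategoryTheory.Functor.map_id, ← h, Functor.map_comp,
    (hY j hj).eq_of_tgt ((homologyFunctor C j).map i) 0, zero_comp]

lemma acycGT_obj₃ (T : Triangle (DerivedCategory C)) (hT : T ∈ distTriang _) (b : ℤ)
    (h₁ : AcycGT T.obj₁ (b + 1)) (h₂ : AcycGT T.obj₂ b) : AcycGT T.obj₃ b := by
  intro i hi
  exact (HomologySequence.exact₃ T hT i (i + 1) rfl).isZero_of_both_zeros
    ((h₂ i hi).eq_of_src _ _) ((h₁ (i + 1) (by omega)).eq_of_tgt _ _)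

lemma acycGT_Q_cell (G : C) (k : ℤ) : AcycGT (Q.obj (cell G k)) k :=
  fun i hi => isZero_homology_Q_cell G k i (by omega)

/-- an object acyclic in degrees `≥ n` is `n`-pseudo-coherent. -/
lemma npc_of_acycGT (P : ObjectProperty C) [P.IsClosedUnderIsomorphisms] [P.ContainsZero]
    (hsum : ∀ X Y : C, P X → P Y → P (X ⨯ Y)) (n : ℤ) (F : DerivedCategory C)
    (hac : AcycGT F (n - 1)) : NPC P n F := by
  have hz : ∀ i, IsZero ((0 : CochainComplex C ℤ).X i) := fun i =>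
    (HomologicalComplex.eval C (ComplexShape.up ℤ) i).map_isZero (isZero_zero _)
  exact npc_of_nIso P hsum n 0 ⟨⟨0, fun i _ => hz i⟩, fun i _ => P.prop_of_isZero (hz i)⟩ F 0
    (nIso_zero_of_acycGT F n hac)

theorem npc_of_retract_aux (P : ObjectProperty C) [P.IsClosedUnderIsomorphisms]
    [P.ContainsZero] (hsum : ∀ X Y : C, P X → P Y → P (X ⨯ Y))
    (hqs : PCoh.IsQuasiStableUnderKernels P) (hql : PCoh.IsQuasiLiftable P) (n : ℤ) :
    ∀ (r : ℕ) (b : ℤ), b - n + 1 ≤ r → ∀ (X Y : DerivedCategory C) (i : X ⟶ Y) (p : Y ⟶ X),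
      i ≫ p = 𝟙 X → NPC P n Y → AcycGT Y b → NPC P n X := by
  intro r
  induction r with
  | zero =>
    intro b hb X Y i p hip _ hac
    exact npc_of_acycGT P hsum n X ((AcycGT.of_retract i p hip hac).mono (by omega))
  | succ r ih =>
    intro b hb X Y i p hip hY hac
    by_cases hbn : b < n
    · exact npc_of_acycGT P hsum n X ((AcycGT.of_retract i p hip hac).mono (by omega))
    have hnb : n ≤ b := by omega
    let M := Q.objPreimage Y
    let e : Q.obj M ≅ Y := Q.objObjPreimageIso Y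
    have hft := finiteType_top P hqs hnb hY hac
    have hftM : PCoh.IsOfFiniteType P (M.homology b) :=
      IsOfFiniteType.of_iso ((homologyFunctor C b).mapIso e.symm ≪≫ homologyQIso M b) hft
    obtain ⟨G, hG, ψ, hψ⟩ := exists_cell P hql M b hftM
    have hcell : ∀ m, NPC P m (Q.obj (cell G b)) := fun m =>
      ⟨cell G b, isStrictPC_cell P G hG b m, ⟨Iso.refl _⟩⟩
    obtain ⟨uY, huY_def⟩ : ∃ u : Q.obj (cell G b) ⟶ Y, u = Q.map ψ ≫ e.hom := ⟨_, rfl⟩
    have huY : Epi ((homologyFunctor C b).map uY) := by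
      have := (epi_homologyFunctor_map_Q_iff ψ b).2 hψ
      rw [huY_def, Functor.map_comp]
      infer_instance
    -- first cell, attached through the idempotent
    obtain ⟨Y₂, v₂, w₂, hT₂⟩ := distinguished_cocone_triangle (uY ≫ p ≫ i)
    have hY₂ : NPC P n Y₂ := npc_cone P hsum hqs hql n _ hT₂ (hcell _) hY
    have hacY₂ : AcycGT Y₂ b := acycGT_obj₃ _ hT₂ b ((acycGT_Q_cell G b).mono (by omega)) hac
    have hv₂ : Epi ((homologyFunctor C b).map v₂) :=
      (HomologySequence.epi_homologyMap_mor₂_iff _ hT₂ b (b + 1) rfl).2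
        ((isZero_homology_Q_cell G b (b + 1) (by omega)).eq_of_tgt _ _)
    -- second cell
    obtain ⟨Y₃, v₃, w₃, hT₃⟩ := distinguished_cocone_triangle (uY ≫ v₂)
    have hY₃ : NPC P n Y₃ := npc_cone P hsum hqs hql n _ hT₃ (hcell _) hY₂
    have hacY₃ : AcycGT Y₃ (b - 1) :=
      acycGT_cone_of_cell _ hT₃ b (fun j hj => isZero_homology_Q_cell G b j hj) hacY₂ (by
        dsimp only [Triangle.mk]
        rw [Functor.map_comp]
        infer_instance)
    -- the cone for `X`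
    obtain ⟨X₁, vX, wX, hTX⟩ := distinguished_cocone_triangle (uY ≫ p)
    obtain ⟨j₁, hj₁, hj₁'⟩ : ∃ j₁ : X₁ ⟶ Y₂, vX ≫ j₁ = i ≫ v₂ ∧
        wX ≫ (shiftFunctor (DerivedCategory C) (1 : ℤ)).map (𝟙 _) = j₁ ≫ w₂ :=
      complete_distinguished_triangle_morphism _ _ hTX hT₂ (𝟙 _) i
      (by
        dsimp only [Triangle.mk]
        rw [id_comp, assoc])
    obtain ⟨q₁, hq₁, hq₁'⟩ : ∃ q₁ : Y₂ ⟶ X₁, v₂ ≫ q₁ = p ≫ vX ∧
        w₂ ≫ (shiftFunctor (DerivedCategory C) (1 : ℤ)).map (𝟙 _) = q₁ ≫ wX :=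
      complete_distinguished_triangle_morphism _ _ hT₂ hTX (𝟙 _) p
      (by
        dsimp only [Triangle.mk]
        rw [id_comp, assoc, assoc, hip, comp_id])
    rw [CategoryTheory.Functor.map_id, comp_id] at hj₁' hq₁'
    -- `j₁ ≫ q₁` is an isomorphism
    let φ : Triangle.mk (uY ≫ p) vX wX ⟶ Triangle.mk (uY ≫ p) vX wX :=
      { hom₁ := 𝟙 _
        hom₂ := 𝟙 _
        hom₃ := j₁ ≫ q₁
        comm₁ := by simp
        comm₂ := by
          dsimp only [Triangle.mk]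
          rw [id_comp, reassoc_of% hj₁, hq₁, reassoc_of% hip]
        comm₃ := by
          dsimp only [Triangle.mk]
          rw [CategoryTheory.Functor.map_id, comp_id, assoc, ← hq₁', ← hj₁'] }
    have hθ : IsIso (j₁ ≫ q₁) := isIso₃_of_isIso₁₂ φ hTX hTX
      (by dsimp [φ]; infer_instance) (by dsimp [φ]; infer_instance)
    obtain ⟨q₃, hq₃⟩ : ∃ q₃ : Y₃ ⟶ X₁, q₁ = v₃ ≫ q₃ := Triangle.yoneda_exact₂ _ hT₃ q₁ (by
      have h0 : (uY ≫ p) ≫ vX = 0 := comp_distTriang_mor_zero₁₂ _ hTX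
      change (uY ≫ v₂) ≫ q₁ = 0
      rw [assoc, hq₁, ← assoc, h0])
    have hX₁ : NPC P n X₁ := ih (b - 1) (by omega) X₁ Y₃ (j₁ ≫ v₃) (q₃ ≫ inv (j₁ ≫ q₁)) (by
      rw [assoc, ← assoc v₃, ← hq₃, ← assoc, IsIso.hom_inv_id]) hY₃ hacY₃
    exact npc_obj₂ P hsum hqs hql n _ hTX (hcell n) hX₁

/-- a retract of an `n`-pseudo-coherent object is `n`-pseudo-coherent. -/
theorem npc_of_retract (P : ObjectProperty C) [P.IsClosedUnderIsomorphisms]
    [P.ContainsZero] (hsum : ∀ X Y : C, P X → P Y → P (X ⨯ Y))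
    (hqs : PCoh.IsQuasiStableUnderKernels P) (hql : PCoh.IsQuasiLiftable P) (n : ℤ)
    {X Y : DerivedCategory C} (i : X ⟶ Y) (p : Y ⟶ X) (hip : i ≫ p = 𝟙 X) (hY : NPC P n Y) :
    NPC P n X := by
  obtain ⟨b, hb⟩ := hY.exists_acycGT
  exact npc_of_retract_aux P hsum hqs hql n (b - n + 1).toNat b (by omega) X Y i p hip hY hb

end Groth.Agent.Lib.Helper28.PC
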