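import Groth.Agent.Lib.Helper28.PCohE

/-!
# Pseudo-coherence (SGA 6 I §2), continued: the cohomological criterion
-/


set_option autoImplicit false
universe w v u
open CategoryTheory CategoryTheory.Limits Category Pretriangulated DerivedCategory ZeroObject

namespace Groth.Agent.Lib.Helper28.PC

variable {C : Type u} [Category.{v} C] [Abelian C] [HasDerivedCategory.{w} C]

lemma acycGT_of_isZero {X : DerivedCategory C} (h : IsZero X) (k : ℤ) : AcycGT X k :=
  fun i _ => (homologyFunctor C i).map_isZero h

/-- `H^k` of `A` placed in degree `k`. -/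
noncomputable def homologySingleIso (A : C) (k : ℤ) :
    (homologyFunctor C k).obj ((singleFunctor C k).obj A) ≅ A :=
  homologyQIso (cell A k) k ≪≫ HomologicalComplex.singleObjHomologySelfIso _ _ _

theorem npc_of_homology_aux (P : ObjectProperty C) [P.IsClosedUnderIsomorphisms]
    [P.ContainsZero] (hsum : ∀ X Y : C, P X → P Y → P (X ⨯ Y))
    (hqs : PCoh.IsQuasiStableUnderKernels P) (hql : PCoh.IsQuasiLiftable P) (n : ℤ) :
    ∀ (r : ℕ) (b : ℤ), b - n + 1 ≤ r → ∀ (F : DerivedCategory C), AcycGT F b →
      (∀ i, n ≤ i → NPC P (n - i) ((singleFunctor C 0).obj ((homologyFunctor C i).obj F))) →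
      NPC P n F := by
  intro r
  induction r with
  | zero =>
    intro b hb F hac _
    exact npc_of_acycGT P hsum n F (hac.mono (by omega))
  | succ r ih =>
    intro b hb F hac hfp
    by_cases hbn : b < n
    · exact npc_of_acycGT P hsum n F (hac.mono (by omega))
    have hnb : n ≤ b := by omega
    obtain ⟨A, B, hA, hB, f, g, h, hT⟩ := TStructure.t.exists_triangle F (b - 1) b (by omega)
    haveI : A.IsLE (b - 1) := ⟨hA⟩
    haveI : B.IsGE b := ⟨hB⟩
    have hacA : AcycGT A (b - 1) := (isLE_iff A (b - 1)).1 inferInstance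
    have hgeB : ∀ i, i < b → IsZero ((homologyFunctor C i).obj B) := (isGE_iff B b).1 inferInstance
    have hacB : AcycGT B b := acycGT_obj₃ _ hT b (hacA.mono (by omega)) hac
    haveI : B.IsLE b := (isLE_iff B b).2 hacB
    -- `H^b(F) ≅ H^b(B)`
    have hg : IsIso ((homologyFunctor C b).map g) := by
      have h1 : Mono ((homologyFunctor C b).map g) :=
        (HomologySequence.mono_homologyMap_mor₂_iff _ hT b).2
          ((hacA b (by omega)).eq_of_src _ _)
      have h2 : Epi ((homologyFunctor C b).map g) :=
        (HomologySequence.epi_homologyMap_mor₂_iff _ hT b (b + 1) rfl).2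
          ((hacA (b + 1) (by omega)).eq_of_tgt _ _)
      exact isIso_of_mono_of_epi _
    -- `H^i(A) ≅ H^i(F)` for `i < b`
    have hf : ∀ i, i < b → IsIso ((homologyFunctor C i).map f) := fun i hi => by
      have h1 : Mono ((homologyFunctor C i).map f) :=
        (HomologySequence.mono_homologyMap_mor₁_iff _ hT (i - 1) i (by omega)).2
          ((hgeB (i - 1) (by omega)).eq_of_src _ _)
      have h2 : Epi ((homologyFunctor C i).map f) :=
        (HomologySequence.epi_homologyMap_mor₁_iff _ hT i).2
          ((hgeB i hi).eq_of_tgt _ _)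
      exact isIso_of_mono_of_epi _
    -- `A` is `n`-pseudo-coherent by induction
    have hAn : NPC P n A := by
      refine ih (b - 1) (by omega) A hacA (fun i hi => ?_)
      by_cases hib : i < b
      · have := hf i hib
        exact (hfp i hi).of_iso ((singleFunctor C 0).mapIso (asIso ((homologyFunctor C i).map f)).symm)
      · exact npc_of_acycGT P hsum _ _ (acycGT_of_isZero
          ((singleFunctor C 0).map_isZero (hacA i (by omega))) _)
    -- `B` is `n`-pseudo-coherent
    obtain ⟨H, ⟨eB⟩⟩ := exists_iso_singleFunctor_obj_of_isGE_of_isLE B b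
    let eH : H ≅ (homologyFunctor C b).obj F :=
      (homologySingleIso H b).symm ≪≫ (homologyFunctor C b).mapIso eB.symm ≪≫
        (asIso ((homologyFunctor C b).map g)).symm
    have hBn : NPC P n B := by
      have h1 := (hfp b hnb).shift P (-b)
      rw [sub_neg_eq_add, sub_add_cancel] at h1
      refine h1.of_iso ((shiftFunctor (DerivedCategory C) (-b)).mapIso
        ((singleFunctor C 0).mapIso eH.symm) ≪≫ ?_ ≪≫ eB.symm)
      exact ((singleFunctors C).shiftIso (-b) b 0 (by omega)).app H
    exact npc_obj₂ P hsum hqs hql n _ hT hAn hBn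

end Groth.Agent.Lib.Helper28.PC
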