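import Groth.Agent.Lib.Helper28.PCohF
import Mathlib.Algebra.Homology.DerivedCategory.ShortExact
import Mathlib.Algebra.Homology.HomologicalComplexAbelian

/-!
# Pseudo-coherence (SGA 6 I §2), continued: the termwise criterion
-/

set_option autoImplicit false
universe w v u
open CategoryTheory CategoryTheory.Limits Category Pretriangulated DerivedCategory ZeroObject

namespace Groth.Agent.Lib.Helper28.PC

variable {C : Type u} [Category.{v} C] [Abelian C]

lemma mono_of_isZero_src {X Y : C} (f : X ⟶ Y) (hX : IsZero X) : Mono f :=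
  ⟨fun _ _ _ => hX.eq_of_tgt _ _⟩

/-- the inclusion of the top term of a complex vanishing in degree `b + 1`. -/
noncomputable def topIncl (F : CochainComplex C ℤ) (b : ℤ) (hb : IsZero (F.X (b + 1))) :
    cell (F.X b) b ⟶ F :=
  HomologicalComplex.mkHomFromSingle (𝟙 _) (fun k hk => by
    obtain rfl : b + 1 = k := by simpa using hk
    exact hb.eq_of_tgt _ _)

/-- the short complex `0 → F^b[-b] → F → F/F^b[-b] → 0`. -/
noncomputable def topSC (F : CochainComplex C ℤ) (b : ℤ) (hb : IsZero (F.X (b + 1))) :
    ShortComplex (CochainComplex C ℤ) :=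
  ShortComplex.mk (topIncl F b hb) (cokernel.π _) (cokernel.condition _)

lemma topSC_shortExact (F : CochainComplex C ℤ) (b : ℤ) (hb : IsZero (F.X (b + 1))) :
    (topSC F b hb).ShortExact := by
  have hmono : Mono (topIncl F b hb) := by
    apply HomologicalComplex.mono_of_mono_f
    intro i
    by_cases h : i = b
    · subst h
      dsimp only [topIncl]
      rw [HomologicalComplex.mkHomFromSingle_f]
      infer_instance
    · exact mono_of_isZero_src _ (isZero_cell_X _ b i h)
  exact ShortComplex.ShortExact.mk'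
    ((topSC F b hb).exact_of_g_is_cokernel (cokernelIsCokernel _)) hmono
    (by dsimp [topSC]; infer_instance)

/-- the terms of the quotient in degrees `≠ b`. -/
noncomputable def topSCXIso (F : CochainComplex C ℤ) (b : ℤ) (hb : IsZero (F.X (b + 1))) (i : ℤ)
    (hi : i ≠ b) : F.X i ≅ (topSC F b hb).X₃.X i := by
  have h := (topSC_shortExact F b hb).map_of_exact (HomologicalComplex.eval C (ComplexShape.up ℤ) i)
  let g : F.X i ⟶ (topSC F b hb).X₃.X i :=
    ((topSC F b hb).map (HomologicalComplex.eval C (ComplexShape.up ℤ) i)).g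
  have : IsIso g := h.isIso_g_iff.2 (isZero_cell_X _ b i hi)
  exact asIso g

lemma isZero_topSC_X₃_X (F : CochainComplex C ℤ) (b : ℤ) (hb : IsZero (F.X (b + 1))) :
    IsZero ((topSC F b hb).X₃.X b) := by
  have h := (topSC_shortExact F b hb).map_of_exact (HomologicalComplex.eval C (ComplexShape.up ℤ) b)
  refine h.isIso_f_iff.1 ?_
  change IsIso ((topIncl F b hb).f b)
  dsimp only [topIncl]
  rw [HomologicalComplex.mkHomFromSingle_f]
  infer_instance

lemma isZero_topSC_X₃_X' (F : CochainComplex C ℤ) (b : ℤ) (hb : IsZero (F.X (b + 1))) (i : ℤ)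
    (hi : IsZero (F.X i)) : IsZero ((topSC F b hb).X₃.X i) := by
  have h := (topSC_shortExact F b hb).map_of_exact (HomologicalComplex.eval C (ComplexShape.up ℤ) i)
  let g : F.X i ⟶ (topSC F b hb).X₃.X i :=
    ((topSC F b hb).map (HomologicalComplex.eval C (ComplexShape.up ℤ) i)).g
  have : Epi g := h.epi_g
  exact IsZero.of_epi g hi


variable [HasDerivedCategory.{w} C]

lemma acycGT_Q_of_isZero_X (F : CochainComplex C ℤ) (b : ℤ) (hb : ∀ i, b < i → IsZero (F.X i)) :
    AcycGT (Q.obj F) b :=
  fun i hi => (isZero_homology_of_isZero_X F i (hb i hi)).of_iso (homologyQIso F i)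

/-- `A` in degree `k` is `n`-pseudo-coherent if `A` in degree `0` is `(n - k)`-pseudo-coherent. -/
lemma npc_single_of_npc_single₀ {P : ObjectProperty C} (A : C) (n k : ℤ)
    (h : NPC P (n - k) ((singleFunctor C 0).obj A)) : NPC P n ((singleFunctor C k).obj A) := by
  have h1 := h.shift P (-k)
  rw [sub_neg_eq_add, sub_add_cancel] at h1
  exact h1.of_iso (((singleFunctors C).shiftIso (-k) k 0 (by omega)).app A)

theorem npc_of_termwise_aux (P : ObjectProperty C) [P.IsClosedUnderIsomorphisms]
    [P.ContainsZero] (hsum : ∀ X Y : C, P X → P Y → P (X ⨯ Y))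
    (hqs : PCoh.IsQuasiStableUnderKernels P) (hql : PCoh.IsQuasiLiftable P) (n : ℤ) :
    ∀ (r : ℕ) (b : ℤ), b - n + 1 ≤ r → ∀ (F : CochainComplex C ℤ),
      (∀ i, b < i → IsZero (F.X i)) →
      (∀ i, n ≤ i → NPC P (n - i) ((singleFunctor C 0).obj (F.X i))) → NPC P n (Q.obj F) := by
  intro r
  induction r with
  | zero =>
    intro b hb F hz _
    exact npc_of_acycGT P hsum n _ ((acycGT_Q_of_isZero_X F b hz).mono (by omega))
  | succ r ih =>
    intro b hb F hz hfp
    by_cases hbn : b < n
    · exact npc_of_acycGT P hsum n _ ((acycGT_Q_of_isZero_X F b hz).mono (by omega))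
    have hnb : n ≤ b := by omega
    have hb1 := hz (b + 1) (by omega)
    have hS := topSC_shortExact F b hb1
    have hT := triangleOfSES_distinguished hS
    have h₁ : NPC P n (Q.obj (cell (F.X b) b)) := npc_single_of_npc_single₀ (F.X b) n b (hfp b hnb)
    have h₃ : NPC P n (Q.obj (topSC F b hb1).X₃) := by
      refine ih (b - 1) (by omega) _ (fun i hi => ?_) (fun i hi => ?_)
      · by_cases hib : i = b
        · subst hib; exact isZero_topSC_X₃_X F i hb1
        · exact isZero_topSC_X₃_X' F b hb1 i (hz i (by omega))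
      · by_cases hib : i < b
        · exact (hfp i hi).of_iso ((singleFunctor C 0).mapIso (topSCXIso F b hb1 i (by omega)))
        · have hzi : IsZero ((topSC F b hb1).X₃.X i) := by
            by_cases hib' : i = b
            · subst hib'; exact isZero_topSC_X₃_X F i hb1
            · exact isZero_topSC_X₃_X' F b hb1 i (hz i (by omega))
          exact npc_of_acycGT P hsum _ _ (acycGT_of_isZero ((singleFunctor C 0).map_isZero hzi) _)
    exact npc_obj₂ P hsum hqs hql n _ hT h₁ h₃

end Groth.Agent.Lib.Helper28.PC
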