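import Groth.Agent.Lib.Helper28.PCohG
import Mathlib.Algebra.Homology.DerivedCategory.SingleTriangle

/-!
# Pseudo-coherence (SGA 6 I §2), continued: intermediate subcategories
-/

set_option autoImplicit false
universe w v u
open CategoryTheory CategoryTheory.Limits Category Pretriangulated DerivedCategory ZeroObject

namespace Groth.Agent.Lib.Helper28.PC

variable {C : Type u} [Category.{v} C] [Abelian C]

/-- cycles of an `ℕ`-indexed cochain complex, as an explicit kernel. -/
noncomputable abbrev Zk (K : CochainComplex C ℕ) (j : ℕ) : C := kernel (K.d j (j + 1))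

noncomputable def toZ (K : CochainComplex C ℕ) (j : ℕ) : K.X j ⟶ Zk K (j + 1) :=
  kernel.lift _ (K.d j (j + 1)) (K.d_comp_d _ _ _)

lemma toZ_ι (K : CochainComplex C ℕ) (j : ℕ) :
    toZ K j ≫ kernel.ι (K.d (j + 1) (j + 1 + 1)) = K.d j (j + 1) :=
  kernel.lift_ι _ _ _

noncomputable def zSC (K : CochainComplex C ℕ) (j : ℕ) : ShortComplex C :=
  ShortComplex.mk (kernel.ι (K.d j (j + 1)) : Zk K j ⟶ K.X j) (toZ K j) (by
    rw [← cancel_mono (kernel.ι (K.d (j + 1) (j + 1 + 1))), assoc, toZ_ι, kernel.condition,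
      zero_comp])

lemma zSC_shortExact (K : CochainComplex C ℕ) (j : ℕ) (h : K.ExactAt (j + 1)) :
    (zSC K j).ShortExact := by
  have hex : (zSC K j).Exact := by
    apply ShortComplex.exact_of_f_is_kernel
    exact isKernelOfComp (kernel.ι (K.d (j + 1) (j + 1 + 1))) (K.d j (j + 1))
      (kernelIsKernel (K.d j (j + 1))) _ (toZ_ι K j)
  have hepi : Epi (toZ K j) := by
    rw [HomologicalComplex.exactAt_iff' _ j (j + 1) (j + 1 + 1) (by simp) (by simp)] at h
    exact h.epi_kernelLift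
  have hmono : Mono (zSC K j).f := by dsimp [zSC]; infer_instance
  exact ShortComplex.ShortExact.mk' hex hmono hepi

lemma mono_d_zero (K : CochainComplex C ℕ) (h : K.ExactAt 0) : Mono (K.d 0 1) := by
  rw [HomologicalComplex.exactAt_iff' _ 0 0 1 CochainComplex.prev_nat_zero (by simp)] at h
  rw [ShortComplex.exact_iff_mono _ (K.shape 0 0 (by simp))] at h
  exact h

/-- `K^0 ≅ Z^1` when `K` is exact at `0` and `1`. -/
noncomputable def x0IsoZ1 (K : CochainComplex C ℕ) (h0 : K.ExactAt 0) (h1 : K.ExactAt 1) :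
    K.X 0 ≅ Zk K 1 := by
  have hepi : Epi (toZ K 0) := (zSC_shortExact K 0 h1).epi_g
  have hmono : Mono (toZ K 0) := by
    have := mono_d_zero K h0
    have h2 : Mono (toZ K 0 ≫ kernel.ι (K.d (0 + 1) (0 + 1 + 1))) := by
      rw [toZ_ι]; exact this
    exact mono_of_mono _ (kernel.ι (K.d (0 + 1) (0 + 1 + 1)))
  have := isIso_of_mono_of_epi (toZ K 0)
  exact asIso (toZ K 0)


variable [HasDerivedCategory.{w} C]

lemma npc_single₀_Zk (P : ObjectProperty C) [P.IsClosedUnderIsomorphisms]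
    [P.ContainsZero] (hsum : ∀ X Y : C, P X → P Y → P (X ⨯ Y))
    (hqs : PCoh.IsQuasiStableUnderKernels P) (hql : PCoh.IsQuasiLiftable P)
    (K : CochainComplex C ℕ) (hex : ∀ i, K.ExactAt i) (N : ℕ) (hN : ∀ i, N < i → IsZero (K.X i))
    (hK : ∀ i, 1 ≤ i → ∀ m, NPC P m ((singleFunctor C 0).obj (K.X i))) :
    ∀ (d j : ℕ), j + d = N + 1 → 1 ≤ j → ∀ m, NPC P m ((singleFunctor C 0).obj (Zk K j)) := by
  intro d
  induction d with
  | zero =>
    intro j hj _ m
    have hz : IsZero (Zk K j) := IsZero.of_mono (kernel.ι _) (hN j (by omega))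
    exact npc_of_acycGT P hsum _ _ (acycGT_of_isZero ((singleFunctor C 0).map_isZero hz) _)
  | succ d ih =>
    intro j hj hj1 m
    have h₃ := ih (j + 1) (by omega) (by omega) (m - 1)
    have h₂ := hK j hj1 m
    have hS := zSC_shortExact K j (hex (j + 1))
    have h := npc_obj₁ P hsum hqs hql (m - 1) _ hS.singleTriangle_distinguished
      (by rw [sub_add_cancel]; exact h₂) h₃
    rw [sub_add_cancel] at h
    exact h

theorem quasiLiftable_and_quasiStable (P : ObjectProperty C) [P.IsClosedUnderIsomorphisms]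
    [P.ContainsZero] (hsum : ∀ X Y : C, P X → P Y → P (X ⨯ Y))
    (hqs : PCoh.IsQuasiStableUnderKernels P) (hql : PCoh.IsQuasiLiftable P)
    (P₁ : ObjectProperty C) (hle : ∀ X : C, P X → P₁ X)
    (hpc : ∀ X : C, P₁ X → ∀ m, NPC P m ((singleFunctor C 0).obj X)) :
    PCoh.IsQuasiLiftable P₁ ∧ PCoh.IsQuasiStableUnderKernels P₁ := by
  have hft : ∀ X : C, (∀ m, NPC P m ((singleFunctor C 0).obj X)) → PCoh.IsOfFiniteType P X := by
    intro X hX
    have h := finiteType_top P hqs (le_refl 0) (hX 0) (acycGT_Q_cell X 0)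
    exact IsOfFiniteType.of_iso (homologySingleIso X 0) h
  constructor
  · intro E F u hu hF
    obtain ⟨G₀, π₀, hG₀, hπ₀⟩ := hft F (hpc F hF)
    obtain ⟨G, v, hG, hv⟩ := hql _ _ (pullback.snd u π₀) inferInstance hG₀
    refine ⟨G, v ≫ pullback.fst u π₀, hle G hG, ?_⟩
    have : (v ≫ pullback.fst u π₀) ≫ u = (v ≫ pullback.snd u π₀) ≫ π₀ := by
      simp only [assoc, pullback.condition]
    rw [this]
    infer_instance
  · intro K hex ⟨N, hN⟩ hK
    have h1 := npc_single₀_Zk P hsum hqs hql K hex N hN (fun i hi => hpc _ (hK i hi)) N 1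
      (by omega) le_rfl
    have h0 : ∀ m, NPC P m ((singleFunctor C 0).obj (K.X 0)) := fun m =>
      (h1 m).of_iso ((singleFunctor C 0).mapIso (x0IsoZ1 K (hex 0) (hex 1)).symm)
    obtain ⟨E, π, hE, hπ⟩ := hft _ h0
    exact ⟨E, π, hle E hE, hπ⟩

end Groth.Agent.Lib.Helper28.PC
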