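import Groth.Agent.Lib.Helper28.PCohH

/-!
# Pseudo-coherence and triangulated functors with bounded amplitude (SGA 6 I §2)
-/

set_option autoImplicit false
universe w v u w' v' u'
open CategoryTheory CategoryTheory.Limits Category Pretriangulated DerivedCategory ZeroObject

namespace Groth.Agent.Lib.Helper28.PC

variable {C : Type u} [Category.{v} C] [Abelian C] [HasDerivedCategory.{w} C]

/-- `H^i(X⟦k⟧) ≅ H^{i+k}(X)`, naturally. -/
noncomputable def homologyShiftIso' (k i j : ℤ) (h : k + i = j) :
    shiftFunctor (DerivedCategory C) k ⋙ homologyFunctor C i ≅ homologyFunctor C j :=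
  (homologyFunctor C 0).shiftIso k i j h

lemma AcycGT.shift {F : DerivedCategory C} {n : ℤ} (h : AcycGT F n) (k : ℤ) :
    AcycGT ((shiftFunctor (DerivedCategory C) k).obj F) (n - k) := fun i hi =>
  (h (k + i) (by omega)).of_iso ((homologyShiftIso' k i (k + i) rfl).app F)

lemma AcycGT.of_shift {F : DerivedCategory C} {n k : ℤ}
    (h : AcycGT ((shiftFunctor (DerivedCategory C) k).obj F) (n - k)) : AcycGT F n := fun i hi =>
  (h (i - k) (by omega)).of_iso ((homologyShiftIso' k (i - k) i (by omega)).app F).symm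


variable {C' : Type u'} [Category.{v'} C'] [Abelian C'] [HasDerivedCategory.{w'} C']

section

variable (u : DerivedCategory C ⥤ DerivedCategory C') [u.CommShift ℤ] [u.IsTriangulated]
  (b : ℤ)
  (hii : ∀ F : DerivedCategory C,
    (∀ i : ℤ, 0 < i → IsZero ((DerivedCategory.homologyFunctor C i).obj F)) →
    ∀ i : ℤ, b < i → IsZero ((DerivedCategory.homologyFunctor C' i).obj (u.obj F)))

include hii in
lemma acycGT_map_of_bound {F : DerivedCategory C} {n : ℤ} (hF : AcycGT F n) :
    AcycGT (u.obj F) (n + b) := by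
  have h1 : AcycGT ((shiftFunctor (DerivedCategory C) n).obj F) 0 := by
    have := hF.shift n
    rwa [sub_self] at this
  have h2 : AcycGT (u.obj ((shiftFunctor (DerivedCategory C) n).obj F)) b := hii _ h1
  have h3 : AcycGT ((shiftFunctor (DerivedCategory C') n).obj (u.obj F)) (n + b - n) := by
    rw [add_sub_cancel_left]
    exact h2.of_iso ((u.commShiftIso n).app F)
  exact h3.of_shift

variable (P : ObjectProperty C) [P.IsClosedUnderIsomorphisms] [P.ContainsZero]
  (hsum : ∀ X Y : C, P X → P Y → P (X ⨯ Y))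
  (hqs : PCoh.IsQuasiStableUnderKernels P) (hql : PCoh.IsQuasiLiftable P)
  (P' : ObjectProperty C') [P'.IsClosedUnderIsomorphisms] [P'.ContainsZero]
  (hsum' : ∀ X Y : C', P' X → P' Y → P' (X ⨯ Y))
  (hqs' : PCoh.IsQuasiStableUnderKernels P') (hql' : PCoh.IsQuasiLiftable P')
  (a : ℤ)
  (hi : ∀ E : C, P E → NPC P' a (u.obj ((DerivedCategory.singleFunctor C 0).obj E)))

include hii hsum hqs hql hsum' hqs' hql' hi in
theorem npc_map_aux (m : ℤ) :
    ∀ (r : ℕ) (n : ℤ), n - m + 1 ≤ r → ∀ (F : DerivedCategory C), NPC P m F → AcycGT F n →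
      NPC P' (max (m + b) (n + a)) (u.obj F) := by
  intro r
  induction r with
  | zero =>
    intro n hn F _ hac
    exact npc_of_acycGT P' hsum' _ _ ((acycGT_map_of_bound u b hii hac).mono
      (by have := le_max_left (m + b) (n + a); omega))
  | succ r ih =>
    intro n hn F hF hac
    by_cases hnm : n < m
    · exact npc_of_acycGT P' hsum' _ _ ((acycGT_map_of_bound u b hii hac).mono
        (by have := le_max_left (m + b) (n + a); omega))
    have hmn : m ≤ n := by omega
    let M := Q.objPreimage F
    let e : Q.obj M ≅ F := Q.objObjPreimageIso F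
    have hft := finiteType_top P hqs hmn hF hac
    have hftM : PCoh.IsOfFiniteType P (M.homology n) :=
      IsOfFiniteType.of_iso ((homologyFunctor C n).mapIso e.symm ≪≫ homologyQIso M n) hft
    obtain ⟨G, hG, ψ, hψ⟩ := exists_cell P hql M n hftM
    have t₁ := mappingCone_triangle_distinguished ψ
    have hF₁ : NPC P m (Q.obj (CochainComplex.mappingCone ψ)) :=
      npc_cone P hsum hqs hql m _ t₁ ⟨cell G n, isStrictPC_cell P G hG n _, ⟨Iso.refl _⟩⟩
        (hF.of_iso e.symm)
    have hac₁ : AcycGT (Q.obj (CochainComplex.mappingCone ψ)) (n - 1) :=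
      acycGT_cone_of_cell _ t₁ n (fun i hi => isZero_homology_Q_cell G n i hi)
        (hac.of_iso e.symm) ((epi_homologyFunctor_map_Q_iff ψ n).2 hψ)
    have h₃ := (ih (n - 1) (by omega) _ hF₁ hac₁).mono
      (show max (m + b) (n - 1 + a) ≤ max (m + b) (n + a) by
        apply max_le_max le_rfl; omega)
    -- the image of the cell
    have h₁ : NPC P' (max (m + b) (n + a)) (u.obj (Q.obj (cell G n))) := by
      have h1 := (hi G hG).shift P' (-n)
      rw [sub_neg_eq_add] at h1
      have h2 : NPC P' (a + n) (u.obj (Q.obj (cell G n))) :=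
        h1.of_iso (((u.commShiftIso (-n)).app _).symm ≪≫
          u.mapIso (((singleFunctors C).shiftIso (-n) n 0 (by omega)).app G))
      exact h2.mono (by have := le_max_right (m + b) (n + a); omega)
    have hT := u.map_distinguished _ t₁
    have h₂ := npc_obj₂ P' hsum' hqs' hql' _ _ hT h₁ h₃
    exact h₂.of_iso (u.mapIso e)

end

end Groth.Agent.Lib.Helper28.PC
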