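import Groth.Agent.Lib.Helper28.PCohP

/-!
# Perfect complexes relative to a liftable subcategory (SGA 6 I §4), continued
-/

set_option autoImplicit false
universe w v u
open CategoryTheory CategoryTheory.Limits Category Pretriangulated DerivedCategory ZeroObject

namespace Groth.Agent.Lib.Helper28.PC

variable {C : Type u} [Category.{v} C] [Abelian C]

/-- `K.cycles i` as an explicit kernel. -/
noncomputable def cyclesIsoKernel (K : CochainComplex C ℤ) (i : ℤ) :
    K.cycles i ≅ kernel (K.d i (i + 1)) :=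
  IsLimit.conePointUniqueUpToIso (K.cyclesIsKernel i (i + 1) (by simp))
    (limit.isLimit (parallelPair (K.d i (i + 1)) 0))

/-- if `K^{c+1} = 0` and `K` is exact at `c` then `d : K^{c-1} → K^c` is an epimorphism. -/
lemma epi_d_of_exactAt (K : CochainComplex C ℤ) (c : ℤ) (hz : IsZero (K.X (c + 1)))
    (hc : IsZero (K.homology c)) : Epi (K.d (c - 1) c) := by
  rw [← HomologicalComplex.exactAt_iff_isZero_homology,
    HomologicalComplex.exactAt_iff' _ (c - 1) c (c + 1) (by simp) (by simp)] at hc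
  exact (ShortComplex.exact_iff_epi _ (hz.eq_of_tgt _ _)).1 hc

variable [HasDerivedCategory.{w} C]

theorem perfect_truncate_aux (P : ObjectProperty C) [P.IsClosedUnderIsomorphisms] [P.ContainsZero]
    (hst : ∀ (E F : C) (u : E ⟶ F), Epi u → P E → P F → P (kernel u)) (a b : ℤ) (hab : a ≤ b) :
    ∀ (r : ℕ) (c : ℤ), c - b ≤ r → ∀ (F : CochainComplex C ℤ), (∀ i : ℤ, P (F.X i)) →
      (∀ i : ℤ, i < a ∨ c < i → IsZero (F.X i)) → (∀ i : ℤ, b < i → IsZero (F.homology i)) →
      ∃ F' : CochainComplex C ℤ, (∀ i : ℤ, P (F'.X i)) ∧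
        (∀ i : ℤ, i < a ∨ min b c < i → IsZero (F'.X i)) ∧ Nonempty (Q.obj F' ≅ Q.obj F) := by
  intro r
  induction r with
  | zero =>
    intro c hc F hP hz _
    exact ⟨F, hP, fun i hi => hz i (by rcases hi with hi | hi; · left; exact hi
                                       · right; rw [min_eq_right (by omega)] at hi; exact hi),
      ⟨Iso.refl _⟩⟩
  | succ r ih =>
    intro c hc F hP hz hcoh
    by_cases hcb : c ≤ b
    · exact ⟨F, hP, fun i hi => hz i (by rcases hi with hi | hi; · left; exact hi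
                                         · right; rw [min_eq_right hcb] at hi; exact hi),
        ⟨Iso.refl _⟩⟩
    have hbc : b < c := by omega
    haveI : F.IsLE (c - 1) := by
      rw [CochainComplex.isLE_iff]
      intro i hi
      rw [HomologicalComplex.exactAt_iff_isZero_homology]
      exact hcoh i (by omega)
    have hι : QuasiIso (F.ιTruncLE (c - 1)) := inferInstance
    have hepi : Epi (F.d (c - 1) c) := epi_d_of_exactAt F c (hz (c + 1) (Or.inr (by omega)))
      (hcoh c hbc)
    have hker : P (kernel (F.d (c - 1) c)) := hst _ _ _ hepi (hP _) (hP _)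
    have hc1 : c - 1 + 1 = c := by omega
    have hcyc : P (F.cycles (c - 1)) := by
      have e := cyclesIsoKernel F (c - 1)
      rw [hc1] at e
      exact P.prop_of_iso e.symm hker
    obtain ⟨F', hP', hz', ⟨e'⟩⟩ := ih (c - 1) (by omega) (F.truncLE (c - 1))
      (fun i => by
        rcases lt_trichotomy i (c - 1) with hi | hi | hi
        · exact P.prop_of_iso (F.truncLEXIso (c - 1) i hi).symm (hP i)
        · subst hi
          exact P.prop_of_iso (F.truncLEXIsoCycles (c - 1)).symm hcyc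
        · exact P.prop_of_isZero (CochainComplex.isZero_of_isStrictlyLE _ (c - 1) i hi))
      (fun i hi => by
        rcases hi with hi | hi
        · exact (hz i (Or.inl hi)).of_iso (F.truncLEXIso (c - 1) i (by omega))
        · exact CochainComplex.isZero_of_isStrictlyLE _ (c - 1) i hi)
      (fun i hi => by
        have := (hcoh i hi)
        exact this.of_iso (asIso (HomologicalComplex.homologyMap (F.ιTruncLE (c - 1)) i)))
    refine ⟨F', hP', fun i hi => hz' i ?_, ⟨e' ≪≫ asIso (Q.map (F.ιTruncLE (c - 1)))⟩⟩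
    rcases hi with hi | hi
    · left; exact hi
    · right
      rw [min_eq_left (by omega)] at hi ⊢
      exact hi


section cyclesZ

omit [HasDerivedCategory.{w} C]

/-- cycles of a `ℤ`-indexed cochain complex, as an explicit kernel. -/
noncomputable abbrev Zk' (K : CochainComplex C ℤ) (j : ℤ) : C := kernel (K.d j (j + 1))

noncomputable def toZ' (K : CochainComplex C ℤ) (j : ℤ) : K.X j ⟶ Zk' K (j + 1) :=
  kernel.lift _ (K.d j (j + 1)) (K.d_comp_d _ _ _)

lemma toZ'_ι (K : CochainComplex C ℤ) (j : ℤ) :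
    toZ' K j ≫ kernel.ι (K.d (j + 1) (j + 1 + 1)) = K.d j (j + 1) :=
  kernel.lift_ι _ _ _

noncomputable def zSC' (K : CochainComplex C ℤ) (j : ℤ) : ShortComplex C :=
  ShortComplex.mk (kernel.ι (K.d j (j + 1)) : Zk' K j ⟶ K.X j) (toZ' K j) (by
    rw [← cancel_mono (kernel.ι (K.d (j + 1) (j + 1 + 1))), assoc, toZ'_ι, kernel.condition,
      zero_comp])

lemma zSC'_shortExact (K : CochainComplex C ℤ) (j : ℤ) (h : K.ExactAt (j + 1)) :
    (zSC' K j).ShortExact := by
  have hex : (zSC' K j).Exact := by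
    apply ShortComplex.exact_of_f_is_kernel
    exact isKernelOfComp (kernel.ι (K.d (j + 1) (j + 1 + 1))) (K.d j (j + 1))
      (kernelIsKernel (K.d j (j + 1))) _ (toZ'_ι K j)
  have hepi : Epi (toZ' K j) := by
    rw [HomologicalComplex.exactAt_iff' _ j (j + 1) (j + 1 + 1) (by simp) (by simp)] at h
    exact h.epi_kernelLift
  have hmono : Mono (zSC' K j).f := by dsimp [zSC']; infer_instance
  exact ShortComplex.ShortExact.mk' hex hmono hepi

/-- `Z^j ≅ ker (K^j → Z^{j+1})`. -/
noncomputable def ZkIsoKernelToZ (K : CochainComplex C ℤ) (j : ℤ) :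
    Zk' K j ≅ kernel (toZ' K j) :=
  IsLimit.conePointUniqueUpToIso
    (isKernelOfComp (kernel.ι (K.d (j + 1) (j + 1 + 1))) (K.d j (j + 1))
      (kernelIsKernel (K.d j (j + 1))) (zSC' K j).zero (toZ'_ι K j))
    (limit.isLimit (parallelPair (toZ' K j) 0))

/-- in a complex exact in degrees `> a`, bounded above, with terms in `C₀` in degrees `> a`, the
cycles in degrees `> a` are in `C₀` (`C₀` stable under kernels of epimorphisms). -/
lemma prop_Zk' (P : ObjectProperty C) [P.IsClosedUnderIsomorphisms] [P.ContainsZero]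
    (hst : ∀ (E F : C) (u : E ⟶ F), Epi u → P E → P F → P (kernel u))
    (K : CochainComplex C ℤ) (a b : ℤ) (hex : ∀ i, a < i → K.ExactAt i)
    (hz : ∀ i, b < i → IsZero (K.X i)) (hP : ∀ i, a < i → P (K.X i)) :
    ∀ (r : ℕ) (i : ℤ), a < i → b + 1 - i ≤ r → P (Zk' K i) := by
  intro r
  induction r with
  | zero =>
    intro i _ hi
    exact P.prop_of_isZero (IsZero.of_mono (kernel.ι _) (hz i (by omega)))
  | succ r ih =>
    intro i hai hi
    have hS := zSC'_shortExact K i (hex (i + 1) (by omega))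
    have h1 : P (kernel (toZ' K i)) := hst _ _ _ hS.epi_g (hP i hai) (ih (i + 1) (by omega) (by omega))
    exact P.prop_of_iso (ZkIsoKernelToZ K i).symm h1

end cyclesZ


omit [HasDerivedCategory.{w} C] in
lemma mono_d_of_exactAt (K : CochainComplex C ℤ) (c : ℤ) (hz : IsZero (K.X (c - 1)))
    (hc : K.ExactAt c) : Mono (K.d c (c + 1)) := by
  rw [HomologicalComplex.exactAt_iff' _ (c - 1) c (c + 1) (by simp) (by simp)] at hc
  exact (ShortComplex.exact_iff_mono _ (hz.eq_of_src _ _)).1 hc

/-- the cone of a morphism inverted by `Q` is acyclic. -/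
lemma exactAt_mappingCone_of_isIso {E F : CochainComplex C ℤ} (φ : E ⟶ F) (hφ : IsIso (Q.map φ))
    (i : ℤ) : (CochainComplex.mappingCone φ).ExactAt i := by
  rw [HomologicalComplex.exactAt_iff_isZero_homology]
  have hT := mappingCone_triangle_distinguished φ
  have h : NIso i (Q.mapTriangle.obj (CochainComplex.mappingCone.triangle φ)).mor₁ := by
    change NIso i (Q.map φ)
    exact NIso.of_isIso _
  exact ((acycGT_obj₃_of_nIso _ hT i h) i (by omega)).of_iso (homologyQIso _ i).symm

theorem prop_bottom_of_perfectAmplitude (P : ObjectProperty C) [P.IsClosedUnderIsomorphisms]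
    [P.ContainsZero] (hsum : ∀ X Y : C, P X → P Y → P (X ⨯ Y))
    (hlift : ∀ (E F : C) (u : E ⟶ F), Epi u → P F → IsSplitEpi u)
    (hst : ∀ (E F : C) (u : E ⟶ F), Epi u → P E → P F → P (kernel u))
    (a b : ℤ) (F : CochainComplex C ℤ)
    (hvan : ∀ i : ℤ, i < a ∨ b < i → IsZero (F.X i)) (hP : ∀ i : ℤ, a < i → P (F.X i))
    (E : CochainComplex C ℤ) (hPE : ∀ i : ℤ, P (E.X i))
    (hvanE : ∀ i : ℤ, i < a ∨ b < i → IsZero (E.X i)) (e : Q.obj E ≅ Q.obj F) :
    P (F.X a) := by
  obtain ⟨φ, hφ⟩ := exists_map_of_projective E F b (fun i hi => hvanE i (Or.inr hi))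
    (fun i => projective_of_lift P hlift (hPE i)) e.hom
  have hφ' : IsIso (Q.map φ) := by rw [hφ]; infer_instance
  let Cn := CochainComplex.mappingCone φ
  have hex : ∀ i, Cn.ExactAt i := exactAt_mappingCone_of_isIso φ hφ'
  have hPC : ∀ i, a < i → P (Cn.X i) := fun i hi =>
    P.prop_of_iso (coneXIso φ i).symm (prop_biprod P hsum (hPE _) (hP i hi))
  have hzC : ∀ i, b < i → IsZero (Cn.X i) := fun i hi =>
    (isZero_biprod (hvanE _ (Or.inr (by omega))) (hvan i (Or.inr hi))).of_iso (coneXIso φ i)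
  have hzC' : ∀ i, i < a - 1 → IsZero (Cn.X i) := fun i hi =>
    (isZero_biprod (hvanE _ (Or.inl (by omega))) (hvan i (Or.inl (by omega)))).of_iso
      (coneXIso φ i)
  -- `Z^{a+1} ∈ C₀`
  have hZ1 : P (Zk' Cn (a + 1)) :=
    prop_Zk' P hst Cn a b (fun i _ => hex i) hzC hPC (b - a).toNat (a + 1) (by omega) (by omega)
  -- `Z^a ≅ Cn^{a-1} ∈ C₀`
  have hCa1 : P (Cn.X (a - 1)) :=
    P.prop_of_iso (coneXIso φ (a - 1)).symm (prop_biprod P hsum (hPE _)
      (P.prop_of_isZero (hvan _ (Or.inl (by omega)))))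
  have hZa : P (Zk' Cn a) := by
    have h1 : a - 1 + 1 = a := by omega
    have hS := zSC'_shortExact Cn (a - 1) (by rw [h1]; exact hex a)
    have hmono : Mono (toZ' Cn (a - 1)) := by
      have := mono_d_of_exactAt Cn (a - 1) (hzC' _ (by omega)) (hex _)
      have h2 : Mono (toZ' Cn (a - 1) ≫ kernel.ι (Cn.d (a - 1 + 1) (a - 1 + 1 + 1))) := by
        rw [toZ'_ι]; exact this
      exact mono_of_mono _ (kernel.ι (Cn.d (a - 1 + 1) (a - 1 + 1 + 1)))
    have hepi : Epi (toZ' Cn (a - 1)) := hS.epi_g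
    have := isIso_of_mono_of_epi (toZ' Cn (a - 1))
    have h3 : P (Zk' Cn (a - 1 + 1)) := P.prop_of_iso (asIso (toZ' Cn (a - 1))) hCa1
    rw [h1] at h3
    exact h3
  -- `Cn^a ∈ C₀`
  have hS := zSC'_shortExact Cn a (hex (a + 1))
  have hCa : P (Cn.X a) := by
    have hsplit := hlift _ _ (toZ' Cn a) hS.epi_g hZ1
    let s : Zk' Cn (a + 1) ⟶ Cn.X a := section_ (toZ' Cn a)
    have hs : s ≫ toZ' Cn a = 𝟙 _ := IsSplitEpi.id (toZ' Cn a)
    let spl := ShortComplex.Splitting.ofExactOfSection (zSC' Cn a) hS.exact s hs hS.mono_f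
    exact P.prop_of_iso spl.isoBinaryBiproduct.symm (prop_biprod P hsum hZa hZ1)
  -- `F^a` is the kernel of the split epimorphism `Cn^a → E^{a+1}`
  let u : Cn.X a ⟶ E.X (a + 1) := (coneXIso φ a).hom ≫ biprod.fst
  have hu : Epi u := by dsimp only [u]; infer_instance
  have hk : P (kernel u) := hst _ _ u hu hCa (hPE _)
  let e1 : kernel u ≅ kernel (biprod.fst : E.X (a + 1) ⊞ F.X a ⟶ E.X (a + 1)) :=
    kernelIsIsoComp (coneXIso φ a).hom biprod.fst
  let e2 : kernel (biprod.fst : E.X (a + 1) ⊞ F.X a ⟶ E.X (a + 1)) ≅ F.X a :=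
    IsLimit.conePointUniqueUpToIso (limit.isLimit _) (biprod.isKernelFstKernelFork _ _)
  exact P.prop_of_iso (e1 ≪≫ e2) hk

end Groth.Agent.Lib.Helper28.PC
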