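import Groth.Agent.Lib.Helper28.PCohH
import Groth.Agent.Lib.Helper28.PCohP2
import Mathlib.CategoryTheory.Abelian.Refinements

/-!
# Pseudo-coherence (SGA 6 I §2), continued: the coherent case
-/

set_option autoImplicit false
universe w v u
open CategoryTheory CategoryTheory.Limits Category Pretriangulated DerivedCategory ZeroObject

namespace Groth.Agent.Lib.Helper28.PC

variable {C : Type u} [Category.{v} C] [Abelian C]

/-- `A` is precoherent relative to `P`. -/
def Precoh (P : ObjectProperty C) (A : C) : Prop :=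
  ∀ (E : C) (u : E ⟶ A), P E → PCoh.IsOfFiniteType P (kernel u)

lemma Precoh.of_mono {P : ObjectProperty C} {A B : C} (i : A ⟶ B) [Mono i] (h : Precoh P B) :
    Precoh P A := fun E u hE =>
  IsOfFiniteType.of_iso (kernelCompMono u i) (h E (u ≫ i) hE)

lemma Precoh.of_iso {P : ObjectProperty C} {A B : C} (e : A ≅ B) (h : Precoh P A) :
    Precoh P B := Precoh.of_mono e.inv h

lemma precoh_of_prop {P : ObjectProperty C}
    (hcoh : ∀ (X E : C) (u : E ⟶ X), P X → P E → PCoh.IsOfFiniteType P (kernel u))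
    {X : C} (hX : P X) : Precoh P X := fun E u hE => hcoh X E u hX hE

/-- quotient of a precoherent object by an object of finite type is precoherent. -/
lemma precoh_of_exact_epi (P : ObjectProperty C) [P.IsClosedUnderIsomorphisms]
    (hsum : ∀ X Y : C, P X → P Y → P (X ⨯ Y)) (hql : PCoh.IsQuasiLiftable P)
    (S : ShortComplex C) (hS : S.Exact) [Epi S.g]
    (h₁ : PCoh.IsOfFiniteType P S.X₁) (h₂ : Precoh P S.X₂) : Precoh P S.X₃ := by
  intro E' u hE'
  obtain ⟨B, π, hB, hπ⟩ := h₁
  obtain ⟨E'', v, hE'', hv⟩ := hql _ _ (pullback.snd S.g u) inferInstance hE'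
  let w : E'' ⟶ S.X₂ := v ≫ pullback.fst S.g u
  let q : E'' ⟶ E' := v ≫ pullback.snd S.g u
  have hq : Epi q := hv
  have hwq : w ≫ S.g = q ≫ u := by
    simp only [w, q, assoc, pullback.condition]
  let φ : E'' ⊞ B ⟶ S.X₂ := biprod.desc w (π ≫ S.f)
  have hK : PCoh.IsOfFiniteType P (kernel φ) := h₂ _ φ (prop_biprod P hsum hE'' hB)
  have hιφ : kernel.ι φ ≫ biprod.fst ≫ w = - (kernel.ι φ ≫ biprod.snd ≫ π ≫ S.f) := by
    have h' : φ = biprod.fst ≫ w + biprod.snd ≫ π ≫ S.f := by
      apply biprod.hom_ext' <;> simp [φ]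
    have h : kernel.ι φ ≫ (biprod.fst ≫ w + biprod.snd ≫ π ≫ S.f) = 0 := by
      rw [← h']; exact kernel.condition φ
    rw [Preadditive.comp_add] at h
    exact eq_neg_of_add_eq_zero_left h
  have h0 : (kernel.ι φ ≫ biprod.fst ≫ q) ≫ u = 0 := by
    rw [assoc, assoc, ← hwq, ← assoc, ← assoc, assoc (kernel.ι φ), hιφ]
    simp
  let ψ : kernel φ ⟶ kernel u := kernel.lift u (kernel.ι φ ≫ biprod.fst ≫ q) h0
  have hψ : ψ ≫ kernel.ι u = kernel.ι φ ≫ biprod.fst ≫ q := kernel.lift_ι _ _ _
  have hψepi : Epi ψ := by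
    rw [epi_iff_surjective_up_to_refinements]
    intro T x
    obtain ⟨T₁, p₁, hp₁, y, hy⟩ := surjective_up_to_refinements_of_epi q (x ≫ kernel.ι u)
    have hy0 : (y ≫ w) ≫ S.g = 0 := by
      rw [assoc, hwq, ← assoc, ← hy, assoc, assoc, kernel.condition, comp_zero, comp_zero]
    obtain ⟨T₂, p₂, hp₂, z, hz⟩ := hS.exact_up_to_refinements (y ≫ w) hy0
    obtain ⟨T₃, p₃, hp₃, z', hz'⟩ := surjective_up_to_refinements_of_epi π z
    let k : T₃ ⟶ E'' ⊞ B := biprod.lift (p₃ ≫ p₂ ≫ y) (- z')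
    have hk : k ≫ φ = 0 := by
      simp only [k, φ, biprod.lift_desc, Preadditive.neg_comp, assoc]
      rw [← assoc z', ← hz', assoc, ← hz]
      simp
    refine ⟨T₃, p₃ ≫ p₂ ≫ p₁, inferInstance, kernel.lift φ k hk, ?_⟩
    rw [← cancel_mono (kernel.ι u), assoc, assoc, assoc, assoc, hψ, kernel.lift_ι_assoc]
    simp only [k, biprod.lift_fst_assoc, assoc]
    rw [hy]
  exact IsOfFiniteType.of_epi ψ hK

/-- when all objects of `P` are coherent, `P` is quasi-stable under kernels. -/
lemma quasiStable_of_coherent (P : ObjectProperty C)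
    (hcoh : ∀ (X E : C) (u : E ⟶ X), P X → P E → PCoh.IsOfFiniteType P (kernel u)) :
    PCoh.IsQuasiStableUnderKernels P := by
  intro K hex _ hK
  exact IsOfFiniteType.of_iso (x0IsoZ1 K (hex 0) (hex 1)).symm
    (hcoh _ _ (K.d 1 2) (hK 2 (by omega)) (hK 1 le_rfl))

variable [HasDerivedCategory.{w} C]

/-- a coherent object placed in degree `0` is pseudo-coherent. -/
lemma npc_single₀_of_coherent (P : ObjectProperty C) [P.IsClosedUnderIsomorphisms]
    [P.ContainsZero] (hsum : ∀ X Y : C, P X → P Y → P (X ⨯ Y))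
    (hql : PCoh.IsQuasiLiftable P)
    (hcoh : ∀ (X E : C) (u : E ⟶ X), P X → P E → PCoh.IsOfFiniteType P (kernel u)) :
    ∀ (j : ℕ) (A : C), PCoh.IsOfFiniteType P A → Precoh P A →
      NPC P (-(j : ℤ)) ((singleFunctor C 0).obj A) := by
  have hqs := quasiStable_of_coherent P hcoh
  intro j
  induction j with
  | zero =>
    intro A hA _
    refine npc_of_finiteType_top P hsum hql _ _ ?_ ?_
    · simpa using acycGT_Q_cell A 0
    · simpa using IsOfFiniteType.of_iso (homologySingleIso A 0).symm hA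
  | succ j ih =>
    intro A hA hA'
    obtain ⟨G, π, hG, hπ⟩ := hA
    have hKft : PCoh.IsOfFiniteType P (kernel π) := hA' G π hG
    have hKpre : Precoh P (kernel π) := Precoh.of_mono (kernel.ι π) (precoh_of_prop hcoh hG)
    have h₁ := ih (kernel π) hKft hKpre
    let S : ShortComplex C := ShortComplex.mk (kernel.ι π) π (kernel.condition π)
    have hS : S.ShortExact :=
      { exact := ShortComplex.exact_of_f_is_kernel _ (kernelIsKernel π)
        mono_f := inferInstanceAs (Mono (kernel.ι π))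
        epi_g := hπ }
    have h₂ : NPC P (-((j + 1 : ℕ) : ℤ)) ((singleFunctor C 0).obj G) :=
      ⟨cell G 0, isStrictPC_cell P G hG 0 _, ⟨Iso.refl _⟩⟩
    have h := npc_cone P hsum hqs hql (-((j + 1 : ℕ) : ℤ)) _ hS.singleTriangle_distinguished
      (by
        have : -((j + 1 : ℕ) : ℤ) + 1 = -(j : ℤ) := by push_cast; ring
        rw [this]
        exact h₁) h₂
    exact h

end Groth.Agent.Lib.Helper28.PC
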