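import Groth.Agent.Lib.Helper28.PCohD
import Mathlib.Algebra.Homology.HomotopyCategory.Acyclic
import Mathlib.Algebra.Homology.HomotopyCategory.Triangulated
import Mathlib.Algebra.Homology.DerivedCategory.HomologySequence
import Mathlib.Algebra.Homology.Embedding.CochainComplex

/-!
# Pseudo-coherence (SGA 6 I §1): chain level factorisation of an `n`-quasi-isomorphism
-/

set_option autoImplicit false
universe w v u
open CategoryTheory CategoryTheory.Limits Category Pretriangulated DerivedCategory ZeroObject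

namespace Groth.Agent.Lib.Helper28.PC

variable {C : Type u} [Category.{v} C] [Abelian C]

open CochainComplex HomComplex in
/-- homotopy extension along `inr φ`: a chain map `w` out of a mapping cone such that
`inr φ ≫ w` is homotopic to `g` may be replaced by a homotopic map `w'` with `inr φ ≫ w' = g`. -/
lemma exists_homotopic_of_inr_comp {K L M : CochainComplex C ℤ} (φ : K ⟶ L)
    (w : mappingCone φ ⟶ M) (g : L ⟶ M) (H : Homotopy (mappingCone.inr φ ≫ w) g) :
    ∃ w' : mappingCone φ ⟶ M, mappingCone.inr φ ≫ w' = g ∧ Nonempty (Homotopy w' w) := by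
  obtain ⟨H₀, hH₀⟩ := Cochain.equivHomotopy _ _ H
  let H' : Cochain (mappingCone φ) M (-1) := (mappingCone.snd φ).comp H₀ (zero_add (-1))
  let z : Cocycle (mappingCone φ) M 0 :=
    Cocycle.ofHom w - Cocycle.mk (δ (-1) 0 H') 1 (zero_add 1) (δ_δ _ _ _ _)
  have hz : Cochain.ofHom (Cocycle.homOf z) = Cochain.ofHom w - δ (-1) 0 H' := by
    rw [Cocycle.cochain_ofHom_homOf_eq_coe]
    rfl
  refine ⟨Cocycle.homOf z, ?_, ⟨(Cochain.equivHomotopy _ _).symm ⟨-H', ?_⟩⟩⟩
  · apply Cochain.ofHom_injective
    rw [Cochain.ofHom_comp, hz, Cochain.comp_sub, ← Cochain.ofHom_comp, hH₀,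
      ← δ_ofHom_comp, mappingCone.inr_snd_assoc]
    abel
  · rw [hz, δ_neg]
    abel

end Groth.Agent.Lib.Helper28.PC

namespace Groth.Agent.Lib.Helper28.PC

variable {C : Type u} [Category.{v} C] [Abelian C]

/-- `inr φ` is a monomorphism in each degree. -/
lemma mono_inr_f {K L : CochainComplex C ℤ} (φ : K ⟶ L) (i : ℤ) :
    Mono ((CochainComplex.mappingCone.inr φ).f i) :=
  mono_of_mono_fac (CochainComplex.mappingCone.inr_f_snd_v φ i)

/-- `inr φ` is an isomorphism in the degrees `i` such that `K^{i+1} = 0`. -/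
lemma isIso_inr_f {K L : CochainComplex C ℤ} (φ : K ⟶ L) (i : ℤ) (hz : IsZero (K.X (i + 1))) :
    IsIso ((CochainComplex.mappingCone.inr φ).f i) := by
  refine ⟨(CochainComplex.mappingCone.snd φ).v i i (add_zero i),
    CochainComplex.mappingCone.inr_f_snd_v φ i, ?_⟩
  have h := CochainComplex.mappingCone.id_X φ i (i + 1) rfl
  rw [hz.eq_of_tgt ((CochainComplex.mappingCone.fst φ).1.v i (i + 1) rfl) 0, zero_comp,
    zero_add] at h
  exact h

section

variable [HasDerivedCategory.{w} C]

lemma nIso_Q_map {E F : CochainComplex C ℤ} (u : E ⟶ F) (n : ℤ)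
    (hiso : ∀ i : ℤ, n < i → IsIso (HomologicalComplex.homologyMap u i))
    (hepi : Epi (HomologicalComplex.homologyMap u n)) : NIso n (Q.map u) := by
  refine ⟨fun i hi => ?_, (epi_homologyFunctor_map_Q_iff u n).2 hepi⟩
  have := hiso i hi
  exact (isIso_map_iff_of_natIso (homologyFunctorFactors C i) u).2 this

end

/-- **Chain-level factorisation** of an `n`-quasi-isomorphism. -/
theorem exists_factorisation_of_nQuasiIso (n : ℤ) (E F : CochainComplex C ℤ) (u : E ⟶ F)
    (hiso : ∀ i : ℤ, n < i → IsIso (HomologicalComplex.homologyMap u i))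
    (hepi : Epi (HomologicalComplex.homologyMap u n)) :
    ∃ (E' : CochainComplex C ℤ) (v : E ⟶ E') (u' : E' ⟶ F), v ≫ u' = u ∧ QuasiIso u' ∧
      (∀ i : ℤ, Mono (v.f i)) ∧ (∀ i : ℤ, n ≤ i → IsIso (v.f i)) := by
  letI : HasDerivedCategory.{max u v} C := HasDerivedCategory.standard C
  let Kq := HomotopyCategory.quotient C (ComplexShape.up ℤ)
  -- a distinguished triangle `W → E → F →` in the homotopy category
  obtain ⟨X, f, h, hT₂⟩ := Pretriangulated.distinguished_cocone_triangle₁ (Kq.map u)
  obtain ⟨W, rfl⟩ : ∃ W : CochainComplex C ℤ, Kq.obj W = X := ⟨X.as, rfl⟩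
  obtain ⟨p, rfl⟩ := Kq.map_surjective f
  -- `W` is acyclic in degrees `> n`
  have hW : W.IsLE n := by
    apply isLE_of_acycGT
    have hd := Qh.map_distinguished _ hT₂
    have hn : NIso n (Qh.mapTriangle.obj (Triangle.mk (Kq.map p) (Kq.map u) h)).mor₂ := by
      have h1 := nIso_Q_map u n hiso hepi
      refine ⟨fun i hi => ?_, ?_⟩
      · have := h1.1 i hi
        exact (isIso_map_iff_of_natIso
          (Functor.isoWhiskerRight (quotientCompQhIso C) (homologyFunctor C i)) u).2 this
      · have := h1.2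
        exact (epi_map_iff_of_natIso
          (Functor.isoWhiskerRight (quotientCompQhIso C) (homologyFunctor C n)) u).2 this
    exact (acycGT_obj₁_of_nIso _ hd n hn).of_iso ((quotientCompQhIso C).app W)
  let N := W.truncLE n
  let j : N ⟶ W := W.ιTruncLE n
  have hj : QuasiIso j := (W.quasiIso_ιTruncLE_iff n).2 hW
  let φ' : N ⟶ E := j ≫ p
  have hT₁ := HomotopyCategory.mappingCone_triangleh_distinguished φ'
  have hcompat : (HomotopyCategory.quasiIso C (ComplexShape.up ℤ)).IsCompatibleWithTriangulation := by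
    rw [HomotopyCategory.quasiIso_eq_trW_subcategoryAcyclic]
    infer_instance
  obtain ⟨c, hc, h2, -⟩ := hcompat.compatible_with_triangulation _ _ hT₁ hT₂ (Kq.map j)
    (𝟙 (Kq.obj E))
    ((HomotopyCategory.quotient_map_mem_quasiIso_iff j).2 hj)
    (by
      have : QuasiIso (𝟙 E) := inferInstance
      have h' := (HomotopyCategory.quotient_map_mem_quasiIso_iff (𝟙 E)).2 this
      rw [CategoryTheory.Functor.map_id] at h'
      exact h')
    ((comp_id _).trans (Kq.map_comp j p))
  obtain ⟨u'', rfl⟩ := Kq.map_surjective c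
  have hH : Homotopy (CochainComplex.mappingCone.inr φ' ≫ u'') u := by
    apply HomotopyCategory.homotopyOfEq
    rw [Functor.map_comp]
    exact h2.trans (id_comp _)
  obtain ⟨u', hu', ⟨Hu'⟩⟩ := exists_homotopic_of_inr_comp φ' u'' u hH
  refine ⟨CochainComplex.mappingCone φ', CochainComplex.mappingCone.inr φ', u', hu', ?_,
    fun i => mono_inr_f φ' i, fun i hi => isIso_inr_f φ' i ?_⟩
  · rw [← HomologicalComplex.mem_quasiIso_iff, ← HomotopyCategory.quotient_map_mem_quasiIso_iff,
      HomotopyCategory.eq_of_homotopy _ _ Hu']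
    exact hc
  · exact CochainComplex.isZero_of_isStrictlyLE N n (i + 1) (by omega)

end Groth.Agent.Lib.Helper28.PC
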