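import Groth.Agent.Lib.Helper28.PCohK
import Groth.Agent.Lib.Helper28.PCohB
import Groth.Agent.Lib.Helper28.PCohC
import Mathlib.CategoryTheory.Abelian.Refinements

/-!
# Pseudo-coherence (SGA 6 I §2): chain level approximation by strictly perfect complexes
-/

set_option autoImplicit false
universe w v u
open CategoryTheory CategoryTheory.Limits Category Pretriangulated DerivedCategory ZeroObject

namespace Groth.Agent.Lib.Helper28.PC

section four

variable {A : Type u} [Category.{v} A] [Abelian A]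

/-- four lemma, mono version, plain form. -/
lemma four_mono {X₁ X₂ X₃ X₄ Y₁ Y₂ Y₃ Y₄ : A} (f₁ : X₁ ⟶ X₂) (f₂ : X₂ ⟶ X₃) (f₃ : X₃ ⟶ X₄)
    (g₁ : Y₁ ⟶ Y₂) (g₂ : Y₂ ⟶ Y₃) (g₃ : Y₃ ⟶ Y₄)
    (a₁ : X₁ ⟶ Y₁) (a₂ : X₂ ⟶ Y₂) (a₃ : X₃ ⟶ Y₃) (a₄ : X₄ ⟶ Y₄)
    (c₁ : f₁ ≫ a₂ = a₁ ≫ g₁) (c₂ : f₂ ≫ a₃ = a₂ ≫ g₂) (c₃ : f₃ ≫ a₄ = a₃ ≫ g₃)
    (z₁ : f₁ ≫ f₂ = 0) (z₂ : f₂ ≫ f₃ = 0) (w₁ : g₁ ≫ g₂ = 0)
    (ex₁ : (ShortComplex.mk f₂ f₃ z₂).Exact) (ex₂ : (ShortComplex.mk g₁ g₂ w₁).Exact)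
    [Epi a₁] [Mono a₂] [Mono a₄] : Mono a₃ := by
  apply Preadditive.mono_of_cancel_zero
  intro T x hx
  have h1 : x ≫ f₃ = 0 := by
    rw [← cancel_mono a₄, assoc, c₃, reassoc_of% hx, zero_comp, zero_comp]
  obtain ⟨T₁, π₁, _, y, hy⟩ := ex₁.exact_up_to_refinements x h1
  dsimp at y hy
  have h2 : (y ≫ a₂) ≫ g₂ = 0 := by
    rw [assoc, ← c₂, ← reassoc_of% hy, hx, comp_zero]
  obtain ⟨T₂, π₂, _, z, hz⟩ := ex₂.exact_up_to_refinements (y ≫ a₂) h2
  dsimp at z hz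
  obtain ⟨T₃, π₃, _, t, ht⟩ := surjective_up_to_refinements_of_epi a₁ z
  have h3 : π₃ ≫ π₂ ≫ y = t ≫ f₁ := by
    rw [← cancel_mono a₂, assoc, assoc, hz, reassoc_of% ht, assoc, c₁]
  rw [← cancel_epi π₁, ← cancel_epi π₂, ← cancel_epi π₃, comp_zero, comp_zero, comp_zero, hy,
    reassoc_of% h3, z₁, comp_zero]

/-- four lemma, epi version, plain form. -/
lemma four_epi {X₁ X₂ X₃ X₄ Y₁ Y₂ Y₃ Y₄ : A} (f₁ : X₁ ⟶ X₂) (f₂ : X₂ ⟶ X₃) (f₃ : X₃ ⟶ X₄)
    (g₁ : Y₁ ⟶ Y₂) (g₂ : Y₂ ⟶ Y₃) (g₃ : Y₃ ⟶ Y₄)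
    (a₁ : X₁ ⟶ Y₁) (a₂ : X₂ ⟶ Y₂) (a₃ : X₃ ⟶ Y₃) (a₄ : X₄ ⟶ Y₄)
    (c₁ : f₁ ≫ a₂ = a₁ ≫ g₁) (c₂ : f₂ ≫ a₃ = a₂ ≫ g₂) (c₃ : f₃ ≫ a₄ = a₃ ≫ g₃)
    (z₂ : f₂ ≫ f₃ = 0) (w₁ : g₁ ≫ g₂ = 0) (w₂ : g₂ ≫ g₃ = 0)
    (ex₁ : (ShortComplex.mk f₂ f₃ z₂).Exact) (ex₂ : (ShortComplex.mk g₁ g₂ w₁).Exact)
    [Epi a₁] [Epi a₃] [Mono a₄] : Epi a₂ := by
  rw [epi_iff_surjective_up_to_refinements]
  intro T x
  obtain ⟨T₁, π₁, _, y, hy⟩ := surjective_up_to_refinements_of_epi a₃ (x ≫ g₂)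
  have h1 : y ≫ f₃ = 0 := by
    rw [← cancel_mono a₄, assoc, c₃, ← reassoc_of% hy, w₂, comp_zero, comp_zero, zero_comp]
  obtain ⟨T₂, π₂, _, z, hz⟩ := ex₁.exact_up_to_refinements y h1
  dsimp at z hz
  have h2 : (π₂ ≫ π₁ ≫ x - z ≫ a₂) ≫ g₂ = 0 := by
    rw [Preadditive.sub_comp, assoc, assoc, assoc, ← c₂, ← reassoc_of% hz, hy, sub_self]
  obtain ⟨T₃, π₃, _, t, ht⟩ := ex₂.exact_up_to_refinements _ h2
  dsimp at t ht
  obtain ⟨T₄, π₄, _, s, hs⟩ := surjective_up_to_refinements_of_epi a₁ t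
  refine ⟨T₄, π₄ ≫ π₃ ≫ π₂ ≫ π₁, inferInstance, π₄ ≫ π₃ ≫ z + s ≫ f₁, ?_⟩
  have h3 : s ≫ f₁ ≫ a₂ = π₄ ≫ π₃ ≫ (π₂ ≫ π₁ ≫ x - z ≫ a₂) := by
    rw [c₁, ← reassoc_of% hs, ht]
  simp only [Preadditive.add_comp, assoc, h3, Preadditive.comp_sub]
  abel

end four

variable {C : Type u} [Category.{v} C] [Abelian C] [HasDerivedCategory.{w} C]

/-- In a morphism of distinguished triangles whose middle component is an isomorphism, if the first
component is an `(m+1)`-isomorphism then the third is an `m`-isomorphism. -/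
lemma nIso_hom₃ (T₁ T₂ : Triangle (DerivedCategory C)) (h₁ : T₁ ∈ distTriang _)
    (h₂ : T₂ ∈ distTriang _) (φ : T₁ ⟶ T₂) [IsIso φ.hom₂] (m : ℤ)
    (h : NIso (m + 1) φ.hom₁) : NIso m φ.hom₃ := by
  have nat : ∀ (n₀ n₁ : ℤ) (hn : n₀ + 1 = n₁),
      (homologyFunctor C n₀).map φ.hom₃ ≫ HomologySequence.δ T₂ n₀ n₁ hn =
        HomologySequence.δ T₁ n₀ n₁ hn ≫ (homologyFunctor C n₁).map φ.hom₁ :=
    fun n₀ n₁ hn => (homologyFunctor C 0).homologySequenceδ_naturality T₁ T₂ φ n₀ n₁ hn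
  have hepi₁ : ∀ i, m + 1 ≤ i → Epi ((homologyFunctor C i).map φ.hom₁) := fun i hi => by
    by_cases h' : i = m + 1
    · rw [h']; exact h.2
    · have := h.1 i (by omega); infer_instance
  have hc₁ : ∀ i, (homologyFunctor C i).map T₁.mor₁ ≫ (homologyFunctor C i).map φ.hom₂ =
      (homologyFunctor C i).map φ.hom₁ ≫ (homologyFunctor C i).map T₂.mor₁ := fun i => by
    rw [← Functor.map_comp, ← Functor.map_comp, φ.comm₁]
  have hc₂ : ∀ i, (homologyFunctor C i).map T₁.mor₂ ≫ (homologyFunctor C i).map φ.hom₃ =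
      (homologyFunctor C i).map φ.hom₂ ≫ (homologyFunctor C i).map T₂.mor₂ := fun i => by
    rw [← Functor.map_comp, ← Functor.map_comp, φ.comm₂]
  have hepi : ∀ i, m ≤ i → Epi ((homologyFunctor C i).map φ.hom₃) := fun i hi => by
    have := hepi₁ (i + 1) (by omega)
    exact four_epi ((homologyFunctor C i).map T₁.mor₂) (HomologySequence.δ T₁ i (i + 1) rfl)
      ((homologyFunctor C (i + 1)).map T₁.mor₁)
      ((homologyFunctor C i).map T₂.mor₂) (HomologySequence.δ T₂ i (i + 1) rfl)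
      ((homologyFunctor C (i + 1)).map T₂.mor₁)
      ((homologyFunctor C i).map φ.hom₂) ((homologyFunctor C i).map φ.hom₃)
      ((homologyFunctor C (i + 1)).map φ.hom₁) ((homologyFunctor C (i + 1)).map φ.hom₂)
      (hc₂ i) (nat i (i + 1) rfl).symm (hc₁ (i + 1))
      (HomologySequence.δ_comp T₁ h₁ i (i + 1) rfl)
      (HomologySequence.comp_δ T₂ h₂ i (i + 1) rfl)
      (HomologySequence.δ_comp T₂ h₂ i (i + 1) rfl)
      (HomologySequence.exact₁ T₁ h₁ i (i + 1) rfl)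
      (HomologySequence.exact₃ T₂ h₂ i (i + 1) rfl)
  have hmono : ∀ i, m < i → Mono ((homologyFunctor C i).map φ.hom₃) := fun i hi => by
    have := hepi₁ i (by omega)
    have : Mono ((homologyFunctor C (i + 1)).map φ.hom₁) := by
      have := h.1 (i + 1) (by omega); infer_instance
    exact four_mono ((homologyFunctor C i).map T₁.mor₁) ((homologyFunctor C i).map T₁.mor₂)
      (HomologySequence.δ T₁ i (i + 1) rfl)
      ((homologyFunctor C i).map T₂.mor₁) ((homologyFunctor C i).map T₂.mor₂)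
      (HomologySequence.δ T₂ i (i + 1) rfl)
      ((homologyFunctor C i).map φ.hom₁) ((homologyFunctor C i).map φ.hom₂)
      ((homologyFunctor C i).map φ.hom₃) ((homologyFunctor C (i + 1)).map φ.hom₁)
      (hc₁ i) (hc₂ i) (nat i (i + 1) rfl).symm
      (by rw [← Functor.map_comp, comp_distTriang_mor_zero₁₂ _ h₁, Functor.map_zero])
      (HomologySequence.comp_δ T₁ h₁ i (i + 1) rfl)
      (by rw [← Functor.map_comp, comp_distTriang_mor_zero₁₂ _ h₂, Functor.map_zero])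
      (HomologySequence.exact₃ T₁ h₁ i (i + 1) rfl)
      (HomologySequence.exact₂ T₂ h₂ i)
  refine ⟨fun i hi => ?_, hepi m le_rfl⟩
  have := hepi i hi.le
  have := hmono i hi
  exact isIso_of_mono_of_epi _

lemma nIso_Qh_map_iff {K L : CochainComplex C ℤ} (f : K ⟶ L) (n : ℤ) :
    NIso n (Qh.map ((HomotopyCategory.quotient C (ComplexShape.up ℤ)).map f)) ↔
      NIso n (Q.map f) := by
  constructor
  · intro h
    refine ⟨fun i hi => ?_, ?_⟩
    · have := h.1 i hi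
      exact (isIso_map_iff_of_natIso
        (Functor.isoWhiskerRight (quotientCompQhIso C) (homologyFunctor C i)) f).1 this
    · have := h.2
      exact (epi_map_iff_of_natIso
        (Functor.isoWhiskerRight (quotientCompQhIso C) (homologyFunctor C n)) f).1 this
  · intro h
    refine ⟨fun i hi => ?_, ?_⟩
    · have := h.1 i hi
      exact (isIso_map_iff_of_natIso
        (Functor.isoWhiskerRight (quotientCompQhIso C) (homologyFunctor C i)) f).2 this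
    · have := h.2
      exact (epi_map_iff_of_natIso
        (Functor.isoWhiskerRight (quotientCompQhIso C) (homologyFunctor C n)) f).2 this

/-- chain-level approximation: an `n`-pseudo-coherent complex `E`, acyclic in degrees `> b`,
receives for every `m ∈ [n, b+1]` a chain map from a strictly perfect complex concentrated in
degrees `[m, b]` which is an `m`-quasi-isomorphism. -/
theorem exists_chain_nIso_aux (P : ObjectProperty C) [P.IsClosedUnderIsomorphisms]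
    [P.ContainsZero] (hsum : ∀ X Y : C, P X → P Y → P (X ⨯ Y))
    (hqs : PCoh.IsQuasiStableUnderKernels P) (hql : PCoh.IsQuasiLiftable P) (n : ℤ)
    (E : CochainComplex C ℤ) (hE : NPC P n (Q.obj E)) (b : ℤ) (hac : AcycGT (Q.obj E) b) :
    ∀ (r : ℕ) (m : ℤ), m + r = b + 1 → n ≤ m →
      ∃ (K : CochainComplex C ℤ) (g : K ⟶ E), (∀ i, P (K.X i)) ∧
        (∀ i, i < m ∨ b < i → IsZero (K.X i)) ∧ NIso m (Q.map g) := by
  let Kq := HomotopyCategory.quotient C (ComplexShape.up ℤ)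
  intro r
  induction r with
  | zero =>
    intro m hm _
    have hz : ∀ i, IsZero ((0 : CochainComplex C ℤ).X i) := fun i =>
      (HomologicalComplex.eval C (ComplexShape.up ℤ) i).map_isZero (isZero_zero _)
    refine ⟨0, 0, fun i => P.prop_of_isZero (hz i), fun i _ => hz i, ?_⟩
    rw [Functor.map_zero]
    exact nIso_zero_of_acycGT _ m (hac.mono (by omega))
  | succ r ih =>
    intro m hm hnm
    obtain ⟨K, g, hKP, hKz, hg⟩ := ih (m + 1) (by push_cast at hm; omega) (by omega)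
    obtain ⟨X, f, h, hT₂⟩ := Pretriangulated.distinguished_cocone_triangle₁ (Kq.map g)
    obtain ⟨W, rfl⟩ : ∃ W : CochainComplex C ℤ, Kq.obj W = X := ⟨X.as, rfl⟩
    obtain ⟨p, rfl⟩ := Kq.map_surjective f
    have hd₂ := Qh.map_distinguished _ hT₂
    have hn₂ : NIso (m + 1) (Qh.mapTriangle.obj (Triangle.mk (Kq.map p) (Kq.map g) h)).mor₂ :=
      (nIso_Qh_map_iff g (m + 1)).2 hg
    have hWac' : AcycGT (Qh.obj (Kq.obj W)) (m + 1) := acycGT_obj₁_of_nIso _ hd₂ (m + 1) hn₂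
    have hWac : AcycGT (Q.obj W) (m + 1) := hWac'.of_iso ((quotientCompQhIso C).app W)
    have hK_npc : NPC P (m + 1) (Qh.obj (Kq.obj K)) :=
      ⟨K, ⟨⟨b, fun i hi => hKz i (Or.inr hi)⟩, fun i _ => hKP i⟩,
        ⟨(quotientCompQhIso C).symm.app K⟩⟩
    have hE_npc : NPC P m (Qh.obj (Kq.obj E)) :=
      (hE.mono hnm).of_iso ((quotientCompQhIso C).symm.app E)
    have hW_npc : NPC P (m + 1) (Q.obj W) :=
      (npc_obj₁ P hsum hqs hql m _ hd₂ hK_npc hE_npc).of_iso ((quotientCompQhIso C).app W)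
    have hft := finiteType_top P hqs (le_refl (m + 1)) hW_npc hWac
    have hftW : PCoh.IsOfFiniteType P (W.homology (m + 1)) :=
      IsOfFiniteType.of_iso (homologyQIso W (m + 1)) hft
    obtain ⟨G, hG, ψ, hψ⟩ := exists_cell P hql W (m + 1) hftW
    let φ' : cell G (m + 1) ⟶ K := ψ ≫ p
    have hT₁ := HomotopyCategory.mappingCone_triangleh_distinguished φ'
    obtain ⟨c, h2, h3⟩ := Pretriangulated.complete_distinguished_triangle_morphism _ _ hT₁ hT₂
      (Kq.map ψ) (𝟙 (Kq.obj K)) ((comp_id _).trans (Kq.map_comp ψ p))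
    obtain ⟨g', rfl⟩ := Kq.map_surjective c
    let Φ : CochainComplex.mappingCone.triangleh φ' ⟶ Triangle.mk (Kq.map p) (Kq.map g) h :=
      { hom₁ := Kq.map ψ
        hom₂ := 𝟙 (Kq.obj K)
        hom₃ := Kq.map g'
        comm₁ := (comp_id _).trans (Kq.map_comp ψ p)
        comm₂ := h2
        comm₃ := h3 }
    have hd₁ := Qh.map_distinguished _ hT₁
    have hΦ₂ : IsIso (Qh.mapTriangle.map Φ).hom₂ := by
      change IsIso (Qh.map (𝟙 (Kq.obj K)))
      infer_instance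
    have hψN : NIso (m + 1) (Qh.mapTriangle.map Φ).hom₁ := by
      change NIso (m + 1) (Qh.map (Kq.map ψ))
      rw [nIso_Qh_map_iff]
      have := nIso_of_cell ψ hψ (Iso.refl _) hWac
      rwa [Iso.refl_hom, comp_id] at this
    have hg' : NIso m (Qh.mapTriangle.map Φ).hom₃ :=
      nIso_hom₃ _ _ hd₁ hd₂ (Qh.mapTriangle.map Φ) m hψN
    refine ⟨CochainComplex.mappingCone φ', g', fun i => ?_, fun i hi => ?_, ?_⟩
    · exact P.prop_of_iso (coneXIso φ' i).symm (prop_biprod P hsum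
        ((isStrictPC_cell P G hG (m + 1) (i + 1)).2 (i + 1) le_rfl) (hKP i))
    · refine (isZero_biprod (isZero_cell_X G (m + 1) (i + 1) (by omega)) (hKz i ?_)).of_iso
        (coneXIso φ' i)
      omega
    · rw [← nIso_Qh_map_iff]
      exact hg'

end Groth.Agent.Lib.Helper28.PC

namespace Groth.Agent.Lib.Helper28.PC

variable {C : Type u} [Category.{v} C] [Abelian C]

/-- If `E` is quasi-isomorphic to a strictly `n`-pseudo-coherent complex `F` (via `u : E ⟶ F`),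
then `E` receives a quasi-isomorphism from a strictly `n`-pseudo-coherent complex. -/
theorem exists_strictPC_quasiIso_to (P : ObjectProperty C) [P.IsClosedUnderIsomorphisms]
    [P.ContainsZero] (hsum : ∀ X Y : C, P X → P Y → P (X ⨯ Y))
    (hqs : PCoh.IsQuasiStableUnderKernels P) (hql : PCoh.IsQuasiLiftable P)
    (n : ℤ) (E F : CochainComplex C ℤ) (hF : PCoh.IsStrictPC P n F) (u : E ⟶ F)
    (hu : QuasiIso u) :
    ∃ (F' : CochainComplex C ℤ) (v : F' ⟶ E), PCoh.IsStrictPC P n F' ∧ QuasiIso v := by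
  letI : HasDerivedCategory.{max u v} C := HasDerivedCategory.standard C
  obtain ⟨⟨b₀, hb₀⟩, hP⟩ := hF
  have hE : NPC P n (Q.obj E) := ⟨F, ⟨⟨b₀, hb₀⟩, hP⟩, ⟨(asIso (Q.map u)).symm⟩⟩
  obtain ⟨b, hb1, hb2⟩ : ∃ b : ℤ, b₀ ≤ b ∧ n ≤ b := ⟨max b₀ n, le_max_left _ _, le_max_right _ _⟩
  have hac : AcycGT (Q.obj E) b := by
    intro i hi
    have : IsZero (F.homology i) := isZero_homology_of_isZero_X F i (hb₀ i (by omega))
    exact (this.of_iso (homologyQIso F i)).of_iso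
      ((homologyFunctor C i).mapIso (asIso (Q.map u)))
  obtain ⟨K, g, hKP, hKz, hg⟩ := exists_chain_nIso_aux P hsum hqs hql n E hE b hac
    (b + 1 - n).toNat n (by rw [Int.toNat_of_nonneg (by omega)]; omega) le_rfl
  obtain ⟨E', v, u', -, hu', -, hiso⟩ := exists_factorisation_of_nQuasiIso n K E g
    (fun i hi => by
      have := hg.1 i hi
      exact (isIso_map_iff_of_natIso (homologyFunctorFactors C i) g).1 this)
    ((epi_homologyFunctor_map_Q_iff g n).1 hg.2)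
  refine ⟨E', u', ⟨⟨b, fun i hi => ?_⟩, fun i hi => ?_⟩, hu'⟩
  · have := hiso i (by omega)
    exact (hKz i (Or.inr hi)).of_iso (asIso (v.f i)).symm
  · have := hiso i hi
    exact P.prop_of_iso (asIso (v.f i)) (hKP i)

end Groth.Agent.Lib.Helper28.PC
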