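import Groth.Agent.Lib.Helper28.PCohL

/-!
# Pseudo-coherence (SGA 6 I §2): one step of the chain level approximation, with strict
compatibility
-/

set_option autoImplicit false
universe w v u
open CategoryTheory CategoryTheory.Limits Category Pretriangulated DerivedCategory ZeroObject

namespace Groth.Agent.Lib.Helper28.PC

variable {C : Type u} [Category.{v} C] [Abelian C] [HasDerivedCategory.{w} C]

/-- one step: from an `(m+1)`-quasi-isomorphism `g : K ⟶ E` with `K` strictly perfect in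
`[m+1, b]` to an `m`-quasi-isomorphism `g' : K' ⟶ E` with `K'` strictly perfect in `[m, b]`,
`K ⟶ K'` an isomorphism in degrees `≠ m` and strictly compatible with `g`, `g'`. -/
theorem exists_chain_step (P : ObjectProperty C) [P.IsClosedUnderIsomorphisms]
    [P.ContainsZero] (hsum : ∀ X Y : C, P X → P Y → P (X ⨯ Y))
    (hqs : PCoh.IsQuasiStableUnderKernels P) (hql : PCoh.IsQuasiLiftable P)
    (E : CochainComplex C ℤ) (b m : ℤ) (hmb : m ≤ b) (hE : NPC P m (Q.obj E))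
    (K : CochainComplex C ℤ) (g : K ⟶ E) (hKP : ∀ i, P (K.X i))
    (hKz : ∀ i, i < m + 1 ∨ b < i → IsZero (K.X i)) (hg : NIso (m + 1) (Q.map g)) :
    ∃ (K' : CochainComplex C ℤ) (ι : K ⟶ K') (g' : K' ⟶ E), ι ≫ g' = g ∧ (∀ i, P (K'.X i)) ∧
      (∀ i, i < m ∨ b < i → IsZero (K'.X i)) ∧ NIso m (Q.map g') ∧
      (∀ i, i ≠ m → IsIso (ι.f i)) := by
  let Kq := HomotopyCategory.quotient C (ComplexShape.up ℤ)
  obtain ⟨X, f, h, hT₂⟩ := Pretriangulated.distinguished_cocone_triangle₁ (Kq.map g)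
  obtain ⟨W, rfl⟩ : ∃ W : CochainComplex C ℤ, Kq.obj W = X := ⟨X.as, rfl⟩
  obtain ⟨p, rfl⟩ := Kq.map_surjective f
  have hd₂ := Qh.map_distinguished _ hT₂
  have hn₂ : NIso (m + 1) (Qh.mapTriangle.obj (Triangle.mk (Kq.map p) (Kq.map g) h)).mor₂ :=
    (nIso_Qh_map_iff g (m + 1)).2 hg
  have hWac' : AcycGT (Qh.obj (Kq.obj W)) (m + 1) := acycGT_obj₁_of_nIso _ hd₂ (m + 1) hn₂
  have hWac : AcycGT (Q.obj W) (m + 1) := hWac'.of_iso ((quotientCompQhIso C).app W)
  have hK_npc : NPC P (m + 1) (Qh.obj (Kq.obj K)) :=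
    ⟨K, ⟨⟨b, fun i hi => hKz i (Or.inr hi)⟩, fun i _ => hKP i⟩,
      ⟨(quotientCompQhIso C).symm.app K⟩⟩
  have hE_npc : NPC P m (Qh.obj (Kq.obj E)) :=
    hE.of_iso ((quotientCompQhIso C).symm.app E)
  have hW_npc : NPC P (m + 1) (Q.obj W) :=
    (npc_obj₁ P hsum hqs hql m _ hd₂ hK_npc hE_npc).of_iso ((quotientCompQhIso C).app W)
  have hft := finiteType_top P hqs (le_refl (m + 1)) hW_npc hWac
  have hftW : PCoh.IsOfFiniteType P (W.homology (m + 1)) :=
    IsOfFiniteType.of_iso (homologyQIso W (m + 1)) hft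
  obtain ⟨G, hG, ψ, hψ⟩ := exists_cell P hql W (m + 1) hftW
  let φ' : cell G (m + 1) ⟶ K := ψ ≫ p
  have hT₁ := HomotopyCategory.mappingCone_triangleh_distinguished φ'
  obtain ⟨c, h2, h3⟩ := Pretriangulated.complete_distinguished_triangle_morphism _ _ hT₁ hT₂
    (Kq.map ψ) (𝟙 (Kq.obj K)) ((comp_id _).trans (Kq.map_comp ψ p))
  obtain ⟨g'', rfl⟩ := Kq.map_surjective c
  let Φ : CochainComplex.mappingCone.triangleh φ' ⟶ Triangle.mk (Kq.map p) (Kq.map g) h :=
    { hom₁ := Kq.map ψ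
      hom₂ := 𝟙 (Kq.obj K)
      hom₃ := Kq.map g''
      comm₁ := (comp_id _).trans (Kq.map_comp ψ p)
      comm₂ := h2
      comm₃ := h3 }
  have hd₁ := Qh.map_distinguished _ hT₁
  have hΦ₂ : IsIso (Qh.mapTriangle.map Φ).hom₂ := by
    change IsIso (Qh.map (𝟙 (Kq.obj K)))
    infer_instance
  have hψN : NIso (m + 1) (Qh.mapTriangle.map Φ).hom₁ := by
    change NIso (m + 1) (Qh.map (Kq.map ψ))
    rw [nIso_Qh_map_iff]
    have := nIso_of_cell ψ hψ (Iso.refl _) hWac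
    rwa [Iso.refl_hom, comp_id] at this
  have hg'' : NIso m (Qh.map (Kq.map g'')) :=
    nIso_hom₃ _ _ hd₁ hd₂ (Qh.mapTriangle.map Φ) m hψN
  have hH : Homotopy (CochainComplex.mappingCone.inr φ' ≫ g'') g := by
    apply HomotopyCategory.homotopyOfEq
    rw [Functor.map_comp]
    exact h2.trans (id_comp _)
  obtain ⟨g', hg'1, ⟨Hg'⟩⟩ := exists_homotopic_of_inr_comp φ' g'' g hH
  refine ⟨CochainComplex.mappingCone φ', CochainComplex.mappingCone.inr φ', g', hg'1,
    fun i => ?_, fun i hi => ?_, ?_, fun i hi => ?_⟩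
  · exact P.prop_of_iso (coneXIso φ' i).symm (prop_biprod P hsum
      ((isStrictPC_cell P G hG (m + 1) (i + 1)).2 (i + 1) le_rfl) (hKP i))
  · refine (isZero_biprod (isZero_cell_X G (m + 1) (i + 1) (by omega)) (hKz i ?_)).of_iso
      (coneXIso φ' i)
    omega
  · rw [← nIso_Qh_map_iff, HomotopyCategory.eq_of_homotopy _ _ Hg']
    exact hg''
  · exact isIso_inr_f φ' i (isZero_cell_X G (m + 1) (i + 1) (by omega))

end Groth.Agent.Lib.Helper28.PC
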