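import Groth.Agent.Lib.Helper28.PCohM
import Mathlib.CategoryTheory.Functor.OfSequence
import Mathlib.CategoryTheory.Limits.Constructions.EventuallyConstant
import Mathlib.Algebra.Homology.HomologicalComplexLimits

/-!
# Pseudo-coherence (SGA 6 I §2): a pseudo-coherent object is represented by a strictly
pseudo-coherent complex (infinite tower construction)
-/

set_option autoImplicit false
universe w v u
open CategoryTheory CategoryTheory.Limits Category Pretriangulated DerivedCategory ZeroObject

namespace Groth.Agent.Lib.Helper28.PC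

variable {C : Type u} [Category.{v} C] [Abelian C] [HasDerivedCategory.{w} C]

/-- the hypotheses for the tower construction. -/
structure TowerData (P : ObjectProperty C) (M : CochainComplex C ℤ) (m : ℤ) : Prop where
  hsum : ∀ X Y : C, P X → P Y → P (X ⨯ Y)
  hqs : PCoh.IsQuasiStableUnderKernels P
  hql : PCoh.IsQuasiLiftable P
  hM : ∀ n : ℤ, NPC P n (Q.obj M)
  hac : AcycGT (Q.obj M) (m - 1)

/-- the `j`-th stage of the tower: a strictly perfect complex in degrees `[m-j, m-1]` with an
`(m-j)`-quasi-isomorphism to `M`. -/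
structure Stage (P : ObjectProperty C) (M : CochainComplex C ℤ) (m : ℤ) (j : ℕ) where
  K : CochainComplex C ℤ
  g : K ⟶ M
  hP : ∀ i, P (K.X i)
  hz : ∀ i : ℤ, i < m - (j : ℤ) ∨ m - 1 < i → IsZero (K.X i)
  hg : NIso (m - (j : ℤ)) (Q.map g)

variable {P : ObjectProperty C} [P.IsClosedUnderIsomorphisms] [P.ContainsZero]
  {M : CochainComplex C ℤ} {m : ℤ}

lemma Stage.exists_next (D : TowerData P M m) {j : ℕ} (s : Stage P M m j) :
    ∃ (s' : Stage P M m (j + 1)) (ι : s.K ⟶ s'.K), ι ≫ s'.g = s.g ∧
      ∀ i : ℤ, i ≠ m - ((j + 1 : ℕ) : ℤ) → IsIso (ι.f i) := by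
  have e : m - ((j + 1 : ℕ) : ℤ) + 1 = m - (j : ℤ) := by push_cast; omega
  obtain ⟨K', ι, g', h1, h2, h3, h4, h5⟩ := exists_chain_step P D.hsum D.hqs D.hql M (m - 1)
    (m - ((j + 1 : ℕ) : ℤ)) (by push_cast; omega) (D.hM _) s.K s.g s.hP
    (fun i hi => s.hz i (by rw [e] at hi; exact hi)) (by rw [e]; exact s.hg)
  exact ⟨⟨K', g', h2, h3, h4⟩, ι, h1, h5⟩

noncomputable def Stage.next (D : TowerData P M m) {j : ℕ} (s : Stage P M m j) :
    Stage P M m (j + 1) := (s.exists_next D).choose

noncomputable def Stage.nextι (D : TowerData P M m) {j : ℕ} (s : Stage P M m j) :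
    s.K ⟶ (s.next D).K := (s.exists_next D).choose_spec.choose

lemma Stage.nextι_g (D : TowerData P M m) {j : ℕ} (s : Stage P M m j) :
    s.nextι D ≫ (s.next D).g = s.g := (s.exists_next D).choose_spec.choose_spec.1

lemma Stage.isIso_nextι_f (D : TowerData P M m) {j : ℕ} (s : Stage P M m j) (i : ℤ)
    (hi : i ≠ m - ((j + 1 : ℕ) : ℤ)) : IsIso ((s.nextι D).f i) :=
  (s.exists_next D).choose_spec.choose_spec.2 i hi

noncomputable def stage0 (D : TowerData P M m) : Stage P M m 0 where
  K := 0
  g := 0
  hP i := P.prop_of_isZero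
    ((HomologicalComplex.eval C (ComplexShape.up ℤ) i).map_isZero (isZero_zero _))
  hz i _ := (HomologicalComplex.eval C (ComplexShape.up ℤ) i).map_isZero (isZero_zero _)
  hg := by
    rw [Functor.map_zero]
    exact nIso_zero_of_acycGT _ _ (by simpa using D.hac)

noncomputable def stage (D : TowerData P M m) (j : ℕ) : Stage P M m j :=
  Nat.rec (motive := fun j => Stage P M m j) (stage0 D) (fun _ s => s.next D) j

/-- the tower of complexes. -/
noncomputable def tower (D : TowerData P M m) : ℕ ⥤ CochainComplex C ℤ :=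
  Functor.ofSequence (X := fun j => (stage D j).K) (fun j => (stage D j).nextι D)

lemma isIso_tower_map_f (D : TowerData P M m) (q : ℤ) (j₀ j : ℕ) (h : j₀ ≤ j)
    (hq : m - (j₀ : ℤ) ≤ q) : IsIso (((tower D).map (homOfLE h)).f q) := by
  induction j, h using Nat.le_induction with
  | base =>
    have : homOfLE (le_refl j₀) = 𝟙 j₀ := rfl
    rw [this, CategoryTheory.Functor.map_id]
    change IsIso (𝟙 _)
    infer_instance
  | succ j hj ih =>
    have h1 : homOfLE (hj.trans (Nat.le_succ j)) =
        homOfLE hj ≫ homOfLE (Nat.le_add_right j 1) := rfl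
    rw [h1, Functor.map_comp, HomologicalComplex.comp_f]
    have h2 : IsIso (((tower D).map (homOfLE (Nat.le_add_right j 1))).f q) := by
      rw [tower, Functor.ofSequence_map_homOfLE_succ]
      exact (stage D j).isIso_nextι_f D q (by push_cast; omega)
    infer_instance

lemma tower_evConst (D : TowerData P M m) (q : ℤ) :
    ((tower D) ⋙ HomologicalComplex.eval C (ComplexShape.up ℤ) q).IsEventuallyConstantFrom
      (m - q).toNat := by
  intro j f
  have : f = homOfLE (leOfHom f) := Subsingleton.elim _ _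
  rw [this]
  exact isIso_tower_map_f D q _ j (leOfHom f) (by omega)

/-- the colimit of the tower: a complex with all terms in `P`, zero in degrees `≥ m`, and
quasi-isomorphic to `M`. -/
theorem exists_strictPCAll_quasiIso (D : TowerData P M m) :
    ∃ (E : CochainComplex C ℤ) (gE : E ⟶ M), (∀ i, P (E.X i)) ∧
      (∀ i, m ≤ i → IsZero (E.X i)) ∧ QuasiIso gE := by
  let T := tower D
  have hev := tower_evConst D
  haveI : ∀ q : ℤ, HasColimit (T ⋙ HomologicalComplex.eval C (ComplexShape.up ℤ) q) :=
    fun q => (hev q).hasColimit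
  let E := colimit T
  let α : T ⟶ (Functor.const ℕ).obj M := NatTrans.ofSequence (fun j => (stage D j).g)
    (fun j => by
      have h1 : T.map (homOfLE (Nat.le_add_right j 1)) = (stage D j).nextι D :=
        Functor.ofSequence_map_homOfLE_succ _ j
      rw [h1]
      dsimp
      rw [comp_id]
      exact (stage D j).nextι_g D)
  let gE : E ⟶ M := colimit.desc T ⟨M, α⟩
  have hgE : ∀ j, colimit.ι T j ≫ gE = (stage D j).g := fun j => colimit.ι_desc _ _
  have hι : ∀ (q : ℤ) (j : ℕ), (m - q).toNat ≤ j → IsIso ((colimit.ι T j).f q) :=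
    fun q j hj => (hev q).isIso_ι_of_isColimit'
      (isColimitOfPreserves (HomologicalComplex.eval C (ComplexShape.up ℤ) q)
        (colimit.isColimit T)) j (homOfLE hj)
  refine ⟨E, gE, fun q => ?_, fun q hq => ?_, ?_⟩
  · have := hι q _ le_rfl
    exact P.prop_of_iso (asIso ((colimit.ι T (m - q).toNat).f q)) ((stage D _).hP q)
  · have := hι q _ le_rfl
    exact ((stage D _).hz q (Or.inr (by omega))).of_iso
      (asIso ((colimit.ι T (m - q).toNat).f q)).symm
  · rw [quasiIso_iff]
    intro q
    obtain ⟨j, hj⟩ : ∃ j : ℕ, j = (m - q + 2).toNat := ⟨_, rfl⟩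
    have h0 := hι (q - 1) j (by omega)
    have h1 := hι q j (by omega)
    have h2 := hι (q + 1) j (by omega)
    have hqi : QuasiIsoAt (colimit.ι T j) q := by
      rw [quasiIsoAt_iff' _ (q - 1) q (q + 1) (by simp) (by simp)]
      let φ := (HomologicalComplex.shortComplexFunctor' C (ComplexShape.up ℤ) (q - 1) q
        (q + 1)).map (colimit.ι T j)
      have : IsIso φ.τ₁ := h0
      have : IsIso φ.τ₂ := h1
      have : IsIso φ.τ₃ := h2
      apply ShortComplex.quasiIso_of_epi_of_isIso_of_mono
    have hg : QuasiIsoAt (stage D j).g q := by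
      rw [quasiIsoAt_iff_isIso_homologyMap]
      have := (stage D j).hg.1 q (by omega)
      exact (isIso_map_iff_of_natIso (homologyFunctorFactors C q) _).1 this
    rw [← hgE j] at hg
    haveI := hqi
    haveI hg' : QuasiIsoAt (colimit.ι T j ≫ gE) q := hg
    exact quasiIsoAt_of_comp_left (colimit.ι T j) gE q

/-- a pseudo-coherent object acyclic in degrees `≥ m` is represented by a complex with all
terms in `P`, zero in degrees `≥ m`. -/
theorem exists_strictPCAll (hsum : ∀ X Y : C, P X → P Y → P (X ⨯ Y))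
    (hqs : PCoh.IsQuasiStableUnderKernels P) (hql : PCoh.IsQuasiLiftable P)
    (m : ℤ) (F : DerivedCategory C) (hF : ∀ n, NPC P n F)
    (hac : ∀ i : ℤ, m ≤ i → IsZero ((homologyFunctor C i).obj F)) :
    ∃ E : CochainComplex C ℤ, (∀ i : ℤ, P (E.X i)) ∧ (∀ i : ℤ, m ≤ i → IsZero (E.X i)) ∧
      Nonempty (Q.obj E ≅ F) := by
  let M := Q.objPreimage F
  let e : Q.obj M ≅ F := Q.objObjPreimageIso F
  have D : TowerData P M m :=
    { hsum := hsum
      hqs := hqs
      hql := hql
      hM := fun n => (hF n).of_iso e.symm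
      hac := fun i hi => (hac i (by omega)).of_iso ((homologyFunctor C i).mapIso e) }
  obtain ⟨E, gE, h1, h2, h3⟩ := exists_strictPCAll_quasiIso D
  exact ⟨E, h1, h2, ⟨asIso (Q.map gE) ≪≫ e⟩⟩

end Groth.Agent.Lib.Helper28.PC
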