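import Groth.Agent.Lib.Helper28.PCohN

/-!
# Pseudo-coherence (SGA 6 I §2): the functor `K⁻(C₀) / acyclic → D(C)` is fully faithful
-/

set_option autoImplicit false
universe w v u
open CategoryTheory CategoryTheory.Limits Category Pretriangulated DerivedCategory ZeroObject

namespace Groth.Agent.Lib.Helper28.PC

variable {C : Type u} [Category.{v} C] [Abelian C] [HasDerivedCategory.{w} C]
  {P : ObjectProperty C} [P.IsClosedUnderIsomorphisms] [P.ContainsZero]

omit [P.IsClosedUnderIsomorphisms] [P.ContainsZero] in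
lemma npc_of_strictPCAll {E : CochainComplex C ℤ} (hE : PCoh.IsStrictPCAll P E) (n : ℤ) :
    NPC P n (Q.obj E) := ⟨E, ⟨hE.1, fun i _ => hE.2 i⟩, ⟨Iso.refl _⟩⟩

/-- a complex whose image in `D(C)` is pseudo-coherent receives a quasi-isomorphism from a strictly
pseudo-coherent complex. -/
theorem exists_strictPCAll_quasiIso_to (hsum : ∀ X Y : C, P X → P Y → P (X ⨯ Y))
    (hqs : PCoh.IsQuasiStableUnderKernels P) (hql : PCoh.IsQuasiLiftable P)
    (M : CochainComplex C ℤ) (hM : ∀ n, NPC P n (Q.obj M)) :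
    ∃ (E : CochainComplex C ℤ) (t : E ⟶ M), PCoh.IsStrictPCAll P E ∧ QuasiIso t := by
  obtain ⟨b, hb⟩ := (hM 0).exists_acycGT
  have D : TowerData P M (b + 1) :=
    { hsum := hsum
      hqs := hqs
      hql := hql
      hM := hM
      hac := fun i hi => hb i (by omega) }
  obtain ⟨E, t, h1, h2, h3⟩ := exists_strictPCAll_quasiIso D
  exact ⟨E, t, ⟨⟨b, fun i hi => h2 i (by omega)⟩, h1⟩, h3⟩

/-- fullness. -/
theorem exists_roof_strictPCAll (hsum : ∀ X Y : C, P X → P Y → P (X ⨯ Y))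
    (hqs : PCoh.IsQuasiStableUnderKernels P) (hql : PCoh.IsQuasiLiftable P)
    (E E' : CochainComplex C ℤ) (hE : PCoh.IsStrictPCAll P E)
    (α : Q.obj E ⟶ Q.obj E') :
    ∃ (E'' : CochainComplex C ℤ) (s : E'' ⟶ E) (f : E'' ⟶ E'), PCoh.IsStrictPCAll P E'' ∧
      QuasiIso s ∧ Q.map s ≫ α = Q.map f := by
  obtain ⟨E₀, s₀, hs₀, f₀, hf₀⟩ := right_fac α
  have hs₀' : QuasiIso s₀ := (isIso_Q_map_iff_quasiIso C s₀).1 hs₀
  obtain ⟨E'', t, hE'', ht⟩ := exists_strictPCAll_quasiIso_to hsum hqs hql E₀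
    (fun n => (npc_of_strictPCAll hE n).of_iso (asIso (Q.map s₀)).symm)
  refine ⟨E'', t ≫ s₀, t ≫ f₀, hE'', inferInstance, ?_⟩
  rw [hf₀, Functor.map_comp, Functor.map_comp, assoc, IsIso.hom_inv_id_assoc]

end Groth.Agent.Lib.Helper28.PC

namespace Groth.Agent.Lib.Helper28.PC

variable {C : Type u} [Category.{v} C] [Abelian C] [HasDerivedCategory.{w} C]
  {P : ObjectProperty C} [P.IsClosedUnderIsomorphisms] [P.ContainsZero]

/-- two chain maps with the same image in `D(C)` become homotopic after composition with a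
quasi-isomorphism. -/
theorem exists_quasiIso_homotopy {E E' : CochainComplex C ℤ} (f g : E ⟶ E')
    (hfg : Q.map f = Q.map g) :
    ∃ (E₀ : CochainComplex C ℤ) (s₀ : E₀ ⟶ E), QuasiIso s₀ ∧
      Nonempty (Homotopy (s₀ ≫ f) (s₀ ≫ g)) := by
  let Kq := HomotopyCategory.quotient C (ComplexShape.up ℤ)
  have h : Qh.map (Kq.map f) = Qh.map (Kq.map g) := by
    have hf := quotientCompQhIso_hom_naturality f
    have hg := quotientCompQhIso_hom_naturality g
    rw [← cancel_mono ((quotientCompQhIso C).hom.app E'), hf, hg, hfg]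
  rw [MorphismProperty.map_eq_iff_precomp Qh (HomotopyCategory.quasiIso C (ComplexShape.up ℤ))]
    at h
  obtain ⟨X, s, hs, fac⟩ := h
  obtain ⟨E₀, rfl⟩ := HomotopyCategory.quotient_obj_surjective X
  obtain ⟨s₀, rfl⟩ := Kq.map_surjective s
  refine ⟨E₀, s₀, ?_, ⟨HomotopyCategory.homotopyOfEq _ _ ?_⟩⟩
  · rwa [HomotopyCategory.quotient_map_mem_quasiIso_iff,
      HomologicalComplex.mem_quasiIso_iff] at hs
  · rw [Functor.map_comp, Functor.map_comp]
    exact fac

/-- faithfulness. -/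
theorem exists_strictPCAll_homotopy (hsum : ∀ X Y : C, P X → P Y → P (X ⨯ Y))
    (hqs : PCoh.IsQuasiStableUnderKernels P) (hql : PCoh.IsQuasiLiftable P)
    (E E' : CochainComplex C ℤ) (hE : PCoh.IsStrictPCAll P E)
    (f g : E ⟶ E') (hfg : Q.map f = Q.map g) :
    ∃ (E'' : CochainComplex C ℤ) (s : E'' ⟶ E), PCoh.IsStrictPCAll P E'' ∧ QuasiIso s ∧
      Nonempty (Homotopy (s ≫ f) (s ≫ g)) := by
  obtain ⟨E₀, s₀, hs₀, ⟨H⟩⟩ := exists_quasiIso_homotopy f g hfg
  obtain ⟨E'', t, hE'', ht⟩ := exists_strictPCAll_quasiIso_to hsum hqs hql E₀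
    (fun n => (npc_of_strictPCAll hE n).of_iso (asIso (Q.map s₀)).symm)
  refine ⟨E'', t ≫ s₀, hE'', inferInstance, ⟨?_⟩⟩
  have H' := H.compLeft t
  rwa [← assoc, ← assoc] at H'

end Groth.Agent.Lib.Helper28.PC
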