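import Groth.Agent.Lib.Helper28.PCohH
import Mathlib.Algebra.Homology.DerivedCategory.KProjective

/-!
# Perfect complexes relative to a liftable subcategory (SGA 6 I §4)
-/

set_option autoImplicit false
universe w v u
open CategoryTheory CategoryTheory.Limits Category Pretriangulated DerivedCategory ZeroObject

namespace Groth.Agent.Lib.Helper28.PC

variable {C : Type u} [Category.{v} C] [Abelian C]

/-- if every epimorphism onto `F` splits then `F` is projective. -/
lemma projective_of_lift (P : ObjectProperty C)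
    (hlift : ∀ (E F : C) (u : E ⟶ F), Epi u → P F → IsSplitEpi u) {F : C} (hF : P F) :
    Projective F := by
  constructor
  intro E X f e he
  have := hlift _ _ (pullback.snd e f) inferInstance hF
  refine ⟨section_ (pullback.snd e f) ≫ pullback.fst e f, ?_⟩
  rw [assoc, pullback.condition, ← assoc, IsSplitEpi.id, id_comp]

variable [HasDerivedCategory.{w} C]

/-- morphisms in `D(C)` out of a bounded above complex of projectives are represented by
morphisms of complexes. -/
lemma exists_map_of_projective (E L : CochainComplex C ℤ) (b : ℤ)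
    (hb : ∀ i, b < i → IsZero (E.X i)) (hproj : ∀ i, Projective (E.X i))
    (f : Q.obj E ⟶ Q.obj L) : ∃ φ : E ⟶ L, Q.map φ = f := by
  haveI : E.IsStrictlyLE b := by
    rw [CochainComplex.isStrictlyLE_iff]
    exact hb
  haveI : E.IsKProjective := CochainComplex.isKProjective_of_projective E b
  obtain ⟨g, hg⟩ := (CochainComplex.IsKProjective.Qh_map_bijective E
    ((HomotopyCategory.quotient _ _).obj L)).surjective
    ((quotientCompQhIso C).hom.app E ≫ f ≫ (quotientCompQhIso C).inv.app L)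
  obtain ⟨φ, rfl⟩ := (HomotopyCategory.quotient _ _).map_surjective g
  refine ⟨φ, ?_⟩
  have h := quotientCompQhIso_hom_naturality φ
  dsimp at h hg
  rw [hg] at h
  simpa using h.symm


/-- cones of morphisms between perfect objects are perfect (`C₀` liftable). -/
theorem perfect_cone (P : ObjectProperty C) [P.IsClosedUnderIsomorphisms] [P.ContainsZero]
    (hsum : ∀ X Y : C, P X → P Y → P (X ⨯ Y))
    (hlift : ∀ (E F : C) (u : E ⟶ F), Epi u → P F → IsSplitEpi u)
    (T : Triangle (DerivedCategory C)) (hT : T ∈ distTriang _)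
    (E₁ : CochainComplex C ℤ) (a₁ b₁ : ℤ) (hz₁ : ∀ i : ℤ, i < a₁ ∨ b₁ < i → IsZero (E₁.X i))
    (hP₁ : ∀ i : ℤ, P (E₁.X i)) (e₁ : Q.obj E₁ ≅ T.obj₁)
    (E₂ : CochainComplex C ℤ) (a₂ b₂ : ℤ) (hz₂ : ∀ i : ℤ, i < a₂ ∨ b₂ < i → IsZero (E₂.X i))
    (hP₂ : ∀ i : ℤ, P (E₂.X i)) (e₂ : Q.obj E₂ ≅ T.obj₂) :
    ∃ (E : CochainComplex C ℤ), (∀ i : ℤ, i < min (a₁ - 1) a₂ ∨ max (b₁ - 1) b₂ < i →
      IsZero (E.X i)) ∧ (∀ i : ℤ, P (E.X i)) ∧ Nonempty (Q.obj E ≅ T.obj₃) := by
  obtain ⟨φ, hφ⟩ := exists_map_of_projective E₁ E₂ b₁ (fun i hi => hz₁ i (Or.inr hi))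
    (fun i => projective_of_lift P hlift (hP₁ i)) (e₁.hom ≫ T.mor₁ ≫ e₂.inv)
  have hT' := mappingCone_triangle_distinguished φ
  let e := isoTriangleOfIso₁₂ _ _ hT' hT e₁ e₂ (by
    change Q.map φ ≫ e₂.hom = e₁.hom ≫ T.mor₁
    rw [hφ, assoc, assoc, Iso.inv_hom_id, comp_id])
  refine ⟨CochainComplex.mappingCone φ, fun i hi => ?_, fun i => ?_, ⟨Triangle.π₃.mapIso e⟩⟩
  · refine (isZero_biprod (hz₁ (i + 1) ?_) (hz₂ i ?_)).of_iso (coneXIso φ i)
    · rcases hi with hi | hi
      · left; omega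
      · right; omega
    · rcases hi with hi | hi
      · left; omega
      · right; omega
  · exact P.prop_of_iso (coneXIso φ i).symm (prop_biprod P hsum (hP₁ _) (hP₂ _))

end Groth.Agent.Lib.Helper28.PC
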