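import Groth.Agent.Lib.Helper28.PCohP2

/-!
# Perfect amplitude and direct sums (SGA 6 I §4)
-/

set_option autoImplicit false
universe w v u
open CategoryTheory CategoryTheory.Limits Category Pretriangulated DerivedCategory ZeroObject

namespace Groth.Agent.Lib.Helper28.PC

variable {C : Type u} [Category.{v} C] [Abelian C]

/-- liftable implies quasi-liftable. -/
lemma isQuasiLiftable_of_lift (P : ObjectProperty C)
    (hlift : ∀ (E F : C) (u : E ⟶ F), Epi u → P F → IsSplitEpi u) : PCoh.IsQuasiLiftable P := by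
  intro E F u hu hF
  have := hlift E F u hu hF
  refine ⟨F, section_ u, hF, ?_⟩
  rw [IsSplitEpi.id]
  infer_instance

/-- `Z^j ≅ ker (K^j → Z^{j+1})`, `ℕ`-indexed version. -/
noncomputable def ZkIsoKernelToZNat (K : CochainComplex C ℕ) (j : ℕ) :
    Zk K j ≅ kernel (toZ K j) :=
  IsLimit.conePointUniqueUpToIso
    (isKernelOfComp (kernel.ι (K.d (j + 1) (j + 1 + 1))) (K.d j (j + 1))
      (kernelIsKernel (K.d j (j + 1))) (zSC K j).zero (toZ_ι K j))
    (limit.isLimit (parallelPair (toZ K j) 0))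

/-- stable under kernels of epimorphisms implies quasi-stable. -/
lemma isQuasiStable_of_stable (P : ObjectProperty C) [P.IsClosedUnderIsomorphisms]
    [P.ContainsZero]
    (hst : ∀ (E F : C) (u : E ⟶ F), Epi u → P E → P F → P (kernel u)) :
    PCoh.IsQuasiStableUnderKernels P := by
  intro K hex ⟨N, hN⟩ hK
  have hZ : ∀ (d j : ℕ), j + d = N + 1 → 1 ≤ j → P (Zk K j) := by
    intro d
    induction d with
    | zero =>
      intro j hj _
      exact P.prop_of_isZero (IsZero.of_mono (kernel.ι _) (hN j (by omega)))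
    | succ d ih =>
      intro j hj hj1
      have hS := zSC_shortExact K j (hex (j + 1))
      have h1 : P (kernel (toZ K j)) :=
        hst _ _ _ hS.epi_g (hK j hj1) (ih (j + 1) (by omega) (by omega))
      exact P.prop_of_iso (ZkIsoKernelToZNat K j).symm h1
  exact IsOfFiniteType.of_prop
    (P.prop_of_iso (x0IsoZ1 K (hex 0) (hex 1)).symm (hZ N 1 (by omega) le_rfl))


variable [HasDerivedCategory.{w} C]

lemma isZero_homology_of_retract {X Y : DerivedCategory C} (i : X ⟶ Y) (p : Y ⟶ X)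
    (h : i ≫ p = 𝟙 X) (j : ℤ) (hY : IsZero ((homologyFunctor C j).obj Y)) :
    IsZero ((homologyFunctor C j).obj X) := by
  rw [IsZero.iff_id_eq_zero, ← CategoryTheory.Functor.map_id, ← h, Functor.map_comp,
    hY.eq_of_tgt ((homologyFunctor C j).map i) 0, zero_comp]

theorem exists_truncated_rep_of_retract (P : ObjectProperty C) [P.IsClosedUnderIsomorphisms]
    [P.ContainsZero] (hsum : ∀ X Y : C, P X → P Y → P (X ⨯ Y))
    (hqs : PCoh.IsQuasiStableUnderKernels P) (hql : PCoh.IsQuasiLiftable P) (a b : ℤ)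
    (hab : a ≤ b) {X Y : DerivedCategory C} (i : X ⟶ Y) (p : Y ⟶ X) (hip : i ≫ p = 𝟙 X)
    (E : CochainComplex C ℤ) (hPE : ∀ i, P (E.X i))
    (hvanE : ∀ i, i < a ∨ b < i → IsZero (E.X i)) (e : Q.obj E ≅ Y) :
    ∃ G : CochainComplex C ℤ, (∀ i, a < i → P (G.X i)) ∧
      (∀ i, i < a ∨ b < i → IsZero (G.X i)) ∧ Nonempty (Q.obj G ≅ X) := by
  have hY : NPC P a Y := ⟨E, ⟨⟨b, fun i hi => hvanE i (Or.inr hi)⟩, fun i _ => hPE i⟩, ⟨e⟩⟩
  have hX : NPC P a X := npc_of_retract P hsum hqs hql a i p hip hY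
  have hacY : AcycGT Y b :=
    (acycGT_Q_of_isZero_X E b (fun i hi => hvanE i (Or.inr hi))).of_iso e
  have hacX : AcycGT X b := AcycGT.of_retract i p hip hacY
  have hlow : ∀ j, j < a → IsZero ((homologyFunctor C j).obj X) := fun j hj =>
    isZero_homology_of_retract i p hip j
      (((isZero_homology_of_isZero_X E j (hvanE j (Or.inl hj))).of_iso (homologyQIso E j)).of_iso
        ((homologyFunctor C j).mapIso e.symm))
  obtain ⟨K, hPK, hzK, α, hα⟩ := exists_strictPerfect_nIso P hsum hqs hql a b X hX hacX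
  obtain ⟨G, hG, hvan, ⟨eG⟩⟩ := npc_of_nIso' P hsum a K
    ⟨⟨b, fun i hi => hzK i (Or.inr hi)⟩, fun i _ => hPK i⟩ X α hα
  haveI : G.IsGE a := by
    rw [← isGE_Q_obj_iff, DerivedCategory.isGE_iff]
    intro j hj
    exact (hlow j hj).of_iso ((homologyFunctor C j).mapIso eG)
  have hπ : QuasiIso (G.πTruncGE a) := inferInstance
  refine ⟨G.truncGE a, fun i hi => ?_, fun i hi => ?_,
    ⟨(asIso (Q.map (G.πTruncGE a))).symm ≪≫ eG⟩⟩
  · exact P.prop_of_iso (G.truncGEXIso a i hi).symm (hG.2 i (by omega))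
  · rcases hi with hi | hi
    · exact CochainComplex.isZero_of_isStrictlyGE _ a i hi
    · by_cases hia : a < i
      · exact (hvan i (by omega) (hzK i (Or.inr hi))).of_iso (G.truncGEXIso a i hia)
      · exfalso; omega


theorem perfectAmplitude_biprod (P : ObjectProperty C) [P.IsClosedUnderIsomorphisms]
    [P.ContainsZero] (hsum : ∀ X Y : C, P X → P Y → P (X ⨯ Y))
    (hlift : ∀ (E F : C) (u : E ⟶ F), Epi u → P F → IsSplitEpi u)
    (hst : ∀ (E F : C) (u : E ⟶ F), Epi u → P E → P F → P (kernel u))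
    (a b : ℤ) (hab : a ≤ b) (F' F'' : DerivedCategory C) :
    (((∃ E : CochainComplex C ℤ, (∀ i : ℤ, P (E.X i)) ∧
          (∀ i : ℤ, i < a ∨ b < i → IsZero (E.X i)) ∧ Nonempty (Q.obj E ≅ F')) ∧
        (∃ E : CochainComplex C ℤ, (∀ i : ℤ, P (E.X i)) ∧
          (∀ i : ℤ, i < a ∨ b < i → IsZero (E.X i)) ∧ Nonempty (Q.obj E ≅ F''))) →
      (∃ E : CochainComplex C ℤ, (∀ i : ℤ, P (E.X i)) ∧
        (∀ i : ℤ, i < a ∨ b < i → IsZero (E.X i)) ∧ Nonempty (Q.obj E ≅ (F' ⊞ F'')))) ∧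
    ((∀ (E' E'' : C), P (E' ⊞ E'') → P E' ∧ P E'') →
      (∃ E : CochainComplex C ℤ, (∀ i : ℤ, P (E.X i)) ∧
        (∀ i : ℤ, i < a ∨ b < i → IsZero (E.X i)) ∧ Nonempty (Q.obj E ≅ (F' ⊞ F''))) →
      (∃ E : CochainComplex C ℤ, (∀ i : ℤ, P (E.X i)) ∧
          (∀ i : ℤ, i < a ∨ b < i → IsZero (E.X i)) ∧ Nonempty (Q.obj E ≅ F')) ∧
        (∃ E : CochainComplex C ℤ, (∀ i : ℤ, P (E.X i)) ∧
          (∀ i : ℤ, i < a ∨ b < i → IsZero (E.X i)) ∧ Nonempty (Q.obj E ≅ F''))) := by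
  have termIso : ∀ (E' E'' : CochainComplex C ℤ) (i : ℤ),
      (E' ⊞ E'').X i ≅ E'.X i ⊞ E''.X i := fun E' E'' i =>
    (HomologicalComplex.eval C (ComplexShape.up ℤ) i).mapBiprod E' E''
  haveI : PreservesBinaryBiproducts (Q (C := C)) :=
    preservesBinaryBiproducts_of_preservesBiproducts _
  constructor
  · rintro ⟨⟨E', hP', hz', ⟨e'⟩⟩, ⟨E'', hP'', hz'', ⟨e''⟩⟩⟩
    refine ⟨E' ⊞ E'', fun i => ?_, fun i hi => ?_, ⟨(Q (C := C)).mapBiprod E' E'' ≪≫
      biprod.mapIso e' e''⟩⟩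
    · exact P.prop_of_iso (termIso E' E'' i).symm (prop_biprod P hsum (hP' i) (hP'' i))
    · exact (isZero_biprod (hz' i hi) (hz'' i hi)).of_iso (termIso E' E'' i)
  · rintro hsummand ⟨E, hPE, hzE, ⟨e⟩⟩
    have hql := isQuasiLiftable_of_lift P hlift
    have hqs := isQuasiStable_of_stable P hst
    obtain ⟨G', hPG', hzG', ⟨eG'⟩⟩ := exists_truncated_rep_of_retract P hsum hqs hql a b hab
      (biprod.inl : F' ⟶ F' ⊞ F'') biprod.fst biprod.inl_fst E hPE hzE e
    obtain ⟨G'', hPG'', hzG'', ⟨eG''⟩⟩ := exists_truncated_rep_of_retract P hsum hqs hql a b hab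
      (biprod.inr : F'' ⟶ F' ⊞ F'') biprod.snd biprod.inr_snd E hPE hzE e
    have hbot : P ((G' ⊞ G'').X a) :=
      prop_bottom_of_perfectAmplitude P hsum hlift hst a b (G' ⊞ G'')
        (fun i hi => (isZero_biprod (hzG' i hi) (hzG'' i hi)).of_iso (termIso G' G'' i))
        (fun i hi => P.prop_of_iso (termIso G' G'' i).symm
          (prop_biprod P hsum (hPG' i hi) (hPG'' i hi)))
        E hPE hzE (e ≪≫ (biprod.mapIso eG' eG'').symm ≪≫ ((Q (C := C)).mapBiprod G' G'').symm)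
    have hbot' := hsummand _ _ (P.prop_of_iso (termIso G' G'' a) hbot)
    refine ⟨⟨G', fun i => ?_, hzG', ⟨eG'⟩⟩, ⟨G'', fun i => ?_, hzG'', ⟨eG''⟩⟩⟩
    · rcases lt_trichotomy i a with hi | hi | hi
      · exact P.prop_of_isZero (hzG' i (Or.inl hi))
      · subst hi; exact hbot'.1
      · exact hPG' i hi
    · rcases lt_trichotomy i a with hi | hi | hi
      · exact P.prop_of_isZero (hzG'' i (Or.inl hi))
      · subst hi; exact hbot'.2
      · exact hPG'' i hi

end Groth.Agent.Lib.Helper28.PC
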