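import Groth.Agent.Lib.Helper28.PCohN

/-!
# Pseudo-coherence (SGA 6 I §2): factorisation of an `n`-quasi-isomorphism from a strictly
pseudo-coherent complex (general tower construction)
-/

set_option autoImplicit false
universe w v u
open CategoryTheory CategoryTheory.Limits Category Pretriangulated DerivedCategory ZeroObject

namespace Groth.Agent.Lib.Helper28.PC

variable {C : Type u} [Category.{v} C] [Abelian C] [HasDerivedCategory.{w} C]

/-- one step, general form: from an `(m+1)`-quasi-isomorphism `g : K ⟶ E` with `K` strictly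
`(m+1)`-pseudo-coherent to an `m`-quasi-isomorphism `g' : K' ⟶ E`, where `K ⟶ K'` is a
monomorphism in each degree, an isomorphism in degrees `≠ m`, `K'^m = K^m ⊕ G` with `G ∈ C₀`. -/
theorem exists_chain_step' (P : ObjectProperty C) [P.IsClosedUnderIsomorphisms]
    [P.ContainsZero] (hsum : ∀ X Y : C, P X → P Y → P (X ⨯ Y))
    (hqs : PCoh.IsQuasiStableUnderKernels P) (hql : PCoh.IsQuasiLiftable P)
    (E : CochainComplex C ℤ) (b m : ℤ) (hmb : m ≤ b) (hE : NPC P m (Q.obj E))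
    (K : CochainComplex C ℤ) (g : K ⟶ E) (hKP : ∀ i, m + 1 ≤ i → P (K.X i))
    (hKz : ∀ i, b < i → IsZero (K.X i)) (hg : NIso (m + 1) (Q.map g)) :
    ∃ (K' : CochainComplex C ℤ) (ι : K ⟶ K') (g' : K' ⟶ E), ι ≫ g' = g ∧
      (∀ i, P (K.X i) → P (K'.X i)) ∧
      (∀ i, b < i → IsZero (K'.X i)) ∧ NIso m (Q.map g') ∧
      (∀ i, i ≠ m → IsIso (ι.f i)) ∧ (∀ i, Mono (ι.f i)) := by
  let Kq := HomotopyCategory.quotient C (ComplexShape.up ℤ)
  obtain ⟨X, f, h, hT₂⟩ := Pretriangulated.distinguished_cocone_triangle₁ (Kq.map g)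
  obtain ⟨W, rfl⟩ : ∃ W : CochainComplex C ℤ, Kq.obj W = X := ⟨X.as, rfl⟩
  obtain ⟨p, rfl⟩ := Kq.map_surjective f
  have hd₂ := Qh.map_distinguished _ hT₂
  have hn₂ : NIso (m + 1) (Qh.mapTriangle.obj (Triangle.mk (Kq.map p) (Kq.map g) h)).mor₂ :=
    (nIso_Qh_map_iff g (m + 1)).2 hg
  have hWac' : AcycGT (Qh.obj (Kq.obj W)) (m + 1) := acycGT_obj₁_of_nIso _ hd₂ (m + 1) hn₂
  have hWac : AcycGT (Q.obj W) (m + 1) := hWac'.of_iso ((quotientCompQhIso C).app W)
  have hK_npc : NPC P (m + 1) (Qh.obj (Kq.obj K)) :=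
    ⟨K, ⟨⟨b, hKz⟩, hKP⟩, ⟨(quotientCompQhIso C).symm.app K⟩⟩
  have hE_npc : NPC P m (Qh.obj (Kq.obj E)) :=
    hE.of_iso ((quotientCompQhIso C).symm.app E)
  have hW_npc : NPC P (m + 1) (Q.obj W) :=
    (npc_obj₁ P hsum hqs hql m _ hd₂ hK_npc hE_npc).of_iso ((quotientCompQhIso C).app W)
  have hft := finiteType_top P hqs (le_refl (m + 1)) hW_npc hWac
  have hftW : PCoh.IsOfFiniteType P (W.homology (m + 1)) :=
    IsOfFiniteType.of_iso (homologyQIso W (m + 1)) hft
  obtain ⟨G, hG, ψ, hψ⟩ := exists_cell P hql W (m + 1) hftW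
  let φ' : cell G (m + 1) ⟶ K := ψ ≫ p
  have hT₁ := HomotopyCategory.mappingCone_triangleh_distinguished φ'
  obtain ⟨c, h2, h3⟩ := Pretriangulated.complete_distinguished_triangle_morphism _ _ hT₁ hT₂
    (Kq.map ψ) (𝟙 (Kq.obj K)) ((comp_id _).trans (Kq.map_comp ψ p))
  obtain ⟨g'', rfl⟩ := Kq.map_surjective c
  let Φ : CochainComplex.mappingCone.triangleh φ' ⟶ Triangle.mk (Kq.map p) (Kq.map g) h :=
    { hom₁ := Kq.map ψ
      hom₂ := 𝟙 (Kq.obj K)
      hom₃ := Kq.map g''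
      comm₁ := (comp_id _).trans (Kq.map_comp ψ p)
      comm₂ := h2
      comm₃ := h3 }
  have hd₁ := Qh.map_distinguished _ hT₁
  have hΦ₂ : IsIso (Qh.mapTriangle.map Φ).hom₂ := by
    change IsIso (Qh.map (𝟙 (Kq.obj K)))
    infer_instance
  have hψN : NIso (m + 1) (Qh.mapTriangle.map Φ).hom₁ := by
    change NIso (m + 1) (Qh.map (Kq.map ψ))
    rw [nIso_Qh_map_iff]
    have := nIso_of_cell ψ hψ (Iso.refl _) hWac
    rwa [Iso.refl_hom, comp_id] at this
  have hg'' : NIso m (Qh.map (Kq.map g'')) :=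
    nIso_hom₃ _ _ hd₁ hd₂ (Qh.mapTriangle.map Φ) m hψN
  have hH : Homotopy (CochainComplex.mappingCone.inr φ' ≫ g'') g := by
    apply HomotopyCategory.homotopyOfEq
    rw [Functor.map_comp]
    exact h2.trans (id_comp _)
  obtain ⟨g', hg'1, ⟨Hg'⟩⟩ := exists_homotopic_of_inr_comp φ' g'' g hH
  refine ⟨CochainComplex.mappingCone φ', CochainComplex.mappingCone.inr φ', g', hg'1,
    fun i hi => ?_, fun i hi => ?_, ?_, fun i hi => ?_, fun i => mono_inr_f φ' i⟩
  · exact P.prop_of_iso (coneXIso φ' i).symm (prop_biprod P hsum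
      ((isStrictPC_cell P G hG (m + 1) (i + 1)).2 (i + 1) le_rfl) hi)
  · exact (isZero_biprod (isZero_cell_X G (m + 1) (i + 1) (by omega)) (hKz i hi)).of_iso
      (coneXIso φ' i)
  · rw [← nIso_Qh_map_iff, HomotopyCategory.eq_of_homotopy _ _ Hg']
    exact hg''
  · exact isIso_inr_f φ' i (isZero_cell_X G (m + 1) (i + 1) (by omega))

end Groth.Agent.Lib.Helper28.PC

namespace Groth.Agent.Lib.Helper28.PC

variable {C : Type u} [Category.{v} C] [Abelian C] [HasDerivedCategory.{w} C]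

/-- finite descent: from an `i`-quasi-isomorphism to an `m`-quasi-isomorphism, `n ≤ m ≤ i`,
enlarging the source by objects of `C₀` in degrees `[m, i-1]`. -/
theorem exists_descent (P : ObjectProperty C) [P.IsClosedUnderIsomorphisms]
    [P.ContainsZero] (hsum : ∀ X Y : C, P X → P Y → P (X ⨯ Y))
    (hqs : PCoh.IsQuasiStableUnderKernels P) (hql : PCoh.IsQuasiLiftable P)
    (n i : ℤ) (E F : CochainComplex C ℤ) (hEP : ∀ j, n ≤ j → P (E.X j))
    (hF : NPC P n (Q.obj F)) (u : E ⟶ F) (hu : NIso i (Q.map u)) (b : ℤ)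
    (hb : ∀ j, b < j → IsZero (E.X j)) (hib : i ≤ b + 1) :
    ∀ (r : ℕ) (m : ℤ), m + r = i → (r = 0 ∨ n ≤ m) →
      ∃ (K : CochainComplex C ℤ) (ι : E ⟶ K) (g : K ⟶ F), ι ≫ g = u ∧
        (∀ j, n ≤ j → P (K.X j)) ∧ (∀ j, b < j → IsZero (K.X j)) ∧ NIso m (Q.map g) ∧
        (∀ j, Mono (ι.f j)) ∧ (∀ j, i ≤ j → IsIso (ι.f j)) := by
  intro r
  induction r with
  | zero =>
    intro m hm _
    obtain rfl : m = i := by simpa using hm
    exact ⟨E, 𝟙 E, u, id_comp _, hEP, hb, hu, fun j => by dsimp; infer_instance,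
      fun j _ => by dsimp; infer_instance⟩
  | succ r ih =>
    intro m hm hnm
    have hnm' : n ≤ m := by
      rcases hnm with h | h
      · omega
      · exact h
    obtain ⟨K, ι, g, h1, h2, h3, h4, h5, h6⟩ := ih (m + 1) (by push_cast at hm; omega)
      (Or.inr (by omega))
    obtain ⟨K', ι', g', k1, k2, k3, k4, k5, k6⟩ := exists_chain_step' P hsum hqs hql F b m
      (by push_cast at hm; omega) (hF.mono hnm') K g (fun j hj => h2 j (by omega)) h3 h4
    refine ⟨K', ι ≫ ι', g', by rw [assoc, k1, h1], fun j hj => k2 j (h2 j hj), k3, k4,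
      fun j => ?_, fun j hj => ?_⟩
    · have := h5 j
      have := k6 j
      rw [HomologicalComplex.comp_f]
      exact mono_comp _ _
    · have := h6 j hj
      have := k5 j (by push_cast at hm; omega)
      rw [HomologicalComplex.comp_f]
      infer_instance

/-- factorisation of an `i`-quasi-isomorphism `u : E ⟶ F` with `E` strictly `n`-pseudo-coherent
and `F` `n`-pseudo-coherent. -/
theorem exists_strictPC_factorisation (P : ObjectProperty C) [P.IsClosedUnderIsomorphisms]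
    [P.ContainsZero] (hsum : ∀ X Y : C, P X → P Y → P (X ⨯ Y))
    (hqs : PCoh.IsQuasiStableUnderKernels P) (hql : PCoh.IsQuasiLiftable P)
    (n i : ℤ) (E F : CochainComplex C ℤ) (hE : PCoh.IsStrictPC P n E)
    (hF : NPC P n (Q.obj F)) (u : E ⟶ F)
    (hiso : ∀ j : ℤ, i < j → IsIso (HomologicalComplex.homologyMap u j))
    (hepi : Epi (HomologicalComplex.homologyMap u i)) :
    ∃ (E' : CochainComplex C ℤ) (v : E ⟶ E') (u' : E' ⟶ F), v ≫ u' = u ∧
      PCoh.IsStrictPC P n E' ∧ QuasiIso u' ∧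
      (∀ j : ℤ, Mono (v.f j)) ∧ (∀ j : ℤ, i ≤ j → IsIso (v.f j)) := by
  obtain ⟨⟨b₀, hb₀⟩, hEP⟩ := hE
  obtain ⟨b, hb1, hb2⟩ : ∃ b : ℤ, b₀ ≤ b ∧ i ≤ b + 1 :=
    ⟨max b₀ (i - 1), le_max_left _ _, by have := le_max_right b₀ (i - 1); omega⟩
  have hu := nIso_Q_map u i hiso hepi
  obtain ⟨m₀, hm1, hm2, hm3⟩ : ∃ m₀ : ℤ, m₀ ≤ i ∧ m₀ ≤ n ∧ (m₀ = i ∨ m₀ = n) := by
    rcases le_total i n with h | h
    · exact ⟨i, le_rfl, h, Or.inl rfl⟩
    · exact ⟨n, h, le_rfl, Or.inr rfl⟩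
  obtain ⟨K, ι, g, h1, h2, h3, h4, h5, h6⟩ := exists_descent P hsum hqs hql n i E F hEP hF u hu b
    (fun j hj => hb₀ j (by omega)) hb2 (i - m₀).toNat m₀
    (by rw [Int.toNat_of_nonneg (by omega)]; omega)
    (by
      rcases hm3 with h | h
      · left; rw [h]; simp
      · right; omega)
  obtain ⟨E', v', u', k1, k2, k3, k4⟩ := exists_factorisation_of_nQuasiIso m₀ K F g
    (fun j hj => by
      have := h4.1 j hj
      exact (isIso_map_iff_of_natIso (homologyFunctorFactors C j) g).1 this)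
    ((epi_homologyFunctor_map_Q_iff g m₀).1 h4.2)
  refine ⟨E', ι ≫ v', u', by rw [assoc, k1, h1], ⟨⟨b, fun j hj => ?_⟩, fun j hj => ?_⟩, k2,
    fun j => ?_, fun j hj => ?_⟩
  · have := k4 j (by omega)
    exact (h3 j hj).of_iso (asIso (v'.f j)).symm
  · have := k4 j (by omega)
    exact P.prop_of_iso (asIso (v'.f j)) (h2 j hj)
  · have := h5 j
    have := k3 j
    rw [HomologicalComplex.comp_f]
    exact mono_comp _ _
  · have := h6 j hj
    have := k4 j (by omega)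
    rw [HomologicalComplex.comp_f]
    infer_instance

end Groth.Agent.Lib.Helper28.PC
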