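import Groth.Agent.Lib.Helper28.PCohQ

/-!
# Pseudo-coherence (SGA 6 I §2): factorisation of an `n`-quasi-isomorphism from a strictly
pseudo-coherent complex to a pseudo-coherent one (general tower construction)
-/

set_option autoImplicit false
universe w v u
open CategoryTheory CategoryTheory.Limits Category Pretriangulated DerivedCategory ZeroObject

namespace Groth.Agent.Lib.Helper28.PC

variable {C : Type u} [Category.{v} C] [Abelian C] [HasDerivedCategory.{w} C]

/-- the hypotheses for the general tower construction. -/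
structure GTowerData (P : ObjectProperty C) (M : CochainComplex C ℤ) (b n : ℤ) : Prop where
  hsum : ∀ X Y : C, P X → P Y → P (X ⨯ Y)
  hqs : PCoh.IsQuasiStableUnderKernels P
  hql : PCoh.IsQuasiLiftable P
  hM : ∀ k : ℤ, NPC P k (Q.obj M)
  hnb : n ≤ b + 1

/-- the `j`-th stage of the general tower. -/
structure GStage (P : ObjectProperty C) (M : CochainComplex C ℤ) (b n : ℤ) (j : ℕ) where
  K : CochainComplex C ℤ
  g : K ⟶ M
  hP : ∀ i, P (K.X i)
  hz : ∀ i : ℤ, b < i → IsZero (K.X i)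
  hg : NIso (n - (j : ℤ)) (Q.map g)

variable {P : ObjectProperty C} [P.IsClosedUnderIsomorphisms] [P.ContainsZero]
  {M : CochainComplex C ℤ} {b n : ℤ}

lemma GStage.exists_next (D : GTowerData P M b n) {j : ℕ} (s : GStage P M b n j) :
    ∃ (s' : GStage P M b n (j + 1)) (ι : s.K ⟶ s'.K), ι ≫ s'.g = s.g ∧
      (∀ i : ℤ, i ≠ n - ((j + 1 : ℕ) : ℤ) → IsIso (ι.f i)) ∧ ∀ i : ℤ, Mono (ι.f i) := by
  have e : n - ((j + 1 : ℕ) : ℤ) + 1 = n - (j : ℤ) := by push_cast; omega
  have hnb := D.hnb
  obtain ⟨K', ι, g', h1, h2, h3, h4, h5, h6⟩ := exists_chain_step' P D.hsum D.hqs D.hql M b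
    (n - ((j + 1 : ℕ) : ℤ)) (by push_cast; omega) (D.hM _) s.K s.g (fun i _ => s.hP i)
    s.hz (by rw [e]; exact s.hg)
  exact ⟨⟨K', g', fun i => h2 i (s.hP i), h3, h4⟩, ι, h1, h5, h6⟩

noncomputable def GStage.next (D : GTowerData P M b n) {j : ℕ} (s : GStage P M b n j) :
    GStage P M b n (j + 1) := (s.exists_next D).choose

noncomputable def GStage.nextι (D : GTowerData P M b n) {j : ℕ} (s : GStage P M b n j) :
    s.K ⟶ (s.next D).K := (s.exists_next D).choose_spec.choose

lemma GStage.nextι_g (D : GTowerData P M b n) {j : ℕ} (s : GStage P M b n j) :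
    s.nextι D ≫ (s.next D).g = s.g := (s.exists_next D).choose_spec.choose_spec.1

lemma GStage.isIso_nextι_f (D : GTowerData P M b n) {j : ℕ} (s : GStage P M b n j) (i : ℤ)
    (hi : i ≠ n - ((j + 1 : ℕ) : ℤ)) : IsIso ((s.nextι D).f i) :=
  (s.exists_next D).choose_spec.choose_spec.2.1 i hi

lemma GStage.mono_nextι_f (D : GTowerData P M b n) {j : ℕ} (s : GStage P M b n j) (i : ℤ) :
    Mono ((s.nextι D).f i) :=
  (s.exists_next D).choose_spec.choose_spec.2.2 i

noncomputable def gstage (D : GTowerData P M b n) (s₀ : GStage P M b n 0) (j : ℕ) :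
    GStage P M b n j :=
  Nat.rec (motive := fun j => GStage P M b n j) s₀ (fun _ s => s.next D) j

/-- the tower of complexes. -/
noncomputable def gtower (D : GTowerData P M b n) (s₀ : GStage P M b n 0) :
    ℕ ⥤ CochainComplex C ℤ :=
  Functor.ofSequence (X := fun j => (gstage D s₀ j).K) (fun j => (gstage D s₀ j).nextι D)

lemma isIso_gtower_map_f (D : GTowerData P M b n) (s₀ : GStage P M b n 0) (q : ℤ) (j₀ j : ℕ)
    (h : j₀ ≤ j) (hq : n - (j₀ : ℤ) ≤ q) : IsIso (((gtower D s₀).map (homOfLE h)).f q) := by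
  induction j, h using Nat.le_induction with
  | base =>
    have : homOfLE (le_refl j₀) = 𝟙 j₀ := rfl
    rw [this, CategoryTheory.Functor.map_id]
    change IsIso (𝟙 _)
    infer_instance
  | succ j hj ih =>
    have h1 : homOfLE (hj.trans (Nat.le_succ j)) =
        homOfLE hj ≫ homOfLE (Nat.le_add_right j 1) := rfl
    rw [h1, Functor.map_comp, HomologicalComplex.comp_f]
    have h2 : IsIso (((gtower D s₀).map (homOfLE (Nat.le_add_right j 1))).f q) := by
      rw [gtower, Functor.ofSequence_map_homOfLE_succ]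
      exact (gstage D s₀ j).isIso_nextι_f D q (by push_cast; omega)
    infer_instance

lemma mono_gtower_map_f (D : GTowerData P M b n) (s₀ : GStage P M b n 0) (q : ℤ) (j₀ j : ℕ)
    (h : j₀ ≤ j) : Mono (((gtower D s₀).map (homOfLE h)).f q) := by
  induction j, h using Nat.le_induction with
  | base =>
    have : homOfLE (le_refl j₀) = 𝟙 j₀ := rfl
    rw [this, CategoryTheory.Functor.map_id]
    change Mono (𝟙 _)
    infer_instance
  | succ j hj ih =>
    have h1 : homOfLE (hj.trans (Nat.le_succ j)) =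
        homOfLE hj ≫ homOfLE (Nat.le_add_right j 1) := rfl
    rw [h1, Functor.map_comp, HomologicalComplex.comp_f]
    have h2 : Mono (((gtower D s₀).map (homOfLE (Nat.le_add_right j 1))).f q) := by
      rw [gtower, Functor.ofSequence_map_homOfLE_succ]
      exact (gstage D s₀ j).mono_nextι_f D q
    exact mono_comp _ _

lemma gtower_evConst (D : GTowerData P M b n) (s₀ : GStage P M b n 0) (q : ℤ) :
    ((gtower D s₀) ⋙ HomologicalComplex.eval C (ComplexShape.up ℤ) q).IsEventuallyConstantFrom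
      (n - q).toNat := by
  intro j f
  have : f = homOfLE (leOfHom f) := Subsingleton.elim _ _
  rw [this]
  exact isIso_gtower_map_f D s₀ q _ j (leOfHom f) (by omega)

/-- the colimit of the general tower. -/
theorem exists_gtower_colimit (D : GTowerData P M b n) (s₀ : GStage P M b n 0) :
    ∃ (E : CochainComplex C ℤ) (v : s₀.K ⟶ E) (gE : E ⟶ M), v ≫ gE = s₀.g ∧
      (∀ i, P (E.X i)) ∧ (∀ i, b < i → IsZero (E.X i)) ∧ QuasiIso gE ∧
      (∀ i, Mono (v.f i)) ∧ (∀ i, n ≤ i → IsIso (v.f i)) := by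
  let T := gtower D s₀
  have hev := gtower_evConst D s₀
  haveI : ∀ q : ℤ, HasColimit (T ⋙ HomologicalComplex.eval C (ComplexShape.up ℤ) q) :=
    fun q => (hev q).hasColimit
  let E := colimit T
  let α : T ⟶ (Functor.const ℕ).obj M := NatTrans.ofSequence (fun j => (gstage D s₀ j).g)
    (fun j => by
      have h1 : T.map (homOfLE (Nat.le_add_right j 1)) = (gstage D s₀ j).nextι D :=
        Functor.ofSequence_map_homOfLE_succ _ j
      rw [h1]
      dsimp
      rw [comp_id]
      exact (gstage D s₀ j).nextι_g D)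
  let gE : E ⟶ M := colimit.desc T ⟨M, α⟩
  have hgE : ∀ j, colimit.ι T j ≫ gE = (gstage D s₀ j).g := fun j => colimit.ι_desc _ _
  have hι : ∀ (q : ℤ) (j : ℕ), (n - q).toNat ≤ j → IsIso ((colimit.ι T j).f q) :=
    fun q j hj => (hev q).isIso_ι_of_isColimit'
      (isColimitOfPreserves (HomologicalComplex.eval C (ComplexShape.up ℤ) q)
        (colimit.isColimit T)) j (homOfLE hj)
  refine ⟨E, colimit.ι T 0, gE, hgE 0, fun q => ?_, fun q hq => ?_, ?_, fun q => ?_,
    fun q hq => ?_⟩
  · have := hι q _ le_rfl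
    exact P.prop_of_iso (asIso ((colimit.ι T (n - q).toNat).f q)) ((gstage D s₀ _).hP q)
  · have := hι q _ le_rfl
    exact ((gstage D s₀ _).hz q hq).of_iso (asIso ((colimit.ι T (n - q).toNat).f q)).symm
  · rw [quasiIso_iff]
    intro q
    obtain ⟨j, hj⟩ : ∃ j : ℕ, j = (n - q + 2).toNat := ⟨_, rfl⟩
    have h0 := hι (q - 1) j (by omega)
    have h1 := hι q j (by omega)
    have h2 := hι (q + 1) j (by omega)
    have hqi : QuasiIsoAt (colimit.ι T j) q := by
      rw [quasiIsoAt_iff' _ (q - 1) q (q + 1) (by simp) (by simp)]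
      let φ := (HomologicalComplex.shortComplexFunctor' C (ComplexShape.up ℤ) (q - 1) q
        (q + 1)).map (colimit.ι T j)
      have : IsIso φ.τ₁ := h0
      have : IsIso φ.τ₂ := h1
      have : IsIso φ.τ₃ := h2
      apply ShortComplex.quasiIso_of_epi_of_isIso_of_mono
    have hg : QuasiIsoAt (gstage D s₀ j).g q := by
      rw [quasiIsoAt_iff_isIso_homologyMap]
      have := (gstage D s₀ j).hg.1 q (by omega)
      exact (isIso_map_iff_of_natIso (homologyFunctorFactors C q) _).1 this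
    rw [← hgE j] at hg
    haveI := hqi
    haveI hg' : QuasiIsoAt (colimit.ι T j ≫ gE) q := hg
    exact quasiIsoAt_of_comp_left (colimit.ι T j) gE q
  · have h1 := hι q _ le_rfl
    have h2 := mono_gtower_map_f D s₀ q 0 (n - q).toNat (Nat.zero_le _)
    have h3 : (colimit.ι T 0).f q = (T.map (homOfLE (Nat.zero_le (n - q).toNat))).f q ≫
        (colimit.ι T (n - q).toNat).f q := by
      rw [← HomologicalComplex.comp_f, colimit.w]
    rw [h3]
    have h1' : Mono ((colimit.ι T (n - q).toNat).f q) := inferInstance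
    exact @mono_comp _ _ _ _ _ _ h2 _ h1'
  · exact hι q 0 (by omega)

end Groth.Agent.Lib.Helper28.PC

namespace Groth.Agent.Lib.Helper28.PC

variable {C : Type u} [Category.{v} C] [Abelian C] [HasDerivedCategory.{w} C]

/-- factorisation of an `n`-quasi-isomorphism `u : E ⟶ F` with `E` strictly pseudo-coherent and
`F` pseudo-coherent. -/
theorem exists_strictPCAll_factorisation (P : ObjectProperty C) [P.IsClosedUnderIsomorphisms]
    [P.ContainsZero] (hsum : ∀ X Y : C, P X → P Y → P (X ⨯ Y))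
    (hqs : PCoh.IsQuasiStableUnderKernels P) (hql : PCoh.IsQuasiLiftable P)
    (n : ℤ) (E F : CochainComplex C ℤ) (hE : PCoh.IsStrictPCAll P E)
    (hF : ∀ k, NPC P k (Q.obj F)) (u : E ⟶ F)
    (hiso : ∀ j : ℤ, n < j → IsIso (HomologicalComplex.homologyMap u j))
    (hepi : Epi (HomologicalComplex.homologyMap u n)) :
    ∃ (E' : CochainComplex C ℤ) (v : E ⟶ E') (u' : E' ⟶ F), v ≫ u' = u ∧
      PCoh.IsStrictPCAll P E' ∧ QuasiIso u' ∧
      (∀ j : ℤ, Mono (v.f j)) ∧ (∀ j : ℤ, n ≤ j → IsIso (v.f j)) := by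
  obtain ⟨⟨b₀, hb₀⟩, hEP⟩ := hE
  obtain ⟨b, hb1, hb2⟩ : ∃ b : ℤ, b₀ ≤ b ∧ n ≤ b + 1 :=
    ⟨max b₀ (n - 1), le_max_left _ _, by have := le_max_right b₀ (n - 1); omega⟩
  have D : GTowerData P F b n := ⟨hsum, hqs, hql, hF, hb2⟩
  let s₀ : GStage P F b n 0 :=
    { K := E
      g := u
      hP := hEP
      hz := fun i hi => hb₀ i (by omega)
      hg := by
        rw [Nat.cast_zero, sub_zero]
        exact nIso_Q_map u n hiso hepi }
  obtain ⟨E', v, gE, h1, h2, h3, h4, h5, h6⟩ := exists_gtower_colimit D s₀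
  exact ⟨E', v, gE, h1, ⟨⟨b, h3⟩, h2⟩, h4, h5, h6⟩

end Groth.Agent.Lib.Helper28.PC
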