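import Groth.Agent.Lib.Helper28.PCohQ
import Mathlib.Algebra.Homology.HomotopyCategory.ShiftSequence

/-!
# Pseudo-coherence (SGA 6 I §1): modification of an `(n+1)`-quasi-isomorphism in degree `n`
-/

set_option autoImplicit false
universe w v u
open CategoryTheory CategoryTheory.Limits Category Pretriangulated DerivedCategory ZeroObject

namespace Groth.Agent.Lib.Helper28.PC

variable {C : Type u} [Category.{v} C] [Abelian C]

/-- the cokernel of `inr φ` in degree `i` is `K^{i+1}`. -/
noncomputable def cokernelInrIso {K L : CochainComplex C ℤ} (φ : K ⟶ L) (i : ℤ) :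
    cokernel ((CochainComplex.mappingCone.inr φ).f i) ≅ K.X (i + 1) where
  hom := cokernel.desc _ ((CochainComplex.mappingCone.fst φ).1.v i (i + 1) rfl) (by simp)
  inv := (CochainComplex.mappingCone.inl φ).v (i + 1) i (by omega) ≫ cokernel.π _
  hom_inv_id := by
    rw [← cancel_epi (cokernel.π _), cokernel.π_desc_assoc, comp_id]
    have h := CochainComplex.mappingCone.id_X φ i (i + 1) rfl
    have h' : (CochainComplex.mappingCone.fst φ).1.v i (i + 1) rfl ≫
        (CochainComplex.mappingCone.inl φ).v (i + 1) i (by omega) =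
        𝟙 _ - (CochainComplex.mappingCone.snd φ).v i i (add_zero i) ≫
          (CochainComplex.mappingCone.inr φ).f i := by
      rw [← h]; abel
    rw [← assoc, h', Preadditive.sub_comp, id_comp, assoc, cokernel.condition, comp_zero,
      sub_zero]
  inv_hom_id := by
    rw [assoc, cokernel.π_desc]
    simp

/-- the triangle `mappingCocone u ⟶ E ⟶ F ⟶` is distinguished in the homotopy category. -/
lemma mappingCocone_triangleh_distinguished {E F : CochainComplex C ℤ} (u : E ⟶ F) :
    (HomotopyCategory.quotient C (ComplexShape.up ℤ)).mapTriangle.obj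
      (CochainComplex.mappingCocone.triangle u) ∈ distTriang _ := by
  rw [rotate_distinguished_triangle]
  exact isomorphic_distinguished _ (HomotopyCategory.mappingCone_triangleh_distinguished u) _
    (((HomotopyCategory.quotient C (ComplexShape.up ℤ)).mapTriangleRotateIso).app _ ≪≫
      (HomotopyCategory.quotient C (ComplexShape.up ℤ)).mapTriangle.mapIso
        (CochainComplex.mappingCocone.rotateTriangleIso u))

end Groth.Agent.Lib.Helper28.PC

namespace Groth.Agent.Lib.Helper28.PC

variable {C : Type u} [Category.{v} C] [Abelian C]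

/-- modification of an `(n+1)`-quasi-isomorphism in degree `n` by an object of `C₀`. -/
theorem exists_cell_modification (P : ObjectProperty C) [P.IsClosedUnderIsomorphisms]
    [P.ContainsZero] (hql : PCoh.IsQuasiLiftable P)
    (n : ℤ) (E F : CochainComplex C ℤ) (u : E ⟶ F)
    (hiso : ∀ i : ℤ, n + 1 < i → IsIso (HomologicalComplex.homologyMap u i))
    (hepi : Epi (HomologicalComplex.homologyMap u (n + 1)))
    (hcone : PCoh.IsOfFiniteType P ((CochainComplex.mappingCone u).homology n)) :
    ∃ (E' : CochainComplex C ℤ) (v : E ⟶ E') (u' : E' ⟶ F), v ≫ u' = u ∧ (∀ i : ℤ, Mono (v.f i)) ∧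
      (∀ i : ℤ, i ≠ n → IsIso (v.f i)) ∧ P (cokernel (v.f n)) ∧
      (∀ i : ℤ, n < i → IsIso (HomologicalComplex.homologyMap u' i)) ∧
      Epi (HomologicalComplex.homologyMap u' n) := by
  letI : HasDerivedCategory.{max u v} C := HasDerivedCategory.standard C
  let Kq := HomotopyCategory.quotient C (ComplexShape.up ℤ)
  let W := CochainComplex.mappingCocone u
  let p : W ⟶ E := CochainComplex.mappingCocone.fst u
  have hT₂ := mappingCocone_triangleh_distinguished u
  have hd₂ := Qh.map_distinguished _ hT₂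
  have hu := nIso_Q_map u (n + 1) hiso hepi
  have hn₂ : NIso (n + 1)
      (Qh.mapTriangle.obj (Kq.mapTriangle.obj (CochainComplex.mappingCocone.triangle u))).mor₂ :=
    (nIso_Qh_map_iff u (n + 1)).2 hu
  have hWac : AcycGT (Q.obj W) (n + 1) :=
    (acycGT_obj₁_of_nIso _ hd₂ (n + 1) hn₂).of_iso ((quotientCompQhIso C).app W)
  have hftW : PCoh.IsOfFiniteType P (W.homology (n + 1)) :=
    IsOfFiniteType.of_iso ((CochainComplex.ShiftSequence.shiftIso C (-1) (n + 1) n
      (by omega)).app (CochainComplex.mappingCone u)).symm hcone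
  obtain ⟨G, hG, ψ, hψ⟩ := exists_cell P hql W (n + 1) hftW
  let φ' : cell G (n + 1) ⟶ E := ψ ≫ p
  have hT₁ := HomotopyCategory.mappingCone_triangleh_distinguished φ'
  obtain ⟨c, h2, h3⟩ := Pretriangulated.complete_distinguished_triangle_morphism _ _ hT₁ hT₂
    (Kq.map ψ) (𝟙 (Kq.obj E)) ((comp_id _).trans (Kq.map_comp ψ p))
  obtain ⟨g'', rfl⟩ := Kq.map_surjective c
  let Φ : CochainComplex.mappingCone.triangleh φ' ⟶
      Kq.mapTriangle.obj (CochainComplex.mappingCocone.triangle u) :=
    { hom₁ := Kq.map ψ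
      hom₂ := 𝟙 (Kq.obj E)
      hom₃ := Kq.map g''
      comm₁ := (comp_id _).trans (Kq.map_comp ψ p)
      comm₂ := h2
      comm₃ := h3 }
  have hd₁ := Qh.map_distinguished _ hT₁
  have hΦ₂ : IsIso (Qh.mapTriangle.map Φ).hom₂ := by
    change IsIso (Qh.map (𝟙 (Kq.obj E)))
    infer_instance
  have hψN : NIso (n + 1) (Qh.mapTriangle.map Φ).hom₁ := by
    change NIso (n + 1) (Qh.map (Kq.map ψ))
    rw [nIso_Qh_map_iff]
    have := nIso_of_cell ψ hψ (Iso.refl _) hWac
    rwa [Iso.refl_hom, comp_id] at this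
  have hg'' : NIso n (Qh.map (Kq.map g'')) :=
    nIso_hom₃ _ _ hd₁ hd₂ (Qh.mapTriangle.map Φ) n hψN
  have hH : Homotopy (CochainComplex.mappingCone.inr φ' ≫ g'') u := by
    apply HomotopyCategory.homotopyOfEq
    rw [Functor.map_comp]
    exact h2.trans (id_comp _)
  obtain ⟨g', hg'1, ⟨Hg'⟩⟩ := exists_homotopic_of_inr_comp φ' g'' u hH
  have hg' : NIso n (Q.map g') := by
    rw [← nIso_Qh_map_iff, HomotopyCategory.eq_of_homotopy _ _ Hg']
    exact hg''
  refine ⟨CochainComplex.mappingCone φ', CochainComplex.mappingCone.inr φ', g', hg'1,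
    fun i => mono_inr_f φ' i, fun i hi => ?_, ?_, fun i hi => ?_, ?_⟩
  · exact isIso_inr_f φ' i (isZero_cell_X G (n + 1) (i + 1) (by omega))
  · exact P.prop_of_iso (cokernelInrIso φ' n).symm
      ((isStrictPC_cell P G hG (n + 1) (n + 1)).2 (n + 1) le_rfl)
  · have := hg'.1 i hi
    exact (isIso_map_iff_of_natIso (homologyFunctorFactors C i) g').1 this
  · exact (epi_homologyFunctor_map_Q_iff g' n).1 hg'.2

end Groth.Agent.Lib.Helper28.PC
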