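import Groth.Agent.S0914
import Groth.Agent.Lib.Helper30.StrictPerfHomology
import Groth.Agent.Lib.Helper28.FlatAmpStalk
import Groth.Prelude.Def_KSix

/-!
# Perfect amplitude on schemes: restriction calculus and trimming (helper28)
-/

set_option autoImplicit false
set_option linter.style.haveILetI false
universe u
open CategoryTheory CategoryTheory.Limits AlgebraicGeometry TopologicalSpace

namespace Groth.Agent.Lib.Helper28.PerfAmpSch

attribute [local instance] HasDerivedCategory.standard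

open Groth.Agent.Lib.Helper30.PerfRestrict Groth.Agent.Lib.Helper30.PCTriangle
  Groth.Agent.Lib.Helper30.PerfFlat2 Groth.Agent.Lib.Helper30.PerfFlat Groth.Agent.Lib.Helper49
  Groth.Agent.Lib.Helper30.StrictPerfHomology Groth.Agent.Lib.Helper30.FlatRestrict
  Groth.Agent.Lib.Helper28.FlatAmpFamily Groth.Agent.Lib.Helper28.FlatAmpStalk
  Groth.Agent.Lib.Helper35.TA

variable {X U U' : Scheme.{u}}

/-- `L ∈ D(O_U)` is isomorphic to a complex of finite locally free modules placed in `[m, n]`. -/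
def PAObj (m n : ℤ) (L : DCoh.D U) : Prop :=
  ∃ E : CochainComplex U.Modules ℤ, DCoh.VanishesOutside E m n ∧
    (∀ i : ℤ, FlatMod.IsFinLocFree (E.X i)) ∧ Nonempty (L ≅ DerivedCategory.Q.obj E)

lemma PAObj.of_iso {m n : ℤ} {L L' : DCoh.D U} (e : L ≅ L') (h : PAObj m n L) : PAObj m n L' := by
  obtain ⟨E, hE, hfl, ⟨f⟩⟩ := h
  exact ⟨E, hE, hfl, ⟨e.symm ≪≫ f⟩⟩

lemma PAObj.perfObj {m n : ℤ} {L : DCoh.D U} (h : PAObj m n L) : PerfObj L := by
  obtain ⟨E, hE, hfl, ⟨f⟩⟩ := h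
  exact ⟨E, ⟨⟨m, n, hE⟩, hfl⟩, ⟨f⟩⟩

lemma PAObj.restrict (k : U' ⟶ U) [IsOpenImmersion k] {m n : ℤ} {L : DCoh.D U}
    (h : PAObj m n L) : PAObj m n ((rD k).obj L) := by
  obtain ⟨E, hE, hfl, ⟨f⟩⟩ := h
  exact ⟨(rC k).obj E, fun i hi => (Scheme.Modules.restrictFunctor k).map_isZero (hE i hi),
    fun i => isFinLocFree_restrict k _ (hfl i), ⟨(rD k).mapIso f ≪≫ (rDQ k).app E⟩⟩

lemma PAObj.of_fac (k : U' ⟶ U) (j : U ⟶ X) (j' : U' ⟶ X) [IsOpenImmersion k]
    [IsOpenImmersion j] [IsOpenImmersion j'] (h : k ≫ j = j') {m n : ℤ} {K : DCoh.D X}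
    (hK : PAObj m n ((rD j).obj K)) : PAObj m n ((rD j').obj K) :=
  (hK.restrict k).of_iso (rDFac k j j' h K).symm

lemma PAObj.opensRange (j : U ⟶ X) [IsOpenImmersion j] {m n : ℤ} {K : DCoh.D X}
    (hK : PAObj m n ((rD j).obj K)) : PAObj m n ((rD j.opensRange.ι).obj K) :=
  hK.of_fac j.isoOpensRange.inv j j.opensRange.ι (by simp)

theorem hasPerfectAmplitudeIn_iff (m n : ℤ) (K : DCoh.D X) :
    KSix.HasPerfectAmplitudeIn m n K ↔
      ∀ x : X, ∃ V : X.Opens, x ∈ V ∧ PAObj m n ((rD V.ι).obj K) := by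
  constructor
  · intro h x
    obtain ⟨V, hxV, hV⟩ := h x
    refine ⟨V, hxV, ?_⟩
    let F := DerivedCategory.Q.objPreimage K
    let e : DerivedCategory.Q.obj F ≅ K := DerivedCategory.Q.objObjPreimageIso K
    obtain ⟨E, hE, hfl, ⟨f⟩⟩ := hV F ⟨e⟩
    exact ⟨E, hE, hfl, ⟨(rD V.ι).mapIso e.symm ≪≫ (rDQ V.ι).app F ≪≫ f⟩⟩
  · intro h x
    obtain ⟨V, hxV, E, hE, hfl, ⟨f⟩⟩ := h x
    refine ⟨V, hxV, fun F ⟨e⟩ => ⟨E, hE, hfl, ⟨?_⟩⟩⟩
    exact ((rDQ V.ι).app F).symm ≪≫ (rD V.ι).mapIso e ≪≫ f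

theorem hasPerfectAmplitudeIn_of_openImmersions (m n : ℤ) (K : DCoh.D X)
    (h : ∀ x : X, ∃ (U : Scheme.{u}) (j : U ⟶ X) (_ : IsOpenImmersion j),
      x ∈ Set.range j ∧ PAObj m n ((rD j).obj K)) : KSix.HasPerfectAmplitudeIn m n K := by
  rw [hasPerfectAmplitudeIn_iff]
  intro x
  obtain ⟨U, j, hj, hx, hK⟩ := h x
  exact ⟨j.opensRange, hx, hK.opensRange j⟩

/-- flat amplitude restricts to opens. -/
lemma hasFlatAmplitudeIn_restrict (j : U ⟶ X) [IsOpenImmersion j] (a b : ℤ) (K : DCoh.D X)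
    (h : DCoh.HasFlatAmplitudeIn a b K) : DCoh.HasFlatAmplitudeIn a b ((rD j).obj K) := by
  obtain ⟨E, hE, hfl, ⟨e⟩⟩ := h
  exact ⟨(rC j).obj E, fun i hi => (Scheme.Modules.restrictFunctor j).map_isZero (hE i hi),
    fun i => isFlat_restrict j _ (hfl i), ⟨((rDQ j).app E).symm ≪≫ (rD j).mapIso e⟩⟩


/-- **trimming**: a strictly perfect complex of flat amplitude `[a, b]` is isomorphic in the derived
category to a complex of finite locally free modules placed in `[a, b]`. -/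
theorem paObj_of_isStrictlyPerfect (T : CochainComplex U.Modules ℤ)
    (hT : DCoh.IsStrictlyPerfect T) (a b : ℤ) (hab : a ≤ b)
    (h : DCoh.HasFlatAmplitudeIn a b (DCoh.toD U T)) : PAObj a b (DCoh.toD U T) := by
  obtain ⟨⟨a', b', hab'⟩, hflT⟩ := hT
  have hst := (hasFlatAmplitudeIn_iff_stalks T a b).mp h
  have hz : ∀ i : ℤ, (i < a ∨ b < i) → IsZero (T.homology i) := fun i hi =>
    jff_stalk.zero _ (fun x =>
      isZero_G_homology_of_TAmp (DerSch.stalkFunctor U x) T a b (hst x) i hi)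
  have hop : FlatMod.IsFlat (T.opcycles a) := by
    refine jff_stalk.flatM _ (fun x => ?_)
    have hv : DRing.VanishesAbove ((GCx (DerSch.stalkFunctor U x)).obj T) b' := fun i hi =>
      (DerSch.stalkFunctor U x).map_isZero (hab' i (Or.inr hi))
    have hfl : ∀ i : ℤ, Module.Flat (U.presheaf.stalk x)
        (((GCx (DerSch.stalkFunctor U x)).obj T).X i) := fun i =>
      jff_stalk.flat _ (isFlat_of_isFinLocFree _ (hflT i)) x
    have := (flat_opcycles_of_TAmp' ((GCx (DerSch.stalkFunctor U x)).obj T) b' hv hfl a b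
      (hst x)).2
    exact Module.Flat.of_linearEquiv
      (opcyclesGIso (DerSch.stalkFunctor U x) T a).toLinearEquiv.symm
  have hT1 : DCoh.IsStrictlyPerfect (T.truncGE a) :=
    isStrictlyPerfect_truncGE T a ⟨⟨a', b', hab'⟩, hflT⟩
      (isFlat_of_iso (T.truncGEXIsoOpcycles a).symm hop)
  haveI : T.IsGE a := by
    rw [CochainComplex.isGE_iff]
    intro i hi
    rw [HomologicalComplex.exactAt_iff_isZero_homology]
    exact hz i (Or.inl hi)
  obtain ⟨⟨a1, b1, hab1⟩, hfl1⟩ := hT1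
  let T1 := T.truncGE a
  have hz1 : ∀ i : ℤ, b < i → IsZero (T1.homology i) := fun i hi =>
    (hz i (Or.inr hi)).of_iso (asIso (HomologicalComplex.homologyMap (T.πTruncGE a) i)).symm
  haveI : T1.IsLE b := by
    rw [CochainComplex.isLE_iff]
    intro i hi
    rw [HomologicalComplex.exactAt_iff_isZero_homology]
    exact hz1 i hi
  have hb1 : ∀ i, b1 < i → IsZero (T1.X i) := fun i hi => hab1 i (Or.inr hi)
  have hZ : FlatMod.IsFinLocFree (kernel (T1.d b (b + 1))) := by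
    by_cases hnb : b ≤ b1 + 1
    · have := Int.toNat_of_nonneg (show 0 ≤ b1 + 1 - b by omega)
      exact isFinLocFree_cycles T1 hfl1 b1 hb1 b hz1 (b1 + 1 - b).toNat b (by omega) le_rfl
    · exact Groth.Agent.Lib.Helper30.StrictPerfHomology.isFinLocFree_of_isZero (IsZero.of_mono (kernel.ι _) (hb1 b (by omega)))
  have ecyc : T1.cycles b ≅ kernel (T1.d b (b + 1)) :=
    (IsLimit.conePointUniqueUpToIso (T1.cyclesIsKernel b (b + 1) (by simp))
      (kernelIsKernel (T1.d b (b + 1))) : _)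
  refine ⟨T1.truncLE b, ?_, ?_,
    ⟨asIso (DerivedCategory.Q.map (T.πTruncGE a)) ≪≫
      (asIso (DerivedCategory.Q.map (T1.ιTruncLE b))).symm⟩⟩
  · intro i hi
    rcases hi with hi | hi
    · exact (T1.isZero_of_isStrictlyGE a i hi).of_iso (T1.truncLEXIso b i (by omega))
    · exact (T1.truncLE b).isZero_of_isStrictlyLE b i hi
  · intro i
    rcases lt_trichotomy i b with hi | rfl | hi
    · exact Groth.Agent.Lib.Helper14.isFinLocFree_of_iso (T1.truncLEXIso b i hi).symm (hfl1 i)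
    · exact Groth.Agent.Lib.Helper14.isFinLocFree_of_iso
        (T1.truncLEXIsoCycles i ≪≫ ecyc).symm hZ
    · exact Groth.Agent.Lib.Helper30.StrictPerfHomology.isFinLocFree_of_isZero ((T1.truncLE b).isZero_of_isStrictlyLE b i hi)

end Groth.Agent.Lib.Helper28.PerfAmpSch
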