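import Groth.Agent.Lib.Helper28.RestrictTorAmp

/-!
# More on tor amplitude and open immersions (helper28)
-/

set_option autoImplicit false
set_option linter.style.haveILetI false
universe u
open CategoryTheory CategoryTheory.Limits AlgebraicGeometry MonoidalCategory

namespace Groth.Agent.Lib.Helper28.RestrictTorAmp

attribute [local instance] HasDerivedCategory.standard

open Groth.Agent.Lib.Helper28.FlatAmpFamily Groth.Agent.Lib.Helper28.TorAmpBC
  Groth.Agent.Helper19.KFlatExt Groth.Agent.Lib.Helper35.TA Groth.Agent.Lib.Helper35.StalkTA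
  Groth.Agent.Lib.Helper28.LpullTorAmp

section Ring

variable {A B : Type u} [CommRing A] [CommRing B] (κ : A →+* B)

/-- tor amplitude is preserved by restriction of scalars along a bijective ring hom. -/
theorem TAmp_res_of_bijective (hκ : Function.Bijective κ) (L : DRing.Cx B) (a b : ℤ)
    (h : DRing.HasTorAmplitudeIn B a b (DRing.toD L)) :
    DRing.HasTorAmplitudeIn A a b (DRing.toD (resCx κ L)) := by
  obtain ⟨E, hE1, hE2, ⟨e⟩⟩ := h
  refine ⟨resCx κ E, ?_, ?_, ⟨resIsoD κ e⟩⟩
  · intro i hi
    exact (ModuleCat.restrictScalars κ).map_isZero (hE1 i hi)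
  · intro i
    exact Groth.Agent.Lib.Helper28.FlatAmpStalk.flat_restrictScalars κ hκ _ (hE2 i)

end Ring

variable {X Y Z W : Scheme.{u}}

/-- tor amplitude relative to `g` gives tor amplitude relative to `g ≫ k`, `k` an open immersion. -/
theorem hasTorAmplitudeAt_comp_openImmersion (g : W ⟶ Y) (k : Y ⟶ Z)
    [IsOpenImmersion k] (a b : ℤ) (F : CochainComplex W.Modules ℤ) (x : W)
    (h : DerSch.HasTorAmplitudeAt g a b F x) : DerSch.HasTorAmplitudeAt (g ≫ k) a b F x := by
  have hbij : Function.Bijective (k.stalkMap (g.base x)).hom :=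
    (ConcreteCategory.isIso_iff_bijective (k.stalkMap (g.base x))).mp inferInstance
  exact TAmp.of_iso (TAmp_res_of_bijective _ hbij _ a b h)
    (DerivedCategory.Q.mapIso (stalkCxOverCompIso g k x F)).symm

/-- absolute flat amplitude can be checked on an open cover. -/
theorem hasTorAmplitudeAt_id_of_restrict (V : X.Opens) (a b : ℤ) (F : CochainComplex X.Modules ℤ)
    (y : V) (h : DerSch.HasTorAmplitudeAt (𝟙 (V : Scheme.{u})) a b ((DCoh.restrictCx V).obj F) y) :
    DerSch.HasTorAmplitudeAt (𝟙 X) a b F (V.ι.base y) := by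
  have h1 := hasTorAmplitudeAt_comp_openImmersion (𝟙 (V : Scheme.{u})) V.ι a b _ y h
  have h2 : 𝟙 (V : Scheme.{u}) ≫ V.ι = V.ι ≫ 𝟙 X := by simp
  rw [h2] at h1
  exact (hasTorAmplitudeAt_restrict_iff V.ι y (𝟙 X) a b F).mp h1

end Groth.Agent.Lib.Helper28.RestrictTorAmp
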