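import Groth.Agent.Lib.Helper28.FlatAmpDescent
import Groth.Agent.Lib.Helper28.PerfAmpSch
import Groth.Agent.Lib.Helper28.RestrictTorAmp2

set_option autoImplicit false
set_option linter.style.haveILetI false
universe u
open CategoryTheory CategoryTheory.Limits AlgebraicGeometry TopologicalSpace

namespace Groth.Agent.Lib.Helper28.PerfAmpSch

attribute [local instance] HasDerivedCategory.standard

open Groth.Agent.Lib.Helper30.PerfRestrict Groth.Agent.Lib.Helper30.PCTriangle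
  Groth.Agent.Lib.Helper30.PerfFlat2 Groth.Agent.Lib.Helper30.PerfFlat Groth.Agent.Lib.Helper49
  Groth.Agent.Lib.Helper30.StrictPerfHomology Groth.Agent.Lib.Helper30.FlatRestrict
  Groth.Agent.Lib.Helper28.FlatAmpFamily Groth.Agent.Lib.Helper28.FlatAmpStalk
  Groth.Agent.Lib.Helper35.TA Groth.Agent.Lib.Helper28.RestrictTorAmp

variable {X : Scheme.{u}}

/-- **perfect amplitude = pseudo-coherence + flat amplitude.** -/
theorem hasPerfectAmplitudeIn_iff_pc_flat (E : DCoh.D X) (m n : ℤ) (hmn : m ≤ n) :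
    KSix.HasPerfectAmplitudeIn m n E ↔
      DCoh.IsPseudoCoherentD (m - 1) E ∧ DCoh.HasFlatAmplitudeIn m n E := by
  let F₀ := DerivedCategory.Q.objPreimage E
  let e₀ : DerivedCategory.Q.obj F₀ ≅ E := DerivedCategory.Q.objObjPreimageIso E
  constructor
  · intro h
    rw [hasPerfectAmplitudeIn_iff] at h
    refine ⟨?_, ?_⟩
    · rw [isPseudoCoherentD_iff]
      intro x
      obtain ⟨V, hxV, hV⟩ := h x
      exact ⟨V, hxV, hV.perfObj.pcObj (m - 1)⟩
    · refine Groth.Agent.Lib.Helper28.FlatAmpDescent.hasFlatAmplitudeIn_of_iso e₀ m n ?_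
      rw [hasFlatAmplitudeIn_iff_hasTorAmplitude_id]
      intro x
      obtain ⟨V, hxV, T, hT, hfl, ⟨f⟩⟩ := h x
      have h1 : DCoh.HasFlatAmplitudeIn m n (DCoh.toD (V : Scheme.{u}) ((DCoh.restrictCx V).obj F₀)) :=
        ⟨T, hT, fun i => isFlat_of_isFinLocFree _ (hfl i),
          ⟨f.symm ≪≫ (rD V.ι).mapIso e₀.symm ≪≫ (rDQ V.ι).app F₀⟩⟩
      have h2 := (hasFlatAmplitudeIn_iff_hasTorAmplitude_id _ m n).mp h1 ⟨x, hxV⟩
      exact hasTorAmplitudeAt_id_of_restrict V m n F₀ ⟨x, hxV⟩ h2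
  · rintro ⟨hpc, hfl⟩
    have hperf : DCoh.IsPerfect E := isPerfect_of_flat_of_pc E m n hfl hpc
    rw [isPerfect_iff] at hperf
    rw [hasPerfectAmplitudeIn_iff]
    intro x
    obtain ⟨V, hxV, T, hT, ⟨f⟩⟩ := hperf x
    refine ⟨V, hxV, ?_⟩
    have h1 : DCoh.HasFlatAmplitudeIn m n ((rD V.ι).obj E) :=
      hasFlatAmplitudeIn_restrict V.ι m n E hfl
    have h2 : DCoh.HasFlatAmplitudeIn m n (DCoh.toD (V : Scheme.{u}) T) :=
      Groth.Agent.Lib.Helper28.FlatAmpDescent.hasFlatAmplitudeIn_of_iso f m n h1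
    exact (paObj_of_isStrictlyPerfect T hT m n hmn h2).of_iso f.symm

end Groth.Agent.Lib.Helper28.PerfAmpSch
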