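import Groth.Agent.Lib.Helper28.PerfAmpSch2

/-!
# Perfect amplitude gives pseudo-coherence and flat amplitude, without `m ≤ n` (helper28)
-/

set_option autoImplicit false
set_option linter.style.haveILetI false
universe u
open CategoryTheory CategoryTheory.Limits AlgebraicGeometry TopologicalSpace

namespace Groth.Agent.Lib.Helper28.PerfAmpSch

attribute [local instance] HasDerivedCategory.standard

open Groth.Agent.Lib.Helper30.PerfRestrict Groth.Agent.Lib.Helper30.PCTriangle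
  Groth.Agent.Lib.Helper30.PerfFlat2 Groth.Agent.Lib.Helper30.PerfFlat Groth.Agent.Lib.Helper49
  Groth.Agent.Lib.Helper30.StrictPerfHomology Groth.Agent.Lib.Helper30.FlatRestrict
  Groth.Agent.Lib.Helper28.FlatAmpFamily Groth.Agent.Lib.Helper28.FlatAmpStalk
  Groth.Agent.Lib.Helper35.TA Groth.Agent.Lib.Helper28.RestrictTorAmp

variable {X : Scheme.{u}}

/-- perfect amplitude in `[m, n]` gives pseudo-coherence in every degree and flat amplitude in
`[m, n]` (no hypothesis `m ≤ n`). -/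
theorem pc_flat_of_hasPerfectAmplitudeIn (E : DCoh.D X) (m n : ℤ)
    (h : KSix.HasPerfectAmplitudeIn m n E) :
    (∀ k : ℤ, DCoh.IsPseudoCoherentD k E) ∧ DCoh.HasFlatAmplitudeIn m n E := by
  let F₀ := DerivedCategory.Q.objPreimage E
  let e₀ : DerivedCategory.Q.obj F₀ ≅ E := DerivedCategory.Q.objObjPreimageIso E
  rw [hasPerfectAmplitudeIn_iff] at h
  refine ⟨fun k => ?_, ?_⟩
  · rw [isPseudoCoherentD_iff]
    intro x
    obtain ⟨V, hxV, hV⟩ := h x
    exact ⟨V, hxV, hV.perfObj.pcObj k⟩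
  · refine Groth.Agent.Lib.Helper28.FlatAmpDescent.hasFlatAmplitudeIn_of_iso e₀ m n ?_
    rw [hasFlatAmplitudeIn_iff_hasTorAmplitude_id]
    intro x
    obtain ⟨V, hxV, T, hT, hfl, ⟨f⟩⟩ := h x
    have h1 : DCoh.HasFlatAmplitudeIn m n (DCoh.toD (V : Scheme.{u}) ((DCoh.restrictCx V).obj F₀)) :=
      ⟨T, hT, fun i => isFlat_of_isFinLocFree _ (hfl i),
        ⟨f.symm ≪≫ (rD V.ι).mapIso e₀.symm ≪≫ (rDQ V.ι).app F₀⟩⟩
    have h2 := (hasFlatAmplitudeIn_iff_hasTorAmplitude_id _ m n).mp h1 ⟨x, hxV⟩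
    exact hasTorAmplitudeAt_id_of_restrict V m n F₀ ⟨x, hxV⟩ h2

end Groth.Agent.Lib.Helper28.PerfAmpSch
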