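import Mathlib
import Groth.Agent.Lib.Helper28.LiftCx2

/-!
# Lifting projective modules along a nilpotent thickening

`exists_projective_lift`: for a nilpotent ideal `I` of `R`, every projective `R/I`-module `M`
(of arbitrary rank) is the reduction of a projective `R`-module (lift an idempotent endomorphism of
a free module; `exists_idempotent_lift`).
-/

set_option autoImplicit false
universe u
open CategoryTheory CategoryTheory.Limits

namespace Groth.Agent.Lib.Helper28.ProjLift

section Abstract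

variable {R : Type u} [CommRing R] (I : Ideal R)

/-- the ring homomorphism `End_R(F) → End_R(F/IF)` -/
noncomputable def endQuot (F : Type u) [AddCommGroup F] [Module R F] :
    Module.End R F →+* Module.End R (F ⧸ I • (⊤ : Submodule R F)) where
  toFun g := (I • (⊤ : Submodule R F)).mapQ (I • ⊤) g (Submodule.smul_top_le_comap_smul_top I g)
  map_one' := by
    apply Submodule.linearMap_qext
    ext x
    rfl
  map_mul' g h := by
    apply Submodule.linearMap_qext
    ext x
    rfl
  map_zero' := by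
    apply Submodule.linearMap_qext
    ext x
    rfl
  map_add' g h := by
    apply Submodule.linearMap_qext
    ext x
    rfl

lemma endQuot_mkQ {F : Type u} [AddCommGroup F] [Module R F] (g : Module.End R F) (x : F) :
    endQuot I F g ((I • (⊤ : Submodule R F)).mkQ x) = (I • (⊤ : Submodule R F)).mkQ (g x) := rfl

lemma pow_apply_mem {F : Type u} [AddCommGroup F] [Module R F] (g : Module.End R F)
    (hg : ∀ x, g x ∈ I • (⊤ : Submodule R F)) (n : ℕ) (x : F) :
    (g ^ n) x ∈ I ^ n • (⊤ : Submodule R F) := by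
  induction n generalizing x with
  | zero => simp
  | succ n ih =>
    have h0 : (g ^ (n + 1)) x = g ((g ^ n) x) := by
      rw [pow_succ']
      rfl
    rw [h0]
    have h1 : g ((g ^ n) x) ∈ (I ^ n • (⊤ : Submodule R F)).map g := Submodule.mem_map_of_mem (ih x)
    rw [Submodule.map_smul''] at h1
    have h2 : (⊤ : Submodule R F).map g ≤ I • (⊤ : Submodule R F) := by
      rintro _ ⟨y, -, rfl⟩
      exact hg y
    have h3 := Submodule.smul_mono (le_refl (I ^ n)) h2 h1
    rw [← mul_smul, ← pow_succ] at h3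
    exact h3

theorem exists_idempotent_lift (hI : IsNilpotent I)
    {F T M' : Type u} [AddCommGroup F] [Module R F] [AddCommGroup T] [Module R T]
    [AddCommGroup M'] [Module R M'] [Module.Projective R F]
    (ρF : F →ₗ[R] T) (hρF : Function.Surjective ρF)
    (hkF : LinearMap.ker ρF = I • (⊤ : Submodule R F))
    (p₀ : T →ₗ[R] M') (s₀ : M' →ₗ[R] T) (hps : p₀ ∘ₗ s₀ = LinearMap.id) :
    ∃ e : F →ₗ[R] F, e ∘ₗ e = e ∧ ρF ∘ₗ e = (s₀ ∘ₗ p₀) ∘ₗ ρF := by
  -- the quotient `F/IF` is `T`
  let ε : (F ⧸ I • (⊤ : Submodule R F)) ≃ₗ[R] T :=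
    (Submodule.quotEquivOfEq _ _ hkF.symm).trans (ρF.quotKerEquivOfSurjective hρF)
  have hε : ∀ x : F, ε ((I • (⊤ : Submodule R F)).mkQ x) = ρF x := fun x => rfl
  let ebar : Module.End R (F ⧸ I • (⊤ : Submodule R F)) :=
    ε.symm.toLinearMap ∘ₗ (s₀ ∘ₗ p₀) ∘ₗ ε.toLinearMap
  have hps' : ∀ m, p₀ (s₀ m) = m := fun m => LinearMap.congr_fun hps m
  have hebar : IsIdempotentElem ebar := by
    apply LinearMap.ext
    intro x
    simp [ebar, Module.End.mul_apply, hps']
  -- `ebar` is in the range
  have hrange : ebar ∈ (endQuot I F).range := by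
    obtain ⟨g, hg⟩ := Module.projective_lifting_property (I • (⊤ : Submodule R F)).mkQ
      (ebar ∘ₗ (I • (⊤ : Submodule R F)).mkQ) (Submodule.mkQ_surjective _)
    refine ⟨g, ?_⟩
    apply Submodule.linearMap_qext
    exact hg
  -- the kernel consists of nilpotent elements
  obtain ⟨n, hn⟩ := hI
  have hker : ∀ g ∈ RingHom.ker (endQuot I F), IsNilpotent g := by
    intro g hg
    rw [RingHom.mem_ker] at hg
    have hg' : ∀ x, g x ∈ I • (⊤ : Submodule R F) := by
      intro x
      have := LinearMap.congr_fun hg ((I • (⊤ : Submodule R F)).mkQ x)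
      rw [endQuot_mkQ, LinearMap.zero_apply, Submodule.mkQ_apply,
        Submodule.Quotient.mk_eq_zero] at this
      exact this
    refine ⟨n, ?_⟩
    apply LinearMap.ext
    intro x
    have := pow_apply_mem I g hg' n x
    rw [hn] at this
    simpa using this
  obtain ⟨e, he, hee⟩ := exists_isIdempotentElem_eq_of_ker_isNilpotent (endQuot I F) hker ebar
    hrange hebar
  refine ⟨e, he, ?_⟩
  apply LinearMap.ext
  intro x
  have h1 := LinearMap.congr_fun hee ((I • (⊤ : Submodule R F)).mkQ x)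
  rw [endQuot_mkQ] at h1
  have h2 := congrArg ε h1
  rw [hε] at h2
  rw [LinearMap.comp_apply, h2]
  have h3 : ε (Submodule.Quotient.mk x) = ρF x := hε x
  simp [ebar, h3]

end Abstract


section Range

variable {R : Type u} [CommRing R] (I : Ideal R)

theorem range_idempotent_reduction
    {F T M' : Type u} [AddCommGroup F] [Module R F] [AddCommGroup T] [Module R T]
    [AddCommGroup M'] [Module R M']
    (hM' : ∀ a ∈ I, ∀ m : M', a • m = 0)
    (ρF : F →ₗ[R] T) (hρF : Function.Surjective ρF)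
    (hkF : LinearMap.ker ρF = I • (⊤ : Submodule R F))
    (p₀ : T →ₗ[R] M') (s₀ : M' →ₗ[R] T) (hps : p₀ ∘ₗ s₀ = LinearMap.id)
    (e : F →ₗ[R] F) (he : e ∘ₗ e = e) (hρe : ρF ∘ₗ e = (s₀ ∘ₗ p₀) ∘ₗ ρF) :
    Function.Surjective (p₀ ∘ₗ ρF ∘ₗ (LinearMap.range e).subtype) ∧
      LinearMap.ker (p₀ ∘ₗ ρF ∘ₗ (LinearMap.range e).subtype) =
        I • (⊤ : Submodule R (LinearMap.range e)) := by
  have hps' : ∀ m, p₀ (s₀ m) = m := fun m => LinearMap.congr_fun hps m
  have he' : ∀ x, e (e x) = e x := fun x => LinearMap.congr_fun he x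
  have hρe' : ∀ x, ρF (e x) = s₀ (p₀ (ρF x)) := fun x => LinearMap.congr_fun hρe x
  constructor
  · intro m
    obtain ⟨y, hy⟩ := hρF (s₀ m)
    refine ⟨⟨e y, ⟨y, rfl⟩⟩, ?_⟩
    change p₀ (ρF (e y)) = m
    rw [hρe', hy, hps', hps']
  · apply le_antisymm
    · rintro ⟨x, ⟨y, rfl⟩⟩ hx
      rw [LinearMap.mem_ker] at hx
      have hx' : p₀ (ρF (e y)) = 0 := hx
      have h0 : ρF (e y) = 0 := by
        have := hρe' (e y)
        rw [he', hx', map_zero] at this
        exact this
      have hI : e y ∈ I • (⊤ : Submodule R F) := by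
        rw [← hkF]; exact h0
      -- apply `e` (corestricted)
      let e' : F →ₗ[R] LinearMap.range e := e.rangeRestrict
      have h1 : e' (e y) ∈ (I • (⊤ : Submodule R F)).map e' := Submodule.mem_map_of_mem hI
      rw [Submodule.map_smul''] at h1
      have h2 : e' (e y) = ⟨e y, ⟨y, rfl⟩⟩ := Subtype.ext (he' y)
      rw [h2] at h1
      exact Submodule.smul_mono le_rfl le_top h1
    · rw [Submodule.smul_le]
      intro a ha z _
      rw [LinearMap.mem_ker, map_smul]
      exact hM' a ha _

end Range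

section Main

variable {R : Type u} [CommRing R] (I : Ideal R)

open LiftCx in
theorem exists_projective_lift (hI : IsNilpotent I) (M : Type u) [AddCommGroup M]
    [Module (R ⧸ I) M] [Module.Projective (R ⧸ I) M] :
    ∃ X : ModuleCat.{u} R, Module.Projective R X ∧
      Nonempty (TensorProduct R (R ⧸ I) X ≃ₗ[R ⧸ I] M) := by
  classical
  let f := Ideal.Quotient.mk I
  obtain ⟨s, hs⟩ := (Module.projective_def' (R := R ⧸ I) (P := M)).1 inferInstance
  let F : ModuleCat.{u} R := ModuleCat.of R (M →₀ R)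
  let Fbar : ModuleCat.{u} (R ⧸ I) := ModuleCat.of (R ⧸ I) (M →₀ R ⧸ I)
  obtain ⟨ρF, hρF, hkF⟩ := exists_reduction I F Fbar
    (TensorProduct.finsuppScalarRight R (R ⧸ I) (R ⧸ I) M)
  let p₀ : (ModuleCat.restrictScalars f).obj Fbar ⟶
      (ModuleCat.restrictScalars f).obj (ModuleCat.of (R ⧸ I) M) :=
    (ModuleCat.restrictScalars f).map (ModuleCat.ofHom (Finsupp.linearCombination (R ⧸ I) id))
  let s₀ : (ModuleCat.restrictScalars f).obj (ModuleCat.of (R ⧸ I) M) ⟶
      (ModuleCat.restrictScalars f).obj Fbar :=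
    (ModuleCat.restrictScalars f).map (ModuleCat.ofHom s)
  have hps : p₀.hom ∘ₗ s₀.hom = LinearMap.id := by
    apply LinearMap.ext
    intro m
    exact LinearMap.congr_fun hs m
  have hM' : ∀ a ∈ I, ∀ m : (ModuleCat.restrictScalars f).obj (ModuleCat.of (R ⧸ I) M),
      a • m = 0 := by
    intro a ha m
    change (f a) • (show M from m) = 0
    rw [show f a = 0 from Ideal.Quotient.eq_zero_iff_mem.2 ha, zero_smul]
  haveI : Module.Projective R F := by
    change Module.Projective R (M →₀ R)
    infer_instance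
  obtain ⟨e, he, hρe⟩ := exists_idempotent_lift I hI ρF.hom hρF hkF p₀.hom s₀.hom hps
  obtain ⟨h1, h2⟩ := range_idempotent_reduction I hM' ρF.hom hρF hkF p₀.hom s₀.hom hps e he hρe
  haveI : Module.Projective R (LinearMap.range e) :=
    Module.Projective.of_split (LinearMap.range e).subtype e.rangeRestrict (by
      apply LinearMap.ext
      rintro ⟨x, ⟨y, rfl⟩⟩
      exact Subtype.ext (LinearMap.congr_fun he y))
  refine ⟨ModuleCat.of R (LinearMap.range e), inferInstance, ?_⟩
  haveI hiso := isIso_homEquiv_symm f Ideal.Quotient.mk_surjective I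
    (fun a ha => Ideal.Quotient.eq_zero_iff_mem.2 ha)
    (ModuleCat.of R (LinearMap.range e)) (ModuleCat.of (R ⧸ I) M)
    (ModuleCat.ofHom (Y := (ModuleCat.restrictScalars f).obj (ModuleCat.of (R ⧸ I) M))
      (p₀.hom ∘ₗ ρF.hom ∘ₗ (LinearMap.range e).subtype)) h1 h2
  exact ⟨(asIso (((ModuleCat.extendRestrictScalarsAdj f).homEquiv
    (ModuleCat.of R (LinearMap.range e)) (ModuleCat.of (R ⧸ I) M)).symm
    (ModuleCat.ofHom (Y := (ModuleCat.restrictScalars f).obj (ModuleCat.of (R ⧸ I) M))
      (p₀.hom ∘ₗ ρF.hom ∘ₗ (LinearMap.range e).subtype)))).toLinearEquiv⟩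

end Main

end Groth.Agent.Lib.Helper28.ProjLift
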