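import Mathlib
import Groth.Prelude.Def_DerSch
import Groth.Agent.Lib.Helper5.PushStalk
import Groth.Agent.H57.TildeStalkIso
import Groth.Agent.Lib.Helper49.QcqsModules

/-!
# Quasi-coherent modules with a prescribed stalk (helper28)

On a quasi-separated scheme `X`, every module over the local ring `O_{X,x}` is the stalk at `x`
of a quasi-coherent `O_X`-module: the pushforward of `N~` along `Spec O_{X,x} ⟶ X`.
-/

set_option autoImplicit false
universe u
open CategoryTheory CategoryTheory.Limits AlgebraicGeometry IsLocalRing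

namespace Groth.Agent.Lib.Helper28.SpecStalkPush

section Algebra

variable {R S T : Type u} [CommRing R] [CommRing S] [CommRing T]

/-- extension of scalars along a ring isomorphism is restriction of scalars along its inverse. -/
noncomputable def extendIsoRestrictSymm (e : R ≃+* S) :
    ModuleCat.extendScalars.{u, u, u} e.toRingHom ≅
      ModuleCat.restrictScalars.{u} (e.symm : S →+* R) :=
  (ModuleCat.extendRestrictScalarsAdj e.toRingHom).leftAdjointUniq
    (ModuleCat.restrictScalarsEquivalenceOfRingEquiv e).symm.toAdjunction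

lemma nonempty_iso_of_bijective (α : R →+* S) (β : T →+* S) (γ : R →+* T)
    (hα : Function.Bijective α) (hβ : Function.Injective β) (h : β.comp γ = α)
    (N : ModuleCat.{u} T) :
    Nonempty ((ModuleCat.restrictScalars β).obj ((ModuleCat.extendScalars α).obj
      ((ModuleCat.restrictScalars γ).obj N)) ≅ N) := by
  let e : R ≃+* S := RingEquiv.ofBijective α hα
  have he : e.toRingHom = α := rfl
  let i1 : (ModuleCat.extendScalars α).obj ((ModuleCat.restrictScalars γ).obj N) ≅
      (ModuleCat.restrictScalars (e.symm : S →+* R)).obj ((ModuleCat.restrictScalars γ).obj N) :=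
    (extendIsoRestrictSymm e).app _
  have hid : (γ.comp (e.symm : S →+* R)).comp β = RingHom.id T := by
    ext t
    apply hβ
    have h1 : β (γ (e.symm (β t))) = α (e.symm (β t)) := by
      rw [← h]; rfl
    have h2 : α (e.symm (β t)) = β t := e.apply_symm_apply (β t)
    exact h1.trans h2
  exact ⟨(ModuleCat.restrictScalars β).mapIso i1 ≪≫
    (ModuleCat.restrictScalars β).mapIso
      (ModuleCat.restrictScalarsComp'App (e.symm : S →+* R) γ _ rfl N).symm ≪≫
    (ModuleCat.restrictScalarsComp'App β (γ.comp (e.symm : S →+* R)) _ rfl N).symm ≪≫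
    ModuleCat.restrictScalarsId'App _ hid N⟩

end Algebra

variable {X : Scheme.{u}}

open Groth.Agent.Lib.Helper5.PushStalk Groth.Agent.Lib.Helper5.PullTensorIso

/-- the stalk of a pushforward along a topological embedding, at a point of the image. -/
noncomputable def pushStalkIso' {Z : Scheme.{u}} (g : Z ⟶ X) (z : Z)
    (hg : Topology.IsInducing g.base) :
    Scheme.Modules.pushforward g ⋙ DerSch.stalkFunctor X (g.base z) ≅
      DerSch.stalkFunctor Z z ⋙ ModuleCat.restrictScalars (g.stalkMap z).hom :=
  NatIso.ofComponents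
    (fun M => @asIso _ _ _ _ (pushStalkHom g z M)
      ((ConcreteCategory.isIso_iff_bijective _).2 (pushStalkHom_bijective g z hg M)))
    (fun φ => pushStalkHom_naturality g z φ)

section Main

variable (x : X)

/-- the ring `O_{X,x}`. -/
noncomputable abbrev Rx : CommRingCat.{u} := X.presheaf.stalk x

/-- the closed point of `Spec O_{X,x}`. -/
noncomputable abbrev mx : Spec (Rx x) := closedPoint (Rx x)

/-- the image of the closed point. -/
noncomputable abbrev x' : X := (X.fromSpecStalk x).base (mx x)

lemma x'_eq : x' x = x := Scheme.fromSpecStalk_closedPoint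

/-- the identification `O_{X,x'} ≅ O_{X,x}`. -/
noncomputable def cIso : X.presheaf.stalk (x' x) ≅ Rx x :=
  X.presheaf.stalkCongr (Inseparable.of_eq (x'_eq x))

/-- the ring map `O_{X,x} ⟶ O_{Spec O_{X,x}, m}`. -/
noncomputable abbrev αx : Rx x ⟶ (Spec (Rx x)).presheaf.stalk (mx x) :=
  Groth.Agent.H57.TildeStalkIso.φ (Rx x) (mx x)

/-- the stalk map of `Spec O_{X,x} ⟶ X` at the closed point. -/
noncomputable abbrev βx : X.presheaf.stalk (x' x) ⟶ (Spec (Rx x)).presheaf.stalk (mx x) :=
  (X.fromSpecStalk x).stalkMap (mx x)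

lemma αx_eq : αx x = (stalkClosedPointIso (Rx x)).inv := by
  rw [αx, Groth.Agent.H57.TildeStalkIso.φ, ← ΓSpecIso_hom_stalkClosedPointIso_inv,
    Iso.inv_hom_id_assoc]

lemma βx_comp : βx x ≫ (stalkClosedPointIso (Rx x)).hom = (cIso x).hom :=
  Scheme.stalkClosedPointTo_fromSpecStalk x

lemma cIso_inv_βx : (cIso x).inv ≫ βx x = αx x := by
  rw [αx_eq, ← cancel_mono (stalkClosedPointIso (Rx x)).hom, Category.assoc, βx_comp,
    Iso.inv_hom_id, Iso.inv_hom_id]

lemma bijective_αx : Function.Bijective (αx x).hom := by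
  rw [αx_eq]
  exact ConcreteCategory.bijective_of_isIso (stalkClosedPointIso (Rx x)).inv

lemma injective_βx : Function.Injective (βx x).hom := by
  have h : βx x = (cIso x).hom ≫ (stalkClosedPointIso (Rx x)).inv := by
    rw [← βx_comp, Category.assoc, Iso.hom_inv_id, Category.comp_id]
  rw [h]
  exact (ConcreteCategory.bijective_of_isIso
    ((cIso x).hom ≫ (stalkClosedPointIso (Rx x)).inv)).1

/-- every module over `O_{X,x'}` is the stalk of a quasi-coherent module. -/
theorem exists_qcoh_stalk' [QuasiSeparatedSpace X] (N : ModuleCat.{u} (X.presheaf.stalk (x' x))) :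
    ∃ F : X.Modules, F.IsQuasicoherent ∧
      Nonempty ((DerSch.stalkFunctor X (x' x)).obj F ≅ N) := by
  let N₀ : ModuleCat.{u} (Rx x) := (ModuleCat.restrictScalars (cIso x).inv.hom).obj N
  let G : (Spec (Rx x)).Modules := (tilde.functor (Rx x)).obj N₀
  haveI : G.IsQuasicoherent :=
    inferInstanceAs (((tilde.functor (X.presheaf.stalk x)).obj N₀).IsQuasicoherent)
  refine ⟨(Scheme.Modules.pushforward (X.fromSpecStalk x)).obj G,
    Groth.Agent.Lib.Helper49.isQuasicoherent_pushforward G (X.fromSpecStalk x), ?_⟩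
  have hg : Topology.IsInducing (X.fromSpecStalk x).base :=
    (X.fromSpecStalk x).isEmbedding.isInducing
  let i1 := (pushStalkIso' (X.fromSpecStalk x) (mx x) hg).app G
  let i2 : (DerSch.stalkFunctor (Spec (Rx x)) (mx x)).obj G ≅
      (ModuleCat.extendScalars (αx x).hom).obj N₀ :=
    (Groth.Agent.H57.TildeStalkIso.tildeStalkIso (Rx x) (mx x)).app N₀
  obtain ⟨i3⟩ := nonempty_iso_of_bijective (αx x).hom (βx x).hom (cIso x).inv.hom
    (bijective_αx x) (injective_βx x)
    (by rw [← CommRingCat.hom_comp, cIso_inv_βx]) N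
  exact ⟨i1 ≪≫ (ModuleCat.restrictScalars (βx x).hom).mapIso i2 ≪≫ i3⟩

/-- **every module over `O_{X,x}` is the stalk of a quasi-coherent module.** -/
theorem exists_qcoh_stalk [QuasiSeparatedSpace X] (N : ModuleCat.{u} (X.presheaf.stalk x)) :
    ∃ F : X.Modules, F.IsQuasicoherent ∧
      Nonempty ((DerSch.stalkFunctor X x).obj F ≅ N) :=
  (Eq.rec (motive := fun y _ => ∀ N : ModuleCat.{u} (X.presheaf.stalk y),
    ∃ F : X.Modules, F.IsQuasicoherent ∧ Nonempty ((DerSch.stalkFunctor X y).obj F ≅ N))
    (exists_qcoh_stalk' x) (x'_eq x)) N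

end Main

end Groth.Agent.Lib.Helper28.SpecStalkPush
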