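import Groth.Agent.Lib.Helper28.KFlatRes
import Groth.Agent.Lib.Helper28.TensCx5
import Groth.Agent.Lib.Helper6.LTCx

/-!
# Tor amplitude in `[a, ∞)` and K-flat representatives vanishing below `a`
-/

set_option autoImplicit false
universe u
open CategoryTheory CategoryTheory.Limits Category MonoidalCategory TensorProduct

namespace Groth.Agent.Lib.Helper28.TorAmpGE

open Groth.Agent.Lib.Helper28 Groth.Agent.Lib.Helper28.TensCx

section Modules

variable {R : Type u} [CommRing R]

/-- Flatness of a cokernel: if `X₂ → X₁ → F → Z → 0` with `F` flat stays exact at `X₁` after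
tensoring with every module, then `Z` is flat. -/
lemma flat_of_exact_tensor {X₂ X₁ F Z : Type u} [AddCommGroup X₂] [AddCommGroup X₁]
    [AddCommGroup F] [AddCommGroup Z] [Module R X₂] [Module R X₁] [Module R F] [Module R Z]
    [Module.Flat R F]
    (d₂ : X₂ →ₗ[R] X₁) (d₁ : X₁ →ₗ[R] F) (p : F →ₗ[R] Z) (hd : d₁ ∘ₗ d₂ = 0)
    (hp : Function.Surjective p) (hex : Function.Exact d₁ p)
    (H : ∀ (M : Type u) [AddCommGroup M] [Module R M] (t : M ⊗[R] X₁),
      d₁.lTensor M t = 0 → ∃ w, d₂.lTensor M w = t) :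
    Module.Flat R Z := by
  rw [Module.Flat.iff_rTensor_injective']
  intro I
  rw [injective_iff_map_eq_zero]
  intro x hx
  obtain ⟨y, rfl⟩ := LinearMap.lTensor_surjective I hp x
  have h1 : (p.lTensor R) ((I.subtype.rTensor F) y) = 0 := by
    rw [← LinearMap.comp_apply, LinearMap.lTensor_comp_rTensor, ← LinearMap.rTensor_comp_lTensor,
      LinearMap.comp_apply, hx]
  obtain ⟨z, hz⟩ := (lTensor_exact R hex hp _).1 h1
  have hπ : Function.Exact I.subtype (Submodule.mkQ I) := LinearMap.exact_subtype_mkQ I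
  have hπ0 : (Submodule.mkQ I) ∘ₗ I.subtype = 0 := by
    ext x
    exact (hπ _).2 ⟨x, rfl⟩
  have h2 : (d₁.lTensor (R ⧸ I)) (((Submodule.mkQ I).rTensor X₁) z) = 0 := by
    rw [← LinearMap.comp_apply, LinearMap.lTensor_comp_rTensor, ← LinearMap.rTensor_comp_lTensor,
      LinearMap.comp_apply, hz, ← LinearMap.comp_apply, ← LinearMap.rTensor_comp, hπ0,
      LinearMap.rTensor_zero, LinearMap.zero_apply]
  obtain ⟨w', hw'⟩ := H (R ⧸ I) _ h2
  obtain ⟨v, rfl⟩ := LinearMap.rTensor_surjective X₂ (Submodule.mkQ_surjective I) w'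
  have h3 : ((Submodule.mkQ I).rTensor X₁) (z - (d₂.lTensor R) v) = 0 := by
    rw [map_sub, sub_eq_zero, ← hw', ← LinearMap.comp_apply, ← LinearMap.comp_apply,
      LinearMap.rTensor_comp_lTensor, LinearMap.lTensor_comp_rTensor]
  obtain ⟨ζ, hζ⟩ := (rTensor_exact X₁ hπ (Submodule.mkQ_surjective I) _).1 h3
  have h4 : (I.subtype.rTensor F) y = (I.subtype.rTensor F) ((d₁.lTensor I) ζ) := by
    rw [← LinearMap.comp_apply (I.subtype.rTensor F), LinearMap.rTensor_comp_lTensor,
      ← LinearMap.lTensor_comp_rTensor, LinearMap.comp_apply, hζ, map_sub, hz,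
      ← LinearMap.comp_apply, ← LinearMap.lTensor_comp, hd, LinearMap.lTensor_zero,
      LinearMap.zero_apply, sub_zero]
  have hinj : Function.Injective (I.subtype.rTensor F) :=
    Module.Flat.iff_rTensor_injective'.mp inferInstance I
  rw [hinj h4, ← LinearMap.comp_apply, ← LinearMap.lTensor_comp]
  have hpd : p ∘ₗ d₁ = 0 := by
    ext x
    exact (hex _).2 ⟨x, rfl⟩
  rw [hpd, LinearMap.lTensor_zero, LinearMap.zero_apply]

/-- the kernel of a surjection between flat modules is flat. -/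
lemma flat_of_exact_of_flat {B F Z : Type u} [AddCommGroup B] [AddCommGroup F] [AddCommGroup Z]
    [Module R B] [Module R F] [Module R Z] [Module.Flat R F] [Module.Flat R Z]
    (i : B →ₗ[R] F) (p : F →ₗ[R] Z) (hi : Function.Injective i) (hex : Function.Exact i p)
    (hp : Function.Surjective p) : Module.Flat R B := by
  rw [Module.Flat.iff_rTensor_injective']
  intro I
  rw [injective_iff_map_eq_zero]
  intro x hx
  have hinjF : Function.Injective (I.subtype.rTensor F) :=
    Module.Flat.iff_rTensor_injective'.mp inferInstance I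
  have hinjI : Function.Injective (i.lTensor I) :=
    LinearMap.lTensor_injective_of_exact_of_flat p hp i hi hex I
  apply hinjI
  apply hinjF
  rw [map_zero, map_zero, ← LinearMap.comp_apply, LinearMap.rTensor_comp_lTensor,
    ← LinearMap.lTensor_comp_rTensor, LinearMap.comp_apply, hx, map_zero]

end Modules

section Trunc

open HomologicalComplex ComplexShape in
set_option backward.defeqAttrib.useBackward true in
set_option backward.isDefEq.respectTransparency false in
/-- the canonical truncation `K ⟶ τ_{≥ n} K` is an isomorphism in degrees `> n`. -/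
lemma isIso_πTruncGE_f {C : Type*} [Category C] [Abelian C] (K : CochainComplex C ℤ) (n i : ℤ)
    (hi : n < i) : IsIso ((K.πTruncGE n).f i) := by
  have hk : (embeddingUpIntGE n).f (i - n).natAbs = i := by
    dsimp
    rw [Int.natAbs_of_nonneg (by lia), add_sub_cancel]
  have hb : ¬ (embeddingUpIntGE n).BoundaryGE (i - n).natAbs := fun h ↦ by
    rw [boundaryGE_embeddingUpIntGE_iff, Int.natAbs_eq_zero] at h
    lia
  dsimp [CochainComplex.πTruncGE, HomologicalComplex.πTruncGE]
  rw [Embedding.isIso_liftExtend_f_iff _ _ _ hk]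
  exact K.isIso_restrictionToTruncGE' _ _ hb

variable {R : Type u} [CommRing R]

/-- exactness of `N[0] ⊗ C` at `q` gives exactness of `N ⊗ C^{q-1} → N ⊗ C^q → N ⊗ C^{q+1}`. -/
lemma exact_tensor_of_exactAt_single (C : DRing.Cx R) (N : ModuleCat.{u} R) (q : ℤ)
    (h : (((CochainComplex.singleFunctor (ModuleCat.{u} R) 0).obj N : DRing.Cx R) ⊗ C).ExactAt q)
    (a : ↑(N ⊗ C.X q)) (ha : (N ◁ C.d q (q + 1)).hom a = 0) :
    ∃ w₀ : ↑(N ⊗ C.X (q - 1)), (N ◁ C.d (q - 1) q).hom w₀ = a := by
  let S : DRing.Cx R := (CochainComplex.singleFunctor (ModuleCat.{u} R) 0).obj N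
  let e : S.X 0 ≅ N := HomologicalComplex.singleObjXSelf (ComplexShape.up ℤ) 0 N
  have hd : ∀ i j, S.d i j = 0 := fun i j => HomologicalComplex.single_obj_d _ _ _ _ _
  set a' : ↑(S.X 0 ⊗ C.X q) := (e.inv ▷ C.X q).hom a with ha'
  have ha'0 : (S.X 0 ◁ C.d q (q + 1)).hom a' = 0 := by
    change ((e.inv ▷ C.X q) ≫ (S.X 0 ◁ C.d q (q + 1))).hom a = 0
    rw [← whisker_exchange]
    change (e.inv ▷ C.X (q + 1)).hom ((N ◁ C.d q (q + 1)).hom a) = 0
    rw [ha, map_zero]
  have hz : ((S ⊗ C).d q (q + 1)).hom ((ι S C 0 q q (by omega)).hom a') = 0 := by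
    change (ι S C 0 q q (by omega) ≫ (S ⊗ C).d q (q + 1)).hom a' = 0
    rw [ι_d S C 0 1 q (q + 1) q (q + 1) (by omega) rfl rfl rfl, hd,
      MonoidalPreadditive.zero_whiskerRight, zero_comp, zero_add]
    change (0 : ℤ).negOnePow • (ι S C 0 (q + 1) (q + 1) (by omega)).hom
      ((S.X 0 ◁ C.d q (q + 1)).hom a') = 0
    rw [ha'0, map_zero, smul_zero]
  have hex := h
  rw [HomologicalComplex.exactAt_iff' _ (q - 1) q (q + 1) (by simp) (by simp),
    ShortComplex.moduleCat_exact_iff] at hex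
  obtain ⟨w, hw⟩ := hex _ hz
  have hw' : ((S ⊗ C).d (q - 1) q).hom w = (ι S C 0 q q (by omega)).hom a' := hw
  have h1 : a' = (S.X 0 ◁ C.d (q - 1) q).hom ((proj S C 0 (q - 1) (q - 1) (by omega)).hom w) := by
    have h2 : (proj S C 0 q q (by omega)).hom ((ι S C 0 q q (by omega)).hom a') = a' := by
      change (ι S C 0 q q (by omega) ≫ proj S C 0 q q (by omega)).hom a' = a'
      rw [ι_proj_self]; rfl
    rw [← h2, ← hw']
    change ((S ⊗ C).d (q - 1) q ≫ proj S C 0 q q (by omega)).hom w = _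
    rw [d_proj S C (-1) 0 (q - 1) q (q - 1) q (by omega) (by omega) (by omega) (by omega), hd,
      MonoidalPreadditive.zero_whiskerRight, comp_zero, zero_add]
    simp <;> rfl
  refine ⟨(e.hom ▷ C.X (q - 1)).hom ((proj S C 0 (q - 1) (q - 1) (by omega)).hom w), ?_⟩
  change ((e.hom ▷ C.X (q - 1)) ≫ (N ◁ C.d (q - 1) q)).hom _ = a
  rw [← whisker_exchange]
  change (e.hom ▷ C.X q).hom ((S.X 0 ◁ C.d (q - 1) q).hom _) = a
  rw [← h1, ha']
  change ((e.inv ▷ C.X q) ≫ (e.hom ▷ C.X q)).hom a = a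
  rw [← MonoidalCategory.comp_whiskerRight, e.inv_hom_id, MonoidalCategory.id_whiskerRight]
  rfl

lemma flat_truncGE_X (P : DRing.Cx R) (a : ℤ) (i : ℤ) (hP : Module.Flat R (P.X i))
    (hop : Module.Flat R (P.opcycles a)) : Module.Flat R ((P.truncGE a).X i) := by
  by_cases hia : a < i
  · exact Module.Flat.of_linearEquiv (P.truncGEXIso a i hia).toLinearEquiv
  · by_cases hia' : i < a
    · have hz := (P.truncGE a).isZero_of_isStrictlyGE a i hia'
      have : Subsingleton ((P.truncGE a).X i) := ModuleCat.subsingleton_of_isZero hz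
      infer_instance
    · obtain rfl : i = a := by omega
      exact Module.Flat.of_linearEquiv (P.truncGEXIsoOpcycles i).toLinearEquiv

/-- **Truncation**: a K-flat complex with flat terms such that `M[0] ⊗ E₀` is exact below `a` for
every module `M` is quasi-isomorphic to a K-flat complex with flat terms vanishing below `a`. -/
theorem exists_truncation (E₀ : DRing.Cx R) (a : ℤ) (hK : KFlat E₀)
    (hflat : ∀ i, Module.Flat R (E₀.X i))
    (hex : ∀ (M : ModuleCat.{u} R) (i : ℤ), i < a →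
      (((CochainComplex.singleFunctor (ModuleCat.{u} R) 0).obj M : DRing.Cx R) ⊗ E₀).ExactAt i) :
    ∃ (E : DRing.Cx R) (g : E₀ ⟶ E), KFlat E ∧ DRing.TermwiseFlat E ∧
      (∀ i, i < a → IsZero (E.X i)) ∧ QuasiIso g := by
  -- module-level exactness
  have H : ∀ (M : ModuleCat.{u} R) (q : ℤ), q < a → ∀ t : ↑(M ⊗ E₀.X q),
      (M ◁ E₀.d q (q + 1)).hom t = 0 → ∃ w : ↑(M ⊗ E₀.X (q - 1)),
        (M ◁ E₀.d (q - 1) q).hom w = t :=
    fun M q hq t ht => exact_tensor_of_exactAt_single E₀ M q (hex M q hq) t ht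
  -- `E₀` is exact below `a`
  have hGE : E₀.IsGE a := by
    rw [CochainComplex.isGE_iff]
    intro i hi
    rw [HomologicalComplex.exactAt_iff' _ (i - 1) i (i + 1) (by simp) (by simp),
      ShortComplex.moduleCat_exact_iff]
    intro x hx
    have hx' : (E₀.d i (i + 1)).hom x = 0 := hx
    obtain ⟨w, hw⟩ := H (𝟙_ (ModuleCat.{u} R)) i hi ((λ_ (E₀.X i)).inv.hom x) (by
      change ((λ_ (E₀.X i)).inv ≫ (𝟙_ (ModuleCat.{u} R) ◁ E₀.d i (i + 1))).hom x = 0
      rw [← leftUnitor_inv_naturality]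
      change (λ_ (E₀.X (i + 1))).inv.hom ((E₀.d i (i + 1)).hom x) = 0
      rw [hx', map_zero])
    refine ⟨(λ_ (E₀.X (i - 1))).hom.hom w, ?_⟩
    change ((λ_ (E₀.X (i - 1))).hom ≫ E₀.d (i - 1) i).hom w = x
    rw [← leftUnitor_naturality]
    change (λ_ (E₀.X i)).hom.hom ((𝟙_ (ModuleCat.{u} R) ◁ E₀.d (i - 1) i).hom w) = x
    rw [hw]
    change ((λ_ (E₀.X i)).inv ≫ (λ_ (E₀.X i)).hom).hom x = x
    rw [Iso.inv_hom_id]
    rfl
  -- the cokernel of `d^{a-1}` is flat
  have hZ : Module.Flat R (E₀.opcycles a) := by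
    haveI := hflat a
    let S : ShortComplex (ModuleCat.{u} R) :=
      ShortComplex.mk (E₀.d (a - 1) a) (E₀.pOpcycles a) (E₀.d_pOpcycles _ _)
    have hS : S.Exact := S.exact_of_g_is_cokernel (E₀.opcyclesIsCokernel (a - 1) a (by simp))
    have hSe : Function.Exact (E₀.d (a - 1) a).hom (E₀.pOpcycles a).hom :=
      (ShortComplex.ShortExact.moduleCat_exact_iff_function_exact S).1 hS
    have hepi : Function.Surjective (E₀.pOpcycles a).hom :=
      (ModuleCat.epi_iff_surjective _).mp inferInstance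
    refine flat_of_exact_tensor (R := R) (E₀.d (a - 1 - 1) (a - 1)).hom (E₀.d (a - 1) a).hom
      (E₀.pOpcycles a).hom ?_ hepi hSe ?_
    · have := congrArg ModuleCat.Hom.hom (E₀.d_comp_d (a - 1 - 1) (a - 1) a)
      exact this
    · intro M _ _ t ht
      have h1 : a - 1 + 1 = a := by ring
      have := H (ModuleCat.of R M) (a - 1) (by omega)
      rw [h1] at this
      exact this t ht
  -- the truncation
  let E : DRing.Cx R := E₀.truncGE a
  let π : E₀ ⟶ E := E₀.πTruncGE a
  haveI : QuasiIso π := (CochainComplex.quasiIso_πTruncGE_iff E₀ a).2 hGE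
  have hEflat : ∀ i, Module.Flat R (E.X i) := fun i => flat_truncGE_X E₀ a i (hflat i) hZ
  have hEz : ∀ i, i < a → IsZero (E.X i) := fun i hi =>
    (E₀.truncGE a).isZero_of_isStrictlyGE a i hi
  -- the kernel of `π`
  haveI : Epi π := inferInstanceAs (Epi (HomologicalComplex.πTruncGE E₀ _))
  let S : ShortComplex (DRing.Cx R) := ShortComplex.mk (kernel.ι π) π (kernel.condition π)
  have hS : S.ShortExact :=
    { exact := ShortComplex.exact_kernel π
      mono_f := inferInstanceAs (Mono (kernel.ι π))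
      epi_g := ‹Epi π› }
  have hS' := (HomologicalComplex.shortExact_iff_degreewise_shortExact S).1 hS
  have hNflat : ∀ i, Module.Flat R ((kernel π).X i) := fun i => by
    haveI := hflat i
    haveI := hEflat i
    exact flat_of_exact_of_flat (R := R) ((kernel.ι π).f i).hom (π.f i).hom
      (hS' i).moduleCat_injective_f
      ((ShortComplex.ShortExact.moduleCat_exact_iff_function_exact _).1 (hS' i).exact)
      (hS' i).moduleCat_surjective_g
  have hNb : DRing.VanishesAbove (kernel π) a := fun i hi => by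
    haveI : IsIso (π.f i) := isIso_πTruncGE_f E₀ a i hi
    haveI : Mono ((kernel.ι π).f i) := (hS' i).mono_f
    apply IsZero.of_mono_eq_zero ((kernel.ι π).f i)
    rw [← cancel_mono (π.f i), zero_comp, ← HomologicalComplex.comp_f, kernel.condition,
      HomologicalComplex.zero_f]
  have hNK : KFlat (kernel π) := by
    intro L hL i
    have hL' : ∀ i, L.ExactAt i := fun i => by
      rw [HomologicalComplex.exactAt_iff_isZero_homology]; exact hL i
    have := exactAt_tensor_of_flat_right L (kernel π) hL' hNflat a hNb i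
    rwa [HomologicalComplex.exactAt_iff_isZero_homology] at this
  exact ⟨E, π, (kflat_two_out_of_three S hS hEflat).1 hNK hK, hEflat, hEz, inferInstance⟩

end Trunc

section Derived

open DerivedCategory
open Groth.Agent.Lib.Helper6 Groth.Agent.Lib.Helper32

attribute [local instance] HasDerivedCategory.standard

variable {R : Type u} [CommRing R]

/-- the module `M` as a complex in degree `0`. -/
noncomputable abbrev sg (M : ModuleCat.{u} R) : DRing.Cx R :=
  (CochainComplex.singleFunctor (ModuleCat.{u} R) 0).obj M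

/-- `M[0] ⊗^L K ≅ M[0] ⊗ E` for a K-flat representative `E` of `K`. -/
theorem nonempty_ltensorCx_single_iso (K E : DRing.Cx R) [DRing.HasLTensorCx R K] (hE : KFlat E)
    (e : DRing.toD E ≅ DRing.toD K) (M : ModuleCat.{u} R) :
    Nonempty ((DRing.LTensorCx R K).obj (DRing.toD (sg M)) ≅ DRing.toD (sg M ⊗ E)) := by
  let Pr : ProjectiveResolution M := ProjectiveResolution.of M
  let P : DRing.Cx R := Pr.cochainComplex
  let π : P ⟶ sg M := Pr.π'
  haveI : QuasiIso π := inferInstanceAs (QuasiIso Pr.π')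
  haveI : P.IsKProjective := CochainComplex.isKProjective_of_projective P 0
  obtain ⟨P', g, hP', hg⟩ := LBC.hasKProjRes R E
  haveI := hP'
  haveI := hg
  obtain ⟨w, hw, _⟩ := LTCx.exists_quasiIso_of_iso P' K (asIso (Q.map g) ≪≫ e)
  haveI := hw
  let i1 : (DRing.LTensorCx R K).obj (DRing.toD (sg M)) ≅
      (DRing.LTensorCx R K).obj (DRing.toD P) :=
    (DRing.LTensorCx R K).mapIso (asIso (Q.map π)).symm
  let i2 : (DRing.LTensorCx R K).obj (DRing.toD P) ≅ DRing.toD (P ⊗ K) := LTCx.ltcIso R K P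
  let i3 : DRing.toD (P ⊗ P') ≅ DRing.toD (P ⊗ K) := LTCx.tensorQIso P w
  let i4 : DRing.toD (P ⊗ P') ≅ DRing.toD (P ⊗ E) := LTCx.tensorQIso P g
  haveI : QuasiIso (π ▷ E) := quasiIso_whiskerRight_of_kflat π E hE
  let i5 : DRing.toD (P ⊗ E) ≅ DRing.toD (sg M ⊗ E) := asIso (Q.map (π ▷ E))
  exact ⟨i1 ≪≫ i2 ≪≫ i3.symm ≪≫ i4 ≪≫ i5⟩

lemma subsingleton_HD_iff (X : Dual.D R) (C : DRing.Cx R) (e : X ≅ DRing.toD C) (i : ℤ) :
    Subsingleton (Dual.HD R X i) ↔ C.ExactAt i := by
  rw [HomologicalComplex.exactAt_iff_isZero_homology, ← ModuleCat.isZero_iff_subsingleton]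
  exact Iso.isZero_iff ((DerivedCategory.homologyFunctor (ModuleCat.{u} R) i).mapIso e ≪≫
    (DerivedCategory.homologyFunctorFactors (ModuleCat.{u} R) i).app C)

/-- **Tor amplitude in `[a, ∞)`** is equivalent to the existence of a K-flat representative with
flat terms vanishing below `a`. -/
theorem torAmplitude_ge_iff (a : ℤ) (K : DRing.Cx R) [DRing.HasLTensorCx R K] :
    (∀ (M : ModuleCat.{u} R) (i : ℤ), i < a →
        Subsingleton (Dual.HD R ((DRing.LTensorCx R K).obj (DRing.toD (sg M))) i)) ↔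
      ∃ E : DRing.Cx R, KFlat E ∧ DRing.TermwiseFlat E ∧ (∀ i : ℤ, i < a → IsZero (E.X i)) ∧
        Nonempty (DRing.toD E ≅ DRing.toD K) := by
  constructor
  · intro h
    obtain ⟨E₀, f, hK₀, hproj, hf, -⟩ := KFlatRes.exists_kflat_resolution K
    haveI := hf
    have hflat : ∀ i, Module.Flat R (E₀.X i) := fun i => by
      haveI := hproj i
      exact flat_of_projective (E₀.X i)
    have hex : ∀ (M : ModuleCat.{u} R) (i : ℤ), i < a → (sg M ⊗ E₀).ExactAt i := fun M i hi => by
      obtain ⟨e⟩ := nonempty_ltensorCx_single_iso K E₀ hK₀ (asIso (Q.map f)) M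
      exact (subsingleton_HD_iff _ _ e i).1 (h M i hi)
    obtain ⟨E, g, hEK, hEflat, hEz, hg⟩ := exists_truncation E₀ a hK₀ hflat hex
    haveI := hg
    exact ⟨E, hEK, hEflat, hEz, ⟨(asIso (Q.map g)).symm ≪≫ asIso (Q.map f)⟩⟩
  · rintro ⟨E, hEK, hEflat, hEz, ⟨e⟩⟩ M i hi
    obtain ⟨e'⟩ := nonempty_ltensorCx_single_iso K E hEK e M
    rw [subsingleton_HD_iff _ _ e' i]
    have hz : IsZero ((sg M ⊗ E).X i) := by
      apply LTCx.isZero_tensor_X
      intro p
      by_cases hp : p = 0
      · subst hp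
        apply LTCx.isZero_tensorObj_right
        rw [sub_zero]
        exact hEz i hi
      · apply LTCx.isZero_tensorObj_left
        exact HomologicalComplex.isZero_single_obj_X (ComplexShape.up ℤ) 0 M p hp
    rw [HomologicalComplex.exactAt_iff]
    exact ShortComplex.exact_of_isZero_X₂ _ hz

end Derived

end Groth.Agent.Lib.Helper28.TorAmpGE
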