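import Mathlib
import Groth.Prelude.Def_DerSch
import Groth.Prelude.Def_DTor2
import Groth.Agent.Lib.Helper28.TorAmpFlat
import Groth.Agent.Lib.Helper28.TorAmp
import Groth.Agent.Lib.Helper28.TorAmpGE
import Groth.Agent.Lib.Helper28.LpullCompute
import Groth.Agent.Lib.Helper28.HasLTensorMod
import Groth.Agent.Lib.Helper28.SpecStalkPush
import Groth.Agent.Lib.Helper30.StalkExactF
import Groth.Agent.H57.StalkTensorSch

/-!
# Tor amplitude can be tested on quasi-coherent modules (helper28)
-/

set_option autoImplicit false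
universe u
open CategoryTheory CategoryTheory.Limits AlgebraicGeometry ZeroObject MonoidalCategory

namespace Groth.Agent.Lib.Helper28.QCohTestTor

attribute [local instance] HasDerivedCategory.standard

open Groth.Agent.Lib.Helper28.LTensorCompute Groth.Agent.Lib.Helper28.TorOne
  Groth.Agent.H57.StalkTensorSch

variable {X : Scheme.{u}} (x : X)

/-- stalkwise exactness of `G ⊗ P`. -/
lemma exact_stalk_tensor (G : X.Modules) (P : CochainComplex X.Modules ℤ) (i j k : ℤ)
    (hij : i + 1 = j) (hjk : j + 1 = k)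
    (hex : ((((DCoh.tensorBi (X := X)).obj G).mapHomologicalComplex
      (ComplexShape.up ℤ)).obj P).ExactAt j)
    (t : ↑((DerSch.stalkFunctor X x).obj G ⊗ (DerSch.stalkFunctor X x).obj (P.X j)))
    (ht : ((DerSch.stalkFunctor X x).obj G ◁ (DerSch.stalkFunctor X x).map (P.d j k)).hom t = 0) :
    ∃ w : ↑((DerSch.stalkFunctor X x).obj G ⊗ (DerSch.stalkFunctor X x).obj (P.X i)),
      ((DerSch.stalkFunctor X x).obj G ◁ (DerSch.stalkFunctor X x).map (P.d i j)).hom w = t := by
  rw [HomologicalComplex.exactAt_iff' _ i j k (by simp; lia) (by simp; lia)] at hex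
  have h2 := hex.map (DerSch.stalkFunctor X x)
  let S₂ : ShortComplex (ModuleCat.{u} (X.presheaf.stalk x)) :=
    ShortComplex.mk ((DerSch.stalkFunctor X x).obj G ◁ (DerSch.stalkFunctor X x).map (P.d i j))
      ((DerSch.stalkFunctor X x).obj G ◁ (DerSch.stalkFunctor X x).map (P.d j k))
      (by rw [← MonoidalCategory.whiskerLeft_comp, ← Functor.map_comp, P.d_comp_d,
        Functor.map_zero, MonoidalPreadditive.whiskerLeft_zero])
  have iso : (((((DCoh.tensorBi (X := X)).obj G).mapHomologicalComplex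
      (ComplexShape.up ℤ)).obj P).sc' i j k).map (DerSch.stalkFunctor X x) ≅ S₂ :=
    ShortComplex.isoMk (e x G (P.X i)) (e x G (P.X j)) (e x G (P.X k))
      (e_naturality_right x G (P.d i j)).symm (e_naturality_right x G (P.d j k)).symm
  have h3 : S₂.Exact := (ShortComplex.exact_iff_of_iso iso).1 h2
  rw [ShortComplex.moduleCat_exact_iff] at h3
  exact h3 t ht

/-- flatness of the stalk of the opcycles from exactness of tensor products with test modules. -/
lemma flat_stalk_opcycles (P : CochainComplex X.Modules ℤ) (q : ℤ)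
    (hflat : Module.Flat (X.presheaf.stalk x) ((DerSch.stalkFunctor X x).obj (P.X q)))
    (H : ∀ N : ModuleCat.{u} (X.presheaf.stalk x), ∃ G : X.Modules,
      Nonempty ((DerSch.stalkFunctor X x).obj G ≅ N) ∧
      ((((DCoh.tensorBi (X := X)).obj G).mapHomologicalComplex
        (ComplexShape.up ℤ)).obj P).ExactAt (q - 1)) :
    Module.Flat (X.presheaf.stalk x) ((DerSch.stalkFunctor X x).obj (P.opcycles q)) := by
  let St := DerSch.stalkFunctor X x
  let S : ShortComplex X.Modules :=
    ShortComplex.mk (P.d (q - 1) q) (P.pOpcycles q) (P.d_pOpcycles _ _)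
  have hS : S.Exact := S.exact_of_g_is_cokernel (P.opcyclesIsCokernel (q - 1) q (by simp))
  have hS' : (S.map St).Exact := hS.map St
  have hSe : Function.Exact (St.map (P.d (q - 1) q)).hom (St.map (P.pOpcycles q)).hom :=
    (ShortComplex.ShortExact.moduleCat_exact_iff_function_exact (S.map St)).1 hS'
  have hepi : Function.Surjective (St.map (P.pOpcycles q)).hom :=
    (ModuleCat.epi_iff_surjective _).mp inferInstance
  haveI := hflat
  refine TorAmpGE.flat_of_exact_tensor (R := X.presheaf.stalk x)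
    (St.map (P.d (q - 1 - 1) (q - 1))).hom (St.map (P.d (q - 1) q)).hom
    (St.map (P.pOpcycles q)).hom ?_ hepi hSe ?_
  · have h1 : St.map (P.d (q - 1 - 1) (q - 1)) ≫ St.map (P.d (q - 1) q) = 0 := by
      rw [← Functor.map_comp, P.d_comp_d, Functor.map_zero]
    exact congrArg ModuleCat.Hom.hom h1
  · intro M _ _ t ht
    obtain ⟨G, ⟨ε⟩, hex⟩ := H (ModuleCat.of (X.presheaf.stalk x) M)
    let N : ModuleCat.{u} (X.presheaf.stalk x) := ModuleCat.of (X.presheaf.stalk x) M
    have ht' : (N ◁ St.map (P.d (q - 1) q)).hom t = 0 := ht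
    set t' : ↑(St.obj G ⊗ St.obj (P.X (q - 1))) := (ε.inv ▷ St.obj (P.X (q - 1))).hom t with ht'def
    have ht'0 : (St.obj G ◁ St.map (P.d (q - 1) q)).hom t' = 0 := by
      change ((ε.inv ▷ St.obj (P.X (q - 1))) ≫ (St.obj G ◁ St.map (P.d (q - 1) q))).hom t = 0
      rw [← whisker_exchange]
      change (ε.inv ▷ St.obj (P.X q)).hom ((N ◁ St.map (P.d (q - 1) q)).hom t) = 0
      rw [ht', map_zero]
    obtain ⟨w', hw'⟩ := exact_stalk_tensor x G P (q - 1 - 1) (q - 1) q (by ring) (by ring) hex t' ht'0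
    refine ⟨(ε.hom ▷ St.obj (P.X (q - 1 - 1))).hom w', ?_⟩
    change ((ε.hom ▷ St.obj (P.X (q - 1 - 1))) ≫ (N ◁ St.map (P.d (q - 1 - 1) (q - 1)))).hom w' = t
    rw [← whisker_exchange]
    change (ε.hom ▷ St.obj (P.X (q - 1))).hom
      ((St.obj G ◁ St.map (P.d (q - 1 - 1) (q - 1))).hom w') = t
    rw [hw', ht'def]
    change ((ε.inv ▷ St.obj (P.X (q - 1))) ≫ (ε.hom ▷ St.obj (P.X (q - 1)))).hom t = t
    rw [← MonoidalCategory.comp_whiskerRight, ε.inv_hom_id, MonoidalCategory.id_whiskerRight]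
    rfl

/-- **Tor amplitude tested on quasi-coherent modules implies flat amplitude**
(quasi-separated schemes). -/
theorem hasFlatAmplitudeIn_of_qcoh_test [QuasiSeparatedSpace X] (E : DCoh.D X) (a b : ℤ)
    (h : ∀ (F : X.Modules), Coh.IsQCoh F → ∀ [DCoh.HasLTensorMod F] (i : ℤ), (i < a ∨ b < i) →
      IsZero (DCoh.HD ((DCoh.LTensorMod F).obj E) i)) :
    DCoh.HasFlatAmplitudeIn a b E := by
  -- the cohomology sheaves vanish outside `[a, b]`
  have hH : ∀ i : ℤ, (i < a ∨ b < i) → IsZero (DCoh.HD E i) := by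
    intro i hi
    haveI := HasLTensorMod.hasLTensorMod (TorAmpFlat.unitMod X)
    have hq : Coh.IsQCoh (TorAmpFlat.unitMod X) :=
      inferInstanceAs ((Coh.structureModule X).IsQuasicoherent)
    obtain ⟨e⟩ := TorAmpFlat.exists_ltensorUnitIso E
    exact IsZero.of_iso (h _ hq i hi) ((DerivedCategory.homologyFunctor X.Modules i).mapIso e.symm)
  let K₀ := DerivedCategory.Q.objPreimage E
  let e₀ : DCoh.toD X K₀ ≅ E := DerivedCategory.Q.objObjPreimageIso E
  haveI : K₀.IsLE b := by
    rw [CochainComplex.isLE_iff]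
    intro i hi
    rw [TorAmpFlat.exactAt_iff_isZero_HD]
    exact IsZero.of_iso (hH i (Or.inr hi))
      ((DerivedCategory.homologyFunctor X.Modules i).mapIso e₀)
  obtain ⟨P, α, hP, hflP, -, hα⟩ :=
    Groth.Agent.Lib.Helper32.LeftRes.exists_of_isStrictlyLE
      (fun M : X.Modules => ModSite.IsFlat (O := X.sheaf) M)
      (fun M => by
        obtain ⟨L, hL, π, hπ⟩ := Groth.Agent.Lib.Helper30.FlatSES.exists_flat_epi X.sheaf M
        exact ⟨L, π, hL, hπ⟩)
      ⟨0, isZero_zero _,
        Groth.Agent.Lib.Helper30.AcyclicFlat.isFlat_of_isZero X.sheaf 0 (isZero_zero _)⟩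
      (K₀.truncLE b) b
  haveI := hα
  let eP : DCoh.toD X P ≅ E :=
    asIso (DerivedCategory.Q.map α) ≪≫ asIso (DerivedCategory.Q.map (K₀.ιTruncLE b)) ≪≫ e₀
  have hKF : KF P := (kf_iff_isKFlat P).2 (Groth.Agent.S9058.result X.sheaf P b hP hflP)
  have hflP' : ∀ i : ℤ, FlatMod.IsFlat (P.X i) := fun i => (TorOne.flat_iff _).2 (hflP i)
  -- exactness of `G ⊗ P` outside `[a, b]` for quasi-coherent `G`
  have hex : ∀ (G : X.Modules), Coh.IsQCoh G → ∀ i : ℤ, (i < a ∨ b < i) →
      ((((DCoh.tensorBi (X := X)).obj G).mapHomologicalComplex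
        (ComplexShape.up ℤ)).obj P).ExactAt i := by
    intro G hG i hi
    haveI := HasLTensorMod.hasLTensorMod G
    rw [← isZero_HD_ltensor_iff G P hKF i]
    exact IsZero.of_iso (h G hG i hi)
      ((DerivedCategory.homologyFunctor X.Modules i).mapIso ((DCoh.LTensorMod G).mapIso eP))
  -- the opcycles in degree `a` are flat
  have hop : FlatMod.IsFlat (P.opcycles a) := by
    intro x
    refine flat_stalk_opcycles x P a (hflP' a x) (fun N => ?_)
    obtain ⟨G, hG, hGN⟩ := SpecStalkPush.exists_qcoh_stalk x N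
    exact ⟨G, hGN, hex G hG (a - 1) (Or.inl (by lia))⟩
  haveI : P.IsGE a := by
    rw [CochainComplex.isGE_iff]
    intro i hi
    rw [TorAmpFlat.exactAt_iff_isZero_HD]
    exact IsZero.of_iso (hH i (Or.inl hi))
      ((DerivedCategory.homologyFunctor X.Modules i).mapIso eP)
  refine ⟨P.truncGE a, ?_, ?_,
    ⟨(asIso (DerivedCategory.Q.map (P.πTruncGE a))).symm ≪≫ eP⟩⟩
  · intro i hi
    rcases hi with hi | hi
    · exact (P.truncGE a).isZero_of_isStrictlyGE a i hi
    · rcases lt_trichotomy i a with hia | rfl | hia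
      · exact (P.truncGE a).isZero_of_isStrictlyGE a i hia
      · have h0 : IsZero (P.opcycles i) :=
          IsZero.of_epi (P.pOpcycles i) (P.isZero_of_isStrictlyLE b i hi)
        exact IsZero.of_iso h0
          (HomologicalComplex.truncGEXIsoOpcycles P (ComplexShape.embeddingUpIntGE i) (i := 0)
            (by simp) (by rw [ComplexShape.boundaryGE_embeddingUpIntGE_iff]))
      · exact IsZero.of_iso (P.isZero_of_isStrictlyLE b i hi)
          (TorAmpFlat.truncGEXIsoOfLT P a i hia)
  · intro i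
    rcases lt_trichotomy i a with hi | rfl | hi
    · exact LpullCompute.isFlat_of_isZero _ ((P.truncGE a).isZero_of_isStrictlyGE a i hi)
    · exact LpullCompute.isFlat_of_iso
        (HomologicalComplex.truncGEXIsoOpcycles P (ComplexShape.embeddingUpIntGE i) (i := 0)
          (by simp) (by rw [ComplexShape.boundaryGE_embeddingUpIntGE_iff])).symm hop
    · exact LpullCompute.isFlat_of_iso (TorAmpFlat.truncGEXIsoOfLT P a i hi).symm (hflP' i)

/-- **S1073**: tor amplitude can be tested on quasi-coherent modules. -/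
theorem hasTorAmplitudeIn_iff_qcoh_test [QuasiSeparatedSpace X] (E : DCoh.D X) (a b : ℤ) :
    DCoh.HasTorAmplitudeIn a b E ↔
      ∀ (F : X.Modules), Coh.IsQCoh F → ∀ [DCoh.HasLTensorMod F] (i : ℤ), (i < a ∨ b < i) →
        IsZero (DCoh.HD ((DCoh.LTensorMod F).obj E) i) :=
  ⟨fun h F _ _ i hi => h F i hi, fun h =>
    TorAmp.hasTorAmplitudeIn_of_hasFlatAmplitudeIn E a b (hasFlatAmplitudeIn_of_qcoh_test E a b h)⟩

end Groth.Agent.Lib.Helper28.QCohTestTor
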