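import Groth.Agent.Lib.Helper30.PCSummand
import Groth.Prelude.Def_DerSch2

/-!
# Summands of relatively pseudo-coherent objects (helper28)
-/

set_option autoImplicit false
set_option linter.style.haveILetI false
universe u
open CategoryTheory CategoryTheory.Limits AlgebraicGeometry TopologicalSpace

namespace Groth.Agent.Lib.Helper28.RelPCBiprod

attribute [local instance] HasDerivedCategory.standard

variable {X Y : Scheme.{u}}

lemma chartPC_of_biprod_left (m : ℤ) (E K : DCoh.D X) [HasBinaryBiproduct E K]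
    (U : X.Opens) (V : Y.Opens) {n : ℕ}
    (φ : MvPolynomial (Fin n) Γ(Y, V) →+* Γ(X, U))
    (h : DerSch.ChartPC m (E ⊞ K) U V φ) : DerSch.ChartPC m E U V φ := by
  intro G ⟨eG⟩
  let G' : CochainComplex X.Modules ℤ := DerivedCategory.Q.objPreimage K
  let eG' : DCoh.toD X G' ≅ K := DerivedCategory.Q.objObjPreimageIso K
  let F : CochainComplex X.Modules ℤ ⥤
      DCoh.D (Spec (CommRingCat.of (MvPolynomial (Fin n) Γ(Y, V)))) :=
    DCoh.restrictCx U ⋙ DerSch.pushCx (DerSch.chartImm U φ) ⋙ DerivedCategory.Q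
  haveI : F.Additive := by dsimp only [F]; infer_instance
  haveI : PreservesBinaryBiproducts F := preservesBinaryBiproducts_of_preservesBiproducts F
  haveI : PreservesBinaryBiproducts (DerivedCategory.Q (C := X.Modules)) :=
    preservesBinaryBiproducts_of_preservesBiproducts _
  let e1 : DCoh.toD X (G ⊞ G') ≅ E ⊞ K :=
    (DerivedCategory.Q).mapBiprod G G' ≪≫ biprod.mapIso eG eG'
  have h1 : DCoh.IsPseudoCoherentD m (F.obj (G ⊞ G')) := h (G ⊞ G') ⟨e1⟩
  have h2 : DCoh.IsPseudoCoherentD m (F.obj G ⊞ F.obj G') :=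
    Groth.Agent.Lib.Helper30.PCTriangle.isPseudoCoherentD_of_iso (F.mapBiprod G G') m h1
  exact (Groth.Agent.Lib.Helper30.PCSummand.summands m _ _ h2).1


lemma chartPC_of_iso (m : ℤ) {E E' : DCoh.D X} (e : E ≅ E')
    (U : X.Opens) (V : Y.Opens) {n : ℕ}
    (φ : MvPolynomial (Fin n) Γ(Y, V) →+* Γ(X, U))
    (h : DerSch.ChartPC m E U V φ) : DerSch.ChartPC m E' U V φ :=
  fun G ⟨eG⟩ => h G ⟨eG ≪≫ e.symm⟩

lemma isPseudoCoherentRel_of_chartPC_imp (f : X ⟶ Y) (m : ℤ) {E E' : DCoh.D X}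
    (himp : ∀ (U : X.Opens) (V : Y.Opens) {n : ℕ} (φ : MvPolynomial (Fin n) Γ(Y, V) →+* Γ(X, U)),
      DerSch.ChartPC m E U V φ → DerSch.ChartPC m E' U V φ)
    (h : DerSch.IsPseudoCoherentRel f m E) : DerSch.IsPseudoCoherentRel f m E' := by
  obtain ⟨hft, 𝒱, h𝒱, hV⟩ := h
  refine ⟨hft, 𝒱, h𝒱, fun V hVm => ?_⟩
  obtain ⟨𝒰, h𝒰, hU⟩ := hV V hVm
  refine ⟨𝒰, h𝒰, fun U hUm hle => ?_⟩
  obtain ⟨n, φ, hc, hpc⟩ := hU U hUm hle
  exact ⟨n, φ, hc, himp _ _ φ hpc⟩

theorem isPseudoCoherentRel_of_biprod (f : X ⟶ Y) (m : ℤ) (E K : DCoh.D X)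
    [HasBinaryBiproduct E K] (h : DerSch.IsPseudoCoherentRel f m (E ⊞ K)) :
    DerSch.IsPseudoCoherentRel f m E ∧ DerSch.IsPseudoCoherentRel f m K := by
  constructor
  · exact isPseudoCoherentRel_of_chartPC_imp f m
      (fun U V _ φ hpc => chartPC_of_biprod_left m E K U V φ hpc) h
  · haveI : HasBinaryBiproduct K E := inferInstance
    exact isPseudoCoherentRel_of_chartPC_imp f m
      (fun U V _ φ hpc => chartPC_of_biprod_left m K E U V φ
        (chartPC_of_iso m (biprod.braiding E K) U V φ hpc)) h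

end Groth.Agent.Lib.Helper28.RelPCBiprod
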