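import Groth.Agent.Lib.Helper28.ClosedPush

/-!
# Relatively pseudo-coherent objects are locally bounded above (helper28)
-/

set_option autoImplicit false
set_option linter.style.haveILetI false
universe u
open CategoryTheory CategoryTheory.Limits AlgebraicGeometry TopologicalSpace

namespace Groth.Agent.Lib.Helper28.ClosedPush

attribute [local instance] HasDerivedCategory.standard

variable {X Y : Scheme.{u}}

/-- on a chart, pseudo-coherence of the pushed-forward complex bounds the cohomology near a point. -/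
lemma exists_zeroOn_of_chart (n : ℤ) (G : CochainComplex X.Modules ℤ) {U : X.Opens}
    (hU : IsAffineOpen U) {R : Type u} [CommRing R] {k : ℕ}
    (φ : MvPolynomial (Fin k) R →+* Γ(X, U)) (hφ : Function.Surjective φ)
    (hPC : DCoh.IsPseudoCoherentD n (DCoh.toD (Spec (CommRingCat.of (MvPolynomial (Fin k) R)))
      ((DerSch.pushCx (DerSch.chartImm U φ)).obj ((DCoh.restrictCx U).obj G))))
    (x : X) (hx : x ∈ U) :
    ∃ (O : X.Opens) (b : ℤ), x ∈ O ∧ ∀ j, b < j → ZeroOn (G.homology j) O := by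
  haveI := isClosedImmersion_chartImm hU φ hφ
  let i := DerSch.chartImm U φ
  obtain ⟨W, b, haW, hW⟩ := exists_zeroOn_of_isPseudoCoherentD n _ hPC (i.base ⟨x, hx⟩)
  refine ⟨U.ι ''ᵁ (i ⁻¹ᵁ W), b, ⟨⟨x, hx⟩, haW, rfl⟩, fun j hj => ?_⟩
  have h1 := hW j hj
  have h2 : ZeroOn ((Scheme.Modules.pushforward i).obj (((DCoh.restrictCx U).obj G).homology j)) W :=
    h1.of_iso (pushCxHomologyIso i _ j)
  have h3 := ZeroOn.of_pushforward i i.isClosedEmbedding.isInducing h2
  have h4 := h3.of_iso (restrictCxHomologyIso U G j)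
  exact ZeroOn.of_restrict U.ι h4

/-- **relatively pseudo-coherent objects on quasi-compact schemes are bounded above** (chain form). -/
theorem exists_isLE_of_isPseudoCoherentRel [CompactSpace X] (f : X ⟶ Y) (n : ℤ)
    (E : DCoh.D X) (hE : DerSch.IsPseudoCoherentRel f n E) : ∃ b : ℤ, E.IsLE b := by
  obtain ⟨-, 𝒱, h𝒱, h⟩ := hE
  let G : CochainComplex X.Modules ℤ := DerivedCategory.Q.objPreimage E
  let eG : DCoh.toD X G ≅ E := DerivedCategory.Q.objObjPreimageIso E
  have hloc : ∀ x : X, ∃ (O : X.Opens) (b : ℤ), x ∈ O ∧ ∀ j, b < j → ZeroOn (G.homology j) O := by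
    intro x
    have hy : f.base x ∈ (⨆ V ∈ 𝒱, (V : Y.Opens)) := by rw [h𝒱]; trivial
    simp only [Opens.mem_iSup] at hy
    obtain ⟨V, hV, hyV⟩ := hy
    obtain ⟨𝒰, h𝒰, hch⟩ := h V hV
    have hx : x ∈ (⨆ U ∈ 𝒰, (U : X.Opens)) := by rw [h𝒰]; exact hyV
    simp only [Opens.mem_iSup] at hx
    obtain ⟨U, hU, hxU⟩ := hx
    have hle : (U : X.Opens) ≤ f ⁻¹ᵁ (V : Y.Opens) := by
      rw [← h𝒰]
      exact le_iSup₂ (f := fun (U : X.affineOpens) (_ : U ∈ 𝒰) => (U : X.Opens)) U hU
    obtain ⟨k, φ, hchart, hPC⟩ := hch U hU hle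
    exact exists_zeroOn_of_chart n G U.2 φ hchart.1 (hPC G ⟨eG⟩) x hxU
  choose O b hxO hOb using hloc
  obtain ⟨t, ht⟩ := isCompact_univ.elim_finite_subcover (fun x => (O x : Set X))
    (fun x => (O x).2) (fun x _ => Set.mem_iUnion.mpr ⟨x, hxO x⟩)
  obtain ⟨B, hB⟩ := Finset.exists_le (t.image b)
  refine ⟨B, ?_⟩
  rw [DerivedCategory.isLE_iff]
  intro j hj
  have hz : IsZero (G.homology j) := by
    apply isZero_of_zeroOn_cover
    intro x
    have hx := ht (Set.mem_univ x)
    simp only [Set.mem_iUnion] at hx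
    obtain ⟨x', hx't, hxx'⟩ := hx
    refine ⟨O x', hxx', hOb x' j ?_⟩
    exact lt_of_le_of_lt (hB _ (Finset.mem_image_of_mem b hx't)) hj
  exact hz.of_iso ((DerivedCategory.homologyFunctor _ j).mapIso eG.symm ≪≫
    (DerivedCategory.homologyFunctorFactors _ j).app G)

end Groth.Agent.Lib.Helper28.ClosedPush
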