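import Groth.Agent.Lib.Helper28.RelPCFlatBase

/-!
# Relative pseudo-coherence along a closed immersion (helper28)

* `isPseudoCoherentRel_closedImmersion_iff`: for a closed immersion `i : X ⟶ P`, `E ∈ D(O_X)` is
  `m`-pseudo-coherent relative to `i` iff `i_* E` is `m`-pseudo-coherent on `P`.
* `isPseudoCoherentRel_closedImmersion_flat_lfp` (S7211).
-/

set_option autoImplicit false
universe u
open CategoryTheory CategoryTheory.Limits AlgebraicGeometry TopologicalSpace Opposite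
attribute [local instance] HasDerivedCategory.standard

namespace Groth.Agent.Lib.Helper28.RelPCClosed

open Scheme.Modules Groth.Agent.Lib.Helper30.ClosedPC Groth.Agent.Lib.Helper30.PerfRestrict
  Groth.Agent.Lib.Helper30.PCTriangle
  Groth.Agent.Lib.Helper28.ClosedPush Groth.Agent.Lib.Helper6 Groth.Agent.Lib.Helper6.RestrPC
  Groth.Agent.Lib.Helper28.RelPCAbs
  Groth.Agent.Lib.Helper28.RelPCGen Groth.Agent.Lib.Helper28.RelPCRing
  Groth.Agent.Lib.Helper28.RelPCCompGen Groth.Agent.Lib.Helper28.RelPCFlatBase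

section Iso

lemma pcAll_unit (Z : Scheme.{u}) : PCAll Z (DCoh.inD Z (Coh.structureModule Z)) :=
  (PCAll Z).prop_of_iso ((DerivedCategory.singleFunctor _ 0).mapIso
    (coproductUniqueIso (fun _ : Fin 1 => Coh.structureModule Z)))
    (pcAll_single_of_isFinLocFree Z _ (Groth.Agent.Lib.Helper49.isFinLocFree_freeMod Z 1) 0)

lemma hO_of_isIso {Y Z : Scheme.{u}} (ε : Y ⟶ Z) [IsIso ε] : HO ε := by
  intro m
  exact isPseudoCoherentD_of_iso ((DerivedCategory.singleFunctor _ 0).mapIso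
    (pushUnitIsoOfIso (asIso ε)).symm) m (pcAll_unit Z m)

end Iso

section ClosedImm

variable {X P : Scheme.{u}} (i : X ⟶ P) [IsClosedImmersion i]

/-- `A[∅] ≅ A` in `CommRingCat`. -/
noncomputable def e0 (A : CommRingCat.{u}) : CommRingCat.of (MvPolynomial (Fin 0) A) ≅ A :=
  (MvPolynomial.isEmptyRingEquiv A (Fin 0)).toCommRingCatIso

/-- the chart with no variables on `i⁻¹W`. -/
noncomputable def chart0 (W : P.Opens) : MvPolynomial (Fin 0) Γ(P, W) →+* Γ(X, i ⁻¹ᵁ W) :=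
  ((e0 Γ(P, W)).hom ≫ i.app W).hom

lemma isChart_chart0 (W : P.Opens) (hW : IsAffineOpen W) :
    DerSch.IsChart i (i ⁻¹ᵁ W) W le_rfl (chart0 i W) := by
  refine ⟨?_, ?_⟩
  · show Function.Surjective ((e0 Γ(P, W)).hom ≫ i.app W).hom
    rw [CommRingCat.hom_comp]
    exact (i.app_surjective W hW).comp (MvPolynomial.isEmptyRingEquiv Γ(P, W) (Fin 0)).surjective
  · ext r
    show (i.app W).hom (MvPolynomial.isEmptyRingEquiv Γ(P, W) (Fin 0) (MvPolynomial.C r)) = _
    rw [Scheme.Hom.app_eq_appLE]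
    congr 1
    simp only [MvPolynomial.isEmptyRingEquiv_apply]
    exact MvPolynomial.coeff_zero_C r

/-- the isomorphism `W ≅ Spec Γ(P, W)[∅]` for affine `W`. -/
noncomputable def eps (W : P.Opens) :
    (W : Scheme.{u}) ⟶ Spec (CommRingCat.of (MvPolynomial (Fin 0) Γ(P, W))) :=
  W.toSpecΓ ≫ Spec.map (e0 Γ(P, W)).hom

lemma isIso_eps (W : P.Opens) (hW : IsAffineOpen W) : IsIso (eps W) := by
  have h1 : IsIso W.toSpecΓ := by rw [← hW.isoSpec_hom]; infer_instance
  unfold eps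
  infer_instance

omit [IsClosedImmersion i] in
lemma chartImm_chart0 (W : P.Opens) :
    DerSch.chartImm (i ⁻¹ᵁ W) (chart0 i W) = (i ∣_ W) ≫ eps W := by
  unfold DerSch.chartImm chart0 eps
  rw [CommRingCat.ofHom_hom, Spec.map_comp, ← Category.assoc,
    Scheme.Opens.toSpecΓ_naturality, Category.assoc]

theorem chartPC_chart0_iff (m : ℤ) (E : DCoh.D X) (W : P.Opens) (hW : IsAffineOpen W) :
    DerSch.ChartPC m E (i ⁻¹ᵁ W) W (chart0 i W) ↔
      DCoh.IsPseudoCoherentD m ((rD W.ι).obj ((cD i).obj E)) := by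
  have hU : IsAffineOpen (i ⁻¹ᵁ W) := hW.preimage i
  have h1 : IsClosedImmersion (DerSch.chartImm (i ⁻¹ᵁ W) (chart0 i W)) :=
    isClosedImmersion_chartImm hU _ (isChart_chart0 i W hW).1
  have h2 : IsIso (eps W) := isIso_eps W hW
  rw [chartPC_iff]
  obtain ⟨t⟩ := nonempty_cD_comp_iso (i ∣_ W) (eps W) (DerSch.chartImm (i ⁻¹ᵁ W) (chart0 i W))
    (chartImm_chart0 i W).symm ((rD (i ⁻¹ᵁ W).ι).obj E)
  have h3 := pc_iff (eps W) (hO_of_isIso (eps W))
    ((cD (i ∣_ W)).obj ((rD (i ⁻¹ᵁ W).ι).obj E)) m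
  have h4 := (cDRestrictIso i W).app E
  constructor
  · intro h
    exact isPseudoCoherentD_of_iso h4.symm m (h3.2 (isPseudoCoherentD_of_iso t m h))
  · intro h
    exact isPseudoCoherentD_of_iso t.symm m (h3.1 (isPseudoCoherentD_of_iso h4 m h))

/-- **relative pseudo-coherence along a closed immersion is pseudo-coherence of the direct
image.** -/
theorem isPseudoCoherentRel_closedImmersion_iff (m : ℤ) (E : DCoh.D X) :
    DerSch.IsPseudoCoherentRel i m E ↔ DCoh.IsPseudoCoherentD m ((cD i).obj E) := by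
  constructor
  · intro h
    apply Groth.Agent.Lib.Helper30.RelTorRestrict.isPseudoCoherentD_of_cover
    intro p
    obtain ⟨_, ⟨W, hW, rfl⟩, hpW, -⟩ := P.isBasis_affineOpens.exists_subset_of_mem_open
      (Set.mem_univ p) isOpen_univ
    refine ⟨_, Scheme.Opens.ι W, inferInstance, ⟨⟨p, hpW⟩, rfl⟩,
      (chartPC_chart0_iff i m E W hW).1 ?_⟩
    exact (isPseudoCoherentRel_iff_forall_chartPC i m E).1 h ⟨i ⁻¹ᵁ W, hW.preimage i⟩ ⟨W, hW⟩
      le_rfl 0 _ (isChart_chart0 i W hW)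
  · intro h
    refine ⟨inferInstance, Set.univ, ?_, fun W _ =>
      ⟨{⟨i ⁻¹ᵁ (W : P.Opens), W.2.preimage i⟩}, ?_, ?_⟩⟩
    · rw [eq_top_iff]
      intro p _
      obtain ⟨_, ⟨W, hW, rfl⟩, hpW, -⟩ := P.isBasis_affineOpens.exists_subset_of_mem_open
        (Set.mem_univ p) isOpen_univ
      exact Opens.mem_iSup.2 ⟨⟨W, hW⟩, Opens.mem_iSup.2 ⟨Set.mem_univ _, hpW⟩⟩
    · rw [iSup_singleton]
    · rintro U hU hUW
      obtain rfl : U = ⟨i ⁻¹ᵁ (W : P.Opens), W.2.preimage i⟩ := hU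
      exact ⟨0, chart0 i W, isChart_chart0 i W W.2, (chartPC_chart0_iff i m E W W.2).2
        (Groth.Agent.S0914.isPseudoCoherentD_restrict (W : P.Opens).ι m _ h)⟩

end ClosedImm

section S7211

variable {X P S : Scheme.{u}} (i : X ⟶ P) [IsClosedImmersion i] (g : P ⟶ S) [Flat g]
  [LocallyOfFinitePresentation g]

theorem isPseudoCoherentRel_closedImmersion_flat_lfp (m : ℤ) (F : CochainComplex X.Modules ℤ) :
    (DerSch.IsPseudoCoherentRel (i ≫ g) m (DCoh.toD X F) ↔
        DCoh.IsPseudoCoherentD m (DCoh.toD P ((DerSch.pushCx i).obj F))) ∧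
      (DerSch.IsPseudoCoherentRel g m (DCoh.toD P ((DerSch.pushCx i).obj F)) ↔
        DCoh.IsPseudoCoherentD m (DCoh.toD P ((DerSch.pushCx i).obj F))) := by
  refine ⟨?_, (isPseudoCoherentD_iff_isPseudoCoherentRel g (isNPseudoCoherent_of_flat_lfp g) m _).symm⟩
  rw [isPseudoCoherentRel_comp_iff_of_flat_lfp i g m, isPseudoCoherentRel_closedImmersion_iff]
  have e := (cDQ i).app F
  exact ⟨isPseudoCoherentD_of_iso e m, isPseudoCoherentD_of_iso e.symm m⟩

end S7211

end Groth.Agent.Lib.Helper28.RelPCClosed
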