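import Groth.Agent.Lib.Helper28.RelPCLocal
import Groth.Agent.Lib.Helper28.ClosedPushQCoh
import Groth.Agent.Lib.Helper35.StalkTA

/-!
# Relative pseudo-coherence and perfect amplitude under composition with a pseudo-coherent morphism (helper28)
-/

set_option autoImplicit false
set_option linter.style.haveILetI false
universe u
open CategoryTheory CategoryTheory.Limits AlgebraicGeometry TopologicalSpace Opposite
attribute [local instance] HasDerivedCategory.standard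

namespace Groth.Agent.Lib.Helper28.RelPCRing

open Groth.Agent.Lib.Helper30.RelPCLoc Groth.Agent.Lib.Helper30.AffinePush Groth.Agent.Lib.Helper6

variable {X Y Z : Scheme.{u}}

/-- an object pseudo-coherent relative to `f` (all degrees) has quasi-coherent cohomology. -/
theorem isQCohD_of_isPseudoCoherentRelAll (f : X ⟶ Y) (E : DCoh.D X)
    (hE : DerSch.IsPseudoCoherentRelAll f E) : DCoh.IsQCohD E := fun i =>
  Groth.Agent.Lib.Helper28.ClosedPushQCoh.isQuasicoherent_HD_of_isPseudoCoherentRel f (i - 1) E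
    (hE (i - 1)) i (by omega)

/-- relative pseudo-coherence composes with a pseudo-coherent morphism. -/
theorem isPseudoCoherentRel_comp_of_pc (f : X ⟶ Y) (g : Y ⟶ Z) [LocallyOfFiniteType f]
    [LocallyOfFiniteType g] (hg : ∀ n : ℤ, DerSch.IsNPseudoCoherent g n) (E : DCoh.D X)
    (hq : DCoh.IsQCohD E) (m : ℤ) (hE : DerSch.IsPseudoCoherentRel f m E) :
    DerSch.IsPseudoCoherentRel (f ≫ g) m E := by
  choose M hM using fun U : X.affineOpens => exists_chart U.2 E hq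
  let e : ∀ U : X.affineOpens, chartObj U.2 E ≅ (DCoh.tildeD Γ(X, (U : X.Opens))).obj (M U) :=
    fun U => Classical.choice (hM U)
  have hf' := (isPseudoCoherentRel_iff_of_charts f E hq M e m).1 hE
  have hg' := fun n => (isNPseudoCoherent_iff g n).1 (hg n)
  refine isPseudoCoherentRel_of_local (f := f ≫ g) hq M e (fun x => ?_)
  obtain ⟨W, hW, hxW, -⟩ := TopologicalSpace.Opens.isBasis_iff_nbhd.mp Z.isBasis_affineOpens
    (TopologicalSpace.Opens.mem_top (g (f x)))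
  obtain ⟨V, hV, hxV, hVW⟩ := TopologicalSpace.Opens.isBasis_iff_nbhd.mp
    Y.isBasis_affineOpens (show f x ∈ g ⁻¹ᵁ W from hxW)
  obtain ⟨U, hU, hxU, hUV⟩ := TopologicalSpace.Opens.isBasis_iff_nbhd.mp
    X.isBasis_affineOpens (show x ∈ f ⁻¹ᵁ V from hxV)
  have hUW : U ≤ (f ≫ g) ⁻¹ᵁ W := hUV.trans ((Opens.map f.base).map (homOfLE hVW)).le
  refine ⟨⟨U, hU⟩, ⟨W, hW⟩, hUW, hxU, ?_⟩
  letI : Algebra Γ(Z, W) Γ(Y, V) := (g.appLE W V hVW).hom.toAlgebra
  letI : Algebra Γ(Y, V) Γ(X, U) := (f.appLE V U hUV).hom.toAlgebra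
  letI : Algebra Γ(Z, W) Γ(X, U) := ((f ≫ g).appLE W U hUW).hom.toAlgebra
  haveI : IsScalarTower Γ(Z, W) Γ(Y, V) Γ(X, U) := IsScalarTower.of_algebraMap_eq' (by
    show ((f ≫ g).appLE W U hUW).hom = (f.appLE V U hUV).hom.comp (g.appLE W V hVW).hom
    rw [← CommRingCat.hom_comp, Scheme.Hom.appLE_comp_appLE])
  haveI : Algebra.FiniteType Γ(Z, W) Γ(Y, V) := finiteType_appLE hV hW hVW
  haveI : Algebra.FiniteType Γ(Y, V) Γ(X, U) := finiteType_appLE hU hV hUV
  haveI : Algebra.FiniteType Γ(Z, W) Γ(X, U) := finiteType_appLE hU hW hUW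
  have hA : DerCA.IsRelPseudoCoherentModuleAll Γ(Z, W) Γ(Y, V) Γ(Y, V) :=
    fun n => hg' n ⟨V, hV⟩ ⟨W, hW⟩ hVW
  exact (RestrPC.relPC_trans_iff hA (M ⟨U, hU⟩) m).1 (hf' ⟨U, hU⟩ ⟨V, hV⟩ hUV)

/-- **perfect amplitude relative to a composite.** -/
theorem hasPerfAmplitudeRel_comp (f : X ⟶ Y) (g : Y ⟶ Z) [LocallyOfFiniteType f]
    [LocallyOfFiniteType g] (n : ℕ) (hg : DerSch.HasPerfDimLE g n) (a b : ℤ)
    (F : CochainComplex X.Modules ℤ) (hF : DerSch.HasPerfAmplitudeRel f a b F) :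
    DerSch.HasPerfAmplitudeRel (f ≫ g) (a - n) b F := by
  obtain ⟨hpc, hta⟩ := hF
  obtain ⟨hgpc, hgta⟩ := hg
  refine ⟨fun m => ?_, Groth.Agent.Lib.Helper35.StalkTA.hasTorAmplitude_comp f g n hgta F a b hta⟩
  exact isPseudoCoherentRel_comp_of_pc f g hgpc _ (isQCohD_of_isPseudoCoherentRelAll f _ hpc) m
    (hpc m)

end Groth.Agent.Lib.Helper28.RelPCRing
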