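import Groth.Agent.Lib.Helper28.RelPCGen
import Groth.Agent.Lib.Helper28.ClosedPCChart
import Groth.Agent.Lib.Helper28.NPCMor

/-!
# Relative pseudo-coherence of general objects along a composition (helper28)

* `pc_jOf_comp_graded`: graded version of helper30's `pc_jOf_comp_iff`.
* `compChart`: the composite chart `R[z_{n+k}] ↠ B` built from charts `R[y_k] ↠ A`, `A[x_n] ↠ B`.
* `chartPC_compChart_graded`: the chart test along the composite chart versus the chart over `A`.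
* `isPseudoCoherentRel_of_comp_of_isNPseudoCoherent` (S6205) and
  `isPseudoCoherentRel_comp_graded`.
-/

set_option autoImplicit false
universe u
open CategoryTheory CategoryTheory.Limits AlgebraicGeometry TopologicalSpace Opposite
attribute [local instance] HasDerivedCategory.standard

namespace Groth.Agent.Lib.Helper28.RelPCCompGen

open Scheme.Modules Groth.Agent.Lib.Helper30.ClosedPC Groth.Agent.Lib.Helper30.PerfRestrict
  Groth.Agent.Lib.Helper30.PCTriangle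
  Groth.Agent.Lib.Helper28.ClosedPush Groth.Agent.Lib.Helper6 Groth.Agent.Lib.Helper6.RestrPC
  Groth.Agent.Lib.Helper28.ClosedPCGraded Groth.Agent.Lib.Helper28.GradedRestr
  Groth.Agent.Lib.Helper28.RelPCAbs Groth.Agent.Lib.Helper28.ClosedPCChart
  Groth.Agent.Lib.Helper28.RelPCGen Groth.Agent.Lib.Helper28.RelPCRing

section JOf

variable {X : Scheme.{u}}

/-- moving a chart along a surjection of rings with `s`-pseudo-coherent target, graded -/
theorem pc_jOf_comp_graded {U : X.Opens} (hU : IsAffineOpen U) {Q' Q : CommRingCat.{u}}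
    (σ : Q' ⟶ Q) (hσ : Function.Surjective σ.hom) {s : ℤ} (hpc : PCMapN s σ.hom)
    (χ : Q ⟶ Γ(X, U)) (hχ : Function.Surjective χ.hom) (K : DCoh.D (U : Scheme.{u}))
    (n m : ℤ) [K.IsLE n] :
    haveI := isClosedImmersion_jOf hU χ hχ
    haveI := isClosedImmersion_jOf hU (σ ≫ χ)
      (by rw [CommRingCat.hom_comp]; exact hχ.comp hσ)
    (DCoh.IsPseudoCoherentD m ((cD (jOf U χ)).obj K) →
        DCoh.IsPseudoCoherentD (max m (s + n)) ((cD (jOf U (σ ≫ χ))).obj K)) ∧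
      (s ≤ m + 1 - n → DCoh.IsPseudoCoherentD m ((cD (jOf U (σ ≫ χ))).obj K) →
        DCoh.IsPseudoCoherentD m ((cD (jOf U χ)).obj K)) := by
  have h1 := isClosedImmersion_jOf hU χ hχ
  have h2 := isClosedImmersion_jOf hU (σ ≫ χ) (by rw [CommRingCat.hom_comp]; exact hχ.comp hσ)
  have h3 : IsClosedImmersion (Spec.map σ) := IsClosedImmersion.spec_of_surjective σ hσ
  obtain ⟨t⟩ := nonempty_cD_comp_iso (jOf U χ) (Spec.map σ) (jOf U (σ ≫ χ)) (jOf_comp U σ χ) K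
  have hO := hOs_spec σ hpc
  have : ((cD (jOf U χ)).obj K).IsLE n := ExactDC.isLE_obj (F := pushforward (jOf U χ)) K n
  constructor
  · intro h
    exact isPseudoCoherentD_of_iso t.symm _ (pc_cD_graded (Spec.map σ) hO _ n m h)
  · intro hs h
    exact pc_of_pc_cD_graded (Spec.map σ) hO _ n m hs (isPseudoCoherentD_of_iso t _ h)

end JOf

section Ring

variable {R A B : Type u} [CommRing R] [CommRing A] [CommRing B] [Algebra R A] [Algebra A B]
  [Algebra R B] [IsScalarTower R A B]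
variable {k n : ℕ}

/-- `R[z_{n+k}] ≃ R[y_k][x_n]`. -/
noncomputable def sigma (R : Type u) [CommRing R] (k n : ℕ) :
    MvPolynomial (Fin (n + k)) R ≃ₐ[R] MvPolynomial (Fin n) (MvPolynomial (Fin k) R) :=
  (MvPolynomial.renameEquiv R finSumFinEquiv.symm).trans
    (MvPolynomial.sumAlgEquiv R (Fin n) (Fin k))

/-- the composite chart. -/
noncomputable def compChart (α : MvPolynomial (Fin k) R →ₐ[R] A)
    (β : MvPolynomial (Fin n) A →ₐ[A] B) : MvPolynomial (Fin (n + k)) R →ₐ[R] B :=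
  ((β.restrictScalars R).comp (MvPolynomial.mapAlgHom α)).comp (sigma R k n).toAlgHom

lemma compChart_surjective (α : MvPolynomial (Fin k) R →ₐ[R] A)
    (β : MvPolynomial (Fin n) A →ₐ[A] B) (hα : Function.Surjective α)
    (hβ : Function.Surjective β) : Function.Surjective (compChart α β) := by
  refine (hβ.comp ?_).comp (sigma R k n).surjective
  exact MvPolynomial.map_surjective _ hα

lemma compChart_eq (α : MvPolynomial (Fin k) R →ₐ[R] A) (β : MvPolynomial (Fin n) A →ₐ[A] B) :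
    (compChart α β : MvPolynomial (Fin (n + k)) R →+* B) =
      ((β : MvPolynomial (Fin n) A →+* B).comp
        (MvPolynomial.map (α : MvPolynomial (Fin k) R →+* A))).comp
        ((sigma R k n : MvPolynomial (Fin (n + k)) R ≃ₐ[R] _) : _ →+* _) := rfl

end Ring

section Chart

variable {X Y Z : Scheme.{u}} (f : X ⟶ Y) (g : Y ⟶ Z)

/-- the chart test along a composite chart versus the chart over the intermediate ring. -/
theorem chartPC_compChart_graded (E : DCoh.D X) (b : ℤ) [E.IsLE b]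
    (U : X.affineOpens) (W : Y.affineOpens) (V : Z.affineOpens)
    (hUW : (U : X.Opens) ≤ f ⁻¹ᵁ (W : Y.Opens)) (hWV : (W : Y.Opens) ≤ g ⁻¹ᵁ (V : Z.Opens))
    (hUV : (U : X.Opens) ≤ (f ≫ g) ⁻¹ᵁ (V : Z.Opens)) {k n : ℕ} {s : ℤ} :
    letI : Algebra Γ(Z, (V : Z.Opens)) Γ(Y, (W : Y.Opens)) :=
      (g.appLE (V : Z.Opens) (W : Y.Opens) hWV).hom.toAlgebra
    letI : Algebra Γ(Y, (W : Y.Opens)) Γ(X, (U : X.Opens)) :=
      (f.appLE (W : Y.Opens) (U : X.Opens) hUW).hom.toAlgebra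
    letI : Algebra Γ(Z, (V : Z.Opens)) Γ(X, (U : X.Opens)) :=
      ((f ≫ g).appLE (V : Z.Opens) (U : X.Opens) hUV).hom.toAlgebra
    ∀ [IsScalarTower Γ(Z, (V : Z.Opens)) Γ(Y, (W : Y.Opens)) Γ(X, (U : X.Opens))]
      (α : MvPolynomial (Fin k) Γ(Z, (V : Z.Opens)) →ₐ[Γ(Z, (V : Z.Opens))] Γ(Y, (W : Y.Opens)))
      (β : MvPolynomial (Fin n) Γ(Y, (W : Y.Opens)) →ₐ[Γ(Y, (W : Y.Opens))] Γ(X, (U : X.Opens))),
      Function.Surjective α → Function.Surjective β →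
      PCMapN s (α : MvPolynomial (Fin k) Γ(Z, (V : Z.Opens)) →+* Γ(Y, (W : Y.Opens))) →
      ∀ m : ℤ,
      (DerSch.ChartPC m E (U : X.Opens) (W : Y.Opens)
          (β : MvPolynomial (Fin n) Γ(Y, (W : Y.Opens)) →+* Γ(X, (U : X.Opens))) →
        DerSch.ChartPC (max m (s + b)) E (U : X.Opens) (V : Z.Opens)
          (compChart α β : MvPolynomial (Fin (n + k)) Γ(Z, (V : Z.Opens)) →+* Γ(X, (U : X.Opens)))) ∧
      (s ≤ m + 1 - b →
        DerSch.ChartPC m E (U : X.Opens) (V : Z.Opens)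
          (compChart α β : MvPolynomial (Fin (n + k)) Γ(Z, (V : Z.Opens)) →+* Γ(X, (U : X.Opens))) →
        DerSch.ChartPC m E (U : X.Opens) (W : Y.Opens)
          (β : MvPolynomial (Fin n) Γ(Y, (W : Y.Opens)) →+* Γ(X, (U : X.Opens)))) := by
  letI : Algebra Γ(Z, (V : Z.Opens)) Γ(Y, (W : Y.Opens)) :=
    (g.appLE (V : Z.Opens) (W : Y.Opens) hWV).hom.toAlgebra
  letI : Algebra Γ(Y, (W : Y.Opens)) Γ(X, (U : X.Opens)) :=
    (f.appLE (W : Y.Opens) (U : X.Opens) hUW).hom.toAlgebra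
  letI : Algebra Γ(Z, (V : Z.Opens)) Γ(X, (U : X.Opens)) :=
    ((f ≫ g).appLE (V : Z.Opens) (U : X.Opens) hUV).hom.toAlgebra
  intro _ α β hα hβ hpc m
  have hγ := compChart_surjective α β hα hβ
  rw [chartPC_iff_jOf U.2 (W : Y.Opens)
      (β : MvPolynomial (Fin n) Γ(Y, (W : Y.Opens)) →+* Γ(X, (U : X.Opens))) hβ,
    chartPC_iff_jOf U.2 (V : Z.Opens)
      (compChart α β : MvPolynomial (Fin (n + k)) Γ(Z, (V : Z.Opens)) →+* Γ(X, (U : X.Opens))) hγ,
    chartPC_iff_jOf U.2 (V : Z.Opens)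
      (compChart α β : MvPolynomial (Fin (n + k)) Γ(Z, (V : Z.Opens)) →+* Γ(X, (U : X.Opens))) hγ]
  -- the ring maps in `CommRingCat`
  let μ : MvPolynomial (Fin n) (MvPolynomial (Fin k) Γ(Z, (V : Z.Opens))) →+*
      MvPolynomial (Fin n) Γ(Y, (W : Y.Opens)) :=
    MvPolynomial.map (α : MvPolynomial (Fin k) Γ(Z, (V : Z.Opens)) →+* Γ(Y, (W : Y.Opens)))
  have hμs : Function.Surjective μ := MvPolynomial.map_surjective _ hα
  have hμ : PCMapN s μ := pcMapN_mvPolynomial_map _ hpc n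
  let σ' : MvPolynomial (Fin (n + k)) Γ(Z, (V : Z.Opens)) →+*
      MvPolynomial (Fin n) (MvPolynomial (Fin k) Γ(Z, (V : Z.Opens))) :=
    ((sigma Γ(Z, (V : Z.Opens)) k n : _ ≃ₐ[Γ(Z, (V : Z.Opens))] _) : _ →+* _)
  have hσb : Function.Bijective σ' := (sigma Γ(Z, (V : Z.Opens)) k n).bijective
  have hσ : PCMap σ' := pcMap_of_bijective _ hσb
  let β' : MvPolynomial (Fin n) Γ(Y, (W : Y.Opens)) →+* Γ(X, (U : X.Opens)) := (β : _ →+* _)
  have hfac : CommRingCat.ofHom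
      (compChart α β : MvPolynomial (Fin (n + k)) Γ(Z, (V : Z.Opens)) →+* Γ(X, (U : X.Opens))) =
      CommRingCat.ofHom σ' ≫ (CommRingCat.ofHom μ ≫ CommRingCat.ofHom β') := by
    rw [← CommRingCat.ofHom_comp, ← CommRingCat.ofHom_comp]
    rfl
  have hK : ((rD (U : X.Opens).ι).obj E).IsLE b := ExactDC.isLE_obj _ b
  have hμβs : Function.Surjective (CommRingCat.ofHom μ ≫ CommRingCat.ofHom β').hom := by
    rw [CommRingCat.hom_comp]
    exact hβ.comp hμs
  have key1 := pc_jOf_comp_iff U.2 (CommRingCat.ofHom σ') hσb.2 hσ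
    (CommRingCat.ofHom μ ≫ CommRingCat.ofHom β') hμβs ((rD (U : X.Opens).ι).obj E)
  have key2 := pc_jOf_comp_graded U.2 (CommRingCat.ofHom μ) hμs hμ (CommRingCat.ofHom β') hβ
    ((rD (U : X.Opens).ι).obj E) b m
  have key2' := pc_jOf_comp_graded U.2 (CommRingCat.ofHom μ) hμs hμ (CommRingCat.ofHom β') hβ
    ((rD (U : X.Opens).ι).obj E) b
  have hc1 : IsClosedImmersion (jOf (U : X.Opens)
      (CommRingCat.ofHom σ' ≫ (CommRingCat.ofHom μ ≫ CommRingCat.ofHom β'))) :=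
    isClosedImmersion_jOf U.2 _ (by
      rw [CommRingCat.hom_comp]
      exact hμβs.comp hσb.2)
  have hc2 : IsClosedImmersion (jOf (U : X.Opens) (CommRingCat.ofHom
      (compChart α β : MvPolynomial (Fin (n + k)) Γ(Z, (V : Z.Opens)) →+* Γ(X, (U : X.Opens))))) :=
    isClosedImmersion_jOf U.2 _ hγ
  constructor
  · intro h
    have h1 := key2.1 h
    have h2 := (key1 (max m (s + b))).1 h1
    exact (pc_jOf_congr hfac.symm _ _).1 h2
  · intro hs h
    have h1 := (pc_jOf_congr hfac _ _).1 h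
    have h2 := (key1 m).2 h1
    exact key2.2 hs h2

end Chart

section Main

/-- relative pseudo-coherence from charts over a cover of the base by affine opens. -/
theorem isPseudoCoherentRel_of_cover_chart {X S : Scheme.{u}} (f : X ⟶ S)
    [LocallyOfFiniteType f] (E : DCoh.D X) (m : ℤ) (𝒱 : Set S.affineOpens)
    (h𝒱 : (⨆ V ∈ 𝒱, (V : S.Opens)) = ⊤)
    (H : ∀ V ∈ 𝒱, ∀ (U : X.affineOpens) (h : (U : X.Opens) ≤ f ⁻¹ᵁ (V : S.Opens)),
      ∃ (n : ℕ) (φ : MvPolynomial (Fin n) Γ(S, (V : S.Opens)) →+* Γ(X, (U : X.Opens))),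
        DerSch.IsChart f (U : X.Opens) (V : S.Opens) h φ ∧
          DerSch.ChartPC m E (U : X.Opens) (V : S.Opens) φ) :
    DerSch.IsPseudoCoherentRel f m E := by
  refine ⟨inferInstance, 𝒱, h𝒱, fun V hV =>
    ⟨{U | (U : X.Opens) ≤ f ⁻¹ᵁ (V : S.Opens)}, ?_, fun U _ h => H V hV U h⟩⟩
  apply le_antisymm
  · exact iSup₂_le fun U hU => hU
  · intro x hx
    obtain ⟨_, ⟨W, hW, rfl⟩, hxW, hWV⟩ := X.isBasis_affineOpens.exists_subset_of_mem_open
      (show x ∈ ((f ⁻¹ᵁ (V : S.Opens) : X.Opens) : Set X) from hx) (f ⁻¹ᵁ (V : S.Opens)).2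
    exact Opens.mem_iSup.2 ⟨⟨W, hW⟩, Opens.mem_iSup.2 ⟨hWV, hxW⟩⟩

variable {X Y Z : Scheme.{u}} (f : X ⟶ Y) (g : Y ⟶ Z) [LocallyOfFiniteType f]
  [LocallyOfFiniteType g]

/-- **S6205**: `E ∈ D^{≤ b}` `a`-pseudo-coherent relative to `f ≫ g`, `g` `(a + 1 - b)`-pseudo-coherent
⇒ `E` `a`-pseudo-coherent relative to `f`. -/
theorem isPseudoCoherentRel_of_comp_of_isNPseudoCoherent (a b : ℤ) (E : DCoh.D X) [E.IsLE b]
    (hE : DerSch.IsPseudoCoherentRel (f ≫ g) a E) (hg : DerSch.IsNPseudoCoherent g (a + 1 - b)) :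
    DerSch.IsPseudoCoherentRel f a E := by
  have hE' := (isPseudoCoherentRel_iff_forall_chartPC (f ≫ g) a E).1 hE
  have hg' := (isNPseudoCoherent_iff g (a + 1 - b)).1 hg
  apply isPseudoCoherentRel_of_cover_chart f E a
    {W : Y.affineOpens | ∃ V : Z.affineOpens, (W : Y.Opens) ≤ g ⁻¹ᵁ (V : Z.Opens)}
  · rw [eq_top_iff]
    intro y _
    obtain ⟨_, ⟨V, hV, rfl⟩, hyV, -⟩ := Z.isBasis_affineOpens.exists_subset_of_mem_open
      (Set.mem_univ (g y)) isOpen_univ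
    obtain ⟨_, ⟨W, hW, rfl⟩, hyW, hWV⟩ := Y.isBasis_affineOpens.exists_subset_of_mem_open
      (show y ∈ ((g ⁻¹ᵁ V : Y.Opens) : Set Y) from hyV) (g ⁻¹ᵁ V).2
    exact Opens.mem_iSup.2 ⟨⟨W, hW⟩, Opens.mem_iSup.2 ⟨⟨⟨V, hV⟩, hWV⟩, hyW⟩⟩
  · rintro W ⟨V, hWV⟩ U hUW
    have hUV : (U : X.Opens) ≤ (f ≫ g) ⁻¹ᵁ (V : Z.Opens) :=
      hUW.trans ((Opens.map f.base).map (homOfLE hWV)).le
    letI : Algebra Γ(Z, (V : Z.Opens)) Γ(Y, (W : Y.Opens)) :=
      (g.appLE (V : Z.Opens) (W : Y.Opens) hWV).hom.toAlgebra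
    letI : Algebra Γ(Y, (W : Y.Opens)) Γ(X, (U : X.Opens)) :=
      (f.appLE (W : Y.Opens) (U : X.Opens) hUW).hom.toAlgebra
    letI : Algebra Γ(Z, (V : Z.Opens)) Γ(X, (U : X.Opens)) :=
      ((f ≫ g).appLE (V : Z.Opens) (U : X.Opens) hUV).hom.toAlgebra
    haveI : IsScalarTower Γ(Z, (V : Z.Opens)) Γ(Y, (W : Y.Opens)) Γ(X, (U : X.Opens)) :=
      IsScalarTower.of_algebraMap_eq' (by
        show ((f ≫ g).appLE (V : Z.Opens) (U : X.Opens) hUV).hom =
          (f.appLE (W : Y.Opens) (U : X.Opens) hUW).hom.comp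
            (g.appLE (V : Z.Opens) (W : Y.Opens) hWV).hom
        rw [← CommRingCat.hom_comp, Scheme.Hom.appLE_comp_appLE])
    obtain ⟨k, α, hα, hvia⟩ := hg' W V hWV
    have hpc : PCMapN (a + 1 - b)
        (α : MvPolynomial (Fin k) Γ(Z, (V : Z.Opens)) →+* Γ(Y, (W : Y.Opens))) :=
      MPC.isPC_of_iso (((Φ (α : MvPolynomial (Fin k) Γ(Z, (V : Z.Opens)) →+*
        Γ(Y, (W : Y.Opens)))).mapDerivedCategorySingleFunctor 0).app
          (ModuleCat.of Γ(Y, (W : Y.Opens)) Γ(Y, (W : Y.Opens)))) hvia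
    have hft : Algebra.FiniteType Γ(Y, (W : Y.Opens)) Γ(X, (U : X.Opens)) :=
      Groth.Agent.Lib.Helper30.RelPCLoc.finiteType_appLE U.2 W.2 hUW
    obtain ⟨n, β, hβ⟩ := (Algebra.FiniteType.iff_quotient_mvPolynomial''
      (R := Γ(Y, (W : Y.Opens))) (S := Γ(X, (U : X.Opens)))).1 hft
    refine ⟨n, (β : MvPolynomial (Fin n) Γ(Y, (W : Y.Opens)) →+* Γ(X, (U : X.Opens))),
      ⟨hβ, by ext r; exact β.commutes r⟩, ?_⟩
    have hχ : DerSch.IsChart (f ≫ g) (U : X.Opens) (V : Z.Opens) hUV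
        (compChart α β : MvPolynomial (Fin (n + k)) Γ(Z, (V : Z.Opens)) →+* Γ(X, (U : X.Opens))) :=
      ⟨compChart_surjective α β hα hβ, by ext r; exact (compChart α β).commutes r⟩
    exact (chartPC_compChart_graded f g E b U W V hUW hWV hUV α β hα hβ hpc a).2 le_rfl
      (hE' U V hUV _ _ hχ)

end Main

end Groth.Agent.Lib.Helper28.RelPCCompGen
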