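import Groth.Agent.Lib.Helper28.RelPCMod
import Groth.Agent.Lib.Helper6.MPC4

/-!
# Complexes of flat, relatively finitely presented modules are pseudo-coherent relative to `f` (helper28)
-/

set_option autoImplicit false
set_option linter.style.haveILetI false
universe u
open CategoryTheory CategoryTheory.Limits AlgebraicGeometry TopologicalSpace Opposite
attribute [local instance] HasDerivedCategory.standard

namespace Groth.Agent.Lib.Helper28.RelPCRing

open Groth.Agent.Lib.Helper30.RelPCLoc Groth.Agent.Lib.Helper30.AffinePush Groth.Agent.Lib.Helper6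
  Groth.Agent.Lib.Helper28.SecChart Groth.Agent.Lib.Helper11.PullbackChart

section Alg

variable {R A : Type u} [CommRing R] [CommRing A] [Algebra R A]

/-- a bounded above complex whose terms are pseudo-coherent relative to `R` is pseudo-coherent
relative to `R`. -/
theorem isRelPseudoCoherent_of_termwise [Algebra.FiniteType R A] (K : DRing.Cx A) (b : ℤ)
    (hK : DRing.VanishesAbove K b)
    (hterm : ∀ (i m' : ℤ), DerCA.IsRelPseudoCoherent R A m'
      ((DerivedCategory.singleFunctor (ModuleCat.{u} A) 0).obj (K.X i))) (m : ℤ) :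
    DerCA.IsRelPseudoCoherent R A m (DRing.toD K) := by
  obtain ⟨n, α, hα⟩ := Algebra.FiniteType.iff_quotient_mvPolynomial''.1
    (inferInstance : Algebra.FiniteType R A)
  rw [RestrPC.relPC_of_via' α hα]
  let K' : DRing.Cx (MvPolynomial (Fin n) R) :=
    ((ModuleCat.restrictScalars.{u} (α : MvPolynomial (Fin n) R →+* A)).mapHomologicalComplex
      (ComplexShape.up ℤ)).obj K
  have hK' : DRing.VanishesAbove K' b := fun i hi =>
    (ModuleCat.restrictScalars.{u} (α : MvPolynomial (Fin n) R →+* A)).map_isZero (hK i hi)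
  have h1 : DRing.IsPseudoCoherent (MvPolynomial (Fin n) R) m (DerivedCategory.Q.obj K') :=
    MPC.isPC_of_termwise K' b m hK' (fun i =>
      (isPC_restrictD_single_iff (α : MvPolynomial (Fin n) R →+* A) (K.X i) (m - i)).1
        ((RestrPC.relPC_of_via' α hα _ _).1 (hterm i (m - i))))
  exact MPC.isPC_of_iso
    ((ModuleCat.restrictScalars.{u}
      (α : MvPolynomial (Fin n) R →+* A)).mapDerivedCategoryFactors.app K).symm h1

end Alg

section Cx

variable {X S : Scheme.{u}} (f : X ⟶ S)

/-- **a bounded above complex of modules flat over the base and finitely presented relative to `f`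
is pseudo-coherent relative to `f`.** -/
theorem isPseudoCoherentRelAll_of_termwise [LocallyOfFiniteType f]
    (E : CochainComplex X.Modules ℤ) (b : ℤ) (hb : ∀ i : ℤ, b < i → IsZero (E.X i))
    (hfl : ∀ i : ℤ, FlatMod.IsFlatOver f (E.X i))
    (hfp : ∀ i : ℤ, DerSch.IsPseudoCoherentRel f (-1) (DCoh.toD X (sCx (E.X i)))) :
    DerSch.IsPseudoCoherentRelAll f (DCoh.toD X E) := by
  have hq : ∀ i : ℤ, (E.X i).IsQuasicoherent := fun i => isQuasicoherent_of_relPC_single f _ (hfp i)
  intro m
  rw [isPseudoCoherentRel_iff_of_charts f _ (isQCohD_Q_of_termwise E hq) _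
    (fun U => chartSecIso U.2 E hq) m]
  intro U V h
  letI := (f.appLE (V : S.Opens) (U : X.Opens) h).hom.toAlgebra
  haveI : Algebra.FiniteType Γ(S, (V : S.Opens)) Γ(X, (U : X.Opens)) := finiteType_appLE U.2 V.2 h
  haveI : (ΓU U.2).Additive := additive_ΓU U.2
  haveI : (ΓU U.2).PreservesZeroMorphisms := inferInstance
  refine isRelPseudoCoherent_of_termwise _ b
    (fun i hi => (ΓU U.2).map_isZero (hb i hi)) (fun i m' => ?_) m
  haveI := hq i
  have h1 := (isPseudoCoherentRel_single_iff f (E.X i) (-1)).1 (hfp i) U V h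
  exact isRelPseudoCoherent_single_of_flat _ (flat_ΓU_of_isFlatOver f (E.X i) (hfl i) U V h) h1 m'

/-- termwise flatness over the base gives tor amplitude. -/
theorem hasTorAmplitude_of_termwise (E : CochainComplex X.Modules ℤ) (a b : ℤ)
    (hab : DCoh.VanishesOutside E a b) (hfl : ∀ i : ℤ, FlatMod.IsFlatOver f (E.X i)) :
    DerSch.HasTorAmplitude f a b E := by
  intro x
  refine ⟨(DerSch.stalkCxOver f x).obj E, fun i hi => (DerSch.stalkOver f x).map_isZero (hab i hi),
    fun i => hfl i x, ⟨Iso.refl _⟩⟩

/-- **perfect amplitude of a bounded complex of flat, relatively finitely presented modules.** -/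
theorem hasPerfAmplitudeRel_of_termwise [LocallyOfFiniteType f]
    (E : CochainComplex X.Modules ℤ) (a b : ℤ) (hab : DCoh.VanishesOutside E a b)
    (hfl : ∀ i : ℤ, FlatMod.IsFlatOver f (E.X i))
    (hfp : ∀ i : ℤ, DerSch.IsPseudoCoherentRel f (-1) (DCoh.toD X (sCx (E.X i)))) :
    DerSch.HasPerfAmplitudeRel f a b E :=
  ⟨isPseudoCoherentRelAll_of_termwise f E b (fun i hi => hab i (Or.inr hi)) hfl hfp,
    hasTorAmplitude_of_termwise f E a b hab hfl⟩

end Cx

end Groth.Agent.Lib.Helper28.RelPCRing
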