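import Groth.Agent.Lib.Helper28.RelPCRing
import Groth.Agent.Lib.Helper6.FlatPC4
import Groth.Agent.Lib.Helper35.StalkTA
import Groth.Agent.S6946

set_option autoImplicit false
set_option linter.style.haveILetI false
universe u
open CategoryTheory CategoryTheory.Limits AlgebraicGeometry TopologicalSpace Opposite
attribute [local instance] HasDerivedCategory.standard

namespace Groth.Agent.Lib.Helper28.RelPCRing

open Groth.Agent.Lib.Helper30.RelPCLoc Groth.Agent.Lib.Helper30.AffinePush Groth.Agent.Lib.Helper6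

section Alg

variable {R A : Type u} [CommRing R] [CommRing A] [Algebra R A]

/-- a flat finitely presented algebra is pseudo-coherent relative to the base, in every degree. -/
theorem isRelPseudoCoherent_self_of_flat_of_fp [Module.Flat R A] [Algebra.FinitePresentation R A]
    (m : ℤ) :
    DerCA.IsRelPseudoCoherent R A m
      ((DerivedCategory.singleFunctor (ModuleCat.{u} A) 0).obj (ModuleCat.of A A)) := by
  obtain ⟨n, φ, hφ, hpc⟩ := FlatPC.pcHom_of_flat_of_finitePresentation R A
  refine ⟨n, φ, hφ, ?_⟩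
  letI := φ.toRingHom.toAlgebra
  have h1 : DRing.IsPseudoCoherent (MvPolynomial (Fin n) R) m
      (Dual.inD (MvPolynomial (Fin n) R) A) := MPC.isPC_of_isPC' hpc m
  exact (isPC_restrictD_single_iff (φ : MvPolynomial (Fin n) R →+* A) _ m).2 h1

end Alg

section Flat

variable {X S : Scheme.{u}} (f : X ⟶ S)

/-- `O_X[0]` has tor amplitude `[0, 0]` relative to `f` iff `f` is flat. -/
theorem hasTorDimLE_zero_iff_flat : DerSch.HasTorDimLE f 0 ↔ Flat f := by
  rw [Flat.iff_flat_stalkMap]
  constructor
  · intro h x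
    letI := (f.stalkMap x).hom.toAlgebra
    have h1 := Groth.Agent.Lib.Helper35.TA.TAmp.of_iso (h x)
      (Groth.Agent.Lib.Helper35.StalkTA.stalkUnitIso f x)
    exact (Groth.Agent.S6946.result (S.presheaf.stalk (f.base x)) (X.presheaf.stalk x) 0).2.mp
      ((Groth.Agent.S6946.result (S.presheaf.stalk (f.base x)) (X.presheaf.stalk x) 0).1.mpr h1)
  · intro h x
    letI := (f.stalkMap x).hom.toAlgebra
    have hfl : Module.Flat (S.presheaf.stalk (f.base x)) (X.presheaf.stalk x) := h x
    have h2 := (Groth.Agent.S6946.result (S.presheaf.stalk (f.base x))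
      (X.presheaf.stalk x) 0).1.mp
      ((Groth.Agent.S6946.result (S.presheaf.stalk (f.base x))
        (X.presheaf.stalk x) 0).2.mpr hfl)
    exact Groth.Agent.Lib.Helper35.TA.TAmp.of_iso h2
      (Groth.Agent.Lib.Helper35.StalkTA.stalkUnitIso f x).symm

/-- **perfect dimension `≤ 0` iff flat and locally of finite presentation.** -/
theorem hasPerfDimLE_zero_iff [LocallyOfFiniteType f] :
    DerSch.HasPerfDimLE f 0 ↔ (Flat f ∧ LocallyOfFinitePresentation f) := by
  constructor
  · rintro ⟨hpc, hta⟩
    exact ⟨(hasTorDimLE_zero_iff_flat f).1 hta, (isNPseudoCoherent_neg_one_iff f).1 (hpc (-1))⟩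
  · rintro ⟨hfl, hfp⟩
    refine ⟨fun m => ?_, (hasTorDimLE_zero_iff_flat f).2 hfl⟩
    show DerSch.IsNPseudoCoherent f m
    rw [isNPseudoCoherent_iff]
    intro U V h
    have h1 := (HasRingHomProperty.iff_appLE (P := @Flat)).1 hfl V U h
    have h2 := (HasRingHomProperty.iff_appLE (P := @LocallyOfFinitePresentation)).1 hfp V U h
    letI := (f.appLE (V : S.Opens) (U : X.Opens) h).hom.toAlgebra
    haveI : Module.Flat Γ(S, (V : S.Opens)) Γ(X, (U : X.Opens)) := h1
    haveI : Algebra.FinitePresentation Γ(S, (V : S.Opens)) Γ(X, (U : X.Opens)) := h2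
    exact isRelPseudoCoherent_self_of_flat_of_fp m

end Flat

end Groth.Agent.Lib.Helper28.RelPCRing
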