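import Groth.Agent.Lib.Helper28.RelPCCompGen
import Groth.Agent.Lib.Helper28.RelPCFlat

/-!
# Relative pseudo-coherence and composition with a pseudo-coherent morphism (helper28)

* `chartPC_compChart_iff`: for a presentation `α : R[y] ↠ A` making `A` a pseudo-coherent
  `R[y]`-module, the chart test over `A` agrees with the chart test along the composite chart over `R`.
* `isPseudoCoherentRel_comp_iff_of_pseudoCoherent`: for `g` pseudo-coherent (all `n`),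
  `E` is `m`-pc relative to `f ≫ g` iff relative to `f`.
* `isPseudoCoherentRel_comp_iff_of_flat_lfp` (S7226).
-/

set_option autoImplicit false
universe u
open CategoryTheory CategoryTheory.Limits AlgebraicGeometry TopologicalSpace Opposite
attribute [local instance] HasDerivedCategory.standard

namespace Groth.Agent.Lib.Helper28.RelPCFlatBase

open Scheme.Modules Groth.Agent.Lib.Helper30.ClosedPC Groth.Agent.Lib.Helper30.PerfRestrict
  Groth.Agent.Lib.Helper30.PCTriangle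
  Groth.Agent.Lib.Helper28.ClosedPush Groth.Agent.Lib.Helper6 Groth.Agent.Lib.Helper6.RestrPC
  Groth.Agent.Lib.Helper28.RelPCAbs
  Groth.Agent.Lib.Helper28.RelPCGen Groth.Agent.Lib.Helper28.RelPCRing
  Groth.Agent.Lib.Helper28.RelPCCompGen

section Chart

variable {X Y Z : Scheme.{u}} (f : X ⟶ Y) (g : Y ⟶ Z)

/-- the chart test along a composite chart versus the chart over the intermediate ring, when the
intermediate ring is pseudo-coherent over the polynomial ring. -/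
theorem chartPC_compChart_iff (E : DCoh.D X)
    (U : X.affineOpens) (W : Y.affineOpens) (V : Z.affineOpens)
    (hUW : (U : X.Opens) ≤ f ⁻¹ᵁ (W : Y.Opens)) (hWV : (W : Y.Opens) ≤ g ⁻¹ᵁ (V : Z.Opens))
    (hUV : (U : X.Opens) ≤ (f ≫ g) ⁻¹ᵁ (V : Z.Opens)) {k n : ℕ} :
    letI : Algebra Γ(Z, (V : Z.Opens)) Γ(Y, (W : Y.Opens)) :=
      (g.appLE (V : Z.Opens) (W : Y.Opens) hWV).hom.toAlgebra
    letI : Algebra Γ(Y, (W : Y.Opens)) Γ(X, (U : X.Opens)) :=
      (f.appLE (W : Y.Opens) (U : X.Opens) hUW).hom.toAlgebra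
    letI : Algebra Γ(Z, (V : Z.Opens)) Γ(X, (U : X.Opens)) :=
      ((f ≫ g).appLE (V : Z.Opens) (U : X.Opens) hUV).hom.toAlgebra
    ∀ [IsScalarTower Γ(Z, (V : Z.Opens)) Γ(Y, (W : Y.Opens)) Γ(X, (U : X.Opens))]
      (α : MvPolynomial (Fin k) Γ(Z, (V : Z.Opens)) →ₐ[Γ(Z, (V : Z.Opens))] Γ(Y, (W : Y.Opens)))
      (β : MvPolynomial (Fin n) Γ(Y, (W : Y.Opens)) →ₐ[Γ(Y, (W : Y.Opens))] Γ(X, (U : X.Opens))),
      Function.Surjective α → Function.Surjective β →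
      PCMap (α : MvPolynomial (Fin k) Γ(Z, (V : Z.Opens)) →+* Γ(Y, (W : Y.Opens))) →
      ∀ m : ℤ,
      (DerSch.ChartPC m E (U : X.Opens) (W : Y.Opens)
          (β : MvPolynomial (Fin n) Γ(Y, (W : Y.Opens)) →+* Γ(X, (U : X.Opens))) ↔
        DerSch.ChartPC m E (U : X.Opens) (V : Z.Opens)
          (compChart α β : MvPolynomial (Fin (n + k)) Γ(Z, (V : Z.Opens)) →+* Γ(X, (U : X.Opens)))) := by
  letI : Algebra Γ(Z, (V : Z.Opens)) Γ(Y, (W : Y.Opens)) :=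
    (g.appLE (V : Z.Opens) (W : Y.Opens) hWV).hom.toAlgebra
  letI : Algebra Γ(Y, (W : Y.Opens)) Γ(X, (U : X.Opens)) :=
    (f.appLE (W : Y.Opens) (U : X.Opens) hUW).hom.toAlgebra
  letI : Algebra Γ(Z, (V : Z.Opens)) Γ(X, (U : X.Opens)) :=
    ((f ≫ g).appLE (V : Z.Opens) (U : X.Opens) hUV).hom.toAlgebra
  intro _ α β hα hβ hpc m
  have hγ := compChart_surjective α β hα hβ
  rw [chartPC_iff_jOf U.2 (W : Y.Opens)
      (β : MvPolynomial (Fin n) Γ(Y, (W : Y.Opens)) →+* Γ(X, (U : X.Opens))) hβ,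
    chartPC_iff_jOf U.2 (V : Z.Opens)
      (compChart α β : MvPolynomial (Fin (n + k)) Γ(Z, (V : Z.Opens)) →+* Γ(X, (U : X.Opens))) hγ]
  let μ : MvPolynomial (Fin n) (MvPolynomial (Fin k) Γ(Z, (V : Z.Opens))) →+*
      MvPolynomial (Fin n) Γ(Y, (W : Y.Opens)) :=
    MvPolynomial.map (α : MvPolynomial (Fin k) Γ(Z, (V : Z.Opens)) →+* Γ(Y, (W : Y.Opens)))
  have hμs : Function.Surjective μ := MvPolynomial.map_surjective _ hα
  have hμ : PCMap μ := pcMap_mvPolynomial_map _ hpc n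
  let σ' : MvPolynomial (Fin (n + k)) Γ(Z, (V : Z.Opens)) →+*
      MvPolynomial (Fin n) (MvPolynomial (Fin k) Γ(Z, (V : Z.Opens))) :=
    ((sigma Γ(Z, (V : Z.Opens)) k n : _ ≃ₐ[Γ(Z, (V : Z.Opens))] _) : _ →+* _)
  have hσb : Function.Bijective σ' := (sigma Γ(Z, (V : Z.Opens)) k n).bijective
  have hσ : PCMap σ' := pcMap_of_bijective _ hσb
  let β' : MvPolynomial (Fin n) Γ(Y, (W : Y.Opens)) →+* Γ(X, (U : X.Opens)) := (β : _ →+* _)
  have hfac : CommRingCat.ofHom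
      (compChart α β : MvPolynomial (Fin (n + k)) Γ(Z, (V : Z.Opens)) →+* Γ(X, (U : X.Opens))) =
      CommRingCat.ofHom σ' ≫ (CommRingCat.ofHom μ ≫ CommRingCat.ofHom β') := by
    rw [← CommRingCat.ofHom_comp, ← CommRingCat.ofHom_comp]
    rfl
  have hμβs : Function.Surjective (CommRingCat.ofHom μ ≫ CommRingCat.ofHom β').hom := by
    rw [CommRingCat.hom_comp]
    exact hβ.comp hμs
  have key1 := pc_jOf_comp_iff U.2 (CommRingCat.ofHom σ') hσb.2 hσ
    (CommRingCat.ofHom μ ≫ CommRingCat.ofHom β') hμβs ((rD (U : X.Opens).ι).obj E) m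
  have key2 := pc_jOf_comp_iff U.2 (CommRingCat.ofHom μ) hμs hμ (CommRingCat.ofHom β') hβ
    ((rD (U : X.Opens).ι).obj E) m
  have hc1 : IsClosedImmersion (jOf (U : X.Opens)
      (CommRingCat.ofHom σ' ≫ (CommRingCat.ofHom μ ≫ CommRingCat.ofHom β'))) :=
    isClosedImmersion_jOf U.2 _ (by
      rw [CommRingCat.hom_comp]
      exact hμβs.comp hσb.2)
  have hc2 : IsClosedImmersion (jOf (U : X.Opens) (CommRingCat.ofHom
      (compChart α β : MvPolynomial (Fin (n + k)) Γ(Z, (V : Z.Opens)) →+* Γ(X, (U : X.Opens))))) :=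
    isClosedImmersion_jOf U.2 _ hγ
  exact key2.trans (key1.trans (pc_jOf_congr hfac.symm _ _))

end Chart

section Main

variable {X Y Z : Scheme.{u}} (f : X ⟶ Y) (g : Y ⟶ Z) [LocallyOfFiniteType f]
  [LocallyOfFiniteType g]

/-- for `g` pseudo-coherent, relative pseudo-coherence with respect to `f ≫ g` and to `f`
agree. -/
theorem isPseudoCoherentRel_comp_iff_of_pseudoCoherent
    (hg : ∀ n : ℤ, DerSch.IsNPseudoCoherent g n) (m : ℤ) (E : DCoh.D X) :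
    DerSch.IsPseudoCoherentRel (f ≫ g) m E ↔ DerSch.IsPseudoCoherentRel f m E := by
  -- common local data
  have key : ∀ (U : X.affineOpens) (W : Y.affineOpens) (V : Z.affineOpens)
      (hUW : (U : X.Opens) ≤ f ⁻¹ᵁ (W : Y.Opens)) (hWV : (W : Y.Opens) ≤ g ⁻¹ᵁ (V : Z.Opens))
      (hUV : (U : X.Opens) ≤ (f ≫ g) ⁻¹ᵁ (V : Z.Opens)),
      ∃ (n k : ℕ) (β' : MvPolynomial (Fin n) Γ(Y, (W : Y.Opens)) →+* Γ(X, (U : X.Opens)))
        (χ : MvPolynomial (Fin (n + k)) Γ(Z, (V : Z.Opens)) →+* Γ(X, (U : X.Opens))),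
        DerSch.IsChart f (U : X.Opens) (W : Y.Opens) hUW β' ∧
        DerSch.IsChart (f ≫ g) (U : X.Opens) (V : Z.Opens) hUV χ ∧
        (DerSch.ChartPC m E (U : X.Opens) (W : Y.Opens) β' ↔
          DerSch.ChartPC m E (U : X.Opens) (V : Z.Opens) χ) := by
    intro U W V hUW hWV hUV
    letI : Algebra Γ(Z, (V : Z.Opens)) Γ(Y, (W : Y.Opens)) :=
      (g.appLE (V : Z.Opens) (W : Y.Opens) hWV).hom.toAlgebra
    letI : Algebra Γ(Y, (W : Y.Opens)) Γ(X, (U : X.Opens)) :=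
      (f.appLE (W : Y.Opens) (U : X.Opens) hUW).hom.toAlgebra
    letI : Algebra Γ(Z, (V : Z.Opens)) Γ(X, (U : X.Opens)) :=
      ((f ≫ g).appLE (V : Z.Opens) (U : X.Opens) hUV).hom.toAlgebra
    haveI : IsScalarTower Γ(Z, (V : Z.Opens)) Γ(Y, (W : Y.Opens)) Γ(X, (U : X.Opens)) :=
      IsScalarTower.of_algebraMap_eq' (by
        show ((f ≫ g).appLE (V : Z.Opens) (U : X.Opens) hUV).hom =
          (f.appLE (W : Y.Opens) (U : X.Opens) hUW).hom.comp
            (g.appLE (V : Z.Opens) (W : Y.Opens) hWV).hom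
        rw [← CommRingCat.hom_comp, Scheme.Hom.appLE_comp_appLE])
    have hftA : Algebra.FiniteType Γ(Z, (V : Z.Opens)) Γ(Y, (W : Y.Opens)) :=
      Groth.Agent.Lib.Helper30.RelPCLoc.finiteType_appLE W.2 V.2 hWV
    obtain ⟨k, α, hα⟩ := (Algebra.FiniteType.iff_quotient_mvPolynomial''
      (R := Γ(Z, (V : Z.Opens))) (S := Γ(Y, (W : Y.Opens)))).1 hftA
    have hpc : PCMap (α : MvPolynomial (Fin k) Γ(Z, (V : Z.Opens)) →+* Γ(Y, (W : Y.Opens))) :=
      pcMap_of_chart g hg W V hWV _ ⟨hα, by ext r; exact α.commutes r⟩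
    have hft : Algebra.FiniteType Γ(Y, (W : Y.Opens)) Γ(X, (U : X.Opens)) :=
      Groth.Agent.Lib.Helper30.RelPCLoc.finiteType_appLE U.2 W.2 hUW
    obtain ⟨n, β, hβ⟩ := (Algebra.FiniteType.iff_quotient_mvPolynomial''
      (R := Γ(Y, (W : Y.Opens))) (S := Γ(X, (U : X.Opens)))).1 hft
    exact ⟨n, k, (β : MvPolynomial (Fin n) Γ(Y, (W : Y.Opens)) →+* Γ(X, (U : X.Opens))),
      (compChart α β : MvPolynomial (Fin (n + k)) Γ(Z, (V : Z.Opens)) →+* Γ(X, (U : X.Opens))),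
      ⟨hβ, by ext r; exact β.commutes r⟩,
      ⟨compChart_surjective α β hα hβ, by ext r; exact (compChart α β).commutes r⟩,
      chartPC_compChart_iff f g E U W V hUW hWV hUV α β hα hβ hpc m⟩
  constructor
  · intro hE
    have hE' := (isPseudoCoherentRel_iff_forall_chartPC (f ≫ g) m E).1 hE
    apply isPseudoCoherentRel_of_cover_chart f E m
      {W : Y.affineOpens | ∃ V : Z.affineOpens, (W : Y.Opens) ≤ g ⁻¹ᵁ (V : Z.Opens)}
    · rw [eq_top_iff]
      intro y _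
      obtain ⟨_, ⟨V, hV, rfl⟩, hyV, -⟩ := Z.isBasis_affineOpens.exists_subset_of_mem_open
        (Set.mem_univ (g y)) isOpen_univ
      obtain ⟨_, ⟨W, hW, rfl⟩, hyW, hWV⟩ := Y.isBasis_affineOpens.exists_subset_of_mem_open
        (show y ∈ ((g ⁻¹ᵁ V : Y.Opens) : Set Y) from hyV) (g ⁻¹ᵁ V).2
      exact Opens.mem_iSup.2 ⟨⟨W, hW⟩, Opens.mem_iSup.2 ⟨⟨⟨V, hV⟩, hWV⟩, hyW⟩⟩
    · rintro W ⟨V, hWV⟩ U hUW
      have hUV : (U : X.Opens) ≤ (f ≫ g) ⁻¹ᵁ (V : Z.Opens) :=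
        hUW.trans ((Opens.map f.base).map (homOfLE hWV)).le
      obtain ⟨n, k, β', χ, hβ', hχ, hiff⟩ := key U W V hUW hWV hUV
      exact ⟨n, β', hβ', hiff.2 (hE' U V hUV _ χ hχ)⟩
  · intro hE
    have hE' := (isPseudoCoherentRel_iff_forall_chartPC f m E).1 hE
    refine ⟨inferInstance, Set.univ, ?_, fun V _ =>
      ⟨{U : X.affineOpens | ∃ W : Y.affineOpens, (U : X.Opens) ≤ f ⁻¹ᵁ (W : Y.Opens) ∧
        (W : Y.Opens) ≤ g ⁻¹ᵁ (V : Z.Opens)}, ?_, ?_⟩⟩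
    · rw [eq_top_iff]
      intro z _
      obtain ⟨_, ⟨V, hV, rfl⟩, hzV, -⟩ := Z.isBasis_affineOpens.exists_subset_of_mem_open
        (Set.mem_univ z) isOpen_univ
      exact Opens.mem_iSup.2 ⟨⟨V, hV⟩, Opens.mem_iSup.2 ⟨Set.mem_univ _, hzV⟩⟩
    · apply le_antisymm
      · refine iSup₂_le fun U hU => ?_
        obtain ⟨W, hUW, hWV⟩ := hU
        exact hUW.trans ((Opens.map f.base).map (homOfLE hWV)).le
      · intro x hx
        have hx' : f x ∈ (g ⁻¹ᵁ (V : Z.Opens) : Y.Opens) := hx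
        obtain ⟨_, ⟨W, hW, rfl⟩, hxW, hWV⟩ := Y.isBasis_affineOpens.exists_subset_of_mem_open
          (show f x ∈ ((g ⁻¹ᵁ (V : Z.Opens) : Y.Opens) : Set Y) from hx') (g ⁻¹ᵁ (V : Z.Opens)).2
        obtain ⟨_, ⟨U, hU, rfl⟩, hxU, hUW⟩ := X.isBasis_affineOpens.exists_subset_of_mem_open
          (show x ∈ ((f ⁻¹ᵁ W : X.Opens) : Set X) from hxW) (f ⁻¹ᵁ W).2
        exact Opens.mem_iSup.2 ⟨⟨U, hU⟩, Opens.mem_iSup.2 ⟨⟨⟨W, hW⟩, hUW, hWV⟩, hxU⟩⟩
    · rintro U ⟨W, hUW, hWV⟩ hUV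
      obtain ⟨n, k, β', χ, hβ', hχ, hiff⟩ := key U W V hUW hWV hUV
      exact ⟨n + k, χ, hχ, hiff.1 (hE' U W hUW _ β' hβ')⟩

end Main

section FlatLFP

variable {X T S : Scheme.{u}}

/-- a flat morphism locally of finite presentation is `n`-pseudo-coherent for every `n`. -/
theorem isNPseudoCoherent_of_flat_lfp (b : T ⟶ S) [Flat b] [LocallyOfFinitePresentation b]
    (n : ℤ) : DerSch.IsNPseudoCoherent b n := by
  have h := (Groth.Agent.Lib.Helper28.RelPCRing.hasPerfDimLE_zero_iff b).2 ⟨inferInstance, inferInstance⟩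
  exact h.1 n

/-- **S7226**. -/
theorem isPseudoCoherentRel_comp_iff_of_flat_lfp (a : X ⟶ T) (b : T ⟶ S)
    [LocallyOfFiniteType a] [Flat b] [LocallyOfFinitePresentation b] (m : ℤ) (E : DCoh.D X) :
    DerSch.IsPseudoCoherentRel (a ≫ b) m E ↔ DerSch.IsPseudoCoherentRel a m E :=
  isPseudoCoherentRel_comp_iff_of_pseudoCoherent a b (isNPseudoCoherent_of_flat_lfp b) m E

end FlatLFP

end Groth.Agent.Lib.Helper28.RelPCFlatBase
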