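import Groth.Agent.Lib.Helper30.AffinePush.FinitePush
import Groth.Agent.Lib.Helper11.PullbackChart
import Groth.Agent.Lib.Helper49.FiniteTypeAffine

set_option autoImplicit false
universe u
open CategoryTheory CategoryTheory.Limits AlgebraicGeometry TopologicalSpace Opposite
attribute [local instance] HasDerivedCategory.standard

namespace Groth.Agent.Lib.Helper28.SecChart

open Groth.Agent.Lib.Helper30.AffinePush Groth.Agent.Lib.Helper30.PerfRestrict
  Groth.Agent.Lib.Helper11.PullbackChart

variable {X : Scheme.{u}} {U : X.Opens} (hU : IsAffineOpen U)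

instance additive_Γ (R : CommRingCat.{u}) : (moduleSpecΓFunctor (R := R)).Additive :=
  (tilde.adjunction (R := R)).right_adjoint_additive

instance additive_ΓU : (ΓU hU).Additive where
  map_add {M N f g} := by
    show (moduleSpecΓFunctor (R := Γ(X, U))).map
      ((Scheme.Modules.restrictFunctor hU.fromSpec).map (f + g)) = _
    rw [Functor.map_add, Functor.map_add]
    rfl

/-- the complex of sections over `U`, as a complex of `Γ(X, U)`-modules. -/
noncomputable abbrev secCx : CochainComplex X.Modules ℤ ⥤ DRing.Cx Γ(X, U) :=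
  (ΓU hU).mapHomologicalComplex (ComplexShape.up ℤ)

/-- `M(U)~ ≅ M|_U`. -/
noncomputable def tildeSecIso (M : X.Modules) [M.IsQuasicoherent] :
    (tilde.functor Γ(X, U)).obj ((ΓU hU).obj M) ≅
      (Scheme.Modules.restrictFunctor hU.fromSpec).obj M := by
  have : ((Scheme.Modules.restrictFunctor hU.fromSpec).obj M).IsQuasicoherent :=
    Scheme.Modules.isQuasicoherent_restrictFunctor _ _
  have h := Scheme.Modules.isIso_fromTildeΓ_of_isQuasicoherent
    ((Scheme.Modules.restrictFunctor hU.fromSpec).obj M)
  exact @asIso _ _ _ _ (Scheme.Modules.fromTildeΓ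
    ((Scheme.Modules.restrictFunctor hU.fromSpec).obj M)) h

lemma tildeSecIso_hom (M : X.Modules) [M.IsQuasicoherent] :
    (tildeSecIso hU M).hom = Scheme.Modules.fromTildeΓNatTrans.app
      ((Scheme.Modules.restrictFunctor hU.fromSpec).obj M) := rfl

/-- termwise `M(U)~ ≅ M|_U`. -/
noncomputable def tildeSecCxIso (G : CochainComplex X.Modules ℤ)
    (hG : ∀ n : ℤ, (G.X n).IsQuasicoherent) :
    ((tilde.functor Γ(X, U)).mapHomologicalComplex (ComplexShape.up ℤ)).obj ((secCx hU).obj G) ≅
      ((Scheme.Modules.restrictFunctor hU.fromSpec).mapHomologicalComplex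
        (ComplexShape.up ℤ)).obj G :=
  HomologicalComplex.Hom.isoOfComponents
    (fun n => by
      have := hG n
      exact tildeSecIso hU (G.X n))
    (fun i j _ => by
      dsimp
      have := hG i
      have := hG j
      rw [tildeSecIso_hom, tildeSecIso_hom]
      exact (Scheme.Modules.fromTildeΓNatTrans.naturality
        ((Scheme.Modules.restrictFunctor hU.fromSpec).map (G.d i j))).symm)

/-- **the chart of a complex of quasi-coherent modules is the tilde of its complex of sections.** -/
noncomputable def chartSecIso (G : CochainComplex X.Modules ℤ)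
    (hG : ∀ n : ℤ, (G.X n).IsQuasicoherent) :
    chartObj hU (DCoh.toD X G) ≅
      (DCoh.tildeD Γ(X, U)).obj (DRing.toD ((secCx hU).obj G)) :=
  chartIso hU _ ≪≫ (rDQ hU.fromSpec).app G ≪≫
    DerivedCategory.Q.mapIso (tildeSecCxIso hU G hG).symm ≪≫
    ((tilde.functor Γ(X, U)).mapDerivedCategoryFactors.app ((secCx hU).obj G)).symm

/-- the complex of sections of a module in degree `0`. -/
noncomputable def secCxSingleIso (M : X.Modules) :
    (secCx hU).obj ((HomologicalComplex.single X.Modules (ComplexShape.up ℤ) 0).obj M) ≅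
      (HomologicalComplex.single (ModuleCat.{u} Γ(X, U)) (ComplexShape.up ℤ) 0).obj
        ((ΓU hU).obj M) :=
  (HomologicalComplex.singleMapHomologicalComplex (ΓU hU) (ComplexShape.up ℤ) 0).app M

lemma isQuasicoherent_single_X (M : X.Modules) [M.IsQuasicoherent] (n : ℤ) :
    (((HomologicalComplex.single X.Modules (ComplexShape.up ℤ) 0).obj M).X n).IsQuasicoherent := by
  by_cases hn : n = 0
  · subst hn
    exact Groth.Agent.Lib.Helper49.isQuasicoherent_of_iso
      (HomologicalComplex.singleObjXSelf (ComplexShape.up ℤ) 0 M).symm inferInstance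
  · exact Groth.Agent.Lib.Helper1.isQuasicoherent_of_isZero _
      (HomologicalComplex.isZero_single_obj_X (ComplexShape.up ℤ) 0 _ n hn)

/-- the chart of a quasi-coherent module in degree `0`. -/
noncomputable def chartSecSingleIso (M : X.Modules) [M.IsQuasicoherent] :
    chartObj hU (DCoh.toD X ((HomologicalComplex.single X.Modules (ComplexShape.up ℤ) 0).obj M)) ≅
      (DCoh.tildeD Γ(X, U)).obj
        ((DerivedCategory.singleFunctor (ModuleCat.{u} Γ(X, U)) 0).obj ((ΓU hU).obj M)) :=
  chartSecIso hU _ (isQuasicoherent_single_X M) ≪≫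
    (DCoh.tildeD Γ(X, U)).mapIso (DerivedCategory.Q.mapIso (secCxSingleIso hU M) ≪≫
      ((DerivedCategory.singleFunctorIsoCompQ (ModuleCat.{u} Γ(X, U)) 0).app _).symm)

/-- the sections module `(ΓU hU).obj M` is `Γ(M, U)`. -/
noncomputable def ΓUEquiv (M : X.Modules) : ((ΓU hU).obj M) ≃ₗ[Γ(X, U)] Γ(M, U) :=
  Groth.Agent.Lib.Helper49.sectionsFromSpecTopEquiv hU M

end Groth.Agent.Lib.Helper28.SecChart
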