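import Groth.Agent.Lib.Helper28.RelPCFlat
import Groth.Agent.Lib.Helper28.SecChart
import Groth.Agent.Lib.Helper28.ClosedPushQCoh
import Groth.Agent.Lib.Helper12.FlatOverSections

/-!
# Modules pseudo-coherent relative to a morphism (helper28)

`isRelPseudoCoherent_single_of_flat`, `isQuasicoherent_of_relPC_single`,
`isPseudoCoherentRel_single_iff`, `hasTorAmplitude_single_iff`, `flat_ΓU_of_isFlatOver`,
`hasPerfAmplitudeRel_single_iff` (= S6213).
-/

set_option autoImplicit false
set_option linter.style.haveILetI false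
universe u
open CategoryTheory CategoryTheory.Limits AlgebraicGeometry TopologicalSpace Opposite
attribute [local instance] HasDerivedCategory.standard

namespace Groth.Agent.Lib.Helper28.RelPCRing

open Groth.Agent.Lib.Helper30.RelPCLoc Groth.Agent.Lib.Helper30.AffinePush Groth.Agent.Lib.Helper6
  Groth.Agent.Lib.Helper28.SecChart Groth.Agent.Lib.Helper11.PullbackChart

section Alg

variable {R A : Type u} [CommRing R] [CommRing A] [Algebra R A]

/-- a module finitely presented relative to `R` and flat over `R` is pseudo-coherent relative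
to `R`. -/
theorem isRelPseudoCoherent_single_of_flat (N : ModuleCat.{u} A)
    (hfl : Module.Flat R ((ModuleCat.restrictScalars.{u} (algebraMap R A)).obj N))
    (h : DerCA.IsRelPseudoCoherent R A (-1)
      ((DerivedCategory.singleFunctor (ModuleCat.{u} A) 0).obj N)) (m : ℤ) :
    DerCA.IsRelPseudoCoherent R A m
      ((DerivedCategory.singleFunctor (ModuleCat.{u} A) 0).obj N) := by
  obtain ⟨n, α, hα, hvia⟩ := h
  refine ⟨n, α, hα, ?_⟩
  have h1 := (isPC_restrictD_single_iff (α : MvPolynomial (Fin n) R →+* A) N (-1)).1 hvia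
  haveI h2 : Module.FinitePresentation (MvPolynomial (Fin n) R)
      ((ModuleCat.restrictScalars.{u} (α : MvPolynomial (Fin n) R →+* A)).obj N) :=
    MPC.fp_of_isPC_neg_one_single _ h1
  have h3 : Module.Flat R ((ModuleCat.restrictScalars.{u} (algebraMap R (MvPolynomial (Fin n) R))).obj
      ((ModuleCat.restrictScalars.{u} (α : MvPolynomial (Fin n) R →+* A)).obj N)) := by
    let E : ((ModuleCat.restrictScalars.{u} (algebraMap R A)).obj N) ≃ₗ[R]
        ((ModuleCat.restrictScalars.{u} (algebraMap R (MvPolynomial (Fin n) R))).obj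
          ((ModuleCat.restrictScalars.{u} (α : MvPolynomial (Fin n) R →+* A)).obj N)) :=
      { toFun := fun x => x
        invFun := fun x => x
        map_add' := fun _ _ => rfl
        map_smul' := fun r x => by
          show (algebraMap R A r) • (x : N) = (α (algebraMap R (MvPolynomial (Fin n) R) r)) • (x : N)
          rw [α.commutes r]
        left_inv := fun _ => rfl
        right_inv := fun _ => rfl }
    exact Module.Flat.of_linearEquiv E.symm
  have h4 := FlatPC.allPC_of_fp_of_flat_restr R (MvPolynomial (Fin n) R) _ h3 m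
  exact (isPC_restrictD_single_iff (α : MvPolynomial (Fin n) R →+* A) N m).2 h4

end Alg

section Mod

variable {X S : Scheme.{u}} (f : X ⟶ S)

/-- shorthand: a module in degree `0` as a complex. -/
noncomputable abbrev sCx (M : X.Modules) : CochainComplex X.Modules ℤ :=
  (HomologicalComplex.single X.Modules (ComplexShape.up ℤ) 0).obj M

/-- `H^0(M[0]) = M`. -/
noncomputable def HDSingleIso (M : X.Modules) : DCoh.HD (DCoh.toD X (sCx M)) 0 ≅ M :=
  (DerivedCategory.homologyFunctorFactors X.Modules 0).app (sCx M) ≪≫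
    HomologicalComplex.singleObjHomologySelfIso (ComplexShape.up ℤ) 0 M

/-- a module `(-1)`-pseudo-coherent relative to `f` is quasi-coherent. -/
theorem isQuasicoherent_of_relPC_single (M : X.Modules)
    (h : DerSch.IsPseudoCoherentRel f (-1) (DCoh.toD X (sCx M))) : M.IsQuasicoherent :=
  Groth.Agent.Lib.Helper49.isQuasicoherent_of_iso (HDSingleIso M)
    (Groth.Agent.Lib.Helper28.ClosedPushQCoh.isQuasicoherent_HD_of_isPseudoCoherentRel f (-1) _ h 0
      (by norm_num))

/-- relative pseudo-coherence of a quasi-coherent module, in ring terms. -/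
theorem isPseudoCoherentRel_single_iff [LocallyOfFiniteType f] (M : X.Modules) [M.IsQuasicoherent]
    (m : ℤ) :
    DerSch.IsPseudoCoherentRel f m (DCoh.toD X (sCx M)) ↔
      ∀ (U : X.affineOpens) (V : S.affineOpens) (h : (U : X.Opens) ≤ f ⁻¹ᵁ (V : S.Opens)),
        @DerCA.IsRelPseudoCoherent Γ(S, (V : S.Opens)) Γ(X, (U : X.Opens)) _ _
          (f.appLE (V : S.Opens) (U : X.Opens) h).hom.toAlgebra m
          ((DerivedCategory.singleFunctor (ModuleCat.{u} Γ(X, (U : X.Opens))) 0).obj
            ((ΓU U.2).obj M)) :=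
  isPseudoCoherentRel_iff_of_charts f _
    (isQCohD_Q_of_termwise _ (isQuasicoherent_single_X M)) _
    (fun U => chartSecSingleIso U.2 M) m

/-- the complex of stalks of `M[0]`. -/
noncomputable def stalkSingleIso (M : X.Modules) (x : X) :
    DRing.toD ((DerSch.stalkCxOver f x).obj (sCx M)) ≅
      (DerivedCategory.singleFunctor (ModuleCat.{u} (S.presheaf.stalk (f.base x))) 0).obj
        ((DerSch.stalkOver f x).obj M) :=
  DerivedCategory.Q.mapIso
      ((HomologicalComplex.singleMapHomologicalComplex (DerSch.stalkOver f x)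
        (ComplexShape.up ℤ) 0).app M) ≪≫
    ((DerivedCategory.singleFunctorIsoCompQ _ 0).app _).symm

theorem hasTorAmplitudeAt_single_iff (M : X.Modules) (x : X) :
    DerSch.HasTorAmplitudeAt f 0 0 (sCx M) x ↔ FlatMod.IsFlatOverAt f M x := by
  constructor
  · intro h
    have h1 := Groth.Agent.Lib.Helper35.TA.TAmp.of_iso h (stalkSingleIso f M x)
    exact Groth.Agent.Lib.Helper35.TA.flat_of_TAmp_zero _ h1
  · intro h
    have h' : Module.Flat (S.presheaf.stalk (f.base x)) ((DerSch.stalkOver f x).obj M) := h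
    have h1 := Groth.Agent.Lib.Helper35.TA.TAmp_zero_of_flat ((DerSch.stalkOver f x).obj M)
    exact Groth.Agent.Lib.Helper35.TA.TAmp.of_iso h1 (stalkSingleIso f M x).symm

theorem hasTorAmplitude_single_iff (M : X.Modules) :
    DerSch.HasTorAmplitude f 0 0 (sCx M) ↔ FlatMod.IsFlatOver f M :=
  forall_congr' fun x => hasTorAmplitudeAt_single_iff f M x

/-- sections of a quasi-coherent module flat over the base are flat over the base ring. -/
theorem flat_ΓU_of_isFlatOver (M : X.Modules) [M.IsQuasicoherent] (hfl : FlatMod.IsFlatOver f M)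
    (U : X.affineOpens) (V : S.affineOpens) (h : (U : X.Opens) ≤ f ⁻¹ᵁ (V : S.Opens)) :
    letI := (f.appLE (V : S.Opens) (U : X.Opens) h).hom.toAlgebra
    Module.Flat Γ(S, (V : S.Opens)) ((ModuleCat.restrictScalars.{u}
      (algebraMap Γ(S, (V : S.Opens)) Γ(X, (U : X.Opens)))).obj ((ΓU U.2).obj M)) := by
  letI := (f.appLE (V : S.Opens) (U : X.Opens) h).hom.toAlgebra
  have h1 := Groth.Agent.Lib.Helper12.FlatOver.flat_sections_of_isFlatOverAt f M V.2 U.2 h
    (fun x => hfl x)
  letI : Module Γ(S, (V : S.Opens)) Γ(M, (U : X.Opens)) :=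
    Module.compHom _ (f.appLE (V : S.Opens) (U : X.Opens) h).hom
  let E : ((ModuleCat.restrictScalars.{u}
      (algebraMap Γ(S, (V : S.Opens)) Γ(X, (U : X.Opens)))).obj ((ΓU U.2).obj M)) ≃ₗ[Γ(S, (V : S.Opens))]
      Γ(M, (U : X.Opens)) :=
    { toFun := fun x => ΓUEquiv U.2 M x
      invFun := fun y => (ΓUEquiv U.2 M).symm y
      map_add' := fun a b => map_add (ΓUEquiv U.2 M) a b
      map_smul' := fun r a => (ΓUEquiv U.2 M).map_smul
        (algebraMap Γ(S, (V : S.Opens)) Γ(X, (U : X.Opens)) r) a
      left_inv := fun a => (ΓUEquiv U.2 M).symm_apply_apply a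
      right_inv := fun a => (ΓUEquiv U.2 M).apply_symm_apply a }
  exact Module.Flat.of_linearEquiv E

/-- **perfect amplitude `[0, 0]` relative to `f` for a module.** -/
theorem hasPerfAmplitudeRel_single_iff [LocallyOfFiniteType f] (M : X.Modules) :
    DerSch.HasPerfAmplitudeRel f 0 0 (sCx M) ↔
      (FlatMod.IsFlatOver f M ∧ DerSch.IsPseudoCoherentRel f (-1) (DCoh.toD X (sCx M))) := by
  constructor
  · rintro ⟨hpc, hta⟩
    exact ⟨(hasTorAmplitude_single_iff f M).1 hta, hpc (-1)⟩
  · rintro ⟨hfl, hpc⟩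
    haveI := isQuasicoherent_of_relPC_single f M hpc
    refine ⟨fun m => ?_, (hasTorAmplitude_single_iff f M).2 hfl⟩
    rw [isPseudoCoherentRel_single_iff] at hpc ⊢
    intro U V h
    letI := (f.appLE (V : S.Opens) (U : X.Opens) h).hom.toAlgebra
    exact isRelPseudoCoherent_single_of_flat _ (flat_ΓU_of_isFlatOver f M hfl U V h) (hpc U V h) m

end Mod

end Groth.Agent.Lib.Helper28.RelPCRing
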