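import Groth.Agent.Lib.Helper28.ClosedPCChart
import Groth.Agent.Lib.Helper28.RelPCMod
import Groth.Agent.Lib.Helper51.RelFPSch
import Groth.Agent.S6518

/-!
# Relative pseudo-coherence of a module placed in degree `0` (helper28)

For `f : X ⟶ S` locally of finite type and an `O_X`-module `M`:
* `isPseudoCoherentRel_single_of_pos`: `M[0]` is `m`-pseudo-coherent relative to `f` for `m > 0`;
* `isPseudoCoherentRel_single_zero_iff`: `0`-pseudo-coherent relative to `f` iff of finite type;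
* `isPseudoCoherentRel_single_neg_one_iff`: `(-1)`-pseudo-coherent relative to `f` iff
  quasi-coherent and finitely presented relative to `f`.
-/

set_option autoImplicit false
universe u
open CategoryTheory CategoryTheory.Limits AlgebraicGeometry TopologicalSpace Opposite
attribute [local instance] HasDerivedCategory.standard

namespace Groth.Agent.Lib.Helper28.RelPCSingle

open Scheme.Modules Groth.Agent.Lib.Helper30.ClosedPC Groth.Agent.Lib.Helper30.PerfRestrict
  Groth.Agent.Lib.Helper30.PCTriangle Groth.Agent.Lib.Helper30.PCNoeth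
  Groth.Agent.Lib.Helper30.SinglePC
  Groth.Agent.Lib.Helper28.ClosedPush Groth.Agent.Lib.Helper6
  Groth.Agent.Lib.Helper28.ClosedPCChart Groth.Agent.Lib.Helper28.RelPCAbs
  Groth.Agent.Lib.Helper28.RelPCRing
  Groth.Agent.Lib.Helper28.SecChart Groth.Agent.Lib.Helper11.PullbackChart

section Iso

variable {X S : Scheme.{u}} (f : X ⟶ S)

lemma chartPC_of_iso {m : ℤ} {K K' : DCoh.D X} (e : K ≅ K') {U : X.Opens} {V : S.Opens} {n : ℕ}
    {φ : MvPolynomial (Fin n) Γ(S, V) →+* Γ(X, U)} (h : DerSch.ChartPC m K U V φ) :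
    DerSch.ChartPC m K' U V φ := fun G ⟨eG⟩ => h G ⟨eG ≪≫ e.symm⟩

lemma isPseudoCoherentRel_of_iso {m : ℤ} {K K' : DCoh.D X} (e : K ≅ K')
    (h : DerSch.IsPseudoCoherentRel f m K) : DerSch.IsPseudoCoherentRel f m K' := by
  obtain ⟨hft, 𝒱, h𝒱, H⟩ := h
  refine ⟨hft, 𝒱, h𝒱, fun V hV => ?_⟩
  obtain ⟨𝒰, h𝒰, HU⟩ := H V hV
  refine ⟨𝒰, h𝒰, fun U hU hUV => ?_⟩
  obtain ⟨n, φ, hφ, hpc⟩ := HU U hU hUV
  exact ⟨n, φ, hφ, chartPC_of_iso e hpc⟩

/-- charts exist for morphisms locally of finite type. -/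
lemma exists_isChart [LocallyOfFiniteType f] (U : X.affineOpens) (V : S.affineOpens)
    (h : (U : X.Opens) ≤ f ⁻¹ᵁ (V : S.Opens)) :
    ∃ (n : ℕ) (φ : MvPolynomial (Fin n) Γ(S, (V : S.Opens)) →+* Γ(X, (U : X.Opens))),
      DerSch.IsChart f (U : X.Opens) (V : S.Opens) h φ := by
  let _ : Algebra Γ(S, (V : S.Opens)) Γ(X, (U : X.Opens)) :=
    (f.appLE (V : S.Opens) (U : X.Opens) h).hom.toAlgebra
  have hft : Algebra.FiniteType Γ(S, (V : S.Opens)) Γ(X, (U : X.Opens)) :=
    Groth.Agent.Lib.Helper30.RelPCLoc.finiteType_appLE U.2 V.2 h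
  obtain ⟨n, α, hα⟩ := (Algebra.FiniteType.iff_quotient_mvPolynomial''
    (R := Γ(S, (V : S.Opens))) (S := Γ(X, (U : X.Opens)))).1 hft
  refine ⟨n, (α : MvPolynomial (Fin n) Γ(S, (V : S.Opens)) →+* Γ(X, (U : X.Opens))), hα, ?_⟩
  ext r
  exact α.commutes r

end Iso

section Main

variable {X S : Scheme.{u}} (f : X ⟶ S) [LocallyOfFiniteType f] (M : X.Modules)

theorem isPseudoCoherentRel_single_of_pos (m : ℤ) (hm : 0 < m) :
    DerSch.IsPseudoCoherentRel f m (DCoh.inD X M) := by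
  apply isPseudoCoherentRel_of_forall_chart
  intro U V h
  obtain ⟨n, φ, hφ⟩ := exists_isChart f U V h
  refine ⟨n, φ, hφ, ?_⟩
  rw [chartPC_iff_of_le (DCoh.inD X M) 0 m hm.le U.2 (V : S.Opens) φ hφ.1]
  have : ((rD (U : X.Opens).ι).obj (DCoh.inD X M)).IsLE 0 := ExactDC.isLE_obj _ 0
  exact isPseudoCoherentD_of_isLE _ 0 m hm

theorem isPseudoCoherentRel_single_zero_iff :
    DerSch.IsPseudoCoherentRel f 0 (DCoh.inD X M) ↔ CohB1.IsFT M := by
  constructor
  · rintro ⟨-, 𝒱, h𝒱, H⟩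
    have key : ∀ x : X, ∃ U : X.Opens, x ∈ U ∧ CohB1.IsFT (M.restrict U.ι) := by
      intro x
      have hfx : f x ∈ (⨆ V ∈ 𝒱, (V : S.Opens)) := by rw [h𝒱]; trivial
      obtain ⟨V, hfx'⟩ := Opens.mem_iSup.1 hfx
      obtain ⟨hVmem, hfxV⟩ := Opens.mem_iSup.1 hfx'
      obtain ⟨𝒰, h𝒰, HU⟩ := H V hVmem
      have hx' : x ∈ (⨆ U ∈ 𝒰, (U : X.Opens)) := by rw [h𝒰]; exact hfxV
      obtain ⟨U, hx''⟩ := Opens.mem_iSup.1 hx'
      obtain ⟨hUmem, hxU⟩ := Opens.mem_iSup.1 hx''
      have hUV : (U : X.Opens) ≤ f ⁻¹ᵁ (V : S.Opens) := by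
        rw [← h𝒰]
        exact le_iSup₂ (f := fun (U : X.affineOpens) (_ : U ∈ 𝒰) => (U : X.Opens)) U hUmem
      obtain ⟨n, φ, hφ, hpc⟩ := HU U hUmem hUV
      rw [chartPC_iff_of_le (DCoh.inD X M) 0 0 le_rfl U.2 (V : S.Opens) φ hφ.1] at hpc
      refine ⟨U, hxU, ?_⟩
      exact (Groth.Agent.S6518.result _).1.1
        (isPseudoCoherentD_of_iso (restrictSingleIso (U : X.Opens).ι M) 0 hpc)
    choose U hxU hU using key
    exact Groth.Agent.Lib.Helper49.isFiniteType_of_forall_restrict M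
      (fun x : X => ((U x : X.Opens) : Scheme.{u})) (fun x => (U x).ι)
      (fun x => ⟨x, ⟨⟨x, hxU x⟩, rfl⟩⟩) hU
  · intro hM
    apply isPseudoCoherentRel_of_forall_chart
    intro U V h
    obtain ⟨n, φ, hφ⟩ := exists_isChart f U V h
    refine ⟨n, φ, hφ, ?_⟩
    rw [chartPC_iff_of_le (DCoh.inD X M) 0 0 le_rfl U.2 (V : S.Opens) φ hφ.1]
    exact isPseudoCoherentD_of_iso (restrictSingleIso (U : X.Opens).ι M).symm 0
      ((Groth.Agent.S6518.result _).1.2
        (Groth.Agent.Lib.Helper49.isFiniteType_restrict M (U : X.Opens).ι hM))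

end Main

section Ring

variable {R A : Type u} [CommRing R] [CommRing A] [Algebra R A]

/-- a module in degree `0` is `(-1)`-pseudo-coherent relative to `R` iff it is finitely presented
relative to `R`. -/
theorem relPC_neg_one_single_iff_relFP (N : ModuleCat.{u} A) :
    DerCA.IsRelPseudoCoherent R A (-1)
        ((DerivedCategory.singleFunctor (ModuleCat.{u} A) 0).obj N) ↔
      FlatCA.RelFinitePresentation R A N := by
  constructor
  · rintro ⟨n, α, hα, hvia⟩
    have h1 := (isPC_restrictD_single_iff (α : MvPolynomial (Fin n) R →+* A) N (-1)).1 hvia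
    have h2 := MPC.fp_of_isPC_neg_one_single _ h1
    exact ⟨n, α, hα, h2⟩
  · rintro ⟨n, α, hα, h2⟩
    refine ⟨n, α, hα, ?_⟩
    have h2' : Module.FinitePresentation (MvPolynomial (Fin n) R)
        ((ModuleCat.restrictScalars.{u} (α : MvPolynomial (Fin n) R →+* A)).obj N) := h2
    exact (isPC_restrictD_single_iff (α : MvPolynomial (Fin n) R →+* A) N (-1)).2
      (MPC.isPC_neg_one_single_of_fp _)

end Ring

section NegOne

variable {X S : Scheme.{u}} (f : X ⟶ S) [LocallyOfFiniteType f] (M : X.Modules)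

/-- `M[0]` as a complex versus as an object of `D(O_X)`. -/
noncomputable def singleIso : DCoh.toD X (sCx M) ≅ DCoh.inD X M :=
  ((DerivedCategory.singleFunctorIsoCompQ X.Modules 0).app M).symm

lemma relFPOn_iff_relPC [M.IsQuasicoherent] (U : X.affineOpens) (V : S.affineOpens)
    (h : (U : X.Opens) ≤ f ⁻¹ᵁ (V : S.Opens)) :
    Flatn.RelFPOn f M U V h ↔
      @DerCA.IsRelPseudoCoherent Γ(S, (V : S.Opens)) Γ(X, (U : X.Opens)) _ _
        (f.appLE (V : S.Opens) (U : X.Opens) h).hom.toAlgebra (-1)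
        ((DerivedCategory.singleFunctor (ModuleCat.{u} Γ(X, (U : X.Opens))) 0).obj
          ((ΓU U.2).obj M)) := by
  let _ : Algebra Γ(S, (V : S.Opens)) Γ(X, (U : X.Opens)) :=
    (f.appLE (V : S.Opens) (U : X.Opens) h).hom.toAlgebra
  rw [relPC_neg_one_single_iff_relFP]
  have e := ΓUEquiv U.2 M
  constructor
  · intro h1
    exact Groth.Agent.Lib.Helper51.RelFPRing.relFP_of_equiv (R := Γ(S, (V : S.Opens)))
      (A := Γ(X, (U : X.Opens))) (B := Γ(X, (U : X.Opens))) AlgEquiv.refl e.symm.toAddEquiv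
      (fun a m => e.symm.map_smul a m) h1
  · intro h1
    exact Groth.Agent.Lib.Helper51.RelFPRing.relFP_of_equiv (R := Γ(S, (V : S.Opens)))
      (A := Γ(X, (U : X.Opens))) (B := Γ(X, (U : X.Opens))) AlgEquiv.refl e.toAddEquiv
      (fun a m => e.map_smul a m) h1

theorem isPseudoCoherentRel_single_neg_one_iff :
    DerSch.IsPseudoCoherentRel f (-1) (DCoh.inD X M) ↔ (Coh.IsQCoh M ∧ Flatn.IsRelFP f M) := by
  constructor
  · intro h
    have h' : DerSch.IsPseudoCoherentRel f (-1) (DCoh.toD X (sCx M)) :=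
      isPseudoCoherentRel_of_iso f (singleIso M).symm h
    have hq : M.IsQuasicoherent := isQuasicoherent_of_relPC_single f M h'
    refine ⟨hq, ?_⟩
    rw [Groth.Agent.Lib.Helper51.RelFPSch.isRelFP_iff]
    intro U V hUV
    rw [relFPOn_iff_relPC]
    exact (isPseudoCoherentRel_single_iff f M (-1)).1 h' U V hUV
  · rintro ⟨hq, hfp⟩
    have hq' : M.IsQuasicoherent := hq
    rw [Groth.Agent.Lib.Helper51.RelFPSch.isRelFP_iff] at hfp
    refine isPseudoCoherentRel_of_iso f (singleIso M) ?_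
    rw [isPseudoCoherentRel_single_iff f M (-1)]
    intro U V hUV
    rw [← relFPOn_iff_relPC]
    exact hfp U V hUV

end NegOne

end Groth.Agent.Lib.Helper28.RelPCSingle
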