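import Groth.Agent.S7208
import Groth.Agent.Lib.Helper28.RelPCSingle

/-!
# Relative pseudo-coherence of general objects: consequences of chart independence (helper28)

* `isPseudoCoherentRel_iff_forall_chartPC`: relative `m`-pseudo-coherence iff the chart test holds
  for every chart on every pair of affine opens (helper30's S7208 + S7207).
* `isPseudoCoherentRel_distTriang`: the triangle lemma.
-/

set_option autoImplicit false
universe u
open CategoryTheory CategoryTheory.Limits AlgebraicGeometry TopologicalSpace Opposite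
  Pretriangulated
attribute [local instance] HasDerivedCategory.standard

namespace Groth.Agent.Lib.Helper28.RelPCGen

open Scheme.Modules Groth.Agent.Lib.Helper30.ClosedPC Groth.Agent.Lib.Helper30.PerfRestrict
  Groth.Agent.Lib.Helper30.PCTriangle Groth.Agent.Lib.Helper28.ClosedPush
  Groth.Agent.Lib.Helper28.RelPCAbs

variable {X S : Scheme.{u}} (f : X ⟶ S) [LocallyOfFiniteType f]

theorem isPseudoCoherentRel_iff_forall_chartPC (m : ℤ) (E : DCoh.D X) :
    DerSch.IsPseudoCoherentRel f m E ↔
      ∀ (U : X.affineOpens) (V : S.affineOpens) (h : (U : X.Opens) ≤ f ⁻¹ᵁ (V : S.Opens))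
        (n : ℕ) (φ : MvPolynomial (Fin n) Γ(S, (V : S.Opens)) →+* Γ(X, (U : X.Opens))),
        DerSch.IsChart f (U : X.Opens) (V : S.Opens) h φ →
          DerSch.ChartPC m E (U : X.Opens) (V : S.Opens) φ := by
  constructor
  · intro hrel U V h n φ hφ
    exact (relPCAt_of_isPseudoCoherentRel hrel U.2 V.2 h).chartPC U.2 φ hφ
  · intro H
    apply isPseudoCoherentRel_of_forall_chart
    intro U V h
    obtain ⟨n, φ, hφ⟩ := Groth.Agent.Lib.Helper28.RelPCSingle.exists_isChart f U V h
    exact ⟨n, φ, hφ, H U V h n φ hφ⟩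

/-- the chart test along a fixed chart, for the three vertices of a distinguished triangle. -/
theorem chartPC_distTriang {U : X.Opens} (hU : IsAffineOpen U) (V : S.Opens) {k : ℕ}
    (φ : MvPolynomial (Fin k) Γ(S, V) →+* Γ(X, U)) (hφ : Function.Surjective φ) (n : ℤ)
    (T : Triangle (DCoh.D X)) (hT : T ∈ distinguishedTriangles) :
    (DerSch.ChartPC (n + 1) T.obj₁ U V φ → DerSch.ChartPC n T.obj₂ U V φ →
        DerSch.ChartPC n T.obj₃ U V φ) ∧
      (DerSch.ChartPC n T.obj₁ U V φ → DerSch.ChartPC n T.obj₃ U V φ →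
        DerSch.ChartPC n T.obj₂ U V φ) ∧
      (DerSch.ChartPC (n + 1) T.obj₂ U V φ → DerSch.ChartPC n T.obj₃ U V φ →
        DerSch.ChartPC (n + 1) T.obj₁ U V φ) := by
  have h1 : IsClosedImmersion (DerSch.chartImm U φ) := isClosedImmersion_chartImm hU φ hφ
  simp only [chartPC_iff]
  have hT' := (cD (DerSch.chartImm U φ)).map_distinguished _ ((rD U.ι).map_distinguished _ hT)
  exact Groth.Agent.S0889.result n _ hT'

theorem isPseudoCoherentRel_distTriang (n : ℤ) (T : Triangle (DCoh.D X))
    (hT : T ∈ distinguishedTriangles) :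
    (DerSch.IsPseudoCoherentRel f (n + 1) T.obj₁ → DerSch.IsPseudoCoherentRel f n T.obj₂ →
        DerSch.IsPseudoCoherentRel f n T.obj₃) ∧
      (DerSch.IsPseudoCoherentRel f n T.obj₁ → DerSch.IsPseudoCoherentRel f n T.obj₃ →
        DerSch.IsPseudoCoherentRel f n T.obj₂) ∧
      (DerSch.IsPseudoCoherentRel f n T.obj₂ → DerSch.IsPseudoCoherentRel f (n - 1) T.obj₃ →
        DerSch.IsPseudoCoherentRel f n T.obj₁) := by
  simp only [isPseudoCoherentRel_iff_forall_chartPC]
  refine ⟨fun h1 h2 U V h k φ hφ => ?_, fun h1 h3 U V h k φ hφ => ?_,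
    fun h2 h3 U V h k φ hφ => ?_⟩
  · exact (chartPC_distTriang U.2 (V : S.Opens) φ hφ.1 n T hT).1 (h1 U V h k φ hφ)
      (h2 U V h k φ hφ)
  · exact (chartPC_distTriang U.2 (V : S.Opens) φ hφ.1 n T hT).2.1 (h1 U V h k φ hφ)
      (h3 U V h k φ hφ)
  · have := (chartPC_distTriang U.2 (V : S.Opens) φ hφ.1 (n - 1) T hT).2.2
    rw [sub_add_cancel] at this
    exact this (h2 U V h k φ hφ) (h3 U V h k φ hφ)

end Groth.Agent.Lib.Helper28.RelPCGen
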