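import Groth.Agent.Lib.Helper28.RelPCRing

set_option autoImplicit false
universe u
open CategoryTheory CategoryTheory.Limits AlgebraicGeometry TopologicalSpace Opposite
attribute [local instance] HasDerivedCategory.standard

namespace Groth.Agent.Lib.Helper28.RelPCRing

open Groth.Agent.Lib.Helper30.RelPCLoc Groth.Agent.Lib.Helper30.AffinePush

variable {X S : Scheme.{u}} {f : X ⟶ S} {E : DCoh.D X} {m : ℤ}

/-- ring-level relative pseudo-coherence on all affine pairs follows from the same on affine pairs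
around every point. -/
theorem relPCOn_of_local [LocallyOfFiniteType f] (hE : DCoh.IsQCohD E)
    (hloc : ∀ x : X, ∃ (U' : X.affineOpens) (V' : S.affineOpens)
      (h' : (U' : X.Opens) ≤ f ⁻¹ᵁ (V' : S.Opens)), x ∈ (U' : X.Opens) ∧
        RelPCOn f E m U' U'.2 V' h')
    {U : X.Opens} (hU : IsAffineOpen U)
    {V : S.Opens} (hV : IsAffineOpen V) (h : U ≤ f ⁻¹ᵁ V) : RelPCOn f E m U hU V h := by
  apply relPCOn_of_basicOpen_cover hU hV h
  intro x hxU
  obtain ⟨U', V', hU'V', hxU', r1⟩ := hloc x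
  have hfxV' : f x ∈ (V' : S.Opens) := hU'V' hxU'
  obtain ⟨b, b', hbb', hfxb⟩ := exists_basicOpen_le_affine_inter hV V'.2 (f x) ⟨h hxU, hfxV'⟩
  let a' : Γ(X, (U' : X.Opens)) := f.appLE V' U' hU'V' b'
  have ha' : X.basicOpen a' = (U' : X.Opens) ⊓ f ⁻¹ᵁ (S.basicOpen b') :=
    Scheme.basicOpen_appLE f U' V' hU'V' b'
  have hU₁ : IsAffineOpen (X.basicOpen a') := U'.2.basicOpen a'
  have r2 := relPCOn_basicOpen hE U'.2 V'.2 hU'V' r1 a'
  have hU₁b' : X.basicOpen a' ≤ f ⁻¹ᵁ (S.basicOpen b') := by rw [ha']; exact inf_le_right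
  have r3 : RelPCOn f E m (X.basicOpen a') hU₁ (S.basicOpen b') hU₁b' :=
    (relPCOn_base_iff hU₁ V'.2 b' hU₁b').2 r2
  have hU₁b : X.basicOpen a' ≤ f ⁻¹ᵁ (S.basicOpen b) := by rw [hbb']; exact hU₁b'
  have r4 : RelPCOn f E m (X.basicOpen a') hU₁ (S.basicOpen b) hU₁b :=
    relPCOn_congr_base hbb'.symm r3
  have r5 := (relPCOn_base_iff hU₁ hV b hU₁b).1 r4
  have hxU₁ : x ∈ X.basicOpen a' := by
    rw [ha']
    refine ⟨hxU', ?_⟩
    show f x ∈ S.basicOpen b'
    rw [← hbb']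
    exact hfxb
  obtain ⟨g, g₁, hgg₁, hxg⟩ := exists_basicOpen_le_affine_inter hU hU₁ x ⟨hxU, hxU₁⟩
  have r6 := relPCOn_basicOpen hE hU₁ hV _ r5 g₁
  exact ⟨g, hxg, relPCOn_congr hgg₁.symm r6⟩

/-- chart-form relative pseudo-coherence from ring-level relative pseudo-coherence on affine pairs
around every point. -/
theorem isPseudoCoherentRel_of_local [LocallyOfFiniteType f] (hE : DCoh.IsQCohD E)
    (M : ∀ U : X.affineOpens, Dual.D Γ(X, (U : X.Opens)))
    (e : ∀ U : X.affineOpens, chartObj U.2 E ≅ (DCoh.tildeD Γ(X, (U : X.Opens))).obj (M U))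
    (hloc : ∀ x : X, ∃ (U' : X.affineOpens) (V' : S.affineOpens)
      (h' : (U' : X.Opens) ≤ f ⁻¹ᵁ (V' : S.Opens)), x ∈ (U' : X.Opens) ∧
        @DerCA.IsRelPseudoCoherent Γ(S, (V' : S.Opens)) Γ(X, (U' : X.Opens)) _ _
          (f.appLE (V' : S.Opens) (U' : X.Opens) h').hom.toAlgebra m (M U')) :
    DerSch.IsPseudoCoherentRel f m E := by
  rw [isPseudoCoherentRel_iff_of_charts f E hE M e m]
  intro U V h
  refine relPCOn_of_local hE (fun x => ?_) U.2 V.2 h (M U) ⟨e U⟩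
  obtain ⟨U', V', h', hx, hr⟩ := hloc x
  exact ⟨U', V', h', hx, relPCOn_of_exists (M U') (e U') hr⟩

end Groth.Agent.Lib.Helper28.RelPCRing
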