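import Groth.Agent.Lib.Helper28.RelPCGen
import Groth.Agent.Lib.Helper30.ClosedPC.BaseChange
import Groth.Agent.Lib.Helper30.RelTorRestrict

/-!
# Relative pseudo-coherence and opens of the source (helper28)

* `chartPC_transport`, `isChart_transport`: charts on an affine open `W` of an open subscheme `U` of
  `X` versus charts on its image `U.ι ''ᵁ W` in `X`.
* `isPseudoCoherentRel_restrict` (S6202): relative pseudo-coherence restricts to opens.
* `isPseudoCoherentRel_of_openCover` (S6203): relative pseudo-coherence is local on the source.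
-/
set_option autoImplicit false
universe u
open CategoryTheory CategoryTheory.Limits AlgebraicGeometry TopologicalSpace Opposite
  Pretriangulated
attribute [local instance] HasDerivedCategory.standard

namespace Groth.Agent.Lib.Helper28.RelPCOpen

open Scheme.Modules Groth.Agent.Lib.Helper30.ClosedPC Groth.Agent.Lib.Helper30.PerfRestrict
  Groth.Agent.Lib.Helper30.PCTriangle Groth.Agent.Lib.Helper28.ClosedPush
  Groth.Agent.Lib.Helper28.RelPCAbs Groth.Agent.Lib.Helper28.RelPCSingle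

variable {X Y : Scheme.{u}}

lemma pc_rD_id_iff {Z : Scheme.{u}} (M : DCoh.D Z) (m : ℤ) :
    DCoh.IsPseudoCoherentD m ((rD (𝟙 Z)).obj M) ↔ DCoh.IsPseudoCoherentD m M := by
  constructor
  · intro h
    apply Groth.Agent.Lib.Helper30.RelTorRestrict.isPseudoCoherentD_of_cover
    intro x
    exact ⟨Z, 𝟙 Z, inferInstance, ⟨x, rfl⟩, h⟩
  · intro h
    exact Groth.Agent.S0914.isPseudoCoherentD_restrict (𝟙 Z) m M h

lemma isoImage_hom_eq_resLE (U : X.Opens) (W : (U : Scheme.{u}).Opens) :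
    (U.ι.isoImage W).hom = U.ι.resLE (U.ι ''ᵁ W) W (U.ι.preimage_image_eq W).ge := by
  rw [← cancel_mono (U.ι ''ᵁ W).ι, Scheme.Hom.isoImage_hom_ι, Scheme.Hom.resLE_comp_ι]

lemma toSpecΓ_appIso (U : X.Opens) (W : (U : Scheme.{u}).Opens) :
    W.toSpecΓ ≫ Spec.map (U.ι.appIso W).hom = (U.ι.isoImage W).hom ≫ (U.ι ''ᵁ W).toSpecΓ := by
  rw [isoImage_hom_eq_resLE, Scheme.Hom.appIso_hom', Scheme.Opens.toSpecΓ_SpecMap_appLE]

theorem chartImm_transport (U : X.Opens) (W : (U : Scheme.{u}).Opens) {R : Type u} [CommRing R]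
    {n : ℕ} (φ : MvPolynomial (Fin n) R →+* Γ((U : Scheme.{u}), W)) :
    (U.ι.isoImage W).hom ≫ DerSch.chartImm (U.ι ''ᵁ W) ((U.ι.appIso W).inv.hom.comp φ) =
      DerSch.chartImm W φ := by
  unfold DerSch.chartImm
  have h1 : CommRingCat.ofHom ((U.ι.appIso W).inv.hom.comp φ) =
      CommRingCat.ofHom φ ≫ (U.ι.appIso W).inv := rfl
  rw [h1, Spec.map_comp, ← Category.assoc, ← Category.assoc, ← toSpecΓ_appIso, Category.assoc,
    Category.assoc, ← Spec.map_comp_assoc, Iso.inv_hom_id, Spec.map_id]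
  erw [Category.id_comp]

theorem chartPC_transport (U : X.Opens) (W : (U : Scheme.{u}).Opens) (hW : IsAffineOpen W)
    (V : Y.Opens) {n : ℕ} (φ : MvPolynomial (Fin n) Γ(Y, V) →+* Γ((U : Scheme.{u}), W))
    (hφ : Function.Surjective φ) (K : DCoh.D X) (m : ℤ) :
    DerSch.ChartPC m ((rD U.ι).obj K) W V φ ↔
      DerSch.ChartPC m K (U.ι ''ᵁ W) V ((U.ι.appIso W).inv.hom.comp φ) := by
  have hW' : IsAffineOpen (U.ι ''ᵁ W) := hW.image_of_isOpenImmersion U.ι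
  have hφ' : Function.Surjective ((U.ι.appIso W).inv.hom.comp φ) := by
    rw [RingHom.coe_comp]
    exact (ConcreteCategory.bijective_of_isIso (U.ι.appIso W).inv).surjective.comp hφ
  have h1 : IsClosedImmersion (DerSch.chartImm W φ) := isClosedImmersion_chartImm hW φ hφ
  have h2 : IsClosedImmersion (DerSch.chartImm (U.ι ''ᵁ W) ((U.ι.appIso W).inv.hom.comp φ)) :=
    isClosedImmersion_chartImm hW' _ hφ'
  rw [chartPC_iff, chartPC_iff]
  have t := cDRestrictIso' (U.ι.isoImage W).hom (𝟙 _)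
    (DerSch.chartImm (U.ι ''ᵁ W) ((U.ι.appIso W).inv.hom.comp φ)) (DerSch.chartImm W φ)
    (by rw [chartImm_transport, Category.comp_id])
    (by rw [Scheme.Hom.opensRange_of_isIso, Scheme.Hom.opensRange_of_isIso]; rfl)
  have i1 : (rD (U.ι.isoImage W).hom).obj ((rD (U.ι ''ᵁ W).ι).obj K) ≅
      (rD W.ι).obj ((rD U.ι).obj K) :=
    (rDFac (U.ι.isoImage W).hom (U.ι ''ᵁ W).ι (W.ι ≫ U.ι) (U.ι.isoImage_hom_ι W) K).symm ≪≫
      rDFac W.ι U.ι (W.ι ≫ U.ι) rfl K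
  rw [← pc_rD_id_iff ((cD (DerSch.chartImm (U.ι ''ᵁ W) ((U.ι.appIso W).inv.hom.comp φ))).obj _)]
  have i2 := t.app ((rD (U.ι ''ᵁ W).ι).obj K) ≪≫ (cD (DerSch.chartImm W φ)).mapIso i1
  exact ⟨fun h => isPseudoCoherentD_of_iso i2.symm m h, fun h => isPseudoCoherentD_of_iso i2 m h⟩

theorem isChart_transport (f : X ⟶ Y) (U : X.Opens) (W : (U : Scheme.{u}).Opens) (V : Y.Opens)
    (h : W ≤ (U.ι ≫ f) ⁻¹ᵁ V) (h' : U.ι ''ᵁ W ≤ f ⁻¹ᵁ V) {n : ℕ}
    (φ : MvPolynomial (Fin n) Γ(Y, V) →+* Γ((U : Scheme.{u}), W)) :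
    DerSch.IsChart (U.ι ≫ f) W V h φ ↔
      DerSch.IsChart f (U.ι ''ᵁ W) V h' ((U.ι.appIso W).inv.hom.comp φ) := by
  have hbij := ConcreteCategory.bijective_of_isIso (U.ι.appIso W).inv
  have hcomp : (U.ι ≫ f).appLE V W h = f.appLE V (U.ι ''ᵁ W) h' ≫ (U.ι.appIso W).hom := by
    rw [Scheme.Hom.appIso_hom', Scheme.Hom.appLE_comp_appLE]
  unfold DerSch.IsChart
  constructor
  · rintro ⟨h1, h2⟩
    refine ⟨?_, ?_⟩
    · rw [RingHom.coe_comp]
      exact hbij.surjective.comp h1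
    · rw [RingHom.comp_assoc, h2, hcomp, CommRingCat.hom_comp, ← RingHom.comp_assoc,
        ← CommRingCat.hom_comp, Iso.hom_inv_id]
      rfl
  · rintro ⟨h1, h2⟩
    refine ⟨?_, ?_⟩
    · rw [RingHom.coe_comp] at h1
      intro y
      obtain ⟨x, hx⟩ := h1 ((U.ι.appIso W).inv.hom y)
      exact ⟨x, hbij.injective hx⟩
    · rw [hcomp, CommRingCat.hom_comp, ← h2, ← RingHom.comp_assoc, ← RingHom.comp_assoc,
        ← CommRingCat.hom_comp, Iso.inv_hom_id]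
      rfl

/-- **S6202 (object form)**: relative pseudo-coherence restricts to opens of the source. -/
theorem isPseudoCoherentRel_restrict (f : X ⟶ Y) (m : ℤ) (K : DCoh.D X)
    (hK : DerSch.IsPseudoCoherentRel f m K) (U : X.Opens) :
    DerSch.IsPseudoCoherentRel (U.ι ≫ f) m ((rD U.ι).obj K) := by
  have := hK.1
  rw [Groth.Agent.Lib.Helper28.RelPCGen.isPseudoCoherentRel_iff_forall_chartPC] at hK ⊢
  intro W V h n φ hφ
  have h' : U.ι ''ᵁ (W : (U : Scheme.{u}).Opens) ≤ f ⁻¹ᵁ (V : Y.Opens) := by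
    rintro _ ⟨x, hx, rfl⟩
    exact h hx
  rw [chartPC_transport U W W.2 (V : Y.Opens) φ hφ.1 K m]
  exact hK ⟨U.ι ''ᵁ (W : (U : Scheme.{u}).Opens), W.2.image_of_isOpenImmersion U.ι⟩ V h' n _
    ((isChart_transport f U W (V : Y.Opens) h h' φ).1 hφ)

/-- a chart with the chart test on the image of an affine open of `U`. -/
lemma exists_chart_of_image_eq (f : X ⟶ Y) [LocallyOfFiniteType f] (U : X.Opens)
    (W : (U : Scheme.{u}).affineOpens) (W'' : X.Opens)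
    (hW : W'' = U.ι ''ᵁ (W : (U : Scheme.{u}).Opens)) (V : Y.affineOpens)
    (h'' : W'' ≤ f ⁻¹ᵁ (V : Y.Opens)) (K : DCoh.D X) (m : ℤ)
    (hK : DerSch.IsPseudoCoherentRel (U.ι ≫ f) m ((rD U.ι).obj K)) :
    ∃ (n : ℕ) (φ : MvPolynomial (Fin n) Γ(Y, (V : Y.Opens)) →+* Γ(X, W'')),
      DerSch.IsChart f W'' (V : Y.Opens) h'' φ ∧ DerSch.ChartPC m K W'' (V : Y.Opens) φ := by
  subst hW
  have h : (W : (U : Scheme.{u}).Opens) ≤ (U.ι ≫ f) ⁻¹ᵁ (V : Y.Opens) := by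
    intro x hx
    exact h'' ⟨x, hx, rfl⟩
  obtain ⟨n, φ, hφ, hpc⟩ := (Groth.Agent.S7208.result (U.ι ≫ f) m _).1 hK W V h
  exact ⟨n, _, (isChart_transport f U W (V : Y.Opens) h h'' φ).1 hφ,
    (chartPC_transport U W W.2 (V : Y.Opens) φ hφ.1 K m).1 hpc⟩

/-- **S6203 (object form)**: relative pseudo-coherence is local on the source. -/
theorem isPseudoCoherentRel_of_openCover (f : X ⟶ Y) [LocallyOfFiniteType f] (m : ℤ)
    (K : DCoh.D X) {ι : Type*} (U : ι → X.Opens) (hU : ⨆ i, U i = ⊤)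
    (h : ∀ i : ι, DerSch.IsPseudoCoherentRel ((U i).ι ≫ f) m ((rD (U i).ι).obj K)) :
    DerSch.IsPseudoCoherentRel f m K := by
  refine ⟨inferInstance, Set.univ, ?_, fun V _ =>
    ⟨{U' | (U' : X.Opens) ≤ f ⁻¹ᵁ (V : Y.Opens) ∧ ∃ i, (U' : X.Opens) ≤ U i}, ?_, ?_⟩⟩
  · rw [eq_top_iff]
    intro y _
    obtain ⟨_, ⟨V, hV, rfl⟩, hyV, -⟩ := Y.isBasis_affineOpens.exists_subset_of_mem_open
      (Set.mem_univ y) isOpen_univ
    exact Opens.mem_iSup.2 ⟨⟨V, hV⟩, Opens.mem_iSup.2 ⟨Set.mem_univ _, hyV⟩⟩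
  · apply le_antisymm
    · exact iSup₂_le fun U' hU' => hU'.1
    · intro x hx
      have hx' : x ∈ (⨆ i, U i : X.Opens) := by rw [hU]; trivial
      obtain ⟨i, hxi⟩ := Opens.mem_iSup.1 hx'
      obtain ⟨_, ⟨W, hW, rfl⟩, hxW, hWV⟩ := X.isBasis_affineOpens.exists_subset_of_mem_open
        (show x ∈ ((f ⁻¹ᵁ (V : Y.Opens) ⊓ U i : X.Opens) : Set X) from ⟨hx, hxi⟩)
        (f ⁻¹ᵁ (V : Y.Opens) ⊓ U i).2
      exact Opens.mem_iSup.2 ⟨⟨W, hW⟩, Opens.mem_iSup.2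
        ⟨⟨fun z hz => (hWV hz).1, i, fun z hz => (hWV hz).2⟩, hxW⟩⟩
  · rintro U' ⟨-, i, hi⟩ hUV
    have hle : (U' : X.Opens) ≤ (U i).ι.opensRange := by
      rw [Scheme.Opens.opensRange_ι]; exact hi
    exact exists_chart_of_image_eq f (U i)
      ⟨(U i).ι ⁻¹ᵁ (U' : X.Opens), U'.2.preimage_of_isOpenImmersion (U i).ι hle⟩ (U' : X.Opens)
      (by rw [Scheme.Hom.image_preimage_eq_opensRange_inf, inf_eq_right.mpr hle]) V hUV K m (h i)

end Groth.Agent.Lib.Helper28.RelPCOpen
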