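import Groth.Agent.Lib.Helper30.FlatRestrict
import Groth.Agent.Lib.Helper28.LpullTorAmp2
import Groth.Agent.Lib.Helper79.TorCritD

/-!
# Tor amplitude and restriction to opens; vanishing of `H^i(Lf^* M ⊗^L F)` (helper28)

* `restrictStalkOverIso j y`: stalks of restrictions along an open immersion, naturally, over the
  local ring of the ambient scheme.
* `hasTorAmplitudeAt_restrict_iff` (Lemma R), `hasTorAmplitudeAt_of_comp_openImmersion` (Lemma T),
  `hasTorAmplitude_morphismRestrict`.
* `isZero_HD_ltensor_lpull_inD`: `H^i(Lf^* M ⊗^L F) = 0` outside the tor amplitude of `F` rel. `f`.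
-/

set_option autoImplicit false
set_option linter.style.haveILetI false
universe u
open CategoryTheory CategoryTheory.Limits AlgebraicGeometry MonoidalCategory

namespace Groth.Agent.Lib.Helper28.RestrictTorAmp

attribute [local instance] HasDerivedCategory.standard

open Groth.Agent.Lib.Helper28.FlatAmpFamily Groth.Agent.Lib.Helper28.TorAmpBC
  Groth.Agent.Helper19.KFlatExt Groth.Agent.Lib.Helper35.TA Groth.Agent.Lib.Helper35.StalkTA
  Groth.Agent.Lib.Helper5.StalkTensorCx Groth.Agent.Lib.Helper28.LpullTorAmp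
  Groth.Agent.Lib.Helper49 Groth.Agent.Lib.Helper30.FlatRestrict
  Groth.Agent.Lib.Helper5.PullTensorIso
  Groth.Agent.Lib.Helper5.PullAcyclic Groth.Agent.Lib.Helper28.LpullCompute
  Groth.Agent.Lib.Helper5.LTensorCxCompute

section Restrict
variable {X U Y : Scheme.{u}} (j : U ⟶ X) [IsOpenImmersion j] (y : U)

/-- the stalk of the restriction, over the local ring of `X`, is the stalk. -/
noncomputable def stalkLinearMap (M : X.Modules) :
    ((DerSch.stalkOver j y).obj ((Scheme.Modules.restrictFunctor j).obj M)) →ₗ[X.presheaf.stalk (j.base y)]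
      ((DerSch.stalkFunctor X (j.base y)).obj M) where
  toFun := (restrictStalkIso j M y).hom.hom
  map_add' := map_add _
  map_smul' := fun r a => restrictStalk_semilinear j M y r a

noncomputable def stalkLinearEquiv (M : X.Modules) :
    ((DerSch.stalkOver j y).obj ((Scheme.Modules.restrictFunctor j).obj M)) ≃ₗ[X.presheaf.stalk (j.base y)]
      ((DerSch.stalkFunctor X (j.base y)).obj M) :=
  LinearEquiv.ofBijective (stalkLinearMap j y M) (restrictStalkIso_hom_bijective j M y)

theorem stalkLinearEquiv_germ (M : X.Modules) (V : U.Opens)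
    (hy : y ∈ V) (s : Γ((Scheme.Modules.restrictFunctor j).obj M, V)) :
    stalkLinearEquiv j y M
      (((Scheme.Modules.restrictFunctor j).obj M).presheaf.germ V y hy s) =
      M.presheaf.germ (j ''ᵁ V) (j y) ⟨y, hy, rfl⟩ s :=
  restrictStalkIso_germ j M y V hy s

/-- natural isomorphism: stalks of restrictions. -/
noncomputable def restrictStalkOverIso :
    Scheme.Modules.restrictFunctor j ⋙ DerSch.stalkOver j y ≅ DerSch.stalkFunctor X (j.base y) :=
  NatIso.ofComponents (fun M => (stalkLinearEquiv j y M).toModuleIso) (by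
    intro M N φ
    ext a
    obtain ⟨V, hy, s, rfl⟩ := TopCat.Presheaf.exists_germ_eq
      ((Scheme.Modules.restrictFunctor j).obj M).presheaf a
    change stalkLinearEquiv j y N ((DerSch.stalkFunctor U y).map
        ((Scheme.Modules.restrictFunctor j).map φ)
        (((Scheme.Modules.restrictFunctor j).obj M).presheaf.germ V y hy s)) =
      (DerSch.stalkFunctor X (j.base y)).map φ (stalkLinearEquiv j y M
        (((Scheme.Modules.restrictFunctor j).obj M).presheaf.germ V y hy s))
    rw [DerSch.stalkFunctor_map_germ, stalkLinearEquiv_germ, stalkLinearEquiv_germ]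
    exact (DerSch.stalkFunctor_map_germ (j.base y) φ (j ''ᵁ V) ⟨y, hy, rfl⟩ s).symm)


/-- complexes of stalks of a restricted complex. -/
noncomputable def stalkCxRestrictIso (F : CochainComplex X.Modules ℤ) :
    (DerSch.stalkCxOver j y).obj
        (((Scheme.Modules.restrictFunctor j).mapHomologicalComplex (ComplexShape.up ℤ)).obj F) ≅
      (stalkCx X (j.base y)).obj F :=
  HomologicalComplex.Hom.isoOfComponents (fun i => (restrictStalkOverIso j y).app (F.X i))
    (fun i k _ => ((restrictStalkOverIso j y).hom.naturality (F.d i k)).symm)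

/-- **Lemma R**: tor amplitude at a point of an open subscheme. -/
theorem hasTorAmplitudeAt_restrict_iff (f : X ⟶ Y) (a b : ℤ) (F : CochainComplex X.Modules ℤ) :
    DerSch.HasTorAmplitudeAt (j ≫ f) a b
        (((Scheme.Modules.restrictFunctor j).mapHomologicalComplex (ComplexShape.up ℤ)).obj F) y ↔
      DerSch.HasTorAmplitudeAt f a b F (j.base y) := by
  let ψ : Y.presheaf.stalk (f.base (j.base y)) →+* X.presheaf.stalk (j.base y) :=
    (f.stalkMap (j.base y)).hom
  let e : (DerSch.stalkCxOver (j ≫ f) y).obj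
        (((Scheme.Modules.restrictFunctor j).mapHomologicalComplex (ComplexShape.up ℤ)).obj F) ≅
      (DerSch.stalkCxOver f (j.base y)).obj F :=
    stalkCxOverCompIso j f y _ ≪≫ (DRing.restrictCx ψ).mapIso (stalkCxRestrictIso j y F)
  exact ⟨fun h => TAmp.of_iso h (DerivedCategory.Q.mapIso e),
    fun h => TAmp.of_iso h (DerivedCategory.Q.mapIso e).symm⟩


section Ring

variable {A B : Type u} [CommRing A] [CommRing B] (κ : A →+* B)

/-- tor amplitude is reflected by restriction of scalars along a bijective ring hom. -/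
theorem TAmp_of_res_bijective (hκ : Function.Bijective κ) (L : DRing.Cx B) (a b : ℤ)
    (h : DRing.HasTorAmplitudeIn A a b (DRing.toD (resCx κ L))) :
    DRing.HasTorAmplitudeIn B a b (DRing.toD L) := by
  obtain ⟨E, hE1, hE2, ⟨e⟩⟩ := h
  let ε : A ≃+* B := RingEquiv.ofBijective κ hκ
  let κ' : B →+* A := (ε.symm : B →+* A)
  have hκ' : κ.comp κ' = RingHom.id B := by
    ext r
    exact ε.apply_symm_apply r
  let c : resCx κ' (resCx κ L) ≅ L :=
    HomologicalComplex.Hom.isoOfComponents
      (fun i => (ModuleCat.restrictScalarsComp'App κ' κ (RingHom.id B) hκ'.symm (L.X i)).symm ≪≫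
        ModuleCat.restrictScalarsId'App (RingHom.id B) rfl (L.X i))
      (fun i k _ => rfl)
  refine ⟨resCx κ' E, ?_, ?_, ⟨resIsoD κ' e ≪≫ DerivedCategory.Q.mapIso c⟩⟩
  · intro i hi
    exact (ModuleCat.restrictScalars κ').map_isZero (hE1 i hi)
  · intro i
    exact Groth.Agent.Lib.Helper28.FlatAmpStalk.flat_restrictScalars κ' ε.symm.bijective _ (hE2 i)

end Ring

/-- **Lemma T**: tor amplitude relative to `g ≫ k` with `k` an open immersion is tor amplitude
relative to `g`. -/
theorem hasTorAmplitudeAt_of_comp_openImmersion {W Z : Scheme.{u}} (g : W ⟶ Y) (k : Y ⟶ Z)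
    [IsOpenImmersion k] (a b : ℤ) (F : CochainComplex W.Modules ℤ) (x : W)
    (h : DerSch.HasTorAmplitudeAt (g ≫ k) a b F x) : DerSch.HasTorAmplitudeAt g a b F x := by
  have hbij : Function.Bijective (k.stalkMap (g.base x)).hom :=
    (ConcreteCategory.isIso_iff_bijective (k.stalkMap (g.base x))).mp inferInstance
  exact TAmp_of_res_bijective _ hbij _ a b
    (TAmp.of_iso h (DerivedCategory.Q.mapIso (stalkCxOverCompIso g k x F)))


/-- tor amplitude of the restriction of `F` to `f⁻¹ V` relative to `f ∣_ V`. -/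
theorem hasTorAmplitude_morphismRestrict (f : X ⟶ Y) (V : Y.Opens) (a b : ℤ)
    (F : CochainComplex X.Modules ℤ) (hF : DerSch.HasTorAmplitude f a b F) :
    DerSch.HasTorAmplitude (f ∣_ V) a b ((DCoh.restrictCx (f ⁻¹ᵁ V)).obj F) := by
  intro x'
  have h1 := (hasTorAmplitudeAt_restrict_iff (f ⁻¹ᵁ V).ι x' f a b F).mpr (hF _)
  rw [← morphismRestrict_ι] at h1
  exact hasTorAmplitudeAt_of_comp_openImmersion (f ∣_ V) V.ι a b _ x' h1

end Restrict

section Ring2
variable {R S : Type u} [CommRing R] [CommRing S] (φ : R →+* S)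

lemma exactAt_of_resCx (L : DRing.Cx S) (i : ℤ) (h : (resCx φ L).ExactAt i) : L.ExactAt i := by
  rw [HomologicalComplex.exactAt_iff' _ (i - 1) i (i + 1) (by simp) (by simp),
    ShortComplex.moduleCat_exact_iff] at h ⊢
  intro x hx
  obtain ⟨w, hw⟩ := h x hx
  exact ⟨w, hw⟩

end Ring2

variable {X Y : Scheme.{u}}

/-- **vanishing of the cohomology sheaves of `Lf^* M ⊗^L F` outside the tor amplitude of `F`.** -/
theorem isZero_HD_ltensor_lpull_inD (f : X ⟶ Y) [DCoh.HasLpull f]
    (F : CochainComplex X.Modules ℤ) [DCoh.HasLTensorCx F] (m n : ℤ)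
    (hF : DerSch.HasTorAmplitude f m n F) (M : Y.Modules) (i : ℤ) (hi : i < m ∨ n < i) :
    IsZero (DCoh.HD ((DCoh.LTensorCx F).obj ((DCoh.Lpull f).obj (DCoh.inD Y M))) i) := by
  let G : CochainComplex Y.Modules ℤ := (CochainComplex.singleFunctor Y.Modules 0).obj M
  obtain ⟨P, q, hP, hq⟩ := TowerFlat.exists_tf_resolution G
  haveI := hq
  haveI : IsIso (DerivedCategory.Q.map q) := by
    rw [DerivedCategory.isIso_Q_map_iff_quasiIso]; infer_instance
  have hPF : PF P := hP.pf
  have hfP : DCoh.IsKFlat ((pullCx f).obj P) := (hP.pullback f).pf.1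
  let K : CochainComplex X.Modules ℤ := (DCoh.tensorCx.obj ((pullCx f).obj P)).obj F
  let e0 : DCoh.inD Y M ≅ DCoh.toD Y G :=
    (DerivedCategory.singleFunctorIsoCompQ Y.Modules 0).app M
  let e1 : (DCoh.LTensorCx F).obj ((DCoh.Lpull f).obj (DCoh.inD Y M)) ≅ DCoh.toD X K :=
    (DCoh.LTensorCx F).mapIso
      ((DCoh.Lpull f).mapIso (e0 ≪≫ (asIso (DerivedCategory.Q.map q)).symm) ≪≫ lpullIso f P hPF) ≪≫
      ltensorCxIso F ((pullCx f).obj P) hfP
  have hK : K.ExactAt i := by
    apply exactAt_of_stalk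
    intro x
    let y := f.base x
    let φ : Y.presheaf.stalk y →+* X.presheaf.stalk x := (f.stalkMap x).hom
    let Py : DRing.Cx (Y.presheaf.stalk y) := (stalkCx Y y).obj P
    let Fx : DRing.Cx (X.presheaf.stalk x) := (stalkCx X x).obj F
    have hPy : TensCx.KFlat Py := StalkKFlat.isKFlat_stalk y P hPF.1
    have hN : DRing.HasTorAmplitudeIn (Y.presheaf.stalk y) m n (DRing.toD (resCx φ Fx)) := hF x
    have hPe : ∀ j, (j < 0 ∨ 0 < j) → Py.ExactAt j := by
      intro j hj
      apply exactAt_map (DerSch.stalkFunctor Y y) P j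
      rw [_root_.exactAt_iff_of_quasiIsoAt q j]
      exact ShortComplex.exact_of_isZero_X₂ _
        (HomologicalComplex.isZero_single_obj_X (ComplexShape.up ℤ) 0 M j (by omega))
    have h1 := Groth.Agent.Lib.Helper79.TorCrit.exactAt_tensor_of_TAmp' (resCx φ Fx) m n hN Py hPy
      0 0 hPe i (by omega)
    have h2 : (resCx φ (extCx φ Py ⊗ Fx)).ExactAt i :=
      h1.of_iso (resExtTensorIso φ Py Fx).symm
    have h3 := exactAt_of_resCx φ _ i h2
    exact h3.of_iso (stalkTotIso X x ((pullCx f).obj P) F ≪≫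
        tensorIso (stalkPullCxIso f x P) (Iso.refl Fx)).symm
  have e2 : DCoh.HD ((DCoh.LTensorCx F).obj ((DCoh.Lpull f).obj (DCoh.inD Y M))) i ≅
      K.homology i :=
    (DerivedCategory.homologyFunctor X.Modules i).mapIso e1 ≪≫
      (DerivedCategory.homologyFunctorFactors X.Modules i).app K
  exact (hK.isZero_homology).of_iso e2

end Groth.Agent.Lib.Helper28.RestrictTorAmp
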