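import Groth.Agent.Lib.Helper28.PCohO
import Groth.Agent.Lib.Helper28.PCohF
import Groth.Agent.Lib.Helper28.PCohJ
import Mathlib.CategoryTheory.Abelian.SerreClass.Basic
import Mathlib.CategoryTheory.Abelian.Subcategory
import Mathlib.Algebra.Homology.DerivedCategory.ExactFunctor
import Mathlib.Algebra.Homology.DerivedCategory.TStructure

/-!
# `D⁻(P) ≃ D⁻_P(A)` for a Serre class `P` with the lifting property
-/

set_option autoImplicit false
universe w w' v u
open CategoryTheory CategoryTheory.Limits Category Pretriangulated DerivedCategory ZeroObject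

namespace Groth.Agent.Lib.Helper28.SerreDer

open Groth.Agent.Lib.Helper28.PC

variable {A : Type u} [Category.{v} A] [Abelian A] (P : ObjectProperty A) [P.IsSerreClass]

lemma hsum : ∀ X Y : A, P X → P Y → P (X ⨯ Y) := fun X Y hX hY =>
  P.prop_of_iso (biprod.isoProd X Y) (P.prop_biprod hX hY)

lemma hql (hlift : ∀ (X Y : A) (π : X ⟶ Y), Epi π → P Y →
    ∃ (X' : A) (i : X' ⟶ X), Mono i ∧ P X' ∧ Epi (i ≫ π)) : PCoh.IsQuasiLiftable P := by
  intro E F u hu hF
  obtain ⟨X', i, _, hX', hi⟩ := hlift E F u hu hF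
  exact ⟨X', i, hX', hi⟩

lemma hcoh (X E : A) (u : E ⟶ X) (_ : P X) (hE : P E) : PCoh.IsOfFiniteType P (kernel u) :=
  IsOfFiniteType.of_prop (P.prop_of_mono (kernel.ι u) hE)

lemma hqs : PCoh.IsQuasiStableUnderKernels P := quasiStable_of_coherent P (hcoh P)

variable [HasDerivedCategory.{w} A]

/-- an object of `D(A)` with bounded above cohomology in `P` is pseudo-coherent. -/
lemma npc_of_homology (hlift : ∀ (X Y : A) (π : X ⟶ Y), Epi π → P Y →
    ∃ (X' : A) (i : X' ⟶ X), Mono i ∧ P X' ∧ Epi (i ≫ π))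
    (K : DerivedCategory A) (b : ℤ) (hb : AcycGT K b)
    (hK : ∀ n : ℤ, P ((homologyFunctor A n).obj K)) (n : ℤ) : NPC P n K := by
  refine npc_of_homology_aux P (hsum P) (hqs P) (hql P hlift) n (b - n + 1).toNat b (by omega) K hb
    (fun i _ => ?_)
  exact ⟨cell _ 0, isStrictPC_cell P _ (hK i) 0 _, ⟨Iso.refl _⟩⟩

end Groth.Agent.Lib.Helper28.SerreDer

namespace Groth.Agent.Lib.Helper28.SerreDer

open Groth.Agent.Lib.Helper28.PC

variable {A : Type u} [Category.{v} A] [Abelian A] (P : ObjectProperty A)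

/-- lift a complex with terms in `P` to a complex in the full subcategory. -/
def liftCx (E : CochainComplex A ℤ) (hE : ∀ i, P (E.X i)) :
    CochainComplex P.FullSubcategory ℤ where
  X i := ⟨E.X i, hE i⟩
  d i j := P.homMk (E.d i j)
  shape i j h := by
    apply P.hom_ext
    exact E.shape i j h
  d_comp_d' i j k _ _ := by
    apply P.hom_ext
    exact E.d_comp_d i j k

variable [P.IsSerreClass] [P.IsClosedUnderKernels] [P.IsClosedUnderCokernels]
  [P.IsClosedUnderFiniteProducts]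

instance : P.ι.Additive where

/-- the image of the lifted complex is the original complex. -/
noncomputable def liftCxIso (E : CochainComplex A ℤ) (hE : ∀ i, P (E.X i)) :
    (P.ι.mapHomologicalComplex (ComplexShape.up ℤ)).obj (liftCx P E hE) ≅ E :=
  HomologicalComplex.Hom.isoOfComponents (fun i => Iso.refl _) (fun i j _ =>
    (id_comp _).trans (comp_id _).symm)

lemma prop_map_X (E' : CochainComplex P.FullSubcategory ℤ) (i : ℤ) :
    P (((P.ι.mapHomologicalComplex (ComplexShape.up ℤ)).obj E').X i) := (E'.X i).property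

end Groth.Agent.Lib.Helper28.SerreDer

namespace Groth.Agent.Lib.Helper28.SerreDer

open Groth.Agent.Lib.Helper28.PC

variable {A : Type u} [Category.{v} A] [Abelian A] (P : ObjectProperty A)
  [P.IsSerreClass] [P.IsClosedUnderKernels] [P.IsClosedUnderCokernels]
  [P.IsClosedUnderFiniteProducts]

omit [P.IsSerreClass] [P.IsClosedUnderKernels] [P.IsClosedUnderCokernels]
  [P.IsClosedUnderFiniteProducts] in
lemma isZero_of_isZero_obj (X : P.FullSubcategory) (h : IsZero X.obj) : IsZero X := by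
  rw [IsZero.iff_id_eq_zero]
  apply P.hom_ext
  exact h.eq_of_src _ _

variable [HasDerivedCategory.{w} A] [HasDerivedCategory.{w'} P.FullSubcategory]
  [PreservesFiniteLimits P.ι] [PreservesFiniteColimits P.ι]

/-- essential surjectivity. -/
theorem essSurj (hlift : ∀ (X Y : A) (π : X ⟶ Y), Epi π → P Y →
    ∃ (X' : A) (i : X' ⟶ X), Mono i ∧ P X' ∧ Epi (i ≫ π))
    (K : DerivedCategory A) (b : ℤ) (hKb : K.IsLE b)
    (hK : ∀ n : ℤ, P ((homologyFunctor A n).obj K)) :
    ∃ M : DerivedCategory P.FullSubcategory, M.IsLE b ∧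
      Nonempty (P.ι.mapDerivedCategory.obj M ≅ K) := by
  have hb : AcycGT K b := (DerivedCategory.isLE_iff K b).1 hKb
  have hpc : ∀ n, NPC P n K := npc_of_homology P hlift K b hb hK
  obtain ⟨E, h1, h2, ⟨e⟩⟩ := exists_strictPCAll (hsum P) (hqs P) (hql P hlift) (b + 1) K hpc
    (fun i hi => hb i (by omega))
  let E' := liftCx P E h1
  haveI : E'.IsStrictlyLE b := by
    rw [CochainComplex.isStrictlyLE_iff]
    exact fun i hi => isZero_of_isZero_obj P _ (h2 i (by omega))
  exact ⟨Q.obj E', inferInstance,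
    ⟨(P.ι.mapDerivedCategoryFactors.app E') ≪≫ Q.mapIso (liftCxIso P E h1) ≪≫ e⟩⟩

end Groth.Agent.Lib.Helper28.SerreDer

namespace Groth.Agent.Lib.Helper28.SerreDer

open Groth.Agent.Lib.Helper28.PC

variable {A : Type u} [Category.{v} A] [Abelian A] (P : ObjectProperty A)
  [P.IsSerreClass] [P.IsClosedUnderKernels] [P.IsClosedUnderCokernels]
  [P.IsClosedUnderFiniteProducts]

/-- homotopies lift along the inclusion of the full subcategory. -/
def liftHomotopy {X Y : CochainComplex P.FullSubcategory ℤ} (f g : X ⟶ Y)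
    (H : Homotopy ((P.ι.mapHomologicalComplex (ComplexShape.up ℤ)).map f)
      ((P.ι.mapHomologicalComplex (ComplexShape.up ℤ)).map g)) : Homotopy f g where
  hom i j := P.homMk (H.hom i j)
  zero i j h := by
    apply P.hom_ext
    exact H.zero i j h
  comm i := by
    apply P.hom_ext
    have h := H.comm i
    rw [dNext_eq _ (show (ComplexShape.up ℤ).Rel i (i + 1) from rfl),
      prevD_eq _ (show (ComplexShape.up ℤ).Rel (i - 1) i by simp)] at h ⊢
    exact h

end Groth.Agent.Lib.Helper28.SerreDer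

namespace Groth.Agent.Lib.Helper28.SerreDer

open Groth.Agent.Lib.Helper28.PC

variable {A : Type u} [Category.{v} A] [Abelian A] (P : ObjectProperty A)
  [P.IsSerreClass] [P.IsClosedUnderKernels] [P.IsClosedUnderCokernels]
  [P.IsClosedUnderFiniteProducts]
  [PreservesFiniteLimits P.ι] [PreservesFiniteColimits P.ι]

lemma quasiIso_of_map {X Y : CochainComplex P.FullSubcategory ℤ} (f : X ⟶ Y)
    (h : QuasiIso ((P.ι.mapHomologicalComplex (ComplexShape.up ℤ)).map f)) : QuasiIso f :=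
  (HomologicalComplex.quasiIso_map_iff_of_preservesHomology f P.ι).1 h

omit [PreservesFiniteLimits P.ι] [PreservesFiniteColimits P.ι] in
lemma strictPCAll_map (K : CochainComplex P.FullSubcategory ℤ) (b : ℤ) [K.IsStrictlyLE b] :
    PCoh.IsStrictPCAll P ((P.ι.mapHomologicalComplex (ComplexShape.up ℤ)).obj K) :=
  ⟨⟨b, fun i hi => P.ι.map_isZero (K.isZero_of_isStrictlyLE b i hi)⟩, fun i => prop_map_X P K i⟩

variable [HasDerivedCategory.{w} A] [HasDerivedCategory.{w'} P.FullSubcategory]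

lemma map_Q_map {X Y : CochainComplex P.FullSubcategory ℤ} (g : X ⟶ Y) :
    P.ι.mapDerivedCategory.map (Q.map g) =
      P.ι.mapDerivedCategoryFactors.hom.app X ≫
        Q.map ((P.ι.mapHomologicalComplex (ComplexShape.up ℤ)).map g) ≫
          P.ι.mapDerivedCategoryFactors.inv.app Y := by
  have := P.ι.mapDerivedCategoryFactors.hom.naturality g
  dsimp at this
  rw [← cancel_mono (P.ι.mapDerivedCategoryFactors.hom.app Y), this, assoc, assoc]
  erw [Iso.inv_hom_id_app, comp_id]

/-- surjectivity on complexes. -/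
theorem full_aux (hlift : ∀ (X Y : A) (π : X ⟶ Y), Epi π → P Y →
    ∃ (X' : A) (i : X' ⟶ X), Mono i ∧ P X' ∧ Epi (i ≫ π))
    (K K' : CochainComplex P.FullSubcategory ℤ) (b : ℤ) [K.IsStrictlyLE b]
    (β : P.ι.mapDerivedCategory.obj (Q.obj K) ⟶ P.ι.mapDerivedCategory.obj (Q.obj K')) :
    ∃ φ : Q.obj K ⟶ Q.obj K', P.ι.mapDerivedCategory.map φ = β := by
  let ιC := P.ι.mapHomologicalComplex (ComplexShape.up ℤ)
  let fac := P.ι.mapDerivedCategoryFactors
  let α₂ : Q.obj (ιC.obj K) ⟶ Q.obj (ιC.obj K') := fac.inv.app K ≫ β ≫ fac.hom.app K'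
  obtain ⟨E'', s, f, hE'', hs, hsf⟩ := exists_roof_strictPCAll (hsum P) (hqs P) (hql P hlift)
    (ιC.obj K) (ιC.obj K') (strictPCAll_map P K b) α₂
  let L := liftCx P E'' hE''.2
  let e : ιC.obj L ≅ E'' := liftCxIso P E'' hE''.2
  obtain ⟨s', hs'⟩ := ιC.map_surjective (e.hom ≫ s)
  obtain ⟨f', hf'⟩ := ιC.map_surjective (e.hom ≫ f)
  haveI : QuasiIso s' := by
    apply quasiIso_of_map
    change QuasiIso (ιC.map s')
    rw [hs']
    infer_instance
  haveI : IsIso (Q.map s') := by
    rw [isIso_Q_map_iff_quasiIso]; infer_instance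
  refine ⟨inv (Q.map s') ≫ Q.map f', ?_⟩
  rw [Functor.map_comp, Functor.map_inv, IsIso.inv_comp_eq, map_Q_map, map_Q_map]
  change fac.hom.app L ≫ Q.map (ιC.map f') ≫ fac.inv.app K' =
    (fac.hom.app L ≫ Q.map (ιC.map s') ≫ fac.inv.app K) ≫ β
  rw [hs', hf', Functor.map_comp, Functor.map_comp, ← hsf]
  simp only [α₂, assoc, Iso.hom_inv_id_app, comp_id]
  erw [comp_id]

end Groth.Agent.Lib.Helper28.SerreDer

namespace Groth.Agent.Lib.Helper28.SerreDer

open Groth.Agent.Lib.Helper28.PC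

variable {A : Type u} [Category.{v} A] [Abelian A] (P : ObjectProperty A)
  [P.IsSerreClass] [P.IsClosedUnderKernels] [P.IsClosedUnderCokernels]
  [P.IsClosedUnderFiniteProducts]
  [PreservesFiniteLimits P.ι] [PreservesFiniteColimits P.ι]
  [HasDerivedCategory.{w} A] [HasDerivedCategory.{w'} P.FullSubcategory]

/-- faithfulness on complexes. -/
theorem faithful_aux (hlift : ∀ (X Y : A) (π : X ⟶ Y), Epi π → P Y →
    ∃ (X' : A) (i : X' ⟶ X), Mono i ∧ P X' ∧ Epi (i ≫ π))
    (K K' : CochainComplex P.FullSubcategory ℤ) (b : ℤ) [K.IsStrictlyLE b]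
    (δ : Q.obj K ⟶ Q.obj K') (hδ : P.ι.mapDerivedCategory.map δ = 0) : δ = 0 := by
  let ιC := P.ι.mapHomologicalComplex (ComplexShape.up ℤ)
  let fac := P.ι.mapDerivedCategoryFactors
  obtain ⟨X', hX', s, hs, g, rfl⟩ := right_fac_of_isStrictlyLE δ b
  rw [Functor.map_comp, Functor.map_inv, IsIso.inv_comp_eq, comp_zero, map_Q_map] at hδ
  have h1 : Q.map (ιC.map g) = Q.map (0 : ιC.obj X' ⟶ ιC.obj K') := by
    have h2 : Q.map (ιC.map g) = fac.inv.app X' ≫ (fac.hom.app X' ≫ Q.map (ιC.map g) ≫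
        fac.inv.app K') ≫ fac.hom.app K' := by
      simp only [assoc, Iso.inv_hom_id_app, Iso.inv_hom_id_app_assoc]
      erw [comp_id]
    rw [h2]
    erw [hδ]
    simp
  obtain ⟨E'', t, hE'', ht, ⟨H⟩⟩ := exists_strictPCAll_homotopy (hsum P) (hqs P) (hql P hlift)
    (ιC.obj X') (ιC.obj K') (strictPCAll_map P X' b) (ιC.map g) 0 h1
  let L := liftCx P E'' hE''.2
  let e : ιC.obj L ≅ E'' := liftCxIso P E'' hE''.2
  obtain ⟨t', ht'⟩ := ιC.map_surjective (e.hom ≫ t)
  haveI : QuasiIso t' := by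
    apply quasiIso_of_map
    change QuasiIso (ιC.map t')
    rw [ht']
    infer_instance
  haveI : IsIso (Q.map t') := by
    rw [isIso_Q_map_iff_quasiIso]; infer_instance
  have H' : Homotopy (ιC.map (t' ≫ g)) (ιC.map (0 : L ⟶ K')) := by
    refine (Homotopy.ofEq ?_).trans ((H.compLeft e.hom).trans (Homotopy.ofEq ?_))
    · rw [Functor.map_comp, ht', assoc]
    · simp
  have h3 : Q.map (t' ≫ g) = Q.map (0 : L ⟶ K') :=
    Q_map_eq_of_homotopy _ (liftHomotopy P _ _ H')
  rw [Functor.map_comp, Functor.map_zero] at h3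
  have h4 : Q.map g = 0 := by
    rw [← cancel_epi (Q.map t'), h3, comp_zero]
  rw [h4, comp_zero]

end Groth.Agent.Lib.Helper28.SerreDer

namespace Groth.Agent.Lib.Helper28.SerreDer

open Groth.Agent.Lib.Helper28.PC

variable {A : Type u} [Category.{v} A] [Abelian A] (P : ObjectProperty A)
  [P.IsSerreClass] [P.IsClosedUnderKernels] [P.IsClosedUnderCokernels]
  [P.IsClosedUnderFiniteProducts]
  [PreservesFiniteLimits P.ι] [PreservesFiniteColimits P.ι]
  [HasDerivedCategory.{w} A] [HasDerivedCategory.{w'} P.FullSubcategory]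

/-- full faithfulness on bounded above objects. -/
theorem bijective_map (hlift : ∀ (X Y : A) (π : X ⟶ Y), Epi π → P Y →
    ∃ (X' : A) (i : X' ⟶ X), Mono i ∧ P X' ∧ Epi (i ≫ π))
    (M N : DerivedCategory P.FullSubcategory) (b : ℤ) (hM : M.IsLE b) (_ : N.IsLE b) :
    Function.Bijective (fun φ : M ⟶ N => P.ι.mapDerivedCategory.map φ) := by
  obtain ⟨K, hK, ⟨e⟩⟩ := M.exists_iso_Q_obj_of_isLE b
  obtain ⟨K', hK', ⟨e'⟩⟩ := N.exists_iso_Q_obj_of_isLE b
  let F := P.ι.mapDerivedCategory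
  constructor
  · intro φ ψ h
    have h0 : F.map (e.inv ≫ (φ - ψ) ≫ e'.hom) = 0 := by
      have h' : F.map φ = F.map ψ := h
      rw [Functor.map_comp, Functor.map_comp, Functor.map_sub, h', sub_self, zero_comp, comp_zero]
    have h1 := faithful_aux P hlift K K' b _ h0
    rw [← cancel_epi e.hom, ← cancel_mono e'.inv] at h1
    simp only [assoc, Iso.hom_inv_id_assoc, Iso.hom_inv_id, comp_id, comp_zero, zero_comp] at h1
    exact sub_eq_zero.1 h1
  · intro β
    obtain ⟨φ', hφ'⟩ := full_aux P hlift K K' b (F.map e.inv ≫ β ≫ F.map e'.hom)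
    refine ⟨e.hom ≫ φ' ≫ e'.inv, ?_⟩
    change F.map (e.hom ≫ φ' ≫ e'.inv) = β
    rw [Functor.map_comp, Functor.map_comp, hφ']
    simp only [assoc, ← Functor.map_comp, Iso.hom_inv_id, CategoryTheory.Functor.map_id, comp_id]
    rw [← Functor.map_comp_assoc, Iso.hom_inv_id, CategoryTheory.Functor.map_id, id_comp]
    exact comp_id _

end Groth.Agent.Lib.Helper28.SerreDer
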