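import Groth.Agent.Lib.Helper28.ShCoh
import Mathlib.Algebra.Homology.DerivedCategory.Ext.ExactSequences

/-!
helper28 (P1): flasque sheaves are acyclic for `H^n(U, -)`.
-/

set_option autoImplicit false
universe u

namespace Groth.Agent.Lib.Helper28.ShCoh

open CategoryTheory Opposite CategoryTheory.Limits TopologicalSpace Abelian CohTop
open Groth.Agent.S0463

variable {X : TopCat.{u}}

/-- The short exact sequence `0 → F → I → I/F → 0` for a mono `F → I`. -/
noncomputable abbrev cokerSC {F I : Ab X} (ι : F ⟶ I) : ShortComplex (Ab X) :=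
  ShortComplex.mk ι (cokernel.π ι) (cokernel.condition ι)

lemma cokerSC_shortExact {F I : Ab X} (ι : F ⟶ I) [Mono ι] : (cokerSC ι).ShortExact where
  exact := ShortComplex.exact_cokernel ι
  mono_f := by dsimp; infer_instance
  epi_g := by dsimp; infer_instance

/-- Flasque sheaves are acyclic: `Ext^{n+1}(ℤ_U, F) = 0`. -/
theorem ext_freeSheaf_subsingleton_of_isFlasque (U : Opens X) (n : ℕ) :
    ∀ (F : Ab X) [TopCat.Sheaf.IsFlasque F], Subsingleton (Ext.{u} (freeSheaf U) F (n + 1)) := by
  induction n with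
  | zero =>
    intro F _
    refine subsingleton_of_forall_eq 0 (fun x₁ => ?_)
    let ι := Injective.ι F
    have hS := cokerSC_shortExact ι
    obtain ⟨x₃, hx₃⟩ := Ext.covariant_sequence_exact₁ (freeSheaf U) hS x₁
      (Ext.eq_zero_of_injective _) (zero_add 1)
    obtain ⟨g, rfl⟩ := Ext.addEquiv₀.symm.surjective x₃
    have : TopCat.Sheaf.IsFlasque (cokerSC ι).X₁ := by dsimp; infer_instance
    have hepi := TopCat.Sheaf.IsFlasque.epi_of_shortExact (U := U) hS
    rw [AddCommGrpCat.epi_iff_surjective] at hepi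
    obtain ⟨t, ht⟩ := hepi (β U _ g)
    let g' : freeSheaf U ⟶ Injective.under F := (β U _).symm t
    have hg : g' ≫ (cokerSC ι).g = g := by
      apply (β U _).injective
      rw [β_naturality, Equiv.apply_symm_apply]
      exact ht
    rw [← hx₃, ← hg]
    change (Ext.mk₀ (g' ≫ (cokerSC ι).g)).comp hS.extClass _ = 0
    rw [← Ext.mk₀_comp_mk₀, Ext.comp_assoc_of_second_deg_zero]
    have h0 := hS.comp_extClass
    dsimp at h0 ⊢
    rw [h0, Ext.comp_zero]
  | succ m ih =>
    intro F _
    refine subsingleton_of_forall_eq 0 (fun x₁ => ?_)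
    let ι := Injective.ι F
    have hS := cokerSC_shortExact ι
    obtain ⟨x₃, hx₃⟩ := Ext.covariant_sequence_exact₁ (freeSheaf U) hS x₁
      (Ext.eq_zero_of_injective _) (rfl : m + 1 + 1 = m + 1 + 1)
    have h1 : TopCat.Sheaf.IsFlasque (cokerSC ι).X₁ := by dsimp; infer_instance
    have h2 : TopCat.Sheaf.IsFlasque (cokerSC ι).X₂ := by
      dsimp; exact isFlasque_of_injective _
    have h3 : TopCat.Sheaf.IsFlasque (cokerSC ι).X₃ :=
      TopCat.Sheaf.IsFlasque.of_shortExact_of_isFlasque₁₂ hS
    have := ih (cokerSC ι).X₃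
    have hx0 : x₃ = 0 := Subsingleton.elim _ _
    rw [← hx₃, hx0, Ext.zero_comp]

end Groth.Agent.Lib.Helper28.ShCoh
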