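import Groth.Agent.Lib.Lead.FreeSheaf
import Mathlib.Topology.Sheaves.LocallySurjective

/-!
helper28 (P1): every class in `H^{n+1}(U, F)` dies on an open covering of `U`.
-/

set_option autoImplicit false
universe u

namespace Groth.Agent.Lib.Helper28.ShCoh

open CategoryTheory Opposite CategoryTheory.Limits TopologicalSpace Abelian CohTop
open Groth.Agent.Lib.Lead

variable {X : TopCat.{u}}

/-- The short exact sequence `0 → F → I(F) → I(F)/F → 0`. -/
noncomputable abbrev injSC (F : Ab X) : ShortComplex (Ab X) :=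
  ShortComplex.mk (Injective.ι F) (cokernel.π (Injective.ι F)) (cokernel.condition _)

lemma injSC_shortExact (F : Ab X) : (injSC F).ShortExact :=
  { exact := ShortComplex.exact_of_g_is_cokernel _ (cokernelIsCokernel (injSC F).f) }

/-- Every class in `Ext^{n+1}(ℤ_U, F)` restricts to zero on the members of an open cover of `U`
(indexed by the points of `U`). -/
theorem exists_cover_comp_eq_zero (n : ℕ) : ∀ (F : Ab X) (U : Opens X)
    (ξ : Ext.{u} (ZU U) F (n + 1)),
    ∃ (V : U → Opens X) (hV : ∀ i, V i ≤ U), (∀ i : U, (i : X) ∈ V i) ∧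
      ∀ i, (Ext.mk₀ (ZUmap (hV i))).comp ξ (zero_add (n + 1)) = 0 := by
  induction n with
  | zero =>
    intro F U ξ
    have hS := injSC_shortExact F
    haveI : Injective (injSC F).X₂ := inferInstanceAs (Injective (Injective.under F))
    obtain ⟨y, rfl⟩ := Ext.covariant_sequence_exact₁ (ZU U) hS ξ
      (Ext.eq_zero_of_injective _) (zero_add 1)
    obtain ⟨ψ, rfl⟩ := (Ext.mk₀_bijective _ _).surjective y
    have hloc := (TopCat.Sheaf.isLocallySurjective_iff_epi (injSC F).g).mpr hS.epi_g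
    have hloc' := (TopCat.Presheaf.isLocallySurjective_iff (injSC F).g.hom).mp hloc U
      (ZUev U _ ψ)
    choose V hVU ht hxV using fun i : U => hloc' i.1 i.2
    refine ⟨V, hVU, hxV, fun i => ?_⟩
    obtain ⟨t, ht⟩ := ht i
    obtain ⟨ψ', hψ'⟩ := (ZUev_bijective (V i) (injSC F).X₂).2 t
    have hcomp : ZUmap (hVU i) ≫ ψ = ψ' ≫ (injSC F).g := by
      apply (ZUev_bijective (V i) (injSC F).X₃).1
      rw [ZUev_map, ZUev_comp, hψ', ht]
      rfl
    rw [← Ext.comp_assoc (Ext.mk₀ (ZUmap (hVU i))) (Ext.mk₀ ψ) hS.extClass (zero_add 0)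
      (zero_add 1) (by omega), Ext.mk₀_comp_mk₀, hcomp, ← Ext.mk₀_comp_mk₀,
      Ext.comp_assoc (Ext.mk₀ ψ') (Ext.mk₀ (injSC F).g) hS.extClass (zero_add 0)
      (zero_add 1) (by omega), hS.comp_extClass, Ext.comp_zero]
  | succ m ih =>
    intro F U ξ
    have hS := injSC_shortExact F
    haveI : Injective (injSC F).X₂ := inferInstanceAs (Injective (Injective.under F))
    obtain ⟨y, rfl⟩ := Ext.covariant_sequence_exact₁ (ZU U) hS ξ
      (Ext.eq_zero_of_injective _) (rfl : m + 1 + 1 = m + 1 + 1)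
    obtain ⟨V, hVU, hxV, hzero⟩ := ih (injSC F).X₃ U y
    refine ⟨V, hVU, hxV, fun i => ?_⟩
    rw [← Ext.comp_assoc (Ext.mk₀ (ZUmap (hVU i))) y hS.extClass (zero_add (m + 1))
      rfl (by omega), hzero i, Ext.zero_comp]

end Groth.Agent.Lib.Helper28.ShCoh
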