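import Mathlib.CategoryTheory.Limits.VanKampen
import Mathlib.CategoryTheory.Extensive
import Mathlib.CategoryTheory.Sites.LeftExact
import Mathlib.CategoryTheory.Sites.Limits
import Mathlib.CategoryTheory.Limits.Types.Coproducts
import Mathlib.CategoryTheory.Limits.Types.Pullbacks

/-!
# Small coproducts in a topos of sheaves of sets are van Kampen (helper28)

* `isVanKampenColimit_cofan_type`: colimit cofans in `Type u` are van Kampen colimits.
* `isVanKampenColimit_discrete_presheaf`: the same in presheaf categories `Cᵒᵖ ⥤ Type u`.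
* `isVanKampenColimit_discrete_sheaf`: the same in `Sheaf J (Type u)` for a small site.
-/

set_option autoImplicit false
universe u
open CategoryTheory CategoryTheory.Limits Opposite

namespace Groth.Agent.Lib.Helper28

section TypeLevel

variable {ι : Type u}

/-- the cofan attached to a cocone over a discrete diagram -/
def coconeToCofan {D : Type*} [Category D] {F : Discrete ι ⥤ D} (c : Cocone F) :
    Cofan (fun i => F.obj ⟨i⟩) :=
  Cofan.mk c.pt (fun i => c.ι.app ⟨i⟩)

/-- a cocone over a discrete diagram is a colimit iff the attached cofan is -/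
def isColimitCoconeToCofan {D : Type*} [Category D] {F : Discrete ι ⥤ D} (c : Cocone F)
    (hc : IsColimit c) : IsColimit (coconeToCofan c) :=
  Cofan.IsColimit.mk _
    (fun t => hc.desc ⟨t.pt, Discrete.natTrans (fun ⟨i⟩ => t.inj i)⟩)
    (fun t j => hc.fac ⟨t.pt, Discrete.natTrans (fun ⟨i⟩ => t.inj i)⟩ ⟨j⟩)
    (fun t m hm => hc.uniq ⟨t.pt, Discrete.natTrans (fun ⟨i⟩ => t.inj i)⟩ m (fun ⟨j⟩ => hm j))

/-- converse -/
def isColimitOfCoconeToCofan {D : Type*} [Category D] {F : Discrete ι ⥤ D} (c : Cocone F)
    (hc : IsColimit (coconeToCofan c)) : IsColimit c where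
  desc s := Cofan.IsColimit.desc hc (fun i => s.ι.app ⟨i⟩)
  fac s := fun ⟨j⟩ => Cofan.IsColimit.fac hc (fun i => s.ι.app ⟨i⟩) j
  uniq s m hm := by
    apply Cofan.IsColimit.hom_ext hc
    intro i
    rw [Cofan.IsColimit.fac]
    exact hm ⟨i⟩

/-- colimit cofans in `Type u` are van Kampen, cofan form -/
theorem cofan_type_vanKampen {X X' : ι → Type u} (c : Cofan X) (hc : IsColimit c)
    (c' : Cofan X') (a : ∀ i, X' i ⟶ X i) (f : c'.pt ⟶ c.pt)
    (e : ∀ i, a i ≫ c.inj i = c'.inj i ≫ f) :
    Nonempty (IsColimit c') ↔ ∀ i, IsPullback (c'.inj i) (a i) f (c.inj i) := by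
  have e' : ∀ i (y : X' i), c.inj i (a i y) = f (c'.inj i y) := fun i y => ConcreteCategory.congr_hom (e i) y
  constructor
  · rintro ⟨hc'⟩ i
    rw [Types.isPullback_iff]
    refine ⟨(e i).symm, ?_, ?_⟩
    · rintro y y' ⟨h1, -⟩
      exact Cofan.inj_injective_of_isColimit hc' i h1
    · intro z x hzx
      obtain ⟨j, y, rfl⟩ := Cofan.inj_jointly_surjective_of_isColimit hc' z
      rw [← e'] at hzx
      obtain rfl := Cofan.eq_of_inj_apply_eq_of_isColimit hc _ _ hzx
      exact ⟨y, rfl, Cofan.inj_injective_of_isColimit hc j hzx⟩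
  · intro H
    rw [Cofan.nonempty_isColimit_iff_bijective_fromSigma]
    constructor
    · rintro ⟨i, y⟩ ⟨j, y'⟩ h
      have h1 : c'.inj i y = c'.inj j y' := h
      have h2 : c.inj i (a i y) = c.inj j (a j y') := by rw [e', e', h1]
      obtain rfl := Cofan.eq_of_inj_apply_eq_of_isColimit hc _ _ h2
      have h3 : a i y = a i y' := Cofan.inj_injective_of_isColimit hc i h2
      have := Types.ext_of_isPullback (H i) h1 h3
      rw [this]
    · intro z
      obtain ⟨i, x, hx⟩ := Cofan.inj_jointly_surjective_of_isColimit hc (f z)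
      obtain ⟨y, hy, -⟩ := Types.exists_of_isPullback (H i) z x hx.symm
      exact ⟨⟨i, y⟩, hy⟩

/-- colimit cocones over discrete diagrams in `Type u` are van Kampen. -/
theorem isVanKampenColimit_discrete_type {F : Discrete ι ⥤ Type u} (c : Cocone F)
    (hc : IsColimit c) : IsVanKampenColimit c := by
  intro F' c' α f e _
  have key := cofan_type_vanKampen (coconeToCofan c) (isColimitCoconeToCofan c hc)
    (coconeToCofan c') (fun i => α.app ⟨i⟩) f (fun i => NatTrans.congr_app e ⟨i⟩)
  constructor
  · rintro ⟨hc'⟩ ⟨j⟩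
    exact key.mp ⟨isColimitCoconeToCofan c' hc'⟩ j
  · intro H
    obtain ⟨h⟩ := key.mpr (fun i => H ⟨i⟩)
    exact ⟨isColimitOfCoconeToCofan c' h⟩

end TypeLevel

section Presheaf

variable {C : Type u} [SmallCategory C] {ι : Type u}

/-- colimit cocones over discrete diagrams in presheaf categories are van Kampen. -/
theorem isVanKampenColimit_discrete_presheaf {F : Discrete ι ⥤ (Cᵒᵖ ⥤ Type u)} (c : Cocone F)
    (hc : IsColimit c) : IsVanKampenColimit c :=
  isVanKampenColimit_of_evaluation _ c fun _ =>
    isVanKampenColimit_discrete_type _ (isColimitOfPreserves _ hc)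

end Presheaf

section Sheaf

variable {C : Type u} [SmallCategory C] (J : GrothendieckTopology C) {ι : Type u}

/-- colimit cocones over discrete diagrams in `Sheaf J (Type u)` are van Kampen. -/
theorem isVanKampenColimit_discrete_sheaf {F : Discrete ι ⥤ Sheaf J (Type u)} (c : Cocone F)
    (hc : IsColimit c) : IsVanKampenColimit c := by
  let adj := sheafificationAdjunction J (Type u)
  apply (IsVanKampenColimit.precompose_isIso_iff
    (Functor.isoWhiskerLeft _ (asIso adj.counit) ≪≫ Functor.rightUnitor _).hom).mp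
  refine ((isVanKampenColimit_discrete_presheaf _
    (colimit.isColimit (F ⋙ sheafToPresheaf J (Type u)))).map_reflective
    adj).of_iso (IsColimit.uniqueUpToIso ?_ ?_)
  · exact isColimitOfPreserves (presheafToSheaf J (Type u)) (colimit.isColimit _)
  · exact (IsColimit.precomposeHomEquiv _ _).symm hc

end Sheaf

end Groth.Agent.Lib.Helper28
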