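import Mathlib
import Groth.Agent.Lib.Helper5.ExtAdjunction

/-!
# Extension by zero `j_!` along `Over.forget U` on a small site is exact (abelian sheaves)

* `lan_preservesFiniteLimits_of_hasExactColimits`: Lan along `G.op` preserves finite limits if all
  colimits over costructured arrow categories are exact.
* `overIncl U V : Discrete (V ⟶ U) ⥤ CostructuredArrow (Over.forget U).op (op V)` is final
  (right adjoint of `overProj`).
* `jShriek U J ⊣ jUp U J` (`jShriekAdj`), `jShriek` preserves finite limits and all colimits,
  `jUp` preserves all limits and colimits.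
-/

universe u
open CategoryTheory Limits Opposite

namespace Groth.Agent.Lib.Helper28
section Lan

variable {C D : Type u} [Category.{u} C] [Category.{u} D] (G : C ⥤ D)
  (E : Type (u + 1)) [Category.{u} E] [HasColimitsOfSize.{u, u} E] [HasFiniteLimits E]

/-- If colimits over every category of costructured arrows of `G.op` are exact in `E`, then
left Kan extension of presheaves along `G.op` preserves finite limits. -/
lemma lan_preservesFiniteLimits_of_hasExactColimits
    (h : ∀ K : Dᵒᵖ, HasExactColimitsOfShape (CostructuredArrow G.op K) E) :
    PreservesFiniteLimits (G.op.lan : (Cᵒᵖ ⥤ E) ⥤ (Dᵒᵖ ⥤ E)) := by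
  apply preservesFiniteLimits_of_preservesFiniteLimitsOfSize.{0}
  intro J _ _
  apply preservesLimitsOfShape_of_evaluation (G.op.lan : (Cᵒᵖ ⥤ E) ⥤ Dᵒᵖ ⥤ E) J
  intro K
  have : PreservesLimitsOfShape J
      ((Functor.whiskeringLeft (CostructuredArrow G.op K) Cᵒᵖ E).obj
        (CostructuredArrow.proj G.op K) ⋙ colim) := by
    have := h K
    infer_instance
  exact preservesLimitsOfShape_of_natIso (lanEvaluationIsoColim _ _ _).symm

end Lan

variable {C : Type u} [SmallCategory C] (U : C)

/-- The functor from the discrete category on `V ⟶ U` to the costructured arrows. -/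
def overIncl (V : C) :
    Discrete (V ⟶ U) ⥤ CostructuredArrow (Over.forget U).op (op V) :=
  Discrete.functor fun h => CostructuredArrow.mk (Y := op (Over.mk h)) (𝟙 (op V))

lemma overProj_aux (V : C) {k k' : CostructuredArrow (Over.forget U).op (op V)} (φ : k ⟶ k') :
    k.hom.unop ≫ k.left.unop.hom = k'.hom.unop ≫ k'.left.unop.hom := by
  have h1 := CostructuredArrow.w φ
  have h2 := Over.w φ.left.unop
  have h3 : k'.hom.unop ≫ φ.left.unop.left = k.hom.unop := congrArg Quiver.Hom.unop h1
  rw [← h3]
  exact (Category.assoc _ _ _).trans (congrArg (k'.hom.unop ≫ ·) h2)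

/-- The "component" functor. -/
def overProj (V : C) :
    CostructuredArrow (Over.forget U).op (op V) ⥤ Discrete (V ⟶ U) where
  obj k := ⟨k.hom.unop ≫ k.left.unop.hom⟩
  map {k k'} φ := eqToHom (congrArg Discrete.mk (overProj_aux U V φ))

instance (V : C) (k : CostructuredArrow (Over.forget U).op (op V)) (h : Discrete (V ⟶ U)) :
    Subsingleton (k ⟶ (overIncl U V).obj h) := by
  constructor
  intro a b
  have ha := CostructuredArrow.w a
  have hb := CostructuredArrow.w b
  apply CostructuredArrow.hom_ext
  apply Quiver.Hom.unop_inj
  apply Over.OverMorphism.ext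
  have ha' : 𝟙 V ≫ a.left.unop.left = k.hom.unop := congrArg Quiver.Hom.unop ha
  have hb' : 𝟙 V ≫ b.left.unop.left = k.hom.unop := congrArg Quiver.Hom.unop hb
  exact ((Category.id_comp _).symm.trans ha').trans (hb'.symm.trans (Category.id_comp _))

def overAdj (V : C) : overProj U V ⊣ overIncl U V :=
  Adjunction.mkOfHomEquiv
    { homEquiv := fun k h =>
        { toFun := fun e => CostructuredArrow.homMk
            (Over.homMk (U := Over.mk h.as) (V := k.left.unop) k.hom.unop
              (Discrete.eq_of_hom e)).op (by
              apply Quiver.Hom.unop_inj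
              exact Category.id_comp _)
          invFun := fun φ => eqToHom (by
            have := overProj_aux U V φ
            apply Discrete.ext
            simp only [overProj]
            rw [this]
            exact Category.id_comp _)
          left_inv := fun _ => Subsingleton.elim _ _
          right_inv := fun _ => Subsingleton.elim _ _ }
      homEquiv_naturality_left_symm := fun _ _ => Subsingleton.elim _ _
      homEquiv_naturality_right := fun _ _ => Subsingleton.elim _ _ }

instance (V : C) : (overIncl U V).Final := Functor.final_of_adjunction (overAdj U V)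

instance hasExactColimits_costructuredArrow_over (K : Cᵒᵖ) :
    HasExactColimitsOfShape (CostructuredArrow (Over.forget U).op K) AddCommGrpCat.{u} :=
  hasExactColimitsOfShape_of_final AddCommGrpCat.{u} (overIncl U K.unop)

instance lan_overForget_preservesFiniteLimits :
    PreservesFiniteLimits ((Over.forget U).op.lan :
      ((Over U)ᵒᵖ ⥤ AddCommGrpCat.{u}) ⥤ (Cᵒᵖ ⥤ AddCommGrpCat.{u})) :=
  lan_preservesFiniteLimits_of_hasExactColimits _ _ (fun _ => inferInstance)

variable (J : GrothendieckTopology C)

/-- restriction of abelian sheaves to the over-site -/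
noncomputable abbrev jUp : Sheaf J AddCommGrpCat.{u} ⥤ Sheaf (J.over U) AddCommGrpCat.{u} :=
  (Over.forget U).sheafPushforwardContinuous AddCommGrpCat.{u} (J.over U) J

/-- extension by zero of abelian sheaves from the over-site -/
noncomputable def jShriek : Sheaf (J.over U) AddCommGrpCat.{u} ⥤ Sheaf J AddCommGrpCat.{u} :=
  Functor.sheafPullbackConstruction.sheafPullback (Over.forget U) AddCommGrpCat.{u} _ _

/-- extension by zero is left adjoint to restriction -/
noncomputable def jShriekAdj : jShriek U J ⊣ jUp U J :=
  Functor.sheafPullbackConstruction.sheafAdjunctionContinuous (Over.forget U) AddCommGrpCat.{u} _ _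

instance : PreservesFiniteLimits (jShriek U J) := by
  have : PreservesFiniteLimits ((Over.forget U).op.lan ⋙ presheafToSheaf J
      AddCommGrpCat.{u}) := comp_preservesFiniteLimits _ _
  exact comp_preservesFiniteLimits _ _

instance : PreservesColimitsOfSize.{u, u} (jUp U J) :=
  (Functor.sheafAdjunctionCocontinuous (Over.forget U) AddCommGrpCat.{u} _ _).leftAdjoint_preservesColimits

instance : PreservesLimitsOfSize.{u, u} (jUp U J) :=
  (jShriekAdj U J).rightAdjoint_preservesLimits

instance : PreservesColimitsOfSize.{u, u} (jShriek U J) :=
  (jShriekAdj U J).leftAdjoint_preservesColimits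

instance jUp_additive : (jUp U J).Additive where

instance : (jShriek U J).Additive := (jShriekAdj U J).left_adjoint_additive

end Groth.Agent.Lib.Helper28
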