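import Mathlib
import Groth.Agent.Lib.Helper28.SiteShriek
import Groth.Agent.Lib.Helper4.FreeSheafSite

/-!
# `j_! ℤ ≅ ℤ_U` on a small site, and `H^n(U, F) ≃+ H^n(C/U, F|_{C/U})`

* `isoOfCorep`: two objects corepresenting the same functor are isomorphic (elementary form).
* `extCongrLeftAdd`: `Ext Y Z n ≃+ Ext X Z n` for `X ≅ Y`.
* `jShriekConstEquiv`, `jShriekConstIso : j_! ℤ ≅ ZU J U`.
* `HUEquivHOver : CohSite.HU F n U ≃+ Sheaf.H (F.over U) n`.
-/

universe u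
open CategoryTheory Limits Opposite Abelian

namespace Groth.Agent.Lib.Helper28

section Corep
universe v' u'
variable {𝒜 : Type u'} [Category.{v'} 𝒜]

/-- Two objects corepresenting the same "functor" are isomorphic. -/
def isoOfCorep {A₁ A₂ : 𝒜} (S : 𝒜 → Type*) (Smap : ∀ {F G : 𝒜}, (F ⟶ G) → S F → S G)
    (e₁ : ∀ F, (A₁ ⟶ F) ≃ S F) (e₂ : ∀ F, (A₂ ⟶ F) ≃ S F)
    (h₁ : ∀ {F G : 𝒜} (φ : A₁ ⟶ F) (f : F ⟶ G), e₁ G (φ ≫ f) = Smap f (e₁ F φ))
    (h₂ : ∀ {F G : 𝒜} (φ : A₂ ⟶ F) (f : F ⟶ G), e₂ G (φ ≫ f) = Smap f (e₂ F φ)) : A₁ ≅ A₂ where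
  hom := (e₁ A₂).symm (e₂ A₂ (𝟙 A₂))
  inv := (e₂ A₁).symm (e₁ A₁ (𝟙 A₁))
  hom_inv_id := by
    apply (e₁ A₁).injective
    rw [h₁, Equiv.apply_symm_apply, ← h₂, Category.id_comp, Equiv.apply_symm_apply]
  inv_hom_id := by
    apply (e₂ A₂).injective
    rw [h₂, Equiv.apply_symm_apply, ← h₁, Category.id_comp, Equiv.apply_symm_apply]

end Corep

section ExtCongr
universe w v' u'
variable {𝒜 : Type u'} [Category.{v'} 𝒜] [Abelian 𝒜] [HasExt.{w} 𝒜]

/-- `Ext` congruence in the first variable (additive version, any abelian category). -/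
noncomputable def extCongrLeftAdd {X Y : 𝒜} (e : X ≅ Y) (Z : 𝒜) (n : ℕ) :
    Ext.{w} Y Z n ≃+ Ext.{w} X Z n where
  toFun α := (Ext.mk₀ e.hom).comp α (zero_add n)
  invFun β := (Ext.mk₀ e.inv).comp β (zero_add n)
  map_add' := by simp
  left_inv α := by simp
  right_inv β := by simp

end ExtCongr

variable {C : Type u} [SmallCategory C] (U : C) (J : GrothendieckTopology C)

/-- the constant sheaf `ℤ` on the over-site -/
noncomputable abbrev constZ : Sheaf (J.over U) AddCommGrpCat.{u} :=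
  (constantSheaf (J.over U) AddCommGrpCat.{u}).obj (AddCommGrpCat.of (ULift ℤ))

/-- maps out of `j_! ℤ` are sections over `U` -/
noncomputable def jShriekConstEquiv (F : Sheaf J AddCommGrpCat.{u}) :
    ((jShriek U J).obj (constZ U J) ⟶ F) ≃ F.obj.obj (op U) :=
  ((jShriekAdj U J).homEquiv (constZ U J) F).trans
    (((constantSheafAdj (J.over U) AddCommGrpCat.{u} Over.mkIdTerminal).homEquiv
      (AddCommGrpCat.of (ULift ℤ)) ((jUp U J).obj F)).trans
      (AddCommGrpCat.uliftZMultiplesAddEquiv _).toEquiv)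

lemma jShriekConstEquiv_comp {F G : Sheaf J AddCommGrpCat.{u}}
    (φ : (jShriek U J).obj (constZ U J) ⟶ F) (f : F ⟶ G) :
    jShriekConstEquiv U J G (φ ≫ f) = f.hom.app (op U) (jShriekConstEquiv U J F φ) := by
  have h1 := (jShriekAdj U J).homEquiv_naturality_right φ f
  have h2 := (constantSheafAdj (J.over U) AddCommGrpCat.{u} Over.mkIdTerminal).homEquiv_naturality_right
    ((jShriekAdj U J).homEquiv (constZ U J) F φ) ((jUp U J).map f)
  show (AddCommGrpCat.uliftZMultiplesAddEquiv _)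
      ((constantSheafAdj (J.over U) AddCommGrpCat.{u} Over.mkIdTerminal).homEquiv _ _
        ((jShriekAdj U J).homEquiv (constZ U J) G (φ ≫ f))) = _
  rw [h1, h2]
  rfl

/-- `j_! ℤ ≅ ℤ_U` -/
noncomputable def jShriekConstIso :
    (jShriek U J).obj (constZ U J) ≅ Groth.Agent.Lib.Helper4.ZU J U :=
  isoOfCorep (fun F => F.obj.obj (op U)) (fun f => f.hom.app (op U))
    (jShriekConstEquiv U J) (fun F => Groth.Agent.Lib.Helper4.ZUequiv U F)
    (fun φ f => jShriekConstEquiv_comp U J φ f)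
    (fun φ f => by
      rw [Groth.Agent.Lib.Helper4.ZUequiv_apply, Groth.Agent.Lib.Helper4.ZUequiv_apply,
        Groth.Agent.Lib.Helper4.ZUev_comp])

/-- `H^n(U, F) ≃+ H^n(C/U, F|_{C/U})`. -/
noncomputable def HUEquivHOver (F : Sheaf J AddCommGrpCat.{u}) (n : ℕ) :
    CohSite.HU F n U ≃+ Sheaf.H.{u} (F.over U) n :=
  (extCongrLeftAdd (jShriekConstIso U J) F n).trans
    (Groth.Agent.Lib.Helper5.extAdjAddEquiv (jShriekAdj U J) (constZ U J) F n)

end Groth.Agent.Lib.Helper28
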