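import Mathlib
import Groth.Agent.Lib.Helper28.SiteShriek2
import Groth.Prelude.Def_CohCx

/-!
# `j_!` commutes with free abelian sheaves; totally acyclic sheaves restrict to over-sites

* `jShriekSet U J ⊣ jUpSet U J` for sheaves of sets, `freeSh K ⊣ sheafCompose K (forget Ab)`.
* `jShriekFreeIso : freeSh (J.over U) ⋙ jShriek U J ≅ jShriekSet U J ⋙ freeSh J`.
* `isTotallyAcyclic_jUp`.
-/

universe u
open CategoryTheory Limits Opposite Abelian

namespace Groth.Agent.Lib.Helper28

variable {C : Type u} [SmallCategory C] (U : C) (J : GrothendieckTopology C)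

/-- restriction of sheaves of sets to the over-site -/
noncomputable abbrev jUpSet : Sheaf J (Type u) ⥤ Sheaf (J.over U) (Type u) :=
  (Over.forget U).sheafPushforwardContinuous (Type u) (J.over U) J

/-- `j_!` for sheaves of sets -/
noncomputable def jShriekSet : Sheaf (J.over U) (Type u) ⥤ Sheaf J (Type u) :=
  (Over.forget U).sheafPullback (Type u) (J.over U) J

noncomputable def jShriekSetAdj : jShriekSet U J ⊣ jUpSet U J :=
  (Over.forget U).sheafAdjunctionContinuous (Type u) (J.over U) J

/-- free abelian sheaf functor -/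
noncomputable abbrev freeSh {D : Type u} [SmallCategory D] (K : GrothendieckTopology D) :
    Sheaf K (Type u) ⥤ Sheaf K AddCommGrpCat.{u} :=
  Sheaf.composeAndSheafify K AddCommGrpCat.free.{u}

noncomputable def freeShAdj {D : Type u} [SmallCategory D] (K : GrothendieckTopology D) :
    freeSh K ⊣ sheafCompose K (forget AddCommGrpCat.{u}) :=
  Sheaf.adjunction K AddCommGrpCat.adj.{u}

/-- the two composite right adjoints agree -/
noncomputable def rightIso :
    jUp U J ⋙ sheafCompose (J.over U) (forget AddCommGrpCat.{u}) ≅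
      sheafCompose J (forget AddCommGrpCat.{u}) ⋙ jUpSet U J :=
  NatIso.ofComponents (fun F => Iso.refl _) (by intros; rfl)

/-- `j_! ℤ[K] ≅ ℤ[j_! K]` -/
noncomputable def jShriekFreeIso :
    freeSh (J.over U) ⋙ jShriek U J ≅ jShriekSet U J ⋙ freeSh J :=
  Adjunction.leftAdjointUniq
    ((freeShAdj (J.over U)).comp (jShriekAdj U J))
    (((jShriekSetAdj U J).comp (freeShAdj J)).ofNatIsoRight (rightIso U J).symm)

/-- restriction to the over-site preserves totally acyclic sheaves -/
theorem isTotallyAcyclic_jUp (F : Sheaf J AddCommGrpCat.{u}) (hF : CohCx.IsTotallyAcyclic F) :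
    CohCx.IsTotallyAcyclic ((jUp U J).obj F) := by
  intro K p
  have h := hF ((jShriekSet U J).obj K) p
  let e1 := Groth.Agent.Lib.Helper5.extAdjAddEquiv (jShriekAdj U J) ((freeSh (J.over U)).obj K) F (p + 1)
  let e2 := extCongrLeftAdd ((jShriekFreeIso U J).app K) F (p + 1)
  exact (e1.symm.trans e2.symm).toEquiv.subsingleton_congr.mpr h

end Groth.Agent.Lib.Helper28
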