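import Mathlib

/-!
# The telescope sequence of a sequential system of modules

For a directed system `(G n, f)` of `R`-modules indexed by `ℕ`:
`D = 1 - shift : ⨁ G n → ⨁ G n` is injective (`D_injective`), any compatible family kills its range
(`toModule_comp_D`), `lof n y ∈ range D` forces `y` to die at a later stage
(`exists_map_eq_zero_of_lof_mem`), and `0 → ⨁ G → ⨁ G → M → 0` is exact for a colimit-like target
(`telescope_exact`).
-/

set_option autoImplicit false
universe u v
open DirectSum

namespace Groth.Agent.Lib.Helper28.Telescope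

section Alg

variable {R : Type u} [Ring R] (G : ℕ → Type v) [∀ n, AddCommGroup (G n)] [∀ n, Module R (G n)]
  (f : ∀ i j, i ≤ j → G i →ₗ[R] G j) [DirectedSystem G fun i j h => f i j h]

/-- the shift on the direct sum -/
noncomputable def sh : (⨁ n, G n) →ₗ[R] (⨁ n, G n) :=
  DirectSum.toModule R ℕ _ (fun n => (DirectSum.lof R ℕ G (n + 1)) ∘ₗ f n (n + 1) (Nat.le_succ n))

/-- `1 - shift` -/
noncomputable def D : (⨁ n, G n) →ₗ[R] (⨁ n, G n) := LinearMap.id - sh G f

omit [DirectedSystem G fun i j h => f i j h] in
lemma sh_lof (n : ℕ) (a : G n) :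
    sh G f (DirectSum.lof R ℕ G n a) = DirectSum.lof R ℕ G (n + 1) (f n (n + 1) (Nat.le_succ n) a) := by
  simp [sh, DirectSum.toModule_lof]

omit [DirectedSystem G fun i j h => f i j h] in
lemma D_lof (n : ℕ) (a : G n) :
    D G f (DirectSum.lof R ℕ G n a) =
      DirectSum.lof R ℕ G n a - DirectSum.lof R ℕ G (n + 1) (f n (n + 1) (Nat.le_succ n) a) := by
  simp [D, sh_lof]

omit [DirectedSystem G fun i j h => f i j h] in
lemma component_zero_sh (x : ⨁ n, G n) : DirectSum.component R ℕ G 0 (sh G f x) = 0 := by
  induction x using DirectSum.induction_on with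
  | zero => simp
  | of i a =>
    change DirectSum.component R ℕ G 0 (sh G f (DirectSum.lof R ℕ G i a)) = 0
    rw [sh_lof, DirectSum.component.of, dif_neg (Nat.succ_ne_zero i)]
  | add x y hx hy => rw [map_add, map_add, hx, hy, add_zero]

omit [DirectedSystem G fun i j h => f i j h] in
lemma component_succ_sh (n : ℕ) (x : ⨁ n, G n) :
    DirectSum.component R ℕ G (n + 1) (sh G f x) =
      f n (n + 1) (Nat.le_succ n) (DirectSum.component R ℕ G n x) := by
  induction x using DirectSum.induction_on with
  | zero => simp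
  | of i a =>
    change DirectSum.component R ℕ G (n + 1) (sh G f (DirectSum.lof R ℕ G i a)) =
      f n (n + 1) (Nat.le_succ n) (DirectSum.component R ℕ G n (DirectSum.lof R ℕ G i a))
    rw [sh_lof]
    by_cases h : i = n
    · subst h
      rw [DirectSum.component.lof_self, DirectSum.component.lof_self]
    · rw [DirectSum.component.of, DirectSum.component.of, dif_neg h,
        dif_neg (fun h' => h (Nat.succ_injective h')), map_zero]
  | add x y hx hy => rw [map_add, map_add, hx, hy, map_add, map_add]

omit [DirectedSystem G fun i j h => f i j h] in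
theorem D_injective : Function.Injective (D G f) := by
  rw [injective_iff_map_eq_zero]
  intro x hx
  have hx' : ∀ n, DirectSum.component R ℕ G n x = DirectSum.component R ℕ G n (sh G f x) := by
    intro n
    have : D G f x = x - sh G f x := rfl
    rw [this, sub_eq_zero] at hx
    rw [← hx]
  have h0 : ∀ n, DirectSum.component R ℕ G n x = 0 := by
    intro n
    induction n with
    | zero => rw [hx', component_zero_sh]
    | succ n ih => rw [hx', component_succ_sh, ih, map_zero]
  apply DirectSum.ext_component R
  intro n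
  rw [h0, map_zero]

lemma lof_sub_lof_mem (n m : ℕ) (h : n ≤ m) (a : G n) :
    DirectSum.lof R ℕ G n a - DirectSum.lof R ℕ G m (f n m h a) ∈ LinearMap.range (D G f) := by
  induction m, h using Nat.le_induction with
  | base =>
    have : f n n (le_refl n) a = a := Module.DirectedSystem.map_self f a
    rw [this, sub_self]
    exact Submodule.zero_mem _
  | succ m h ih =>
    have h1 : f m (m + 1) (Nat.le_succ m) (f n m h a) = f n (m + 1) (Nat.le_succ_of_le h) a :=
      Module.DirectedSystem.map_map f h (Nat.le_succ m) a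
    have h2 : DirectSum.lof R ℕ G n a - DirectSum.lof R ℕ G (m + 1) (f n (m + 1) (Nat.le_succ_of_le h) a) =
        (DirectSum.lof R ℕ G n a - DirectSum.lof R ℕ G m (f n m h a)) +
          D G f (DirectSum.lof R ℕ G m (f n m h a)) := by
      rw [D_lof, h1]
      abel
    rw [h2]
    exact Submodule.add_mem _ ih ⟨_, rfl⟩

theorem exists_lof_sub_mem (x : ⨁ n, G n) :
    ∃ (N : ℕ) (y : G N), x - DirectSum.lof R ℕ G N y ∈ LinearMap.range (D G f) := by
  induction x using DirectSum.induction_on with
  | zero => exact ⟨0, 0, by simp⟩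
  | of i a =>
    refine ⟨i, a, ?_⟩
    change DirectSum.lof R ℕ G i a - DirectSum.lof R ℕ G i a ∈ _
    rw [sub_self]
    exact Submodule.zero_mem _
  | add x x' hx hx' =>
    obtain ⟨N, y, hy⟩ := hx
    obtain ⟨N', y', hy'⟩ := hx'
    refine ⟨max N N', f N _ (le_max_left N N') y + f N' _ (le_max_right N N') y', ?_⟩
    have h1 := lof_sub_lof_mem G f N _ (le_max_left N N') y
    have h2 := lof_sub_lof_mem G f N' _ (le_max_right N N') y'
    have : x + x' - DirectSum.lof R ℕ G (max N N')
        (f N _ (le_max_left N N') y + f N' _ (le_max_right N N') y') =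
        (x - DirectSum.lof R ℕ G N y) + (x' - DirectSum.lof R ℕ G N' y') +
          (DirectSum.lof R ℕ G N y - DirectSum.lof R ℕ G _ (f N _ (le_max_left N N') y)) +
          (DirectSum.lof R ℕ G N' y' - DirectSum.lof R ℕ G _ (f N' _ (le_max_right N N') y')) := by
      rw [map_add]
      abel
    rw [this]
    exact Submodule.add_mem _ (Submodule.add_mem _ (Submodule.add_mem _ hy hy') h1) h2

omit [DirectedSystem G fun i j h => f i j h] in
/-- a compatible family of maps kills the range of `1 - shift` -/
lemma toModule_comp_D {M : Type*} [AddCommGroup M] [Module R M] (φ : ∀ n, G n →ₗ[R] M)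
    (hφ : ∀ n (a : G n), φ (n + 1) (f n (n + 1) (Nat.le_succ n) a) = φ n a) (x : ⨁ n, G n) :
    DirectSum.toModule R ℕ M φ (D G f x) = 0 := by
  induction x using DirectSum.induction_on with
  | zero => simp
  | of i a =>
    change DirectSum.toModule R ℕ M φ (D G f (DirectSum.lof R ℕ G i a)) = 0
    rw [D_lof, map_sub, DirectSum.toModule_lof, DirectSum.toModule_lof, hφ, sub_self]
  | add x y hx hy => rw [map_add, map_add, hx, hy, add_zero]

theorem exists_map_eq_zero_of_lof_mem (n : ℕ) (y : G n)
    (h : DirectSum.lof R ℕ G n y ∈ LinearMap.range (D G f)) :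
    ∃ (m : ℕ) (hnm : n ≤ m), f n m hnm y = 0 := by
  obtain ⟨z, hz⟩ := h
  have h1 := toModule_comp_D G f (fun n => Module.DirectLimit.of R ℕ G f n)
    (fun n a => Module.DirectLimit.of_f) z
  rw [hz, DirectSum.toModule_lof] at h1
  exact Module.DirectLimit.of.zero_exact h1

/-- exactness of the telescope sequence against a colimit-like target -/
theorem telescope_exact {M : Type*} [AddCommGroup M] [Module R M] (φ : ∀ n, G n →ₗ[R] M)
    (hφ : ∀ n (a : G n), φ (n + 1) (f n (n + 1) (Nat.le_succ n) a) = φ n a)
    (hsurj : ∀ m : M, ∃ (n : ℕ) (y : G n), φ n y = m)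
    (hzero : ∀ (n : ℕ) (y : G n), φ n y = 0 → ∃ (m : ℕ) (hnm : n ≤ m), f n m hnm y = 0) :
    Function.Injective (D G f) ∧
      Function.Exact (D G f) (DirectSum.toModule R ℕ M φ) ∧
      Function.Surjective (DirectSum.toModule R ℕ M φ) := by
  refine ⟨D_injective G f, ?_, ?_⟩
  · intro x
    constructor
    · intro hx
      obtain ⟨N, y, hy⟩ := exists_lof_sub_mem G f x
      obtain ⟨z, hz⟩ := hy
      have h1 : DirectSum.toModule R ℕ M φ (DirectSum.lof R ℕ G N y) = 0 := by
        have : DirectSum.lof R ℕ G N y = x - D G f z := by rw [hz]; abel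
        rw [this, map_sub, hx, toModule_comp_D G f φ hφ, sub_zero]
      rw [DirectSum.toModule_lof] at h1
      obtain ⟨m, hnm, hm⟩ := hzero N y h1
      have h2 := lof_sub_lof_mem G f N m hnm y
      rw [hm, map_zero, sub_zero] at h2
      obtain ⟨z', hz'⟩ := h2
      refine ⟨z + z', ?_⟩
      rw [map_add, hz, hz']
      abel
    · rintro ⟨z, rfl⟩
      exact toModule_comp_D G f φ hφ z
  · intro m
    obtain ⟨n, y, rfl⟩ := hsurj m
    exact ⟨DirectSum.lof R ℕ G n y, DirectSum.toModule_lof _ _ _⟩

end Alg

end Groth.Agent.Lib.Helper28.Telescope
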