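import Mathlib
import Groth.Agent.Lib.Helper32.DCoprod
import Groth.Agent.Lib.Helper28.Telescope

/-!
# The telescope short exact sequence of complexes of modules

For `L : ℕ ⥤ Ch(R-Mod)` with colimit cocone `c`: the sequence
`0 → ∐ L_n --(1 - shift)--> ∐ L_n → c.pt → 0` (`shortExact_cx`), where `∐` is helper32's termwise
coproduct `sigmaCx` indexed by `ULift ℕ`.
-/

set_option autoImplicit false
universe u
open CategoryTheory CategoryTheory.Limits DirectSum

namespace Groth.Agent.Lib.Helper28.Telescope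

variable {R : Type u} [CommRing R]

instance hasColimitsOfShape_ulift :
    HasColimitsOfShape (Discrete (ULift.{u + 1} ℕ)) (ModuleCat.{u} R) :=
  hasColimitsOfShape_of_equivalence (Discrete.equivalence Equiv.ulift.symm)

instance hasExactColimitsOfShape_ulift :
    HasExactColimitsOfShape (Discrete (ULift.{u + 1} ℕ)) (ModuleCat.{u} R) :=
  HasExactColimitsOfShape.of_domain_equivalence _ (Discrete.equivalence Equiv.ulift.symm)

section Mod

variable (F : ℕ ⥤ ModuleCat.{u} R)

/-- the transition maps -/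
def fm (i j : ℕ) (h : i ≤ j) : F.obj i →ₗ[R] F.obj j := (F.map (homOfLE h)).hom

instance : DirectedSystem (fun n => F.obj n) (fun i j h => fm F i j h) where
  map_self i x := by
    change (F.map (homOfLE (le_refl i))).hom x = x
    have : homOfLE (le_refl i) = 𝟙 i := rfl
    rw [this, F.map_id]
    rfl
  map_map k j i hij hjk x := by
    change (F.map (homOfLE hjk)).hom ((F.map (homOfLE hij)).hom x) = (F.map (homOfLE (hij.trans hjk))).hom x
    have : homOfLE (hij.trans hjk) = homOfLE hij ≫ homOfLE hjk := rfl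
    rw [this, F.map_comp]
    rfl

/-- the concrete cofan over `ULift ℕ` -/
noncomputable def cofanDS : Cofan (fun j : ULift.{u + 1} ℕ => F.obj j.down) :=
  Cofan.mk (ModuleCat.of R (⨁ n, F.obj n))
    (fun j => ModuleCat.ofHom (DirectSum.lof R ℕ (fun n => F.obj n) j.down))

noncomputable def isColimitCofanDS : IsColimit (cofanDS F) :=
  Cofan.IsColimit.mk _
    (fun s => ModuleCat.ofHom (DirectSum.toModule R ℕ _ (fun n => (s.inj ⟨n⟩).hom)))
    (fun s j => by
      ext x
      change DirectSum.toModule R ℕ _ (fun n => (s.inj ⟨n⟩).hom)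
        (DirectSum.lof R ℕ (fun n => F.obj n) j.down x) = _
      rw [DirectSum.toModule_lof])
    (fun s m hm => by
      ext : 1
      refine DirectSum.linearMap_ext _ fun n => ?_
      ext x
      have := congrArg (fun φ => φ.hom x) (hm ⟨n⟩)
      change m.hom (DirectSum.lof R ℕ (fun n => F.obj n) n x) = _ at this
      change m.hom (DirectSum.lof R ℕ (fun n => F.obj n) n x) =
        DirectSum.toModule R ℕ _ (fun n => (s.inj ⟨n⟩).hom)
          (DirectSum.lof R ℕ (fun n => F.obj n) n x)
      rw [this, DirectSum.toModule_lof])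

/-- the abstract coproduct is the direct sum -/
noncomputable def sigmaIso :
    (∐ fun j : ULift.{u + 1} ℕ => F.obj j.down) ≅ ModuleCat.of R (⨁ n, F.obj n) :=
  (coproductIsCoproduct _).coconePointUniqueUpToIso (isColimitCofanDS F)

@[reassoc (attr := simp)]
lemma ι_sigmaIso_hom (j : ULift.{u + 1} ℕ) :
    Sigma.ι (fun j : ULift.{u + 1} ℕ => F.obj j.down) j ≫ (sigmaIso F).hom =
      ModuleCat.ofHom (DirectSum.lof R ℕ (fun n => F.obj n) j.down) :=
  (coproductIsCoproduct _).comp_coconePointUniqueUpToIso_hom (isColimitCofanDS F) ⟨j⟩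

variable (c : Cocone F) (hc : IsColimit c)

/-- the shift on the abstract coproduct -/
noncomputable def shM : (∐ fun j : ULift.{u + 1} ℕ => F.obj j.down) ⟶
    (∐ fun j : ULift.{u + 1} ℕ => F.obj j.down) :=
  Sigma.desc (fun j => F.map (homOfLE (Nat.le_succ j.down)) ≫
    Sigma.ι (fun j : ULift.{u + 1} ℕ => F.obj j.down) ⟨j.down + 1⟩)

/-- the projection to the colimit -/
noncomputable def πM : (∐ fun j : ULift.{u + 1} ℕ => F.obj j.down) ⟶ c.pt :=
  Sigma.desc (fun j => c.ι.app j.down)

lemma shM_sigmaIso : shM F ≫ (sigmaIso F).hom =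
    (sigmaIso F).hom ≫ ModuleCat.ofHom (sh (fun n => F.obj n) (fm F)) := by
  apply Sigma.hom_ext
  intro j
  rw [shM, Sigma.ι_desc_assoc, Category.assoc, ι_sigmaIso_hom, ι_sigmaIso_hom_assoc]
  apply ModuleCat.hom_ext
  apply LinearMap.ext
  intro x
  change DirectSum.lof R ℕ (fun n => F.obj n) (j.down + 1)
      ((F.map (homOfLE (Nat.le_succ j.down))).hom x) =
    sh (fun n => F.obj n) (fm F) (DirectSum.lof R ℕ (fun n => F.obj n) j.down x)
  rw [sh_lof]
  rfl

lemma πM_eq : πM F c = (sigmaIso F).hom ≫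
    ModuleCat.ofHom (DirectSum.toModule R ℕ c.pt (fun n => (c.ι.app n).hom)) := by
  apply Sigma.hom_ext
  intro j
  rw [πM, Sigma.ι_desc, ι_sigmaIso_hom_assoc]
  apply ModuleCat.hom_ext
  apply LinearMap.ext
  intro x
  change (c.ι.app j.down).hom x = DirectSum.toModule R ℕ c.pt (fun n => (c.ι.app n).hom)
    (DirectSum.lof R ℕ (fun n => F.obj n) j.down x)
  rw [DirectSum.toModule_lof]

lemma sub_shM_πM : (𝟙 _ - shM F) ≫ πM F c = 0 := by
  apply Sigma.hom_ext
  intro j
  rw [Preadditive.sub_comp, Preadditive.comp_sub, Category.id_comp, comp_zero, shM, πM,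
    Sigma.ι_desc_assoc, Category.assoc, Sigma.ι_desc, Sigma.ι_desc]
  rw [c.w, sub_self]

instance preservesColimit_forget_nat : PreservesColimit F (forget (ModuleCat.{u} R)) := by
  haveI : PreservesFilteredColimitsOfSize.{0, 0} (forget (ModuleCat.{u} R)) :=
    preservesFilteredColimitsOfSize_shrink.{0, u, 0, u} _
  haveI : PreservesColimitsOfShape ℕ (forget (ModuleCat.{u} R)) :=
    PreservesFilteredColimitsOfSize.preserves_filtered_colimits ℕ
  infer_instance

include hc in
theorem shortExact_mod : (ShortComplex.mk (𝟙 _ - shM F) (πM F c) (sub_shM_πM F c)).ShortExact := by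
  -- the concrete short complex
  have hφ : ∀ n (a : F.obj n), (c.ι.app (n + 1)).hom (fm F n (n + 1) (Nat.le_succ n) a) =
      (c.ι.app n).hom a := by
    intro n a
    have := c.w (homOfLE (Nat.le_succ n))
    exact congrArg (fun φ => φ.hom a) this
  have hsurj : ∀ m : c.pt, ∃ (n : ℕ) (y : F.obj n), (c.ι.app n).hom y = m := by
    intro m
    exact Concrete.isColimit_exists_rep F hc m
  have hzero : ∀ (n : ℕ) (y : F.obj n), (c.ι.app n).hom y = 0 →
      ∃ (m : ℕ) (hnm : n ≤ m), fm F n m hnm y = 0 := by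
    intro n y hy
    have h0 : (c.ι.app n) y = (c.ι.app n) (0 : F.obj n) := by
      rw [map_zero]; exact hy
    obtain ⟨k, f, g, hfg⟩ := Concrete.isColimit_exists_of_rep_eq F hc y (0 : F.obj n) h0
    refine ⟨k, leOfHom f, ?_⟩
    have : F.map g (0 : F.obj n) = 0 := map_zero _
    rw [this] at hfg
    exact hfg
  obtain ⟨hinj, hex, hsur⟩ := telescope_exact (M := c.pt) (fun n => F.obj n) (fm F)
    (fun n => (c.ι.app n).hom) hφ hsurj hzero
  let S' : ShortComplex (ModuleCat.{u} R) :=
    ShortComplex.mk (ModuleCat.ofHom (D (fun n => F.obj n) (fm F)))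
      (ModuleCat.ofHom (DirectSum.toModule R ℕ c.pt (fun n => (c.ι.app n).hom))) (by
        apply ModuleCat.hom_ext
        apply LinearMap.ext
        intro x
        exact hex.apply_apply_eq_zero x)
  have hS' : S'.ShortExact := ModuleCat.shortComplex_shortExact S' hex hinj hsur
  let S : ShortComplex (ModuleCat.{u} R) :=
    ShortComplex.mk (𝟙 _ - shM F) (πM F c) (sub_shM_πM F c)
  suffices h : ∃ e : S ≅ S', True by
    obtain ⟨e, -⟩ := h
    exact ShortComplex.shortExact_of_iso e.symm hS'
  refine ⟨ShortComplex.isoMk (sigmaIso F) (sigmaIso F) (Iso.refl _) ?_ ?_, trivial⟩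
  · change (sigmaIso F).hom ≫ ModuleCat.ofHom (D (fun n => F.obj n) (fm F)) =
      (𝟙 _ - shM F) ≫ (sigmaIso F).hom
    symm
    rw [Preadditive.sub_comp, Category.id_comp, shM_sigmaIso]
    have : ModuleCat.ofHom (D (fun n => F.obj n) (fm F)) =
        𝟙 _ - ModuleCat.ofHom (sh (fun n => F.obj n) (fm F)) := rfl
    rw [this, Preadditive.comp_sub, Category.comp_id]
  · change (sigmaIso F).hom ≫ _ = πM F c ≫ 𝟙 _
    rw [Category.comp_id, πM_eq]

end Mod

section Cx

open Groth.Agent.Lib.Helper32.DCoprod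

variable (L : ℕ ⥤ CochainComplex (ModuleCat.{u} R) ℤ) (c : Cocone L) (hc : IsColimit c)

/-- the family of complexes indexed by `ULift ℕ` -/
abbrev Xc : ULift.{u + 1} ℕ → CochainComplex (ModuleCat.{u} R) ℤ := fun j => L.obj j.down

/-- the shift on the coproduct complex -/
noncomputable def shC : sigmaCx (Xc L) ⟶ sigmaCx (Xc L) :=
  sigmaDesc (fun j => L.map (homOfLE (Nat.le_succ j.down)) ≫ sigmaι (Xc L) ⟨j.down + 1⟩)

/-- the projection to the colimit complex -/
noncomputable def πC : sigmaCx (Xc L) ⟶ c.pt := sigmaDesc (fun j => c.ι.app j.down)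

@[reassoc]
lemma ι_shC (j : ULift.{u + 1} ℕ) : sigmaι (Xc L) j ≫ shC L =
    L.map (homOfLE (Nat.le_succ j.down)) ≫ sigmaι (Xc L) ⟨j.down + 1⟩ :=
  ι_sigmaDesc _ j

@[reassoc]
lemma ι_πC (j : ULift.{u + 1} ℕ) : sigmaι (Xc L) j ≫ πC L c = c.ι.app j.down :=
  ι_sigmaDesc _ j

lemma sub_shC_πC : (𝟙 _ - shC L) ≫ πC L c = 0 := by
  apply sigma_hom_ext
  intro j
  rw [Preadditive.sub_comp, Preadditive.comp_sub, Category.id_comp, comp_zero, ι_shC_assoc,
    ι_πC, ι_πC, c.w, sub_self]

include hc in
theorem shortExact_cx :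
    (ShortComplex.mk (𝟙 _ - shC L) (πC L c) (sub_shC_πC L c)).ShortExact := by
  apply HomologicalComplex.shortExact_of_degreewise_shortExact
  intro q
  have h := shortExact_mod (L ⋙ HomologicalComplex.eval _ _ q)
    ((HomologicalComplex.eval _ _ q).mapCocone c)
    (isColimitOfPreserves (HomologicalComplex.eval _ _ q) hc)
  refine ShortComplex.shortExact_of_iso (ShortComplex.isoMk (Iso.refl _) (Iso.refl _)
    (Iso.refl _) ?_ ?_) h
  · simp only [Iso.refl_hom, Category.id_comp, Category.comp_id]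
  · simp only [Iso.refl_hom, Category.id_comp, Category.comp_id]

end Cx

end Groth.Agent.Lib.Helper28.Telescope
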