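import Mathlib
import Groth.Prelude.Def_CohDer
import Groth.Agent.Lib.Helper28.Telescope

/-!
# Maps from a countably-compact object into a sequential coproduct

`𝒟` preadditive, `Φ : ℕ ⥤ 𝒟`, `C` a coproduct of the `Φ n` (indexed by `ULift ℕ`), `s : C ⟶ C` the
shift, `K` an object for which `Hom(K, -)` commutes with this coproduct.
* `Ψ_bijective`: `⨁ Hom(K, Φ n) ≃ Hom(K, C)`;
* `eq_zero_of_comp_sub`: `(1 - s) ∘ -` is injective on `Hom(K, C)`;
* `exists_map_eq_zero`: if `y ≫ ι n` lies in the image of `(1 - s) ∘ -` then `y` dies at a later stage;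
* `exists_factor`: maps `K ⟶ C ⟶ Y` factor through a finite stage.
-/

set_option autoImplicit false
universe v u
open CategoryTheory CategoryTheory.Limits DirectSum

namespace Groth.Agent.Lib.Helper28.Telescope

section Abs

variable {𝒟 : Type u} [Category.{v} 𝒟] [Preadditive 𝒟] (Φ : ℕ ⥤ 𝒟) (K : 𝒟)

/-- the Hom groups out of `K` -/
abbrev GH (n : ℕ) : Type v := K ⟶ Φ.obj n

/-- transition maps on Hom groups -/
def fH (i j : ℕ) (h : i ≤ j) : GH Φ K i →ₗ[ℤ] GH Φ K j :=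
  (Preadditive.rightComp K (Φ.map (homOfLE h))).toIntLinearMap

lemma fH_apply (i j : ℕ) (h : i ≤ j) (y : K ⟶ Φ.obj i) :
    fH Φ K i j h y = y ≫ Φ.map (homOfLE h) := rfl

instance : DirectedSystem (GH Φ K) (fun i j h => fH Φ K i j h) where
  map_self i x := by
    rw [fH_apply]
    have : homOfLE (le_refl i) = 𝟙 i := rfl
    rw [this, Φ.map_id, Category.comp_id]
  map_map k j i hij hjk x := by
    rw [fH_apply, fH_apply, fH_apply]
    have : homOfLE (hij.trans hjk) = homOfLE hij ≫ homOfLE hjk := rfl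
    rw [this, Φ.map_comp, Category.assoc]

variable {C : 𝒟} (ι : ∀ n, Φ.obj n ⟶ C)

/-- the comparison map `⨁ Hom(K, Φ n) → Hom(K, C)` -/
noncomputable def Ψ : (⨁ n, GH Φ K n) →ₗ[ℤ] (K ⟶ C) :=
  DirectSum.toModule ℤ ℕ (K ⟶ C) (fun n => (Preadditive.rightComp K (ι n)).toIntLinearMap)

lemma Ψ_lof (n : ℕ) (y : K ⟶ Φ.obj n) :
    Ψ Φ K ι (DirectSum.lof ℤ ℕ (GH Φ K) n y) = y ≫ ι n := by
  rw [Ψ, DirectSum.toModule_lof]
  rfl

/-- reindexing `ℕ`-indexed sums to `ULift ℕ`-indexed sums -/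
noncomputable def reidx : (⨁ n, GH Φ K n) →+ (⨁ j : ULift.{v} ℕ, (K ⟶ Φ.obj j.down)) :=
  DirectSum.toAddMonoid (fun n => DirectSum.of (fun j : ULift.{v} ℕ => (K ⟶ Φ.obj j.down)) ⟨n⟩)

noncomputable def reidx' : (⨁ j : ULift.{v} ℕ, (K ⟶ Φ.obj j.down)) →+ (⨁ n, GH Φ K n) :=
  DirectSum.toAddMonoid (fun j => DirectSum.of (GH Φ K) j.down)

lemma reidx_bijective : Function.Bijective (reidx Φ K) := by
  have h1 : (reidx' Φ K).comp (reidx Φ K) = AddMonoidHom.id _ := by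
    apply DirectSum.addHom_ext
    intro n y
    simp [reidx, reidx']
  have h2 : (reidx Φ K).comp (reidx' Φ K) = AddMonoidHom.id _ := by
    apply DirectSum.addHom_ext
    intro j y
    simp [reidx, reidx']
  constructor
  · intro a b hab
    have := congrArg (reidx' Φ K) hab
    have ha := DFunLike.congr_fun h1 a
    have hb := DFunLike.congr_fun h1 b
    simp only [AddMonoidHom.comp_apply, AddMonoidHom.id_apply] at ha hb
    rw [ha, hb] at this
    exact this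
  · intro b
    exact ⟨reidx' Φ K b, DFunLike.congr_fun h2 b⟩

variable (hC : IsColimit (Cofan.mk C (fun j : ULift.{v} ℕ => ι j.down)))
  (hK : ∀ [HasCoproduct fun i : ULift.{v} ℕ => Φ.obj i.down],
      Function.Bijective (CohDer.homSumToHomCoprod K (fun i : ULift.{v} ℕ => Φ.obj i.down)))

include hC hK in
theorem Ψ_bijective : Function.Bijective (Ψ Φ K ι) := by
  haveI : HasCoproduct fun i : ULift.{v} ℕ => Φ.obj i.down := ⟨⟨_, hC⟩⟩
  let κ : (∐ fun i : ULift.{v} ℕ => Φ.obj i.down) ≅ C :=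
    (coproductIsCoproduct _).coconePointUniqueUpToIso hC
  have hκ : ∀ j : ULift.{v} ℕ, Sigma.ι (fun i : ULift.{v} ℕ => Φ.obj i.down) j ≫ κ.hom = ι j.down :=
    fun j => (coproductIsCoproduct _).comp_coconePointUniqueUpToIso_hom hC ⟨j⟩
  have hΨ : ∀ x, Ψ Φ K ι x =
      CohDer.homSumToHomCoprod K (fun i : ULift.{v} ℕ => Φ.obj i.down) (reidx Φ K x) ≫ κ.hom := by
    intro x
    induction x using DirectSum.induction_on with
    | zero => simp
    | of n y =>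
      change Ψ Φ K ι (DirectSum.lof ℤ ℕ (GH Φ K) n y) = _
      rw [Ψ_lof]
      have : reidx Φ K (DirectSum.of (GH Φ K) n y) =
          DirectSum.of (fun j : ULift.{v} ℕ => (K ⟶ Φ.obj j.down)) ⟨n⟩ y := by
        simp [reidx]
      rw [this]
      have h2 : CohDer.homSumToHomCoprod K (fun i : ULift.{v} ℕ => Φ.obj i.down)
          (DirectSum.of (fun j : ULift.{v} ℕ => (K ⟶ Φ.obj j.down)) ⟨n⟩ y) =
          y ≫ Sigma.ι (fun i : ULift.{v} ℕ => Φ.obj i.down) ⟨n⟩ := by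
        simp only [CohDer.homSumToHomCoprod]
        convert DirectSum.toAddMonoid_of (fun i => Preadditive.rightComp K
          (Sigma.ι (fun i : ULift.{v} ℕ => Φ.obj i.down) i)) ⟨n⟩ y
        rfl
      rw [h2, Category.assoc, hκ]
    | add x y hx hy =>
      rw [map_add, map_add, map_add, Preadditive.add_comp, hx, hy]
  have hbij := (hK).comp (reidx_bijective Φ K)
  constructor
  · intro a b hab
    rw [hΨ, hΨ, cancel_mono] at hab
    exact hbij.1 hab
  · intro z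
    obtain ⟨x, hx⟩ := hbij.2 (z ≫ κ.inv)
    refine ⟨x, ?_⟩
    rw [hΨ]
    change CohDer.homSumToHomCoprod K _ (reidx Φ K x) ≫ κ.hom = z
    have : CohDer.homSumToHomCoprod K (fun i : ULift.{v} ℕ => Φ.obj i.down) (reidx Φ K x) =
        z ≫ κ.inv := hx
    rw [this, Category.assoc, Iso.inv_hom_id, Category.comp_id]

variable (s : C ⟶ C) (hs : ∀ n, ι n ≫ s = Φ.map (homOfLE (Nat.le_succ n)) ≫ ι (n + 1))

include hs in
lemma Ψ_D (x : ⨁ n, GH Φ K n) :
    Ψ Φ K ι (D (GH Φ K) (fH Φ K) x) = Ψ Φ K ι x ≫ (𝟙 C - s) := by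
  induction x using DirectSum.induction_on with
  | zero => simp
  | of n y =>
    change Ψ Φ K ι (D (GH Φ K) (fH Φ K) (DirectSum.lof ℤ ℕ (GH Φ K) n y)) =
      Ψ Φ K ι (DirectSum.lof ℤ ℕ (GH Φ K) n y) ≫ (𝟙 C - s)
    rw [D_lof, map_sub, Ψ_lof, Ψ_lof, fH_apply, Preadditive.comp_sub, Category.comp_id,
      Category.assoc, Category.assoc, hs]
  | add x y hx hy =>
    rw [map_add, map_add, map_add, hx, hy, Preadditive.add_comp]

include hC hK hs in
theorem eq_zero_of_comp_sub (z : K ⟶ C) (hz : z ≫ (𝟙 C - s) = 0) : z = 0 := by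
  obtain ⟨z', rfl⟩ := (Ψ_bijective Φ K ι hC hK).2 z
  rw [← Ψ_D Φ K ι s hs] at hz
  have h1 : D (GH Φ K) (fH Φ K) z' = 0 := by
    apply (Ψ_bijective Φ K ι hC hK).1
    rw [hz, map_zero]
  have h2 : z' = 0 := by
    apply D_injective (GH Φ K) (fH Φ K)
    rw [h1, map_zero]
  rw [h2, map_zero]

include hC hK hs in
theorem exists_map_eq_zero (n : ℕ) (y : K ⟶ Φ.obj n) (z : K ⟶ C)
    (hyz : y ≫ ι n = z ≫ (𝟙 C - s)) :
    ∃ (m : ℕ) (h : n ≤ m), y ≫ Φ.map (homOfLE h) = 0 := by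
  obtain ⟨z', rfl⟩ := (Ψ_bijective Φ K ι hC hK).2 z
  rw [← Ψ_D Φ K ι s hs, ← Ψ_lof] at hyz
  have h1 := (Ψ_bijective Φ K ι hC hK).1 hyz
  exact exists_map_eq_zero_of_lof_mem (GH Φ K) (fH Φ K) n y ⟨z', h1.symm⟩

include hC hK in
theorem exists_factor {Y : 𝒟} (p : C ⟶ Y) (q : ∀ n, Φ.obj n ⟶ Y) (hq : ∀ n, ι n ≫ p = q n)
    (hqc : ∀ (n m : ℕ) (h : n ≤ m), Φ.map (homOfLE h) ≫ q m = q n) (z : K ⟶ C) :
    ∃ (n : ℕ) (y : K ⟶ Φ.obj n), y ≫ q n = z ≫ p := by
  obtain ⟨z', rfl⟩ := (Ψ_bijective Φ K ι hC hK).2 z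
  induction z' using DirectSum.induction_on with
  | zero => exact ⟨0, 0, by simp⟩
  | of n y =>
    refine ⟨n, y, ?_⟩
    change y ≫ q n = Ψ Φ K ι (DirectSum.lof ℤ ℕ (GH Φ K) n y) ≫ p
    rw [Ψ_lof, Category.assoc, hq]
  | add x x' hx hx' =>
    obtain ⟨n, y, hy⟩ := hx
    obtain ⟨n', y', hy'⟩ := hx'
    refine ⟨max n n', y ≫ Φ.map (homOfLE (le_max_left n n')) +
      y' ≫ Φ.map (homOfLE (le_max_right n n')), ?_⟩
    rw [map_add, Preadditive.add_comp, Preadditive.add_comp, Category.assoc, Category.assoc,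
      hqc, hqc, hy, hy']

end Abs

end Groth.Agent.Lib.Helper28.Telescope
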