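import Mathlib.RingTheory.TensorProduct.DirectLimitFG
import Mathlib.Algebra.Module.FinitePresentation
import Mathlib.LinearAlgebra.TensorProduct.RightExactness

/-!
# Exactness of `N ⊗ A ⟶ N ⊗ B ⟶ N ⊗ C` for all `N`, from the finitely presented case
-/

set_option autoImplicit false
universe u
open TensorProduct LinearMap

namespace Groth.Agent.Lib.Helper28.TensApprox

variable {R : Type u} [CommRing R] {A B C : Type u} [AddCommGroup A] [Module R A]
  [AddCommGroup B] [Module R B] [AddCommGroup C] [Module R C]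
  (f : A →ₗ[R] B) (g : B →ₗ[R] C)

/-- `N ⊗ A ⟶ N ⊗ B ⟶ N ⊗ C` is exact in the middle. -/
def LTExact (N : Type u) [AddCommGroup N] [Module R N] : Prop :=
  ∀ a : N ⊗[R] B, lTensor N g a = 0 → ∃ w : N ⊗[R] A, lTensor N f w = a

lemma ltExact_transfer {M N : Type u} [AddCommGroup M] [Module R M] [AddCommGroup N] [Module R N]
    (φ : M →ₗ[R] N) (hM : LTExact f g M) (a : N ⊗[R] B) (a' : M ⊗[R] B)
    (h1 : rTensor B φ a' = a) (h2 : lTensor M g a' = 0) :
    ∃ w : N ⊗[R] A, lTensor N f w = a := by
  obtain ⟨w', hw'⟩ := hM a' h2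
  refine ⟨rTensor A φ w', ?_⟩
  rw [← LinearMap.comp_apply, lTensor_comp_rTensor, ← rTensor_comp_lTensor, LinearMap.comp_apply,
    hw', h1]

/-- from finitely generated modules to all modules. -/
theorem ltExact_of_fg
    (h : ∀ (M : Type u) [AddCommGroup M] [Module R M], Module.Finite R M → LTExact f g M)
    (N : Type u) [AddCommGroup N] [Module R N] : LTExact f g N := by
  intro a ha
  obtain ⟨P, hP, t, ht⟩ := TensorProduct.exists_of_fg a
  have hu : rTensor C P.subtype (lTensor P g t) = 0 := by
    rw [← LinearMap.comp_apply, rTensor_comp_lTensor, ← lTensor_comp_rTensor,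
      LinearMap.comp_apply, ht, ha]
  obtain ⟨Q, hPQ, hQ, hQ0⟩ := TensorProduct.eq_zero_of_fg_of_subtype_eq_zero hP hu
  haveI : Module.Finite R Q := Module.Finite.iff_fg.2 hQ
  refine ltExact_transfer f g Q.subtype (h Q inferInstance) a
    (rTensor B (Submodule.inclusion hPQ) t) ?_ ?_
  · rw [← LinearMap.comp_apply, ← rTensor_comp, Submodule.subtype_comp_inclusion, ht]
  · rw [← LinearMap.comp_apply, lTensor_comp_rTensor, ← rTensor_comp_lTensor,
      LinearMap.comp_apply, hQ0]

/-- from finitely presented modules to finitely generated modules. -/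
theorem ltExact_of_fp
    (h : ∀ (M : Type u) [AddCommGroup M] [Module R M], Module.FinitePresentation R M →
      LTExact f g M)
    (N : Type u) [AddCommGroup N] [Module R N] [Module.Finite R N] : LTExact f g N := by
  intro a ha
  obtain ⟨n, π, hπ⟩ := Module.Finite.exists_fin' R N
  -- lift `a` to `F ⊗ B`
  obtain ⟨a₁, ha₁⟩ := rTensor_surjective B hπ a
  have hy : rTensor C π (lTensor (Fin n → R) g a₁) = 0 := by
    rw [← LinearMap.comp_apply, rTensor_comp_lTensor, ← lTensor_comp_rTensor,
      LinearMap.comp_apply, ha₁, ha]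
  have hex := rTensor_exact C (LinearMap.exact_subtype_ker_map π) hπ
  obtain ⟨z, hz⟩ := (hex _).1 hy
  obtain ⟨Z', hZ', z', hz'⟩ := TensorProduct.exists_of_fg z
  let Z'' : Submodule R (Fin n → R) := Z'.map (LinearMap.ker π).subtype
  have hZ'' : Z''.FG := hZ'.map _
  have hle : Z'' ≤ LinearMap.ker π := by
    rintro _ ⟨x, _, rfl⟩
    exact x.2
  haveI : Module.FinitePresentation R ((Fin n → R) ⧸ Z'') :=
    Module.finitePresentation_of_surjective Z''.mkQ (Submodule.mkQ_surjective _)
      (by rw [Submodule.ker_mkQ]; exact hZ'')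
  have hfac : (Z''.liftQ π hle).comp Z''.mkQ = π := Submodule.liftQ_mkQ _ _ _
  have hzero : (Z''.mkQ.comp (LinearMap.ker π).subtype).comp Z'.subtype = 0 := by
    ext x
    simp only [LinearMap.comp_apply, Submodule.subtype_apply, Submodule.mkQ_apply,
      LinearMap.zero_apply, Submodule.Quotient.mk_eq_zero]
    exact ⟨x.1, x.2, rfl⟩
  refine ltExact_transfer f g (Z''.liftQ π hle) (h _ inferInstance) a (rTensor B Z''.mkQ a₁) ?_ ?_
  · rw [← LinearMap.comp_apply, ← rTensor_comp, hfac, ha₁]
  · rw [← LinearMap.comp_apply, lTensor_comp_rTensor, ← rTensor_comp_lTensor,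
      LinearMap.comp_apply, ← hz, ← hz', ← LinearMap.comp_apply, ← LinearMap.comp_apply,
      ← rTensor_comp, ← rTensor_comp, hzero, rTensor_zero, LinearMap.zero_apply]

/-- from finitely presented modules to all modules. -/
theorem ltExact_of_forall_fp
    (h : ∀ (M : Type u) [AddCommGroup M] [Module R M], Module.FinitePresentation R M →
      LTExact f g M)
    (N : Type u) [AddCommGroup N] [Module R N] : LTExact f g N :=
  ltExact_of_fg f g (fun M _ _ _ => ltExact_of_fp f g h M) N

end Groth.Agent.Lib.Helper28.TensApprox
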