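import Groth.Agent.Lib.Helper28.TensCx
import Mathlib.RingTheory.Flat.Equalizer
import Mathlib.Algebra.Homology.HomologySequenceLemmas

/-!
# Tensor products of complexes of modules: diagonal maps and exactness
-/

set_option autoImplicit false
universe u
open CategoryTheory CategoryTheory.Limits Category MonoidalCategory

namespace Groth.Agent.Lib.Helper28.TensCx

variable {R : Type u} [CommRing R] (L P : DRing.Cx R)

lemma proj_apply_of_mem_G_lt (n m p : ℤ) (hp : m < p) (x : ↑((L ⊗ P).X n)) (hx : x ∈ G L P n m) :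
    (proj L P p (n - p) n (by omega)).hom x = 0 := by
  have hle : G L P n m ≤ LinearMap.ker (proj L P p (n - p) n (by omega)).hom := by
    refine iSup₂_le (fun p' hp' => ?_)
    rintro _ ⟨y, rfl⟩
    rw [LinearMap.mem_ker]
    change (ι L P p' (n - p') n (by omega) ≫ proj L P p (n - p) n (by omega)).hom y = 0
    rw [ι_proj_ne L P p' (n - p') p (n - p) n (by omega) (by omega) (by omega)]
    rfl
  exact hle hx

/-- every element is the finite sum of its components. -/
lemma exists_finset_sum (n : ℤ) (x : ↑((L ⊗ P).X n)) :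
    ∃ s : Finset ℤ, (∀ p, p ∉ s → (proj L P p (n - p) n (by omega)).hom x = 0) ∧
      x = ∑ p ∈ s, (ι L P p (n - p) n (by omega)).hom
        ((proj L P p (n - p) n (by omega)).hom x) := by
  classical
  have hx : x ∈ (⨆ (p : ℤ), LinearMap.range (ι L P p (n - p) n (by omega)).hom) := by
    rw [iSup_range_ι]; trivial
  induction hx using Submodule.iSup_induction' with
  | mem p x hx =>
    obtain ⟨y, rfl⟩ := hx
    have h1 : (proj L P p (n - p) n (by omega)).hom ((ι L P p (n - p) n (by omega)).hom y) = y := by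
      change (ι L P p (n - p) n (by omega) ≫ proj L P p (n - p) n (by omega)).hom y = y
      rw [ι_proj_self]; rfl
    refine ⟨{p}, fun p' hp' => ?_, ?_⟩
    · change (ι L P p (n - p) n (by omega) ≫ proj L P p' (n - p') n (by omega)).hom y = 0
      rw [ι_proj_ne L P p (n - p) p' (n - p') n (by omega) (by omega)
        (fun h => hp' (by rw [h]; exact Finset.mem_singleton_self _))]
      rfl
    · rw [Finset.sum_singleton, h1]
  | zero => exact ⟨∅, fun p _ => map_zero _, by simp⟩
  | add x y _ _ hx hy =>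
    obtain ⟨s, hs, hxs⟩ := hx
    obtain ⟨t, ht, hyt⟩ := hy
    refine ⟨s ∪ t, fun p hp => ?_, ?_⟩
    · rw [map_add, hs p (fun h => hp (Finset.mem_union_left _ h)),
        ht p (fun h => hp (Finset.mem_union_right _ h)), add_zero]
    · simp only [map_add, Finset.sum_add_distrib]
      congr 1
      · conv_lhs => rw [hxs]
        exact Finset.sum_subset Finset.subset_union_left
          (fun p _ hp => by rw [hs p hp, map_zero])
      · conv_lhs => rw [hyt]
        exact Finset.sum_subset Finset.subset_union_right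
          (fun p _ hp => by rw [ht p hp, map_zero])

lemma eq_zero_of_proj_eq_zero (n : ℤ) (x : ↑((L ⊗ P).X n))
    (h : ∀ p, (proj L P p (n - p) n (by omega)).hom x = 0) : x = 0 := by
  obtain ⟨s, _, hx⟩ := exists_finset_sum L P n x
  rw [hx]
  exact Finset.sum_eq_zero (fun p _ => by rw [h p, map_zero])

end Groth.Agent.Lib.Helper28.TensCx

namespace Groth.Agent.Lib.Helper28.TensCx

variable {R : Type u} [CommRing R] {L P L' P' L'' P'' : DRing.Cx R}

/-- `F` is diagonal with components `φ` (with respect to the decompositions in summands). -/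
def IsDiag (n : ℤ) (φ : ∀ p q : ℤ, L.X p ⊗ P.X q ⟶ L'.X p ⊗ P'.X q)
    (F : (L ⊗ P).X n ⟶ (L' ⊗ P').X n) : Prop :=
  ∀ (p q : ℤ) (h : p + q = n), ι L P p q n h ≫ F = φ p q ≫ ι L' P' p q n h

variable {n : ℤ} {φ : ∀ p q : ℤ, L.X p ⊗ P.X q ⟶ L'.X p ⊗ P'.X q}
  {F : (L ⊗ P).X n ⟶ (L' ⊗ P').X n}

lemma IsDiag.proj (hF : IsDiag n φ F) (p q : ℤ) (h : p + q = n) :
    F ≫ proj L' P' p q n h = proj L P p q n h ≫ φ p q := by
  apply hom_ext
  intro p' q' h'
  rw [← assoc, hF p' q' h', assoc, ← assoc (ι L P p' q' n h')]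
  by_cases hp : p' = p
  · subst hp
    obtain rfl : q' = q := by omega
    rw [ι_proj_self, ι_proj_self, comp_id, id_comp]
  · rw [ι_proj_ne L' P' p' q' p q n h' h hp, ι_proj_ne L P p' q' p q n h' h hp, comp_zero,
      zero_comp]

lemma IsDiag.proj_apply (hF : IsDiag n φ F) (p q : ℤ) (h : p + q = n) (x : ↑((L ⊗ P).X n)) :
    (TensCx.proj L' P' p q n h).hom (F.hom x) = (φ p q).hom ((TensCx.proj L P p q n h).hom x) :=
  congr_arg (fun f => f.hom x) (hF.proj p q h)

lemma IsDiag.ι_apply (hF : IsDiag n φ F) (p q : ℤ) (h : p + q = n) (x : ↑(L.X p ⊗ P.X q)) :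
    F.hom ((ι L P p q n h).hom x) = (ι L' P' p q n h).hom ((φ p q).hom x) :=
  congr_arg (fun f => f.hom x) (hF p q h)

lemma IsDiag.injective (hF : IsDiag n φ F)
    (hφ : ∀ p q : ℤ, p + q = n → Function.Injective (φ p q).hom) : Function.Injective F.hom := by
  rw [injective_iff_map_eq_zero]
  intro x hx
  apply eq_zero_of_proj_eq_zero
  intro p
  apply hφ p (n - p) (by omega)
  rw [map_zero, ← hF.proj_apply, hx, map_zero]

lemma IsDiag.surjective (hF : IsDiag n φ F)
    (hφ : ∀ p q : ℤ, p + q = n → Function.Surjective (φ p q).hom) :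
    Function.Surjective F.hom := by
  intro z
  obtain ⟨s, _, hz⟩ := exists_finset_sum L' P' n z
  choose b hb using fun p => hφ p (n - p) (by omega)
    ((TensCx.proj L' P' p (n - p) n (by omega)).hom z)
  refine ⟨∑ p ∈ s, (ι L P p (n - p) n (by omega)).hom (b p), ?_⟩
  rw [map_sum]
  conv_rhs => rw [hz]
  refine Finset.sum_congr rfl (fun p _ => ?_)
  rw [hF.ι_apply, hb]

variable {φ' : ∀ p q : ℤ, L'.X p ⊗ P'.X q ⟶ L''.X p ⊗ P''.X q}
  {F' : (L' ⊗ P').X n ⟶ (L'' ⊗ P'').X n}

lemma IsDiag.exact (hF : IsDiag n φ F) (hF' : IsDiag n φ' F')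
    (hφ : ∀ p q : ℤ, p + q = n → Function.Exact (φ p q).hom (φ' p q).hom) :
    Function.Exact F.hom F'.hom := by
  intro y
  constructor
  · intro hy
    obtain ⟨s, _, hys⟩ := exists_finset_sum L' P' n y
    have h1 : ∀ p, ∃ a, (φ p (n - p)).hom a =
        (TensCx.proj L' P' p (n - p) n (by omega)).hom y := fun p => by
      apply (hφ p (n - p) (by omega) _).1
      rw [← hF'.proj_apply, hy, map_zero]
    choose a ha using h1
    refine ⟨∑ p ∈ s, (ι L P p (n - p) n (by omega)).hom (a p), ?_⟩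
    rw [map_sum]
    conv_rhs => rw [hys]
    refine Finset.sum_congr rfl (fun p _ => ?_)
    rw [hF.ι_apply, ha]
  · rintro ⟨x, rfl⟩
    apply eq_zero_of_proj_eq_zero
    intro p
    rw [hF'.proj_apply, hF.proj_apply]
    exact (hφ p (n - p) (by omega) _).2 ⟨_, rfl⟩

end Groth.Agent.Lib.Helper28.TensCx

namespace Groth.Agent.Lib.Helper28.TensCx

variable {R : Type u} [CommRing R]

lemma isDiag_whiskerLeft (L : DRing.Cx R) {K K' : DRing.Cx R} (f : K ⟶ K') (n : ℤ) :
    IsDiag n (fun p q => L.X p ◁ f.f q) ((L ◁ f).f n) := by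
  intro p q h
  dsimp only [ι]
  erw [HomologicalComplex.ι_mapBifunctorMap]
  simp

lemma isDiag_whiskerRight {L L' : DRing.Cx R} (f : L ⟶ L') (K : DRing.Cx R) (n : ℤ) :
    IsDiag n (fun p q => f.f p ▷ K.X q) ((f ▷ K).f n) := by
  intro p q h
  dsimp only [ι]
  erw [HomologicalComplex.ι_mapBifunctorMap]
  simp

lemma whiskerLeft_zero (L : DRing.Cx R) (K K' : DRing.Cx R) : L ◁ (0 : K ⟶ K') = 0 := by
  ext n : 1
  apply hom_ext
  intro p q h
  rw [isDiag_whiskerLeft L (0 : K ⟶ K') n p q h]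
  simp

lemma zero_whiskerRight (L L' : DRing.Cx R) (K : DRing.Cx R) : (0 : L ⟶ L') ▷ K = 0 := by
  ext n : 1
  apply hom_ext
  intro p q h
  rw [isDiag_whiskerRight (0 : L ⟶ L') K n p q h]
  simp

end Groth.Agent.Lib.Helper28.TensCx

namespace Groth.Agent.Lib.Helper28.TensCx

variable {R : Type u} [CommRing R]

/-- the short complex `L ⊗ S`. -/
noncomputable def whiskerLeftShortComplex (L : DRing.Cx R) (S : ShortComplex (DRing.Cx R)) :
    ShortComplex (DRing.Cx R) :=
  ShortComplex.mk (L ◁ S.f) (L ◁ S.g) (by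
    rw [← MonoidalCategory.whiskerLeft_comp, S.zero, whiskerLeft_zero])

/-- tensoring on the left with `L` preserves the short exact sequences of complexes whose third
term is termwise flat. -/
theorem shortExact_whiskerLeft (L : DRing.Cx R) (S : ShortComplex (DRing.Cx R))
    (hS : S.ShortExact) (h3 : ∀ i, Module.Flat R (S.X₃.X i)) :
    (whiskerLeftShortComplex L S).ShortExact := by
  have hS' := (HomologicalComplex.shortExact_iff_degreewise_shortExact S).1 hS
  apply HomologicalComplex.shortExact_of_degreewise_shortExact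
  intro n
  apply ModuleCat.shortComplex_shortExact
  · refine IsDiag.exact (isDiag_whiskerLeft L S.f n) (isDiag_whiskerLeft L S.g n) (fun p q _ => ?_)
    rw [ModuleCat.hom_whiskerLeft, ModuleCat.hom_whiskerLeft]
    exact lTensor_exact (L.X p)
      ((ShortComplex.ShortExact.moduleCat_exact_iff_function_exact _).1 (hS' q).exact)
      (hS' q).moduleCat_surjective_g
  · refine IsDiag.injective (isDiag_whiskerLeft L S.f n) (fun p q _ => ?_)
    rw [ModuleCat.hom_whiskerLeft]
    haveI := h3 q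
    exact LinearMap.lTensor_injective_of_exact_of_flat (S.g.f q).hom
      (hS' q).moduleCat_surjective_g (S.f.f q).hom (hS' q).moduleCat_injective_f
      ((ShortComplex.ShortExact.moduleCat_exact_iff_function_exact _).1 (hS' q).exact) (L.X p)
  · refine IsDiag.surjective (isDiag_whiskerLeft L S.g n) (fun p q _ => ?_)
    rw [ModuleCat.hom_whiskerLeft]
    exact LinearMap.lTensor_surjective (L.X p) (hS' q).moduleCat_surjective_g

end Groth.Agent.Lib.Helper28.TensCx

namespace Groth.Agent.Lib.Helper28.TensCx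

variable {R : Type u} [CommRing R]

lemma quasiIso_of_acyclic {K K' : DRing.Cx R} (f : K ⟶ K') (hK : K.Acyclic) (hK' : K'.Acyclic) :
    QuasiIso f := by
  rw [quasiIso_iff]
  intro i
  rw [quasiIsoAt_iff_isIso_homologyMap]
  have h1 : IsZero (K.homology i) := (hK i).isZero_homology
  have h2 : IsZero (K'.homology i) := (hK' i).isZero_homology
  exact ⟨0, h1.eq_of_src _ _, h2.eq_of_src _ _⟩

/-- `K` is K-flat: tensoring with `K` (on the right) preserves acyclicity. -/
def KFlat (K : DRing.Cx R) : Prop :=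
  ∀ L : DRing.Cx R, (∀ i : ℤ, IsZero (L.homology i)) → ∀ i : ℤ, IsZero ((L ⊗ K).homology i)

lemma acyclic_iff (K : DRing.Cx R) : K.Acyclic ↔ ∀ i : ℤ, IsZero (K.homology i) :=
  forall_congr' (fun i => HomologicalComplex.exactAt_iff_isZero_homology K i)

/-- 2-out-of-3 for K-flatness in short exact sequences with termwise flat third term. -/
theorem kflat_two_out_of_three (S : ShortComplex (DRing.Cx R)) (hS : S.ShortExact)
    (h3 : ∀ i, Module.Flat R (S.X₃.X i)) :
    (KFlat S.X₁ → KFlat S.X₂ → KFlat S.X₃) ∧ (KFlat S.X₁ → KFlat S.X₃ → KFlat S.X₂) ∧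
      (KFlat S.X₂ → KFlat S.X₃ → KFlat S.X₁) := by
  refine ⟨fun h1 h2 L hL => ?_, fun h1 h3' L hL => ?_, fun h2 h3' L hL => ?_⟩
  · have hT := shortExact_whiskerLeft L S hS h3
    have a1 : (L ⊗ S.X₁).Acyclic := (acyclic_iff _).2 (h1 L hL)
    have a2 : (L ⊗ S.X₂).Acyclic := (acyclic_iff _).2 (h2 L hL)
    exact (acyclic_iff _).1 (hT.acyclic_X₃ (quasiIso_of_acyclic _ a1 a2))
  · have hT := shortExact_whiskerLeft L S hS h3
    have a1 : (L ⊗ S.X₁).Acyclic := (acyclic_iff _).2 (h1 L hL)
    have a3 : (L ⊗ S.X₃).Acyclic := (acyclic_iff _).2 (h3' L hL)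
    exact (acyclic_iff _).1 (hT.acyclic_X₂ a1 a3)
  · have hT := shortExact_whiskerLeft L S hS h3
    have a2 : (L ⊗ S.X₂).Acyclic := (acyclic_iff _).2 (h2 L hL)
    have a3 : (L ⊗ S.X₃).Acyclic := (acyclic_iff _).2 (h3' L hL)
    exact (acyclic_iff _).1 (hT.acyclic_X₁ (quasiIso_of_acyclic _ a2 a3))

end Groth.Agent.Lib.Helper28.TensCx
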