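import Groth.Agent.Lib.Helper28.TensCx2
import Mathlib.Algebra.Homology.BifunctorHomotopy
import Mathlib.Algebra.Homology.HomotopyCategory.DegreewiseSplit

/-!
# Tensor products of complexes of modules: homotopy invariance and distinguished triangles
-/

set_option autoImplicit false
universe u
open CategoryTheory CategoryTheory.Limits Category MonoidalCategory

namespace Groth.Agent.Lib.Helper28.TensCx

variable {R : Type u} [CommRing R]

/-- tensoring on the left with `L` preserves the short exact sequences of complexes for which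
injectivity is preserved termwise. -/
theorem shortExact_whiskerLeft' (L : DRing.Cx R) (S : ShortComplex (DRing.Cx R))
    (hS : S.ShortExact)
    (hinj : ∀ p q : ℤ, Function.Injective (L.X p ◁ S.f.f q).hom) :
    (whiskerLeftShortComplex L S).ShortExact := by
  have hS' := (HomologicalComplex.shortExact_iff_degreewise_shortExact S).1 hS
  apply HomologicalComplex.shortExact_of_degreewise_shortExact
  intro n
  apply ModuleCat.shortComplex_shortExact
  · refine IsDiag.exact (isDiag_whiskerLeft L S.f n) (isDiag_whiskerLeft L S.g n) (fun p q _ => ?_)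
    rw [ModuleCat.hom_whiskerLeft, ModuleCat.hom_whiskerLeft]
    exact lTensor_exact (L.X p)
      ((ShortComplex.ShortExact.moduleCat_exact_iff_function_exact _).1 (hS' q).exact)
      (hS' q).moduleCat_surjective_g
  · exact IsDiag.injective (isDiag_whiskerLeft L S.f n) (fun p q _ => hinj p q)
  · refine IsDiag.surjective (isDiag_whiskerLeft L S.g n) (fun p q _ => ?_)
    rw [ModuleCat.hom_whiskerLeft]
    exact LinearMap.lTensor_surjective (L.X p) (hS' q).moduleCat_surjective_g

/-- tensoring on the left with `L` preserves degreewise split short exact sequences. -/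
theorem shortExact_whiskerLeft_of_splitting (L : DRing.Cx R) (S : ShortComplex (DRing.Cx R))
    (σ : ∀ n, (S.map (HomologicalComplex.eval _ _ n)).Splitting) :
    (whiskerLeftShortComplex L S).ShortExact := by
  have hS : S.ShortExact :=
    HomologicalComplex.shortExact_of_degreewise_shortExact S (fun n => (σ n).shortExact)
  refine shortExact_whiskerLeft' L S hS (fun p q => ?_)
  let r : S.X₂.X q ⟶ S.X₁.X q := (σ q).r
  have hr : S.f.f q ≫ r = 𝟙 _ := (σ q).f_r
  have h : (L.X p ◁ S.f.f q) ≫ (L.X p ◁ r) = 𝟙 _ := by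
    rw [← MonoidalCategory.whiskerLeft_comp, hr, MonoidalCategory.whiskerLeft_id]
  intro x y hxy
  have := congr_arg (L.X p ◁ r).hom hxy
  change ((L.X p ◁ S.f.f q) ≫ (L.X p ◁ r)).hom x =
    ((L.X p ◁ S.f.f q) ≫ (L.X p ◁ r)).hom y at this
  rw [h] at this
  exact this

end Groth.Agent.Lib.Helper28.TensCx

namespace Groth.Agent.Lib.Helper28.TensCx

variable {R : Type u} [CommRing R]

/-- `L ◁ -` preserves homotopies. -/
noncomputable def whiskerLeftHomotopy (L : DRing.Cx R) {K K' : DRing.Cx R} {f g : K ⟶ K'}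
    (h : Homotopy f g) : Homotopy (L ◁ f) (L ◁ g) :=
  HomologicalComplex.mapBifunctorMapHomotopy₂ (𝟙 L) h (curriedTensor (ModuleCat.{u} R))
    (ComplexShape.up ℤ)

/-- `- ▷ K` preserves homotopies. -/
noncomputable def whiskerRightHomotopy {L L' : DRing.Cx R} {f g : L ⟶ L'}
    (h : Homotopy f g) (K : DRing.Cx R) : Homotopy (f ▷ K) (g ▷ K) :=
  HomologicalComplex.mapBifunctorMapHomotopy₁ h (𝟙 K) (curriedTensor (ModuleCat.{u} R))
    (ComplexShape.up ℤ)

/-- `L ⊗ -` preserves homotopy equivalences. -/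
noncomputable def whiskerLeftHomotopyEquiv (L : DRing.Cx R) {K K' : DRing.Cx R}
    (e : HomotopyEquiv K K') : HomotopyEquiv (L ⊗ K) (L ⊗ K') where
  hom := L ◁ e.hom
  inv := L ◁ e.inv
  homotopyHomInvId := (Homotopy.ofEq (MonoidalCategory.whiskerLeft_comp L e.hom e.inv).symm).trans
    ((whiskerLeftHomotopy L e.homotopyHomInvId).trans
      (Homotopy.ofEq (MonoidalCategory.whiskerLeft_id L K)))
  homotopyInvHomId := (Homotopy.ofEq (MonoidalCategory.whiskerLeft_comp L e.inv e.hom).symm).trans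
    ((whiskerLeftHomotopy L e.homotopyInvHomId).trans
      (Homotopy.ofEq (MonoidalCategory.whiskerLeft_id L K')))

/-- `- ⊗ K` preserves homotopy equivalences. -/
noncomputable def whiskerRightHomotopyEquiv {L L' : DRing.Cx R}
    (e : HomotopyEquiv L L') (K : DRing.Cx R) : HomotopyEquiv (L ⊗ K) (L' ⊗ K) where
  hom := e.hom ▷ K
  inv := e.inv ▷ K
  homotopyHomInvId := (Homotopy.ofEq (MonoidalCategory.comp_whiskerRight e.hom e.inv K).symm).trans
    ((whiskerRightHomotopy e.homotopyHomInvId K).trans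
      (Homotopy.ofEq (MonoidalCategory.id_whiskerRight L K)))
  homotopyInvHomId := (Homotopy.ofEq (MonoidalCategory.comp_whiskerRight e.inv e.hom K).symm).trans
    ((whiskerRightHomotopy e.homotopyInvHomId K).trans
      (Homotopy.ofEq (MonoidalCategory.id_whiskerRight L' K)))

lemma acyclic_of_quasiIso {K K' : DRing.Cx R} (f : K ⟶ K') [QuasiIso f] (hK : K.Acyclic) :
    K'.Acyclic := by
  intro i
  rw [HomologicalComplex.exactAt_iff_isZero_homology]
  exact IsZero.of_iso (hK i).isZero_homology (asIso (HomologicalComplex.homologyMap f i)).symm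

lemma acyclic_of_quasiIso' {K K' : DRing.Cx R} (f : K ⟶ K') [QuasiIso f] (hK : K'.Acyclic) :
    K.Acyclic := by
  intro i
  rw [HomologicalComplex.exactAt_iff_isZero_homology]
  exact IsZero.of_iso (hK i).isZero_homology (asIso (HomologicalComplex.homologyMap f i))

lemma KFlat.of_homotopyEquiv {K K' : DRing.Cx R} (e : HomotopyEquiv K K') (hK : KFlat K) :
    KFlat K' := by
  intro L hL
  haveI : QuasiIso (whiskerLeftHomotopyEquiv L e).hom := inferInstance
  exact (acyclic_iff _).1 (acyclic_of_quasiIso (whiskerLeftHomotopyEquiv L e).hom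
    ((acyclic_iff _).2 (hK L hL)))

lemma KFlat.of_iso {X Y : HomotopyCategory (ModuleCat.{u} R) (ComplexShape.up ℤ)} (e : X ≅ Y)
    (hX : KFlat X.as) : KFlat Y.as :=
  KFlat.of_homotopyEquiv (HomotopyCategory.homotopyEquivOfIso
    (show (HomotopyCategory.quotient _ _).obj X.as ≅ (HomotopyCategory.quotient _ _).obj Y.as
      from e)) hX

end Groth.Agent.Lib.Helper28.TensCx

namespace Groth.Agent.Lib.Helper28.TensCx

variable {R : Type u} [CommRing R]

/-- 2-out-of-3 for K-flatness, given the exactness of `L ⊗ S` for all `L`. -/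
theorem kflat_two_out_of_three' (S : ShortComplex (DRing.Cx R))
    (hT : ∀ L : DRing.Cx R, (whiskerLeftShortComplex L S).ShortExact) :
    (KFlat S.X₁ → KFlat S.X₂ → KFlat S.X₃) ∧ (KFlat S.X₁ → KFlat S.X₃ → KFlat S.X₂) ∧
      (KFlat S.X₂ → KFlat S.X₃ → KFlat S.X₁) := by
  refine ⟨fun h1 h2 L hL => ?_, fun h1 h3' L hL => ?_, fun h2 h3' L hL => ?_⟩
  · have a1 : (L ⊗ S.X₁).Acyclic := (acyclic_iff _).2 (h1 L hL)
    have a2 : (L ⊗ S.X₂).Acyclic := (acyclic_iff _).2 (h2 L hL)
    exact (acyclic_iff _).1 ((hT L).acyclic_X₃ (quasiIso_of_acyclic _ a1 a2))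
  · have a1 : (L ⊗ S.X₁).Acyclic := (acyclic_iff _).2 (h1 L hL)
    have a3 : (L ⊗ S.X₃).Acyclic := (acyclic_iff _).2 (h3' L hL)
    exact (acyclic_iff _).1 ((hT L).acyclic_X₂ a1 a3)
  · have a2 : (L ⊗ S.X₂).Acyclic := (acyclic_iff _).2 (h2 L hL)
    have a3 : (L ⊗ S.X₃).Acyclic := (acyclic_iff _).2 (h3' L hL)
    exact (acyclic_iff _).1 ((hT L).acyclic_X₁ (quasiIso_of_acyclic _ a2 a3))

lemma kflat_iff_of_iso {X : HomotopyCategory (ModuleCat.{u} R) (ComplexShape.up ℤ)}
    {K : DRing.Cx R} (e : X ≅ (HomotopyCategory.quotient _ _).obj K) : KFlat X.as ↔ KFlat K :=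
  ⟨fun h => KFlat.of_iso (X := X) (Y := (HomotopyCategory.quotient _ _).obj K) e h,
    fun h => KFlat.of_iso (X := (HomotopyCategory.quotient _ _).obj K) (Y := X) e.symm h⟩

open Pretriangulated in
/-- 2-out-of-3 for K-flatness in distinguished triangles of the homotopy category. -/
theorem kflat_two_out_of_three_distTriang
    (T : Triangle (HomotopyCategory (ModuleCat.{u} R) (ComplexShape.up ℤ)))
    (hT : T ∈ distinguishedTriangles) :
    (KFlat T.obj₁.as → KFlat T.obj₂.as → KFlat T.obj₃.as) ∧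
      (KFlat T.obj₁.as → KFlat T.obj₃.as → KFlat T.obj₂.as) ∧
      (KFlat T.obj₂.as → KFlat T.obj₃.as → KFlat T.obj₁.as) := by
  obtain ⟨S, σ, ⟨e⟩⟩ := (HomotopyCategory.distinguished_iff_iso_trianglehOfDegreewiseSplit T).1 hT
  have k₁ : KFlat T.obj₁.as ↔ KFlat S.X₁ := kflat_iff_of_iso (Triangle.π₁.mapIso e)
  have k₂ : KFlat T.obj₂.as ↔ KFlat S.X₂ := kflat_iff_of_iso (Triangle.π₂.mapIso e)
  have k₃ : KFlat T.obj₃.as ↔ KFlat S.X₃ := kflat_iff_of_iso (Triangle.π₃.mapIso e)
  rw [k₁, k₂, k₃]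
  exact kflat_two_out_of_three' S (fun L => shortExact_whiskerLeft_of_splitting L S σ)

end Groth.Agent.Lib.Helper28.TensCx
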