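import Groth.Agent.Lib.Helper28.TensCx3

/-!
# Tensor products of complexes of modules: bounded above flat complexes on the left
-/

set_option autoImplicit false
universe u
open CategoryTheory CategoryTheory.Limits Category MonoidalCategory

namespace Groth.Agent.Lib.Helper28.TensCx

variable {R : Type u} [CommRing R] (L P : DRing.Cx R)

/-- the filtration of `(L ⊗ P).X n` by the degree in `P`. -/
noncomputable def G' (n m : ℤ) : Submodule R ((L ⊗ P).X n) :=
  ⨆ (q : ℤ) (_ : q ≤ m), LinearMap.range (ι L P (n - q) q n (by omega)).hom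

lemma G'_mono (n : ℤ) {m m' : ℤ} (h : m ≤ m') : G' L P n m ≤ G' L P n m' :=
  iSup₂_le (fun q hq => le_iSup₂_of_le q (hq.trans h) le_rfl)

lemma ι_mem_G' (n p q m : ℤ) (h : p + q = n) (hq : q ≤ m) (x : ↑(L.X p ⊗ P.X q)) :
    (ι L P p q n h).hom x ∈ G' L P n m := by
  obtain rfl : p = n - q := by omega
  exact (le_iSup₂_of_le (f := fun q (_ : q ≤ m) =>
    LinearMap.range (ι L P (n - q) q n (by omega)).hom) q hq le_rfl) (LinearMap.mem_range_self _ x)

lemma exists_mem_G' (n : ℤ) (x : ↑((L ⊗ P).X n)) : ∃ m, x ∈ G' L P n m := by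
  have hx : x ∈ (⨆ (p : ℤ), LinearMap.range (ι L P p (n - p) n (by omega)).hom) := by
    rw [iSup_range_ι]; trivial
  induction hx using Submodule.iSup_induction' with
  | mem p x hx =>
    obtain ⟨y, rfl⟩ := hx
    exact ⟨n - p, ι_mem_G' L P n p (n - p) (n - p) (by omega) le_rfl y⟩
  | zero => exact ⟨0, Submodule.zero_mem _⟩
  | add x y _ _ hx hy =>
    obtain ⟨m, hm⟩ := hx
    obtain ⟨m', hm'⟩ := hy
    exact ⟨max m m', Submodule.add_mem _ (G'_mono L P n (le_max_left _ _) hm)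
      (G'_mono L P n (le_max_right _ _) hm')⟩

lemma G'_eq_bot (n m b : ℤ) (hb : ∀ p, b < p → IsZero (L.X p)) (hm : m < n - b) :
    G' L P n m = ⊥ := by
  rw [G', eq_bot_iff]
  refine iSup₂_le (fun q hq => ?_)
  rintro _ ⟨y, rfl⟩
  have hz : IsZero (L.X (n - q) ⊗ P.X q) :=
    (tensorRight (P.X q)).map_isZero (hb (n - q) (by omega))
  have : y = 0 := by
    haveI := (ModuleCat.isZero_iff_subsingleton.1 hz)
    exact Subsingleton.elim _ _
  rw [this, map_zero]
  exact Submodule.zero_mem _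

lemma exists_decomp' (n m : ℤ) (x : ↑((L ⊗ P).X n)) (hx : x ∈ G' L P n m) :
    ∃ (a : ↑(L.X (n - m) ⊗ P.X m)) (x' : ↑((L ⊗ P).X n)), x' ∈ G' L P n (m - 1) ∧
      x = (ι L P (n - m) m n (by omega)).hom a + x' := by
  have hle : G' L P n m ≤
      LinearMap.range (ι L P (n - m) m n (by omega)).hom ⊔ G' L P n (m - 1) := by
    refine iSup₂_le (fun q hq => ?_)
    by_cases hqm : q = m
    · subst hqm
      exact le_sup_left
    · refine le_trans ?_ le_sup_right
      exact le_iSup₂_of_le (f := fun q (_ : q ≤ m - 1) =>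
        LinearMap.range (ι L P (n - q) q n (by omega)).hom) q (by omega) le_rfl
  obtain ⟨y, ⟨a, rfl⟩, x', hx', rfl⟩ := Submodule.mem_sup.1 (hle hx)
  exact ⟨a, x', hx', rfl⟩

/-- the `(n-m, m+1)` component of the differential vanishes on `G' (m-1)`. -/
lemma proj_d_of_mem_G' (n n' m m' : ℤ) (hn' : n + 1 = n') (hm' : m + 1 = m')
    (x : ↑((L ⊗ P).X n)) (hx : x ∈ G' L P n (m - 1)) :
    (proj L P (n - m) m' n' (by omega)).hom (((L ⊗ P).d n n').hom x) = 0 := by
  have hle : G' L P n (m - 1) ≤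
      LinearMap.ker (((L ⊗ P).d n n') ≫ proj L P (n - m) m' n' (by omega)).hom := by
    refine iSup₂_le (fun q hq => ?_)
    rintro _ ⟨y, rfl⟩
    rw [LinearMap.mem_ker]
    change (ι L P (n - q) q n (by omega) ≫ (L ⊗ P).d n n' ≫
      proj L P (n - m) m' n' (by omega)).hom y = 0
    rw [← assoc, ι_d L P (n - q) (n - q + 1) q (q + 1) n n' (by omega) hn' rfl rfl,
      Preadditive.add_comp, assoc, Linear.units_smul_comp, assoc,
      ι_proj_ne L P (n - q + 1) q (n - m) m' n' (by omega) (by omega) (by omega),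
      ι_proj_ne L P (n - q) (q + 1) (n - m) m' n' (by omega) (by omega) (by omega),
      comp_zero, comp_zero, smul_zero, add_zero]
    rfl
  exact hle hx

end Groth.Agent.Lib.Helper28.TensCx

namespace Groth.Agent.Lib.Helper28.TensCx

variable {R : Type u} [CommRing R] (L P : DRing.Cx R)

/-- one step of the induction: kill the leading term of a cycle. -/
lemma exists_step' (hP : ∀ i, P.ExactAt i) (hL : ∀ p, Module.Flat R (L.X p))
    (n₀ n n' m : ℤ) (hn : n₀ + 1 = n) (hn' : n + 1 = n')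
    (x : ↑((L ⊗ P).X n)) (hx : x ∈ G' L P n m) (hdx : ((L ⊗ P).d n n').hom x = 0) :
    ∃ w : ↑((L ⊗ P).X n₀), x - ((L ⊗ P).d n₀ n).hom w ∈ G' L P n (m - 1) := by
  obtain ⟨a, x', hx', rfl⟩ := exists_decomp' L P n m x hx
  -- the leading term is a cycle
  have ha : (L.X (n - m) ◁ P.d m (m + 1)).hom a = 0 := by
    have h1 := congr_arg (proj L P (n - m) (m + 1) n' (by omega)).hom hdx
    rw [map_add, map_add, proj_d_of_mem_G' L P n n' m (m + 1) hn' rfl x' hx', add_zero,
      map_zero] at h1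
    have h2 : (ι L P (n - m) m n (by omega) ≫ (L ⊗ P).d n n' ≫
        proj L P (n - m) (m + 1) n' (by omega)).hom a = 0 := h1
    rw [← assoc, ι_d L P (n - m) (n - m + 1) m (m + 1) n n' (by omega) hn' rfl rfl,
      Preadditive.add_comp, assoc, Linear.units_smul_comp, assoc,
      ι_proj_self, ι_proj_ne L P (n - m + 1) m (n - m) (m + 1) n' (by omega) (by omega) (by omega),
      comp_zero, zero_add, comp_id] at h2
    have h3 : (n - m).negOnePow • (L.X (n - m) ◁ P.d m (m + 1)).hom a = 0 := h2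
    rcases Int.units_eq_one_or (n - m).negOnePow with h | h
    · rwa [h, one_smul] at h3
    · rw [h, Units.neg_smul, one_smul, neg_eq_zero] at h3
      exact h3
  -- exactness of `L.X (n - m) ⊗ P`
  haveI := hL (n - m)
  have hex := Module.Flat.lTensor_shortComplex_exact (L.X (n - m)) (P.sc' (m - 1) m (m + 1))
    ((P.exactAt_iff' (m - 1) m (m + 1) (by simp) (by simp)).1 (hP m))
  rw [ShortComplex.moduleCat_exact_iff] at hex
  obtain ⟨w₀, hw₀⟩ := hex a ha
  have hw₀' : (L.X (n - m) ◁ P.d (m - 1) m).hom w₀ = a := hw₀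
  have h3 : ((L ⊗ P).d n₀ n).hom ((ι L P (n - m) (m - 1) n₀ (by omega)).hom w₀) =
      (ι L P (n - m + 1) (m - 1) n (by omega)).hom ((L.d (n - m) (n - m + 1) ▷ P.X (m - 1)).hom w₀) +
        (n - m).negOnePow • (ι L P (n - m) m n (by omega)).hom a := by
    change (ι L P (n - m) (m - 1) n₀ (by omega) ≫ (L ⊗ P).d n₀ n).hom w₀ = _
    rw [ι_d L P (n - m) (n - m + 1) (m - 1) m n₀ n (by omega) hn rfl (by omega), ← hw₀']
    rfl
  have h5 := ι_mem_G' L P n (n - m + 1) (m - 1) (m - 1) (by omega) le_rfl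
    ((L.d (n - m) (n - m + 1) ▷ P.X (m - 1)).hom w₀)
  rcases Int.units_eq_one_or (n - m).negOnePow with h | h
  · rw [h, one_smul] at h3
    refine ⟨(ι L P (n - m) (m - 1) n₀ (by omega)).hom w₀, ?_⟩
    rw [h3]
    have h4 : (ι L P (n - m) m n (by omega)).hom a + x' -
        ((ι L P (n - m + 1) (m - 1) n (by omega)).hom
            ((L.d (n - m) (n - m + 1) ▷ P.X (m - 1)).hom w₀) +
          (ι L P (n - m) m n (by omega)).hom a) =
        x' - (ι L P (n - m + 1) (m - 1) n (by omega)).hom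
            ((L.d (n - m) (n - m + 1) ▷ P.X (m - 1)).hom w₀) := by abel
    rw [h4]
    exact Submodule.sub_mem _ hx' h5
  · rw [h, Units.neg_smul, one_smul] at h3
    refine ⟨-(ι L P (n - m) (m - 1) n₀ (by omega)).hom w₀, ?_⟩
    rw [map_neg, h3]
    have h4 : (ι L P (n - m) m n (by omega)).hom a + x' -
        -((ι L P (n - m + 1) (m - 1) n (by omega)).hom
            ((L.d (n - m) (n - m + 1) ▷ P.X (m - 1)).hom w₀) +
          -(ι L P (n - m) m n (by omega)).hom a) =
        x' + (ι L P (n - m + 1) (m - 1) n (by omega)).hom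
            ((L.d (n - m) (n - m + 1) ▷ P.X (m - 1)).hom w₀) := by abel
    rw [h4]
    exact Submodule.add_mem _ hx' h5

lemma exists_preimage_of_mem_G' (hP : ∀ i, P.ExactAt i) (hL : ∀ p, Module.Flat R (L.X p))
    (b : ℤ) (hb : ∀ p, b < p → IsZero (L.X p)) (n₀ n n' : ℤ) (hn : n₀ + 1 = n) (hn' : n + 1 = n')
    (j : ℕ) : ∀ (m : ℤ), m < n - b + j → ∀ (x : ↑((L ⊗ P).X n)), x ∈ G' L P n m →
      ((L ⊗ P).d n n').hom x = 0 → ∃ w : ↑((L ⊗ P).X n₀), ((L ⊗ P).d n₀ n).hom w = x := by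
  induction j with
  | zero =>
    intro m hm x hx _
    rw [G'_eq_bot L P n m b hb (by simpa using hm)] at hx
    exact ⟨0, by rw [map_zero, (Submodule.mem_bot R).1 hx]⟩
  | succ j ih =>
    intro m hm x hx hdx
    obtain ⟨w₁, hw₁⟩ := exists_step' L P hP hL n₀ n n' m hn hn' x hx hdx
    have hd : ((L ⊗ P).d n n').hom (x - ((L ⊗ P).d n₀ n).hom w₁) = 0 := by
      rw [map_sub, hdx, zero_sub, neg_eq_zero]
      change ((L ⊗ P).d n₀ n ≫ (L ⊗ P).d n n').hom w₁ = 0
      rw [HomologicalComplex.d_comp_d]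
      rfl
    obtain ⟨w₂, hw₂⟩ := ih (m - 1) (by push_cast at hm ⊢; omega) _ hw₁ hd
    exact ⟨w₁ + w₂, by rw [map_add, hw₂]; abel⟩

/-- if `L` is a bounded above complex of flat modules and `P` is acyclic, then `L ⊗ P` is
acyclic. -/
theorem exactAt_tensor_of_flat_left (hP : ∀ i, P.ExactAt i) (hL : ∀ p, Module.Flat R (L.X p))
    (b : ℤ) (hb : ∀ p, b < p → IsZero (L.X p)) (n : ℤ) : (L ⊗ P).ExactAt n := by
  rw [HomologicalComplex.exactAt_iff' _ (n - 1) n (n + 1) (by simp) (by simp),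
    ShortComplex.moduleCat_exact_iff]
  intro x hx
  obtain ⟨m, hm⟩ := exists_mem_G' L P n x
  obtain ⟨w, hw⟩ := exists_preimage_of_mem_G' L P hP hL b hb (n - 1) n (n + 1) (by omega) rfl
    (m - (n - b) + 1).toNat m (by omega) x hm hx
  exact ⟨w, hw⟩

end Groth.Agent.Lib.Helper28.TensCx

namespace Groth.Agent.Lib.Helper28.TensCx

variable {R : Type u} [CommRing R]

lemma quasiIso_f_of_acyclic_X₃ {S : ShortComplex (DRing.Cx R)} (hS : S.ShortExact)
    (h : S.X₃.Acyclic) : QuasiIso S.f := by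
  rw [quasiIso_iff]
  intro i
  rw [quasiIsoAt_iff_isIso_homologyMap]
  have hz : ∀ j, IsZero (S.X₃.homology j) := fun j => (h j).isZero_homology
  haveI : Mono (HomologicalComplex.homologyMap S.f i) :=
    (hS.homology_exact₁ (i - 1) i (by simp)).mono_g ((hz (i - 1)).eq_of_src _ _)
  haveI : Epi (HomologicalComplex.homologyMap S.f i) :=
    (hS.homology_exact₂ i).epi_f ((hz i).eq_of_tgt _ _)
  exact isIso_of_mono_of_epi _

lemma quasiIso_g_of_acyclic_X₁ {S : ShortComplex (DRing.Cx R)} (hS : S.ShortExact)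
    (h : S.X₁.Acyclic) : QuasiIso S.g := by
  rw [quasiIso_iff]
  intro i
  rw [quasiIsoAt_iff_isIso_homologyMap]
  have hz : ∀ j, IsZero (S.X₁.homology j) := fun j => (h j).isZero_homology
  haveI : Mono (HomologicalComplex.homologyMap S.g i) :=
    (hS.homology_exact₂ i).mono_g ((hz i).eq_of_src _ _)
  haveI : Epi (HomologicalComplex.homologyMap S.g i) :=
    (hS.homology_exact₃ i (i + 1) (by simp)).epi_f ((hz (i + 1)).eq_of_tgt _ _)
  exact isIso_of_mono_of_epi _

/-- tensoring on the left with `L` preserves short exact sequences with degreewise retractions. -/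
theorem shortExact_whiskerLeft_of_retraction (L : DRing.Cx R) (S : ShortComplex (DRing.Cx R))
    (hS : S.ShortExact) (r : ∀ q, S.X₂.X q ⟶ S.X₁.X q) (hr : ∀ q, S.f.f q ≫ r q = 𝟙 _) :
    (whiskerLeftShortComplex L S).ShortExact := by
  refine shortExact_whiskerLeft' L S hS (fun p q => ?_)
  have h : (L.X p ◁ S.f.f q) ≫ (L.X p ◁ r q) = 𝟙 _ := by
    rw [← MonoidalCategory.whiskerLeft_comp, hr, MonoidalCategory.whiskerLeft_id]
  intro x y hxy
  have := congr_arg (L.X p ◁ r q).hom hxy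
  change ((L.X p ◁ S.f.f q) ≫ (L.X p ◁ r q)).hom x =
    ((L.X p ◁ S.f.f q) ≫ (L.X p ◁ r q)).hom y at this
  rw [h] at this
  exact this

lemma quasiIso_iff_acyclic_mappingCone {K K' : DRing.Cx R} (g : K ⟶ K') :
    QuasiIso g ↔ (CochainComplex.mappingCone g).Acyclic := by
  have h := (HomotopyCategory.subcategoryAcyclic (ModuleCat.{u} R)).trW_iff_of_distinguished _
    (HomotopyCategory.mappingCone_triangleh_distinguished g)
  rw [← HomotopyCategory.quasiIso_eq_trW_subcategoryAcyclic] at h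
  have h' : HomotopyCategory.quasiIso (ModuleCat.{u} R) (ComplexShape.up ℤ)
      ((HomotopyCategory.quotient _ (ComplexShape.up ℤ)).map g) ↔
      HomotopyCategory.subcategoryAcyclic (ModuleCat.{u} R)
        ((HomotopyCategory.quotient _ (ComplexShape.up ℤ)).obj (CochainComplex.mappingCone g)) := h
  rw [HomotopyCategory.quotient_map_mem_quasiIso_iff,
    HomotopyCategory.quotient_obj_mem_subcategoryAcyclic_iff_acyclic] at h'
  exact h'

end Groth.Agent.Lib.Helper28.TensCx

namespace Groth.Agent.Lib.Helper28.TensCx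

variable {R : Type u} [CommRing R]

open CochainComplex in
/-- if `L ⊗ -` preserves acyclic complexes, it preserves quasi-isomorphisms. -/
theorem quasiIso_whiskerLeft (L : DRing.Cx R)
    (hL : ∀ C : DRing.Cx R, C.Acyclic → (L ⊗ C).Acyclic)
    {M Q : DRing.Cx R} (η : M ⟶ Q) [QuasiIso η] : QuasiIso (L ◁ η) := by
  let C₀ : DRing.Cx R := mappingCone (𝟙 M)
  have hC₀ : C₀.Acyclic := (quasiIso_iff_acyclic_mappingCone (𝟙 M)).1 inferInstance
  let Z : DRing.Cx R := C₀ ⊞ Q
  let i : M ⟶ Z := biprod.lift (mappingCone.inr (𝟙 M)) η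
  let pr : Z ⟶ Q := biprod.snd
  have hi : i ≫ pr = η := biprod.lift_snd _ _
  -- the projection `pr` and `L ◁ pr` are quasi-isomorphisms
  let S₁ : ShortComplex (DRing.Cx R) := ShortComplex.mk (biprod.inl : C₀ ⟶ Z) pr (by simp [pr])
  have hS₁ : S₁.ShortExact := (ShortComplex.Splitting.ofHasBinaryBiproduct C₀ Q).shortExact
  haveI : QuasiIso pr := quasiIso_g_of_acyclic_X₁ hS₁ hC₀
  have hLS₁ := shortExact_whiskerLeft_of_retraction L S₁ hS₁
    (fun q => (biprod.fst : Z ⟶ C₀).f q) (fun q => by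
      change (biprod.inl : C₀ ⟶ Z).f q ≫ (biprod.fst : Z ⟶ C₀).f q = 𝟙 _
      rw [← HomologicalComplex.comp_f, biprod.inl_fst]; rfl)
  haveI : QuasiIso (L ◁ pr) := quasiIso_g_of_acyclic_X₁ hLS₁ (hL C₀ hC₀)
  -- `i` is a quasi-isomorphism
  haveI : QuasiIso (i ≫ pr) := by rw [hi]; infer_instance
  haveI : QuasiIso i := quasiIso_of_comp_right i pr
  -- the short exact sequence given by `i`
  have hr : ∀ q, i.f q ≫ (biprod.fst : Z ⟶ C₀).f q ≫ (mappingCone.snd (𝟙 M)).v q q (add_zero q) =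
      𝟙 _ := fun q => by
    rw [← assoc, ← HomologicalComplex.comp_f, biprod.lift_fst, mappingCone.inr_f_snd_v]
  haveI : ∀ q, Mono (i.f q) := fun q => mono_of_mono_fac (hr q)
  haveI : Mono i := HomologicalComplex.mono_of_mono_f _ inferInstance
  let S₂ : ShortComplex (DRing.Cx R) := ShortComplex.mk i (cokernel.π i) (cokernel.condition i)
  have hS₂ : S₂.ShortExact :=
    { exact := ShortComplex.exact_cokernel i
      mono_f := inferInstanceAs (Mono i)
      epi_g := inferInstanceAs (Epi (cokernel.π i)) }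
  have hC' : S₂.X₃.Acyclic := hS₂.acyclic_X₃ (inferInstanceAs (QuasiIso i))
  have hLS₂ := shortExact_whiskerLeft_of_retraction L S₂ hS₂
    (fun q => (biprod.fst : Z ⟶ C₀).f q ≫ (mappingCone.snd (𝟙 M)).v q q (add_zero q)) hr
  haveI : QuasiIso (L ◁ i) := quasiIso_f_of_acyclic_X₃ hLS₂ (hL _ hC')
  rw [← hi, MonoidalCategory.whiskerLeft_comp]
  infer_instance

end Groth.Agent.Lib.Helper28.TensCx
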