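import Groth.Agent.Lib.Helper28.TensCx6
import Groth.Agent.Lib.Helper28.TensApprox

/-!
# Tensor products of complexes of modules: universal acyclicity from the finitely presented case
-/

set_option autoImplicit false
universe u
open CategoryTheory CategoryTheory.Limits Category MonoidalCategory

namespace Groth.Agent.Lib.Helper28.TensCx

variable {R : Type u} [CommRing R]

lemma ltExact_of_tensorCx_acyclic (K : DRing.Cx R) (M : Type u) [AddCommGroup M] [Module R M]
    (h : ∀ i : ℤ, IsZero ((DRing.tensorCx K (ModuleCat.of R M)).homology i)) (q : ℤ) :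
    TensApprox.LTExact (K.d (q - 1) q).hom (K.d q (q + 1)).hom M := by
  intro a ha
  have hex := (HomologicalComplex.exactAt_iff_isZero_homology _ _).2 (h q)
  rw [HomologicalComplex.exactAt_iff' _ (q - 1) q (q + 1) (by simp) (by simp),
    ShortComplex.moduleCat_exact_iff] at hex
  have h1 : ∀ (i j : ℤ) (x : TensorProduct R (K.X i) M),
      ((DRing.tensorCx K (ModuleCat.of R M)).d i j).hom x =
        LinearMap.rTensor M (K.d i j).hom x := fun i j x => rfl
  obtain ⟨w, hw⟩ := hex (TensorProduct.comm R M (K.X q) a) (by
    change ((DRing.tensorCx K (ModuleCat.of R M)).d q (q + 1)).hom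
      (TensorProduct.comm R M (K.X q) a) = 0
    rw [h1, LinearMap.rTensor_comm, ha, map_zero]
    rfl)
  have hw' : ((DRing.tensorCx K (ModuleCat.of R M)).d (q - 1) q).hom w =
      TensorProduct.comm R M (K.X q) a := hw
  refine ⟨TensorProduct.comm R (K.X (q - 1)) M w, ?_⟩
  apply (TensorProduct.comm R M (K.X q)).injective
  rw [← LinearMap.rTensor_comm, ← hw', h1]
  congr 1
  exact (TensorProduct.comm R (K.X (q - 1)) M).symm_apply_apply w

/-- if `K ⊗ M` is acyclic for every finitely presented module `M`, then `L ⊗ K` is acyclic for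
every complex `L`. -/
theorem acyclic_tensor_of_tensorCx_fp_acyclic (K : DRing.Cx R)
    (hK : ∀ (M : Type u) [AddCommGroup M] [Module R M], Module.FinitePresentation R M →
      (∀ i : ℤ, IsZero ((DRing.tensorCx K (ModuleCat.of R M)).homology i)))
    (L : DRing.Cx R) : (L ⊗ K).Acyclic := by
  have hEL : ∀ T : DRing.Cx R, ExactLeft T K := by
    intro T p q a ha
    have hq : q - 1 + 1 = q := by omega
    have := TensApprox.ltExact_of_forall_fp (K.d (q - 1) q).hom (K.d q (q + 1)).hom
      (fun M _ _ hM => ltExact_of_tensorCx_acyclic K M (hK M hM) q) (T.X p) a ha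
    exact this
  exact acyclic_tensor_of_forall_bounded L K
    (fun T b hb n => exactAt_tensor_of_exactLeft T K (hEL T) b hb n)

end Groth.Agent.Lib.Helper28.TensCx
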