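import Groth.Prelude.Def_SGA4c

set_option autoImplicit false
open CategoryTheory CategoryTheory.Limits Opposite
universe u

namespace Groth.Agent.Lib.Helper28

variable {C : Type u} [SmallCategory C] {J : GrothendieckTopology C}

/-- Quasi-compactness is invariant under isomorphism. -/
theorem isQC_of_iso {X X' : ToposFin.Sh J} (e : X ≅ X') (h : ToposFin.IsQC X) : ToposFin.IsQC X' := by
  intro ι F π hπ
  have h1 : Epi (Sigma.desc (fun i => π i ≫ e.inv)) := by
    have : Sigma.desc (fun i => π i ≫ e.inv) = Sigma.desc π ≫ e.inv := by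
      ext; simp
    rw [this]
    exact epi_comp _ _
  obtain ⟨s, hs⟩ := h ι F (fun i => π i ≫ e.inv) h1
  refine ⟨s, ?_⟩
  have : Sigma.desc (fun i : s => π i) = Sigma.desc (fun i : s => π i ≫ e.inv) ≫ e.hom := by
    ext; simp
  rw [this]
  exact epi_comp _ _

theorem isQC_iff_of_iso {X X' : ToposFin.Sh J} (e : X ≅ X') : ToposFin.IsQC X ↔ ToposFin.IsQC X' :=
  ⟨isQC_of_iso e, isQC_of_iso e.symm⟩

/-- Isomorphisms are quasi-compact. -/
theorem isQCHom_of_isIso {X Y : ToposFin.Sh J} (f : X ⟶ Y) [IsIso f] : ToposFin.IsQCHom f := by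
  intro Y' g hY'
  exact isQC_of_iso (asIso (pullback.snd f g)).symm hY'

end Groth.Agent.Lib.Helper28
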