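import Groth.Agent.Lib.Helper28.ToposFin
import Groth.Agent.Lib.Helper28.ShVanKampen
import Mathlib.CategoryTheory.Sites.LocallySurjective
import Mathlib.CategoryTheory.Limits.MonoCoprod
import Mathlib.CategoryTheory.Limits.Shapes.Pullback.Pasting
import Mathlib.CategoryTheory.Limits.FunctorCategory.Basic
import Mathlib.CategoryTheory.MorphismProperty.Limits

/-!
# Finiteness conditions in a topos of sheaves: basic toolbox (helper28)
-/

set_option autoImplicit false
open CategoryTheory CategoryTheory.Limits Opposite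
universe u

namespace Groth.Agent.Lib.Helper28

variable {C : Type u} [SmallCategory C] {J : GrothendieckTopology C}

/-! ### Epimorphisms are stable under base change -/

/-- the square of sections of a pullback square of sheaves is a pullback square -/
theorem isPullback_sections {P X Y Z : ToposFin.Sh J} {fst : P ⟶ X} {snd : P ⟶ Y} {f : X ⟶ Z}
    {g : Y ⟶ Z} (h : IsPullback fst snd f g) (V : Cᵒᵖ) :
    IsPullback (fst.hom.app V) (snd.hom.app V) (f.hom.app V) (g.hom.app V) := by
  have h1 := h.map (sheafToPresheaf J (Type u))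
  exact h1.map ((evaluation Cᵒᵖ (Type u)).obj V)

theorem epi_snd_of_isPullback {P X Y Z : ToposFin.Sh J} {fst : P ⟶ X} {snd : P ⟶ Y} {f : X ⟶ Z}
    {g : Y ⟶ Z} (h : IsPullback fst snd f g) [Epi f] : Epi snd := by
  rw [← Sheaf.isLocallySurjective_iff_epi] at *
  rename_i hf
  constructor
  intro U s
  refine J.superset_covering ?_ (Presheaf.imageSieve_mem J f.hom (g.hom.app (op U) s))
  rintro V i ⟨t, ht⟩
  have hsq := isPullback_sections h (op V)
  have h2 : f.hom.app (op V) t = g.hom.app (op V) (Y.obj.map i.op s) := by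
    rw [ht]
    exact (ConcreteCategory.congr_hom (g.hom.naturality i.op) s).symm
  obtain ⟨w, -, hw⟩ := Types.exists_of_isPullback hsq t (Y.obj.map i.op s) h2
  exact ⟨w, hw⟩

theorem epi_fst_of_isPullback {P X Y Z : ToposFin.Sh J} {fst : P ⟶ X} {snd : P ⟶ Y} {f : X ⟶ Z}
    {g : Y ⟶ Z} (h : IsPullback fst snd f g) [Epi g] : Epi fst :=
  epi_snd_of_isPullback h.flip

instance epi_pullback_snd {X Y Z : ToposFin.Sh J} (f : X ⟶ Z) (g : Y ⟶ Z) [Epi f] :
    Epi (pullback.snd f g) :=
  epi_snd_of_isPullback (IsPullback.of_hasPullback f g)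

instance epi_pullback_fst {X Y Z : ToposFin.Sh J} (f : X ⟶ Z) (g : Y ⟶ Z) [Epi g] :
    Epi (pullback.fst f g) :=
  epi_fst_of_isPullback (IsPullback.of_hasPullback f g)


/-! ### Jointly epimorphic families -/

/-- a family of morphisms with common target is jointly epimorphic -/
def JointlyEpi {D : Type*} [Category D] {X : D} {ι : Type*} {F : ι → D} (π : ∀ i, F i ⟶ X) : Prop :=
  ∀ (Z : D) (a b : X ⟶ Z), (∀ i, π i ≫ a = π i ≫ b) → a = b

theorem epi_sigmaDesc_iff {D : Type*} [Category D] {X : D} {ι : Type*} {F : ι → D}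
    [HasCoproduct F] (π : ∀ i, F i ⟶ X) : Epi (Sigma.desc π) ↔ JointlyEpi π := by
  constructor
  · intro h Z a b hab
    rw [← cancel_epi (Sigma.desc π)]
    ext i
    simpa using hab i
  · intro h
    constructor
    intro Z a b hab
    apply h
    intro i
    have := congrArg (fun k => Sigma.ι F i ≫ k) hab
    simpa using this

/-- more generally, for any colimit cofan -/
theorem epi_desc_iff_of_isColimit {D : Type*} [Category D] {X : D} {ι : Type*} {F : ι → D}
    (c : Cofan F) (hc : IsColimit c) (π : ∀ i, F i ⟶ X) :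
    Epi (Cofan.IsColimit.desc hc π) ↔ JointlyEpi π := by
  constructor
  · intro h Z a b hab
    rw [← cancel_epi (Cofan.IsColimit.desc hc π)]
    apply Cofan.IsColimit.hom_ext hc
    intro i
    simpa using hab i
  · intro h
    constructor
    intro Z a b hab
    apply h
    intro i
    have := congrArg (fun k => c.inj i ≫ k) hab
    simpa using this

theorem JointlyEpi.of_epi {D : Type*} [Category D] {X Y : D} (f : X ⟶ Y) [Epi f] :
    JointlyEpi (fun _ : Unit => f) := by
  intro Z a b hab
  rw [← cancel_epi f]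
  exact hab ()

theorem JointlyEpi.epi_of_unique {D : Type*} [Category D] {X Y : D} (f : X ⟶ Y)
    (h : JointlyEpi (fun _ : Unit => f)) : Epi f :=
  ⟨fun a b hab => h _ a b (fun _ => hab)⟩

/-- the injections of a colimit cofan are jointly epimorphic -/
theorem JointlyEpi.of_isColimit {D : Type*} [Category D] {ι : Type*} {F : ι → D}
    (c : Cofan F) (hc : IsColimit c) : JointlyEpi c.inj := by
  intro Z a b hab
  exact Cofan.IsColimit.hom_ext hc _ _ hab

/-- composing jointly epimorphic families -/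
theorem JointlyEpi.comp {D : Type*} [Category D] {X : D} {ι : Type*} {F : ι → D}
    {π : ∀ i, F i ⟶ X} (hπ : JointlyEpi π) {κ : ι → Type*} {G : ∀ i, κ i → D}
    {ρ : ∀ i (k : κ i), G i k ⟶ F i} (hρ : ∀ i, JointlyEpi (ρ i)) :
    JointlyEpi (fun p : Σ i, κ i => ρ p.1 p.2 ≫ π p.1) := by
  intro Z a b hab
  apply hπ
  intro i
  apply hρ i
  intro k
  simpa using hab ⟨i, k⟩

/-- a family containing a jointly epimorphic subfamily is jointly epimorphic -/
theorem JointlyEpi.of_reindex {D : Type*} [Category D] {X : D} {ι κ : Type*} {F : ι → D}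
    {π : ∀ i, F i ⟶ X} (e : κ → ι) (h : JointlyEpi (fun k => π (e k))) : JointlyEpi π := by
  intro Z a b hab
  exact h Z a b (fun k => hab (e k))

/-- post-composition with an epimorphism -/
theorem JointlyEpi.comp_epi {D : Type*} [Category D] {X Y : D} {ι : Type*} {F : ι → D}
    {π : ∀ i, F i ⟶ X} (hπ : JointlyEpi π) (f : X ⟶ Y) [Epi f] :
    JointlyEpi (fun i => π i ≫ f) := by
  intro Z a b hab
  rw [← cancel_epi f]
  apply hπ
  intro i
  simpa using hab i

/-- a left adjoint preserves jointly epimorphic families -/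
theorem JointlyEpi.map_of_adjunction {D E : Type*} [Category D] [Category E] {L : D ⥤ E}
    {R : E ⥤ D} (adj : L ⊣ R) {X : D} {ι : Type*} {F : ι → D} {π : ∀ i, F i ⟶ X}
    (hπ : JointlyEpi π) : JointlyEpi (fun i => L.map (π i)) := by
  intro Z a b hab
  apply (adj.homEquiv X Z).injective
  apply hπ
  intro i
  rw [← adj.homEquiv_naturality_left, ← adj.homEquiv_naturality_left, hab i]

/-! ### Small coproducts in `Sh J` are van Kampen: cofan forms -/

theorem cofan_vanKampen {ι : Type u} {X X' : ι → ToposFin.Sh J} (c : Cofan X) (hc : IsColimit c)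
    (c' : Cofan X') (a : ∀ i, X' i ⟶ X i) (f : c'.pt ⟶ c.pt)
    (e : ∀ i, a i ≫ c.inj i = c'.inj i ≫ f) :
    Nonempty (IsColimit c') ↔ ∀ i, IsPullback (c'.inj i) (a i) f (c.inj i) := by
  have H := isVanKampenColimit_discrete_sheaf J c hc c' (Discrete.natTrans (fun ⟨i⟩ => a i)) f
    (NatTrans.ext (funext (fun ⟨i⟩ => e i)))
    (NatTrans.Equifibered.of_discrete _)
  rw [H]
  exact ⟨fun h i => h ⟨i⟩, fun h ⟨i⟩ => h i⟩

/-- universality of small coproducts in a sheaf topos -/
theorem cofan_universal {ι : Type u} {X X' : ι → ToposFin.Sh J} (c : Cofan X) (hc : IsColimit c)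
    (c' : Cofan X') (a : ∀ i, X' i ⟶ X i) (f : c'.pt ⟶ c.pt)
    (h : ∀ i, IsPullback (c'.inj i) (a i) f (c.inj i)) : Nonempty (IsColimit c') :=
  (cofan_vanKampen c hc c' a f (fun i => (h i).w.symm)).mpr h

/-! ### Pullback stability of jointly epimorphic families in `Sh J` -/

/-- **Universality**: the base change of a jointly epimorphic family of a sheaf topos is
jointly epimorphic. General form with arbitrary pullback squares. -/
theorem JointlyEpi.of_isPullback {X X' : ToposFin.Sh J} {ι : Type u} {F F' : ι → ToposFin.Sh J}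
    {π : ∀ i, F i ⟶ X} (hπ : JointlyEpi π) (g : X' ⟶ X) (p : ∀ i, F' i ⟶ F i)
    (π' : ∀ i, F' i ⟶ X') (h : ∀ i, IsPullback (p i) (π' i) (π i) g) : JointlyEpi π' := by
  have hepi : Epi (Sigma.desc π) := (epi_sigmaDesc_iff π).mpr hπ
  -- the cofan of the F' i over the pullback of the coproduct
  let q : ∀ i, F' i ⟶ pullback (Sigma.desc π) g := fun i =>
    pullback.lift (p i ≫ Sigma.ι F i) (π' i) (by simp [(h i).w])
  have hq1 : ∀ i, q i ≫ pullback.fst (Sigma.desc π) g = p i ≫ Sigma.ι F i :=
    fun i => pullback.lift_fst _ _ _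
  have hq2 : ∀ i, q i ≫ pullback.snd (Sigma.desc π) g = π' i := fun i => pullback.lift_snd _ _ _
  -- each square `F' i → P → ∐ F` over `F i → ∐ F` is a pullback
  have hsq : ∀ i, IsPullback (q i) (p i) (pullback.fst (Sigma.desc π) g) (Sigma.ι F i) := by
    intro i
    have hbig : IsPullback (q i ≫ pullback.snd (Sigma.desc π) g) (p i)
        g (Sigma.ι F i ≫ Sigma.desc π) := by
      rw [hq2, Sigma.ι_desc]
      exact (h i).flip
    exact IsPullback.of_right hbig (hq1 i) (IsPullback.of_hasPullback (Sigma.desc π) g).flip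
  obtain ⟨hcol⟩ := cofan_universal (Cofan.mk (∐ F) (Sigma.ι F)) (coproductIsCoproduct F)
    (Cofan.mk (pullback (Sigma.desc π) g) q) p (pullback.fst (Sigma.desc π) g) hsq
  intro Z a b hab
  rw [← cancel_epi (pullback.snd (Sigma.desc π) g)]
  apply Cofan.IsColimit.hom_ext hcol
  intro i
  change q i ≫ _ = q i ≫ _
  rw [← Category.assoc, ← Category.assoc, hq2]
  exact hab i

/-- the base change of a jointly epimorphic family, with chosen pullbacks -/
theorem JointlyEpi.pullback_snd {X X' : ToposFin.Sh J} {ι : Type u} {F : ι → ToposFin.Sh J}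
    {π : ∀ i, F i ⟶ X} (hπ : JointlyEpi π) (g : X' ⟶ X) :
    JointlyEpi (fun i => pullback.snd (π i) g) :=
  hπ.of_isPullback g (fun i => pullback.fst (π i) g) _ (fun i => IsPullback.of_hasPullback (π i) g)

theorem JointlyEpi.pullback_fst {X X' : ToposFin.Sh J} {ι : Type u} {F : ι → ToposFin.Sh J}
    {π : ∀ i, F i ⟶ X} (hπ : JointlyEpi π) (g : X' ⟶ X) :
    JointlyEpi (fun i => pullback.fst g (π i)) :=
  hπ.of_isPullback g (fun i => pullback.snd g (π i)) _
    (fun i => (IsPullback.of_hasPullback g (π i)).flip)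


/-! ### Quasi-compact objects -/

/-- reformulation of quasi-compactness with jointly epimorphic families -/
theorem isQC_iff (X : ToposFin.Sh J) :
    ToposFin.IsQC X ↔ ∀ (ι : Type u) (F : ι → ToposFin.Sh J) (π : ∀ i, F i ⟶ X), JointlyEpi π →
      ∃ s : Finset ι, JointlyEpi (fun i : s => π i) := by
  constructor
  · intro h ι F π hπ
    obtain ⟨s, hs⟩ := h ι F π ((epi_sigmaDesc_iff π).mpr hπ)
    exact ⟨s, (epi_sigmaDesc_iff _).mp hs⟩
  · intro h ι F π hπ
    obtain ⟨s, hs⟩ := h ι F π ((epi_sigmaDesc_iff π).mp hπ)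
    exact ⟨s, (epi_sigmaDesc_iff _).mpr hs⟩

/-- An object covered by finitely many quasi-compact objects is quasi-compact. -/
theorem isQC_of_finite_cover {P : ToposFin.Sh J} {κ : Type u} [Finite κ] {Q : κ → ToposFin.Sh J}
    (q : ∀ k, Q k ⟶ P) (hq : JointlyEpi q) (hQ : ∀ k, ToposFin.IsQC (Q k)) : ToposFin.IsQC P := by
  classical
  rw [isQC_iff]
  intro ι F π hπ
  have := Fintype.ofFinite κ
  -- pull back the family to each member of the cover
  have h1 : ∀ k, ∃ s : Finset ι, JointlyEpi (fun i : s => pullback.snd (π i) (q k)) := by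
    intro k
    exact (isQC_iff _).mp (hQ k) ι _ _ (hπ.pullback_snd (q k))
  choose s hs using h1
  refine ⟨Finset.univ.biUnion s, ?_⟩
  intro Z a b hab
  apply hq
  intro k
  apply hs k
  rintro ⟨i, hi⟩
  have hi' : i ∈ Finset.univ.biUnion s := Finset.mem_biUnion.mpr ⟨k, Finset.mem_univ _, hi⟩
  have := hab ⟨i, hi'⟩
  simp only at this ⊢
  rw [← Category.assoc, ← Category.assoc, ← pullback.condition, Category.assoc, Category.assoc, this]

/-- the image of a quasi-compact object is quasi-compact -/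
theorem isQC_of_epi {X Y : ToposFin.Sh J} (f : X ⟶ Y) [Epi f] (hX : ToposFin.IsQC X) :
    ToposFin.IsQC Y :=
  isQC_of_finite_cover (κ := PUnit.{u + 1}) (fun _ => f)
    (fun Z a b hab => by rw [← cancel_epi f]; exact hab PUnit.unit) (fun _ => hX)

/-- a finite coproduct of quasi-compact objects is quasi-compact -/
theorem isQC_of_isColimit_cofan {κ : Type u} [Finite κ] {Q : κ → ToposFin.Sh J} (c : Cofan Q)
    (hc : IsColimit c) (hQ : ∀ k, ToposFin.IsQC (Q k)) : ToposFin.IsQC c.pt :=
  isQC_of_finite_cover c.inj (JointlyEpi.of_isColimit c hc) hQ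

/-- an initial object is quasi-compact -/
theorem isQC_of_isInitial {X : ToposFin.Sh J} (hX : IsInitial X) : ToposFin.IsQC X := by
  rw [isQC_iff]
  intro ι F π _
  exact ⟨∅, fun Z a b _ => hX.hom_ext a b⟩

/-- a summand of a quasi-compact object is quasi-compact -/
theorem isQC_of_summand {ι : Type u} {X : ι → ToposFin.Sh J} (c : Cofan X) (hc : IsColimit c)
    (h : ToposFin.IsQC c.pt) (i₀ : ι) : ToposFin.IsQC (X i₀) := by
  classical
  rw [isQC_iff]
  intro κ F π hπ
  -- the family on `c.pt`: the `π k ≫ inj i₀` and the other injections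
  let G : κ ⊕ {i : ι // i ≠ i₀} → ToposFin.Sh J := Sum.elim F (fun i => X i.1)
  let ρ : ∀ x, G x ⟶ c.pt :=
    Sum.rec (fun k => π k ≫ c.inj i₀) (fun i => c.inj i.1)
  have hρ : JointlyEpi ρ := by
    intro Z a b hab
    apply Cofan.IsColimit.hom_ext hc
    intro i
    by_cases hi : i = i₀
    · subst hi
      apply hπ
      intro k
      have h1 : (π k ≫ c.inj i) ≫ a = (π k ≫ c.inj i) ≫ b := hab (Sum.inl k)
      simpa using h1
    · exact hab (Sum.inr ⟨i, hi⟩)
  obtain ⟨s, hs⟩ := (isQC_iff _).mp h _ G ρ hρ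
  refine ⟨s.preimage Sum.inl (Sum.inl_injective.injOn), ?_⟩
  intro W a b hab
  -- extend a, b to maps out of c.pt with values in W ⨿ c.pt
  let a' : c.pt ⟶ W ⨿ c.pt := Cofan.IsColimit.desc hc
    (fun i => if h : i = i₀ then eqToHom (by rw [h]) ≫ a ≫ coprod.inl else c.inj i ≫ coprod.inr)
  let b' : c.pt ⟶ W ⨿ c.pt := Cofan.IsColimit.desc hc
    (fun i => if h : i = i₀ then eqToHom (by rw [h]) ≫ b ≫ coprod.inl else c.inj i ≫ coprod.inr)
  have ha' : c.inj i₀ ≫ a' = a ≫ coprod.inl := by simp [a']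
  have hb' : c.inj i₀ ≫ b' = b ≫ coprod.inl := by simp [b']
  have ha'' : ∀ i, i ≠ i₀ → c.inj i ≫ a' = c.inj i ≫ coprod.inr := fun i hi => by simp [a', hi]
  have hb'' : ∀ i, i ≠ i₀ → c.inj i ≫ b' = c.inj i ≫ coprod.inr := fun i hi => by simp [b', hi]
  have hab' : a' = b' := by
    apply hs
    rintro ⟨x, hx⟩
    cases x with
    | inl k =>
      have hk : k ∈ s.preimage Sum.inl (Sum.inl_injective.injOn) := by simpa using hx
      have h2 : π k ≫ a = π k ≫ b := hab ⟨k, hk⟩
      change (π k ≫ c.inj i₀) ≫ a' = (π k ≫ c.inj i₀) ≫ b'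
      rw [Category.assoc, Category.assoc, ha', hb', ← Category.assoc, h2, Category.assoc]
    | inr i =>
      change c.inj i.1 ≫ a' = c.inj i.1 ≫ b'
      rw [ha'' _ i.2, hb'' _ i.2]
  have h3 : a ≫ (coprod.inl : W ⟶ W ⨿ c.pt) = b ≫ coprod.inl := by rw [← ha', ← hb', hab']
  haveI : Mono (coprod.inl : W ⟶ W ⨿ c.pt) := inferInstance
  exact (cancel_mono _).mp h3


/-! ### Quasi-compact and quasi-separated morphisms as morphism properties -/

theorem IsQCHom.isQC_of_isPullback {X Y Y' P : ToposFin.Sh J} {f : X ⟶ Y} (hf : ToposFin.IsQCHom f)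
    {g : Y' ⟶ Y} {p : P ⟶ X} {q : P ⟶ Y'} (h : IsPullback p q f g) (hY' : ToposFin.IsQC Y') :
    ToposFin.IsQC P :=
  isQC_of_iso h.isoPullback.symm (hf Y' g hY')

variable (J) in
/-- the class of quasi-compact morphisms -/
def qcHom : MorphismProperty (ToposFin.Sh J) := fun _ _ f => ToposFin.IsQCHom f

variable (J) in
/-- the class of quasi-separated morphisms -/
def qsHom : MorphismProperty (ToposFin.Sh J) := fun _ _ f => ToposFin.IsQSHom f

theorem qsHom_eq_diagonal : qsHom J = (qcHom J).diagonal := rfl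

instance qcHom_isStableUnderComposition : (qcHom J).IsStableUnderComposition where
  comp_mem {X Y Z} f g hf hg := by
    intro W h hW
    -- R = Y ×_Z W is quasi-compact
    have hR : ToposFin.IsQC (pullback g h) := hg W h hW
    let r : pullback (f ≫ g) h ⟶ pullback g h :=
      pullback.lift (pullback.fst (f ≫ g) h ≫ f) (pullback.snd (f ≫ g) h)
        (by rw [Category.assoc, pullback.condition])
    have hr1 : r ≫ pullback.fst g h = pullback.fst (f ≫ g) h ≫ f := pullback.lift_fst _ _ _
    have hr2 : r ≫ pullback.snd g h = pullback.snd (f ≫ g) h := pullback.lift_snd _ _ _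
    have hbig : IsPullback (r ≫ pullback.snd g h) (pullback.fst (f ≫ g) h) h (f ≫ g) := by
      rw [hr2]
      exact (IsPullback.of_hasPullback (f ≫ g) h).flip
    have hsq : IsPullback r (pullback.fst (f ≫ g) h) (pullback.fst g h) f :=
      IsPullback.of_right hbig hr1 (IsPullback.of_hasPullback g h).flip
    exact IsQCHom.isQC_of_isPullback hf hsq.flip hR

theorem qcHom_of_isIso {X Y : ToposFin.Sh J} (f : X ⟶ Y) [IsIso f] : qcHom J f :=
  isQCHom_of_isIso f

instance qcHom_respectsIso : (qcHom J).RespectsIso :=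
  MorphismProperty.respectsIso_of_isStableUnderComposition
    (fun _ _ f (hf : IsIso f) => qcHom_of_isIso f)

instance qcHom_isStableUnderBaseChange : (qcHom J).IsStableUnderBaseChange where
  of_isPullback {X Y Y' S f g f' g'} sq hg := by
    -- sq : IsPullback f' g' g f, with g : Y ⟶ S quasi-compact; show g' : Y' ⟶ X quasi-compact
    intro W h hW
    have h1 : IsPullback (pullback.fst g' h ≫ f') (pullback.snd g' h) g (h ≫ f) :=
      (IsPullback.of_hasPullback g' h).flip.paste_vert sq.flip |>.flip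
    exact IsQCHom.isQC_of_isPullback hg h1 hW

instance qcHom_containsIdentities : (qcHom J).ContainsIdentities where
  id_mem X := qcHom_of_isIso (𝟙 X)

instance qcHom_isMultiplicative : (qcHom J).IsMultiplicative where

instance qsHom_respectsIso : (qsHom J).RespectsIso := by
  rw [qsHom_eq_diagonal]; infer_instance

instance qsHom_isStableUnderComposition : (qsHom J).IsStableUnderComposition := by
  rw [qsHom_eq_diagonal]; infer_instance

instance qsHom_isStableUnderBaseChange : (qsHom J).IsStableUnderBaseChange := by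
  rw [qsHom_eq_diagonal]; infer_instance

theorem isQCHom_comp {X Y Z : ToposFin.Sh J} {f : X ⟶ Y} {g : Y ⟶ Z} (hf : ToposFin.IsQCHom f)
    (hg : ToposFin.IsQCHom g) : ToposFin.IsQCHom (f ≫ g) :=
  (qcHom J).comp_mem f g hf hg

theorem isQSHom_comp {X Y Z : ToposFin.Sh J} {f : X ⟶ Y} {g : Y ⟶ Z} (hf : ToposFin.IsQSHom f)
    (hg : ToposFin.IsQSHom g) : ToposFin.IsQSHom (f ≫ g) :=
  (qsHom J).comp_mem f g hf hg

theorem isQCHom_of_isPullback {X Y X' Y' : ToposFin.Sh J} {f : X ⟶ Y} {g : Y' ⟶ Y} {p : X' ⟶ X}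
    {f' : X' ⟶ Y'} (h : IsPullback p f' f g) (hf : ToposFin.IsQCHom f) : ToposFin.IsQCHom f' :=
  (qcHom J).of_isPullback h hf

theorem isQSHom_of_isPullback {X Y X' Y' : ToposFin.Sh J} {f : X ⟶ Y} {g : Y' ⟶ Y} {p : X' ⟶ X}
    {f' : X' ⟶ Y'} (h : IsPullback p f' f g) (hf : ToposFin.IsQSHom f) : ToposFin.IsQSHom f' :=
  (qsHom J).of_isPullback h hf

theorem isQSHom_of_mono {X Y : ToposFin.Sh J} (f : X ⟶ Y) [Mono f] : ToposFin.IsQSHom f :=
  isQCHom_of_isIso _

end Groth.Agent.Lib.Helper28
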