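import Groth.Agent.Lib.Helper28.ToposFin2
import Mathlib.CategoryTheory.Limits.Shapes.Diagonal

/-!
# Finiteness conditions in a topos of sheaves: coproducts (helper28)
-/

set_option autoImplicit false
open CategoryTheory CategoryTheory.Limits Opposite
universe u

namespace Groth.Agent.Lib.Helper28

variable {C : Type u} [SmallCategory C] {J : GrothendieckTopology C}

/-! ### Injections of coproducts -/

/-- the injections of a colimit cofan of sheaves are monomorphisms -/
theorem mono_cofan_inj {ι : Type u} {X : ι → ToposFin.Sh J} (c : Cofan X) (hc : IsColimit c)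
    (i : ι) : Mono (c.inj i) :=
  mono_of_cofan_isVanKampen (isVanKampenColimit_discrete_sheaf J c hc) ⟨i⟩

/-- the injections of a colimit cofan of sheaves are quasi-compact morphisms -/
theorem isQCHom_cofan_inj {ι : Type u} {X : ι → ToposFin.Sh J} (c : Cofan X) (hc : IsColimit c)
    (i₀ : ι) : ToposFin.IsQCHom (c.inj i₀) := by
  intro Z g hZ
  -- the pulled-back cofan is a colimit cofan, by universality
  obtain ⟨hcol⟩ := cofan_universal c hc
    (Cofan.mk Z (fun i => pullback.snd (c.inj i) g)) (fun i => pullback.fst (c.inj i) g) g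
    (fun i => (IsPullback.of_hasPullback (c.inj i) g).flip)
  exact isQC_of_summand _ hcol hZ i₀

/-- the injections of a colimit cofan of sheaves are quasi-separated morphisms -/
theorem isQSHom_cofan_inj {ι : Type u} {X : ι → ToposFin.Sh J} (c : Cofan X) (hc : IsColimit c)
    (i₀ : ι) : ToposFin.IsQSHom (c.inj i₀) :=
  haveI := mono_cofan_inj c hc i₀
  isQSHom_of_mono _

/-! ### Quasi-compactness of a morphism is local on the target for quasi-compact covers -/

theorem isQCHom_of_cover {A B : ToposFin.Sh J} (h : A ⟶ B) {ι : Type u} {Bi Ai : ι → ToposFin.Sh J}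
    (e : ∀ i, Bi i ⟶ B) (he : JointlyEpi e) (heqc : ∀ i, ToposFin.IsQCHom (e i))
    (a : ∀ i, Ai i ⟶ A) (hi : ∀ i, Ai i ⟶ Bi i) (sq : ∀ i, IsPullback (a i) (hi i) h (e i))
    (hqc : ∀ i, ToposFin.IsQCHom (hi i)) : ToposFin.IsQCHom h := by
  intro Z g hZ
  -- cover Z by the Z_i = B_i ×_B Z
  have hz : JointlyEpi (fun i => pullback.snd (e i) g) := he.pullback_snd g
  obtain ⟨s, hs⟩ := (isQC_iff Z).mp hZ ι _ _ hz
  have hZi : ∀ i, ToposFin.IsQC (pullback (e i) g) := fun i => heqc i Z g hZ
  -- cover W = A ×_B Z by the W_i = W ×_Z Z_i, i ∈ s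
  have hw : JointlyEpi (fun i : s =>
      pullback.fst (pullback.snd h g) (pullback.snd (e i) g)) := hs.pullback_fst _
  refine isQC_of_finite_cover _ hw (fun i => ?_)
  -- W_i ≅ A_i ×_{B_i} Z_i
  -- the map W_i → A_i
  have hc1 : (pullback.fst (pullback.snd h g) (pullback.snd (e i) g) ≫ pullback.fst h g) ≫ h =
      (pullback.snd (pullback.snd h g) (pullback.snd (e i) g) ≫ pullback.fst (e i) g) ≫ e i := by
    rw [Category.assoc, pullback.condition, ← Category.assoc, pullback.condition, Category.assoc,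
      Category.assoc, pullback.condition]
  let t : pullback (pullback.snd h g) (pullback.snd (e i) g) ⟶ Ai i :=
    (sq i).lift _ _ hc1
  have ht1 : t ≫ a i = pullback.fst (pullback.snd h g) (pullback.snd (e i) g) ≫ pullback.fst h g :=
    (sq i).lift_fst _ _ _
  have ht2 : t ≫ hi i = pullback.snd (pullback.snd h g) (pullback.snd (e i) g) ≫
      pullback.fst (e i) g := (sq i).lift_snd _ _ _
  -- the square (t, snd) over (h_i, fst : Z_i → B_i) is a pullback
  have hsq : IsPullback t (pullback.snd (pullback.snd h g) (pullback.snd (e i) g)) (hi i)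
      (pullback.fst (e i) g) := by
    -- paste with sq i : the composite rectangle over (h, e i ≫ ..)
    -- big rectangle: W_i → A over Z_i → B
    have hbig : IsPullback (pullback.fst (pullback.snd h g) (pullback.snd (e i) g) ≫
        pullback.fst h g) (pullback.snd (pullback.snd h g) (pullback.snd (e i) g)) h
        (pullback.snd (e i) g ≫ g) :=
      ((IsPullback.of_hasPullback (pullback.snd h g) (pullback.snd (e i) g)).flip.paste_vert
        (IsPullback.of_hasPullback h g).flip).flip
    have hbig' : IsPullback (t ≫ a i) (pullback.snd (pullback.snd h g) (pullback.snd (e i) g)) h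
        (pullback.fst (e i) g ≫ e i) := by
      rw [ht1, pullback.condition]
      exact hbig
    exact (IsPullback.of_bot hbig'.flip ht2.symm (sq i).flip).flip
  exact IsQCHom.isQC_of_isPullback (hqc i) hsq (hZi i)


/-! ### Morphisms out of a coproduct -/

/-- a morphism out of a coproduct is quasi-compact as soon as finitely many components are,
for a finite coproduct. -/
theorem isQCHom_of_cofan_finite {ι : Type u} [Finite ι] {X : ι → ToposFin.Sh J} (c : Cofan X)
    (hc : IsColimit c) {Y : ToposFin.Sh J} (f : c.pt ⟶ Y)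
    (h : ∀ i, ToposFin.IsQCHom (c.inj i ≫ f)) : ToposFin.IsQCHom f := by
  intro Z g hZ
  -- the squares P_i → P over X_i → c.pt
  let m : ∀ i, pullback (c.inj i ≫ f) g ⟶ pullback f g := fun i =>
    pullback.lift (pullback.fst (c.inj i ≫ f) g ≫ c.inj i) (pullback.snd (c.inj i ≫ f) g)
      (by rw [Category.assoc, pullback.condition])
  have hm1 : ∀ i, m i ≫ pullback.fst f g = pullback.fst (c.inj i ≫ f) g ≫ c.inj i :=
    fun i => pullback.lift_fst _ _ _
  have hm2 : ∀ i, m i ≫ pullback.snd f g = pullback.snd (c.inj i ≫ f) g :=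
    fun i => pullback.lift_snd _ _ _
  have hsq : ∀ i, IsPullback (pullback.fst (c.inj i ≫ f) g) (m i) (c.inj i) (pullback.fst f g) := by
    intro i
    have hbig : IsPullback (m i ≫ pullback.snd f g) (pullback.fst (c.inj i ≫ f) g) g
        (c.inj i ≫ f) := by
      rw [hm2]
      exact (IsPullback.of_hasPullback (c.inj i ≫ f) g).flip
    exact (IsPullback.of_right hbig (hm1 i) (IsPullback.of_hasPullback f g).flip).flip
  have hje : JointlyEpi m :=
    (JointlyEpi.of_isColimit c hc).of_isPullback (pullback.fst f g) _ m hsq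
  exact isQC_of_finite_cover m hje (fun i => h i Z g hZ)

/-- the graph square used for quasi-separatedness of a morphism out of a coproduct -/
theorem isQSHom_of_cofan {ι : Type u} {X : ι → ToposFin.Sh J} (c : Cofan X)
    (hc : IsColimit c) {Y : ToposFin.Sh J} (f : c.pt ⟶ Y)
    (h : ∀ i, ToposFin.IsQSHom (c.inj i ≫ f)) : ToposFin.IsQSHom f := by
  -- D_i = X_i ×_Y c.pt, e_i : D_i → D = c.pt ×_Y c.pt
  let e : ∀ i, pullback (c.inj i ≫ f) f ⟶ pullback f f := fun i =>
    pullback.map (c.inj i ≫ f) f f f (c.inj i) (𝟙 _) (𝟙 _) (by simp) (by simp)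
  have he1 : ∀ i, e i ≫ pullback.fst f f = pullback.fst (c.inj i ≫ f) f ≫ c.inj i :=
    fun i => pullback.lift_fst _ _ _
  have he2 : ∀ i, e i ≫ pullback.snd f f = pullback.snd (c.inj i ≫ f) f :=
    fun i => (pullback.lift_snd _ _ _).trans (Category.comp_id _)
  -- e_i is a base change of inj i
  have hesq : ∀ i, IsPullback (pullback.fst (c.inj i ≫ f) f) (e i) (c.inj i) (pullback.fst f f) := by
    intro i
    have hbig : IsPullback (e i ≫ pullback.snd f f) (pullback.fst (c.inj i ≫ f) f) f
        (c.inj i ≫ f) := by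
      rw [he2]
      exact (IsPullback.of_hasPullback (c.inj i ≫ f) f).flip
    exact (IsPullback.of_right hbig (he1 i) (IsPullback.of_hasPullback f f).flip).flip
  have heje : JointlyEpi e :=
    (JointlyEpi.of_isColimit c hc).of_isPullback (pullback.fst f f) _ e hesq
  have heqc : ∀ i, ToposFin.IsQCHom (e i) := fun i =>
    isQCHom_of_isPullback (hesq i) (isQCHom_cofan_inj c hc i)
  -- the graphs Γ_i : X_i → D_i
  let Γ : ∀ i, X i ⟶ pullback (c.inj i ≫ f) f := fun i =>
    pullback.lift (𝟙 _) (c.inj i) (by simp)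
  have hΓsq : ∀ i, IsPullback (c.inj i) (Γ i) (pullback.diagonal f) (e i) :=
    fun i => pullback_lift_diagonal_isPullback (c.inj i) f
  -- Γ_i is quasi-compact
  have hΓqc : ∀ i, ToposFin.IsQCHom (Γ i) := by
    intro i
    -- k_i : X_i ×_Y X_i → X_i ×_Y c.pt, base change of inj i
    let k : pullback (c.inj i ≫ f) (c.inj i ≫ f) ⟶ pullback (c.inj i ≫ f) f :=
      pullback.map (c.inj i ≫ f) (c.inj i ≫ f) (c.inj i ≫ f) f (𝟙 _) (c.inj i) (𝟙 _)
        (by simp) (by simp)
    have hk1 : k ≫ pullback.fst (c.inj i ≫ f) f = pullback.fst (c.inj i ≫ f) (c.inj i ≫ f) :=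
      (pullback.lift_fst _ _ _).trans (Category.comp_id _)
    have hk2 : k ≫ pullback.snd (c.inj i ≫ f) f =
        pullback.snd (c.inj i ≫ f) (c.inj i ≫ f) ≫ c.inj i := pullback.lift_snd _ _ _
    have hksq : IsPullback (pullback.snd (c.inj i ≫ f) (c.inj i ≫ f)) k (c.inj i)
        (pullback.snd (c.inj i ≫ f) f) := by
      have hbig : IsPullback (k ≫ pullback.fst (c.inj i ≫ f) f)
          (pullback.snd (c.inj i ≫ f) (c.inj i ≫ f)) (c.inj i ≫ f) (c.inj i ≫ f) := by
        rw [hk1]
        exact IsPullback.of_hasPullback _ _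
      exact (IsPullback.of_right hbig hk2 (IsPullback.of_hasPullback (c.inj i ≫ f) f)).flip
    have hkqc : ToposFin.IsQCHom k := isQCHom_of_isPullback hksq (isQCHom_cofan_inj c hc i)
    have hΓ : Γ i = pullback.diagonal (c.inj i ≫ f) ≫ k := by
      apply pullback.hom_ext
      · rw [Category.assoc, hk1, pullback.diagonal_fst]
        exact pullback.lift_fst _ _ _
      · rw [Category.assoc, hk2, pullback.diagonal_snd_assoc]
        exact pullback.lift_snd _ _ _
    rw [hΓ]
    exact isQCHom_comp (h i) hkqc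
  exact isQCHom_of_cover (pullback.diagonal f) e heje heqc (fun i => c.inj i) Γ hΓsq hΓqc

/-- characterization of quasi-separated morphisms out of a coproduct -/
theorem isQSHom_cofan_iff {ι : Type u} {X : ι → ToposFin.Sh J} (c : Cofan X)
    (hc : IsColimit c) {Y : ToposFin.Sh J} (f : c.pt ⟶ Y) :
    ToposFin.IsQSHom f ↔ ∀ i, ToposFin.IsQSHom (c.inj i ≫ f) :=
  ⟨fun h i => isQSHom_comp (isQSHom_cofan_inj c hc i) h, isQSHom_of_cofan c hc f⟩

/-- characterization of quasi-compact morphisms out of a finite coproduct -/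
theorem isQCHom_cofan_iff {ι : Type u} [Finite ι] {X : ι → ToposFin.Sh J} (c : Cofan X)
    (hc : IsColimit c) {Y : ToposFin.Sh J} (f : c.pt ⟶ Y) :
    ToposFin.IsQCHom f ↔ ∀ i, ToposFin.IsQCHom (c.inj i ≫ f) :=
  ⟨fun h i => isQCHom_comp (isQCHom_cofan_inj c hc i) h, isQCHom_of_cofan_finite c hc f⟩

end Groth.Agent.Lib.Helper28
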