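import Groth.Agent.Lib.Helper28.ToposFin3
import Groth.Prelude.Def_ToposFin2

/-!
# Finiteness conditions in a topos of sheaves: generating families (helper28)

* general facts on equalizers vs pullbacks (any category);
* criteria for quasi-compact / quasi-separated morphisms and objects in terms of a generating
  family of quasi-compact objects;
* in an algebraic topos, equalizers of maps from a quasi-compact object to a quasi-separated one are
  quasi-compact.
-/

set_option autoImplicit false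
open CategoryTheory CategoryTheory.Limits Opposite
universe u

namespace Groth.Agent.Lib.Helper28

section Forks

variable {D : Type*} [Category D]

/-- base change of an equalizer: `Eq(p ≫ a, p ≫ b) = Z' ×_Z Eq(a, b)`. -/
theorem isPullback_fork_of_comp {Z' Z X E E' : D} (p : Z' ⟶ Z) (a b : Z ⟶ X)
    (e : E ⟶ Z) (w : e ≫ a = e ≫ b) (hE : IsLimit (Fork.ofι e w))
    (e' : E' ⟶ Z') (w' : e' ≫ (p ≫ a) = e' ≫ (p ≫ b)) (hE' : IsLimit (Fork.ofι e' w'))
    (t : E' ⟶ E) (ht : t ≫ e = e' ≫ p) : IsPullback e' t p e := by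
  refine ⟨⟨ht.symm⟩, ⟨PullbackCone.IsLimit.mk _ (fun s => Fork.IsLimit.lift hE' s.fst ?_) ?_ ?_ ?_⟩⟩
  · rw [← Category.assoc, ← Category.assoc, s.condition, Category.assoc, Category.assoc, w]
  · intro s
    exact Fork.IsLimit.lift_ι' hE' _ _
  · intro s
    apply Fork.IsLimit.hom_ext hE
    rw [Category.assoc]
    change _ ≫ t ≫ e = _ ≫ e
    rw [ht, ← Category.assoc]
    have := Fork.IsLimit.lift_ι' hE' s.fst (by
      rw [← Category.assoc, ← Category.assoc, s.condition, Category.assoc, Category.assoc, w])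
    change _ ≫ e' = _ at this
    rw [this, s.condition]
  · intro s m hm1 _
    apply Fork.IsLimit.hom_ext hE'
    rw [Fork.IsLimit.lift_ι']
    exact hm1

/-- the comparison map of the previous lemma -/
theorem exists_fork_map {Z' Z X E E' : D} (p : Z' ⟶ Z) (a b : Z ⟶ X)
    (e : E ⟶ Z) (w : e ≫ a = e ≫ b) (hE : IsLimit (Fork.ofι e w))
    (e' : E' ⟶ Z') (w' : e' ≫ (p ≫ a) = e' ≫ (p ≫ b)) : ∃ t : E' ⟶ E, t ≫ e = e' ≫ p :=
  ⟨Fork.IsLimit.lift hE (e' ≫ p) (by rw [Category.assoc, Category.assoc, w']),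
    Fork.IsLimit.lift_ι' hE _ _⟩

/-- `Eq(a, b) → Z ×_X Z` is the equalizer of the two projections. -/
noncomputable def isLimitForkLiftDiag [HasPullbacks D] {Z X E : D} (a b : Z ⟶ X)
    (e : E ⟶ Z) (w : e ≫ a = e ≫ b) (hE : IsLimit (Fork.ofι e w)) :
    IsLimit (Fork.ofι (f := pullback.fst a b) (g := pullback.snd a b) (pullback.lift e e w)
      (by rw [pullback.lift_fst, pullback.lift_snd])) := by
  refine Fork.IsLimit.mk _ (fun s => Fork.IsLimit.lift hE (s.ι ≫ pullback.fst a b) ?_) ?_ ?_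
  · rw [Category.assoc, pullback.condition, ← Category.assoc, ← s.condition, Category.assoc]
  · intro s
    have h1 : Fork.IsLimit.lift hE (s.ι ≫ pullback.fst a b) (by
        rw [Category.assoc, pullback.condition, ← Category.assoc, ← s.condition,
          Category.assoc]) ≫ e = s.ι ≫ pullback.fst a b :=
      Fork.IsLimit.lift_ι' hE _ _
    change _ ≫ pullback.lift e e w = _
    apply pullback.hom_ext
    · rw [Category.assoc, pullback.lift_fst, h1]
    · rw [Category.assoc, pullback.lift_snd, h1, s.condition]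
  · intro s m hm
    apply Fork.IsLimit.hom_ext hE
    rw [Fork.IsLimit.lift_ι']
    change m ≫ pullback.lift e e w = _ at hm
    change m ≫ e = _
    rw [← hm, Category.assoc]
    congr 1
    exact (pullback.lift_fst _ _ _).symm

/-- a limit fork only depends on the relation `t ≫ a = t ≫ b`. -/
noncomputable def isLimitForkOfIff {W X X' E : D} (a b : W ⟶ X) (a' b' : W ⟶ X')
    (H : ∀ (T : D) (t : T ⟶ W), t ≫ a = t ≫ b ↔ t ≫ a' = t ≫ b')
    (e : E ⟶ W) (w : e ≫ a = e ≫ b) (hE : IsLimit (Fork.ofι e w)) :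
    IsLimit (Fork.ofι e ((H _ e).1 w)) := by
  refine Fork.IsLimit.mk _ (fun s => Fork.IsLimit.lift hE s.ι ((H _ _).2 s.condition)) ?_ ?_
  · intro s
    exact Fork.IsLimit.lift_ι' hE _ _
  · intro s m hm
    apply Fork.IsLimit.hom_ext hE
    rw [Fork.IsLimit.lift_ι']
    exact hm

set_option backward.isDefEq.respectTransparency false in
/-- the pullback of the diagonal of `f` along `(a, b)` is the equalizer of `a, b`. -/
theorem isPullback_diagonal_fork [HasPullbacks D] {K X Y E : D} (f : X ⟶ Y) (a b : K ⟶ X)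
    (h : a ≫ f = b ≫ f) (e : E ⟶ K) (w : e ≫ a = e ≫ b) (hE : IsLimit (Fork.ofι e w)) :
    IsPullback (e ≫ a) e (pullback.diagonal f) (pullback.lift a b h) := by
  refine ⟨⟨?_⟩, ⟨PullbackCone.IsLimit.mk _ (fun s => Fork.IsLimit.lift hE s.snd ?_) ?_ ?_ ?_⟩⟩
  · apply pullback.hom_ext
    · simp
    · simp [w]
  · have h1 := s.condition =≫ pullback.fst f f
    have h2 := s.condition =≫ pullback.snd f f
    rw [Category.assoc, Category.assoc, pullback.diagonal_fst, pullback.lift_fst,
      Category.comp_id] at h1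
    rw [Category.assoc, Category.assoc, pullback.diagonal_snd, pullback.lift_snd,
      Category.comp_id] at h2
    rw [← h1, ← h2]
  · intro s
    have h1 := s.condition =≫ pullback.fst f f
    rw [Category.assoc, Category.assoc, pullback.diagonal_fst, pullback.lift_fst,
      Category.comp_id] at h1
    rw [← Category.assoc]
    have := Fork.IsLimit.lift_ι' hE s.snd (by
      have h1 := s.condition =≫ pullback.fst f f
      have h2 := s.condition =≫ pullback.snd f f
      rw [Category.assoc, Category.assoc, pullback.diagonal_fst, pullback.lift_fst,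
        Category.comp_id] at h1
      rw [Category.assoc, Category.assoc, pullback.diagonal_snd, pullback.lift_snd,
        Category.comp_id] at h2
      rw [← h1, ← h2])
    change _ ≫ e = _ at this
    rw [this, h1]
  · intro s
    exact Fork.IsLimit.lift_ι' hE _ _
  · intro s m _ hm2
    apply Fork.IsLimit.hom_ext hE
    rw [Fork.IsLimit.lift_ι']
    exact hm2

end Forks

variable {C : Type u} [SmallCategory C] {J : GrothendieckTopology C}

section Generating

variable {S : Set (ToposFin.Sh J)}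

/-- a quasi-compact object has a finite cover by generators -/
theorem exists_finite_cover (hgen : ToposFin.IsGenerating S) {X : ToposFin.Sh J}
    (hX : ToposFin.IsQC X) :
    ∃ (κ : Type u) (_ : Finite κ) (F : κ → ToposFin.Sh J) (π : ∀ k, F k ⟶ X),
      (∀ k, F k ∈ S) ∧ JointlyEpi π := by
  obtain ⟨ι, F, π, hF, hπ⟩ := hgen X
  obtain ⟨s, hs⟩ := (isQC_iff X).mp hX ι F π hπ
  exact ⟨s, inferInstance, fun i => F i, fun i => π i, fun i => hF i, hs⟩

/-- a quasi-compact object over `X` has a finite cover by generators refining a given cover of `X` -/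
theorem exists_finite_cover_refining (hgen : ToposFin.IsGenerating S) {K X : ToposFin.Sh J}
    (hK : ToposFin.IsQC K) (a : K ⟶ X) {ι : Type u} {Xi : ι → ToposFin.Sh J}
    (π : ∀ i, Xi i ⟶ X) (hπ : JointlyEpi π) :
    ∃ (κ : Type u) (_ : Finite κ) (M : κ → ToposFin.Sh J) (μ : ∀ p, M p ⟶ K) (idx : κ → ι)
      (α : ∀ p, M p ⟶ Xi (idx p)), (∀ p, M p ∈ S) ∧ JointlyEpi μ ∧
        ∀ p, μ p ≫ a = α p ≫ π (idx p) := by
  have hz : JointlyEpi (fun i => pullback.snd (π i) a) := hπ.pullback_snd a
  choose κ W ρ hW hρ using fun i => hgen (pullback (π i) a)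
  have hcov : JointlyEpi (fun p : Σ i, κ i => ρ p.1 p.2 ≫ pullback.snd (π p.1) a) := hz.comp hρ
  obtain ⟨s, hs⟩ := (isQC_iff K).mp hK _ _ _ hcov
  refine ⟨s, inferInstance, fun p => W p.1.1 p.1.2,
    fun p => ρ p.1.1 p.1.2 ≫ pullback.snd (π p.1.1) a, fun p => p.1.1,
    fun p => ρ p.1.1 p.1.2 ≫ pullback.fst (π p.1.1) a, fun p => hW _ _, hs, fun p => ?_⟩
  rw [Category.assoc, Category.assoc, pullback.condition]

/-- two-step covering of a fibre product -/
theorem isQC_pullback_of_covers {K L X : ToposFin.Sh J} (a : K ⟶ X) (b : L ⟶ X)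
    {κ κ' : Type u} [Finite κ] [Finite κ'] {M : κ → ToposFin.Sh J} {N : κ' → ToposFin.Sh J}
    (μ : ∀ p, M p ⟶ K) (ν : ∀ q, N q ⟶ L) (hμ : JointlyEpi μ) (hν : JointlyEpi ν)
    (h : ∀ p q, ToposFin.IsQC (pullback (μ p ≫ a) (ν q ≫ b))) : ToposFin.IsQC (pullback a b) := by
  refine isQC_of_finite_cover _ (hμ.pullback_snd (pullback.fst a b)) (fun p => ?_)
  refine isQC_of_iso (pullbackRightPullbackFstIso a b (μ p)).symm ?_
  refine isQC_of_finite_cover _ (hν.pullback_fst (pullback.snd (μ p ≫ a) b)) (fun q => ?_)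
  exact isQC_of_iso (pullbackLeftPullbackSndIso (μ p ≫ a) b (ν q)).symm (h p q)

/-- quasi-compactness of a morphism can be tested on generators -/
theorem isQCHom_of_generating (hgen : ToposFin.IsGenerating S) {X Y : ToposFin.Sh J} (f : X ⟶ Y)
    (h : ∀ K ∈ S, ∀ g : K ⟶ Y, ToposFin.IsQC (pullback f g)) : ToposFin.IsQCHom f := by
  intro Z g hZ
  obtain ⟨κ, _, F, π, hF, hπ⟩ := exists_finite_cover hgen hZ
  refine isQC_of_finite_cover _ (hπ.pullback_fst (pullback.snd f g)) (fun k => ?_)
  exact isQC_of_iso (pullbackLeftPullbackSndIso f g (π k)).symm (h _ (hF k) (π k ≫ g))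

/-- quasi-separatedness of an object can be tested on generators -/
theorem isQS_of_generating (hgen : ToposFin.IsGenerating S) {X : ToposFin.Sh J}
    (h : ∀ K ∈ S, ∀ L ∈ S, ∀ (a : K ⟶ X) (b : L ⟶ X), ToposFin.IsQC (pullback a b)) :
    ToposFin.IsQS X := by
  intro Y Z a b hY hZ
  obtain ⟨κ, _, F, π, hF, hπ⟩ := exists_finite_cover hgen hY
  obtain ⟨κ', _, F', π', hF', hπ'⟩ := exists_finite_cover hgen hZ
  exact isQC_pullback_of_covers a b π π' hπ hπ' (fun p q => h _ (hF p) _ (hF' q) _ _)

/-- members of a generating family of quasi-compact objects stable under fibre products are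
quasi-separated -/
theorem isQS_of_mem (hqc : ∀ K ∈ S, ToposFin.IsQC K) (hgen : ToposFin.IsGenerating S)
    (hpb : ToposFin.ClosedUnderPullbacks S) {K : ToposFin.Sh J} (hK : K ∈ S) : ToposFin.IsQS K := by
  apply isQS_of_generating hgen
  intro A hA B hB a b
  obtain ⟨P, p, q, hP, hsq⟩ := hpb a b hA hB hK
  exact isQC_of_iso hsq.isoPullback (hqc P hP)

theorem isCoherent_of_mem (hqc : ∀ K ∈ S, ToposFin.IsQC K) (hgen : ToposFin.IsGenerating S)
    (hpb : ToposFin.ClosedUnderPullbacks S) {K : ToposFin.Sh J} (hK : K ∈ S) :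
    ToposFin.IsCoherent K :=
  ⟨hqc K hK, isQS_of_mem hqc hgen hpb hK⟩

/-- In an algebraic topos, the equalizer of two maps from a quasi-compact object to a
quasi-separated object is quasi-compact. -/
theorem isQC_of_isLimit_fork (hqc : ∀ K ∈ S, ToposFin.IsQC K) (hgen : ToposFin.IsGenerating S)
    (heq : ToposFin.ClosedUnderEqualizers S) {Z X E : ToposFin.Sh J} (hZ : ToposFin.IsQC Z)
    (hX : ToposFin.IsQS X) (a b : Z ⟶ X) (e : E ⟶ Z) (w : e ≫ a = e ≫ b)
    (hE : IsLimit (Fork.ofι e w)) : ToposFin.IsQC E := by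
  have stepA : ∀ (K : ToposFin.Sh J), K ∈ S → ∀ (a b : K ⟶ X) (E : ToposFin.Sh J) (e : E ⟶ K)
      (w : e ≫ a = e ≫ b), IsLimit (Fork.ofι e w) → ToposFin.IsQC E := by
    intro K hK a b E e w hE
    have hP : ToposFin.IsQC (pullback a b) := hX K K a b (hqc K hK) (hqc K hK)
    obtain ⟨κ, _, M, m, hM, hm⟩ := exists_finite_cover hgen hP
    choose Ej ej wj hEj hlim using fun k =>
      heq (m k ≫ pullback.fst a b) (m k ≫ pullback.snd a b) (hM k) hK
    have hD := isLimitForkLiftDiag a b e w hE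
    choose t ht using fun k => exists_fork_map (m k) (pullback.fst a b) (pullback.snd a b)
      (pullback.lift e e w) _ hD (ej k) (wj k)
    have hsq : ∀ k, IsPullback (ej k) (t k) (m k) (pullback.lift e e w) := fun k =>
      isPullback_fork_of_comp (m k) _ _ _ _ hD (ej k) (wj k) (hlim k).some (t k) (ht k)
    have hje : JointlyEpi t := hm.of_isPullback (pullback.lift e e w) ej t hsq
    exact isQC_of_finite_cover t hje (fun k => hqc _ (hEj k))
  obtain ⟨κ, _, F, π, hF, hπ⟩ := exists_finite_cover hgen hZ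
  have hEk : ∀ k, ToposFin.IsQC (equalizer (π k ≫ a) (π k ≫ b)) := fun k =>
    stepA (F k) (hF k) _ _ _ (equalizer.ι _ _) (equalizer.condition _ _)
      (equalizerIsEqualizer _ _)
  choose t ht using fun k => exists_fork_map (π k) a b e w hE
    (equalizer.ι (π k ≫ a) (π k ≫ b)) (equalizer.condition _ _)
  have hsq : ∀ k, IsPullback (equalizer.ι (π k ≫ a) (π k ≫ b)) (t k) (π k) e := fun k =>
    isPullback_fork_of_comp (π k) a b e w hE _ _ (equalizerIsEqualizer _ _) (t k) (ht k)
  exact isQC_of_finite_cover t (hπ.of_isPullback e _ t hsq) hEk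

/-- for a quasi-separated morphism, equalizers of maps from quasi-compact objects which agree
after `f` are quasi-compact -/
theorem IsQSHom.isQC_fork {X Y : ToposFin.Sh J} {f : X ⟶ Y} (hf : ToposFin.IsQSHom f)
    {K E : ToposFin.Sh J} (hK : ToposFin.IsQC K) (a b : K ⟶ X) (h : a ≫ f = b ≫ f) (e : E ⟶ K)
    (w : e ≫ a = e ≫ b) (hE : IsLimit (Fork.ofι e w)) : ToposFin.IsQC E :=
  IsQCHom.isQC_of_isPullback hf (isPullback_diagonal_fork f a b h e w hE) hK

set_option backward.isDefEq.respectTransparency false in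
/-- quasi-separatedness of a morphism can be tested on equalizers of maps from generators -/
theorem isQSHom_of_generating (hgen : ToposFin.IsGenerating S) {X Y : ToposFin.Sh J} (f : X ⟶ Y)
    (h : ∀ K ∈ S, ∀ a b : K ⟶ X, a ≫ f = b ≫ f → ToposFin.IsQC (equalizer a b)) :
    ToposFin.IsQSHom f := by
  apply isQCHom_of_generating hgen
  intro K hK g
  have hc : (g ≫ pullback.fst f f) ≫ f = (g ≫ pullback.snd f f) ≫ f := by
    rw [Category.assoc, Category.assoc, pullback.condition]
  have hg : g = pullback.lift (g ≫ pullback.fst f f) (g ≫ pullback.snd f f) hc := by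
    apply pullback.hom_ext <;> simp
  have hsq := isPullback_diagonal_fork f _ _ hc (equalizer.ι _ _) (equalizer.condition _ _)
    (equalizerIsEqualizer (g ≫ pullback.fst f f) (g ≫ pullback.snd f f))
  rw [← hg] at hsq
  exact isQC_of_iso hsq.isoPullback (h K hK _ _ hc)

/-- quasi-compactness of a morphism is local on the target, for arbitrary covers, when there are
enough quasi-compact objects -/
theorem isQCHom_of_jointlyEpi (hqc : ∀ K ∈ S, ToposFin.IsQC K) (hgen : ToposFin.IsGenerating S)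
    {X Y : ToposFin.Sh J} (f : X ⟶ Y) {ι : Type u} {Yi : ι → ToposFin.Sh J} (g : ∀ i, Yi i ⟶ Y)
    (hg : JointlyEpi g) (h : ∀ i, ToposFin.IsQCHom (pullback.snd f (g i))) :
    ToposFin.IsQCHom f := by
  intro Z k hZ
  obtain ⟨κ, _, M, μ, idx, α, hM, hμ, hc⟩ := exists_finite_cover_refining hgen hZ k g hg
  refine isQC_of_finite_cover _ (hμ.pullback_fst (pullback.snd f k)) (fun p => ?_)
  have e1 := pullbackLeftPullbackSndIso f k (μ p)
  have e2 := pullbackLeftPullbackSndIso f (g (idx p)) (α p)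
  have e3 : pullback f (μ p ≫ k) ≅ pullback f (α p ≫ g (idx p)) := pullback.congrHom rfl (hc p)
  exact isQC_of_iso (e2 ≪≫ e3.symm ≪≫ e1.symm) (h (idx p) _ _ (hqc _ (hM p)))

/-- quasi-separatedness of a morphism is local on the target, for arbitrary covers, when there are
enough quasi-compact objects -/
theorem isQSHom_of_jointlyEpi (hqc : ∀ K ∈ S, ToposFin.IsQC K) (hgen : ToposFin.IsGenerating S)
    {X Y : ToposFin.Sh J} (f : X ⟶ Y) {ι : Type u} {Yi : ι → ToposFin.Sh J} (g : ∀ i, Yi i ⟶ Y)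
    (hg : JointlyEpi g) (h : ∀ i, ToposFin.IsQSHom (pullback.snd f (g i))) :
    ToposFin.IsQSHom f := by
  apply isQSHom_of_generating hgen
  intro K hK a b hab
  obtain ⟨κ, _, M, μ, idx, α, hM, hμ, hc⟩ :=
    exists_finite_cover_refining hgen (hqc K hK) (a ≫ f) g hg
  choose t ht using fun p => exists_fork_map (μ p) a b (equalizer.ι a b)
    (equalizer.condition a b) (equalizerIsEqualizer a b)
    (equalizer.ι (μ p ≫ a) (μ p ≫ b)) (equalizer.condition _ _)
  have hsq : ∀ p, IsPullback (equalizer.ι (μ p ≫ a) (μ p ≫ b)) (t p) (μ p) (equalizer.ι a b) :=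
    fun p => isPullback_fork_of_comp (μ p) a b _ _ (equalizerIsEqualizer a b) _ _
      (equalizerIsEqualizer _ _) (t p) (ht p)
  refine isQC_of_finite_cover t (hμ.of_isPullback (equalizer.ι a b) _ t hsq) (fun p => ?_)
  have hca : (μ p ≫ a) ≫ f = α p ≫ g (idx p) := by rw [Category.assoc, hc p]
  have hcb : (μ p ≫ b) ≫ f = α p ≫ g (idx p) := by rw [Category.assoc, ← hab, hc p]
  let a' : M p ⟶ pullback f (g (idx p)) := pullback.lift (μ p ≫ a) (α p) hca
  let b' : M p ⟶ pullback f (g (idx p)) := pullback.lift (μ p ≫ b) (α p) hcb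
  have ha1 : a' ≫ pullback.fst f (g (idx p)) = μ p ≫ a := pullback.lift_fst _ _ _
  have ha2 : a' ≫ pullback.snd f (g (idx p)) = α p := pullback.lift_snd _ _ _
  have hb1 : b' ≫ pullback.fst f (g (idx p)) = μ p ≫ b := pullback.lift_fst _ _ _
  have hb2 : b' ≫ pullback.snd f (g (idx p)) = α p := pullback.lift_snd _ _ _
  have H : ∀ (T : ToposFin.Sh J) (t : T ⟶ M p),
      t ≫ (μ p ≫ a) = t ≫ (μ p ≫ b) ↔ t ≫ a' = t ≫ b' := by
    intro T t
    constructor
    · intro ht
      apply pullback.hom_ext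
      · rw [Category.assoc, Category.assoc, ha1, hb1, ht]
      · rw [Category.assoc, Category.assoc, ha2, hb2]
    · intro ht
      rw [← ha1, ← hb1, ← Category.assoc, ← Category.assoc, ht]
  exact IsQSHom.isQC_fork (h (idx p)) (hqc _ (hM p)) a' b' (by rw [ha2, hb2])
    (equalizer.ι (μ p ≫ a) (μ p ≫ b)) _
    (isLimitForkOfIff (μ p ≫ a) (μ p ≫ b) a' b' H _ _ (equalizerIsEqualizer _ _))

/-- a criterion for quasi-separatedness of an object in terms of a cover -/
theorem isQS_of_cover (hqc : ∀ K ∈ S, ToposFin.IsQC K) (hgen : ToposFin.IsGenerating S)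
    {X : ToposFin.Sh J} {ι : Type u} {Xi : ι → ToposFin.Sh J} (π : ∀ i, Xi i ⟶ X)
    (hπ : JointlyEpi π) (hXi : ∀ i, ToposFin.IsQS (Xi i))
    (hij : ∀ i j, ToposFin.IsQC (pullback (π i) (π j))) : ToposFin.IsQS X := by
  intro Y Z a b hY hZ
  obtain ⟨κ, _, M, μ, idx, α, hM, hμ, hc⟩ := exists_finite_cover_refining hgen hY a π hπ
  obtain ⟨κ', _, N, ν, idx', β, hN, hν, hc'⟩ := exists_finite_cover_refining hgen hZ b π hπ
  refine isQC_pullback_of_covers a b μ ν hμ hν (fun p q => ?_)
  refine isQC_of_iso (pullback.congrHom (hc p) (hc' q)).symm ?_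
  -- M ×_{X_i} (X_i ×_X X_j) ×_{X_j} N
  have h1 : ToposFin.IsQC (pullback (α p ≫ π (idx p)) (π (idx' q))) :=
    isQC_of_iso (pullbackRightPullbackFstIso (π (idx p)) (π (idx' q)) (α p))
      (hXi (idx p) _ _ (α p) (pullback.fst (π (idx p)) (π (idx' q))) (hqc _ (hM p)) (hij _ _))
  exact isQC_of_iso (pullbackLeftPullbackSndIso (α p ≫ π (idx p)) (π (idx' q)) (β q))
    (hXi (idx' q) _ _ (pullback.snd (α p ≫ π (idx p)) (π (idx' q))) (β q) h1 (hqc _ (hN q)))

end Generating

section Basic

/-- the source of a quasi-separated morphism with quasi-separated target is quasi-separated -/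
theorem isQS_of_isQSHom {X Y : ToposFin.Sh J} {f : X ⟶ Y} (hf : ToposFin.IsQSHom f)
    (hY : ToposFin.IsQS Y) : ToposFin.IsQS X := by
  intro A B α β hA hB
  exact IsQCHom.isQC_of_isPullback hf (pullback_map_diagonal_isPullback α β f)
    (hY A B (α ≫ f) (β ≫ f) hA hB)

/-- a morphism from a quasi-compact object to a quasi-separated object is quasi-compact -/
theorem isQCHom_of_isQC_of_isQS {X Y : ToposFin.Sh J} (f : X ⟶ Y) (hX : ToposFin.IsQC X)
    (hY : ToposFin.IsQS Y) : ToposFin.IsQCHom f :=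
  fun Z g hZ => hY X Z f g hX hZ

/-- the source of a quasi-compact morphism with quasi-compact target is quasi-compact -/
theorem isQC_of_isQCHom {X Y : ToposFin.Sh J} {f : X ⟶ Y} (hf : ToposFin.IsQCHom f)
    (hY : ToposFin.IsQC Y) : ToposFin.IsQC X :=
  IsQCHom.isQC_of_isPullback hf (IsPullback.id_horiz f) hY

/-- in an algebraic topos, a morphism with quasi-separated source is quasi-separated -/
theorem isQSHom_of_isQS {S : Set (ToposFin.Sh J)} (hqc : ∀ K ∈ S, ToposFin.IsQC K)
    (hgen : ToposFin.IsGenerating S) (heq : ToposFin.ClosedUnderEqualizers S)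
    {X Y : ToposFin.Sh J} (f : X ⟶ Y) (hX : ToposFin.IsQS X) : ToposFin.IsQSHom f := by
  apply isQSHom_of_generating hgen
  intro K hK a b _
  exact isQC_of_isLimit_fork hqc hgen heq (hqc K hK) hX a b _ _ (equalizerIsEqualizer a b)

/-- a topos with enough quasi-compact objects, in terms of generating sets -/
theorem isGenerating_of_hasQCGenerators (h : ToposFin.HasQCGenerators J) :
    ToposFin.IsGenerating {K : ToposFin.Sh J | ToposFin.IsQC K} := by
  intro X
  obtain ⟨ι, F, π, hF, hπ⟩ := h X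
  exact ⟨ι, F, π, hF, (epi_sigmaDesc_iff π).mp hπ⟩

end Basic

end Groth.Agent.Lib.Helper28
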