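import Groth.Agent.Lib.Helper28.EpsSite

/-!
# Finiteness conditions in a topos of sheaves: further glue lemmas (helper28)
-/

set_option autoImplicit false
open CategoryTheory CategoryTheory.Limits Opposite
universe u

namespace Groth.Agent.Lib.Helper28

variable {C : Type u} [SmallCategory C] {J : GrothendieckTopology C}

/-- finite covers indexed by a finite type in any universe -/
theorem isQC_of_finite_cover' {P : ToposFin.Sh J} {κ : Type*} [Finite κ] {Q : κ → ToposFin.Sh J}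
    (q : ∀ k, Q k ⟶ P) (hq : JointlyEpi q) (hQ : ∀ k, ToposFin.IsQC (Q k)) : ToposFin.IsQC P := by
  obtain ⟨n, ⟨e⟩⟩ := Finite.exists_equiv_fin κ
  refine isQC_of_finite_cover (κ := ULift.{u} (Fin n)) (fun k => q (e.symm k.down)) ?_
    (fun k => hQ _)
  intro Z a b hab
  apply hq
  intro k
  obtain ⟨k', rfl⟩ : ∃ k', e.symm k' = k := ⟨e k, e.symm_apply_apply k⟩
  exact hab ⟨k'⟩

/-- a generating family of objects gives a generating set -/
theorem isGenerating_range {α : Type u} (G : α → ToposFin.Sh J)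
    (hgen : ∀ X : ToposFin.Sh J, ∃ (ι : Type u) (a : ι → α) (π : ∀ i, G (a i) ⟶ X),
      Epi (Sigma.desc π)) : ToposFin.IsGenerating (Set.range G) := by
  intro X
  obtain ⟨ι, a, π, hπ⟩ := hgen X
  exact ⟨ι, fun i => G (a i), π, fun i => ⟨a i, rfl⟩, (epi_sigmaDesc_iff π).mp hπ⟩

/-- cancellation for quasi-compact morphisms -/
theorem isQCHom_of_comp {X Y Z : ToposFin.Sh J} (f : X ⟶ Y) (g : Y ⟶ Z)
    (hg : ToposFin.IsQSHom g) (h : ToposFin.IsQCHom (f ≫ g)) : ToposFin.IsQCHom f := by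
  have hQ : qsHom J ≤ (qcHom J).diagonal := le_of_eq qsHom_eq_diagonal
  have := (MorphismProperty.hasOfPostcompProperty_iff_le_diagonal (P := qcHom J)
    (Q := qsHom J)).mpr hQ
  exact this.of_postcomp f g hg h

/-- a morphism is quasi-compact as soon as its composites with a finite jointly epimorphic family
are -/
theorem isQCHom_of_finite_jointlyEpi_comp {Y Z : ToposFin.Sh J} (g : Y ⟶ Z) {κ : Type*}
    [Finite κ] {X : κ → ToposFin.Sh J} (f : ∀ k, X k ⟶ Y) (hf : JointlyEpi f)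
    (h : ∀ k, ToposFin.IsQCHom (f k ≫ g)) : ToposFin.IsQCHom g := by
  obtain ⟨n, ⟨e⟩⟩ := Finite.exists_equiv_fin κ
  intro W w hW
  have hf' : JointlyEpi (fun k : ULift.{u} (Fin n) => f (e.symm k.down)) := by
    intro T a b hab
    apply hf
    intro k
    obtain ⟨k', rfl⟩ : ∃ k', e.symm k' = k := ⟨e k, e.symm_apply_apply k⟩
    exact hab ⟨k'⟩
  refine isQC_of_finite_cover _ (hf'.pullback_snd (pullback.fst g w)) (fun k => ?_)
  -- X_k ×_Y (Y ×_Z W) ≅ X_k ×_Z W
  exact isQC_of_iso (pullbackRightPullbackFstIso g w (f (e.symm k.down))).symm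
    (h (e.symm k.down) W w hW)

/-- an object all of whose pairs of morphisms to any object agree is initial -/
theorem nonempty_iso_initial_of_subsingleton_hom {X : ToposFin.Sh J}
    (h : ∀ (Z : ToposFin.Sh J) (a b : X ⟶ Z), a = b) : Nonempty (X ≅ ⊥_ (ToposFin.Sh J)) := by
  have h1 : (coprod.inl : X ⟶ X ⨿ X) = coprod.inr := h _ _ _
  have hvk : IsVanKampenColimit (BinaryCofan.mk (coprod.inl : X ⟶ X ⨿ X) coprod.inr) :=
    FinitaryExtensive.vanKampen _ (coprodIsCoprod X X)
  have hpb := BinaryCofan.isPullback_initial_to_of_isVanKampen hvk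
  have : (𝟙 X) ≫ (coprod.inl : X ⟶ X ⨿ X) = (𝟙 X) ≫ coprod.inr := by rw [h1]
  let t : X ⟶ ⊥_ (ToposFin.Sh J) := hpb.lift (𝟙 X) (𝟙 X) this
  haveI : IsIso t := initialIsInitial.isIso_to t
  exact ⟨asIso t⟩

end Groth.Agent.Lib.Helper28
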