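import Groth.Agent.Lib.Helper28.ToposFin5

/-!
# Finiteness conditions in a topos of sheaves: equalizer tricks, coproducts (helper28)
-/

set_option autoImplicit false
open CategoryTheory CategoryTheory.Limits Opposite
universe u

namespace Groth.Agent.Lib.Helper28

variable {C : Type u} [SmallCategory C] {J : GrothendieckTopology C}

/-- an equalizer is quasi-compact as soon as its inclusion factors through a quasi-compact object
mapping to the source by a map equalizing the two arrows -/
theorem isQC_equalizer_of_factor {K X E' : ToposFin.Sh J} (a b : K ⟶ X) (hE' : ToposFin.IsQC E')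
    (t : E' ⟶ K) (ht : t ≫ a = t ≫ b) (s : equalizer a b ⟶ E')
    (hs : s ≫ t = equalizer.ι a b) : ToposFin.IsQC (equalizer a b) := by
  let t' : E' ⟶ equalizer a b := equalizer.lift t ht
  have hst : s ≫ t' = 𝟙 _ := by
    apply equalizer.hom_ext
    rw [Category.assoc, equalizer.lift_ι, hs, Category.id_comp]
  haveI : IsSplitEpi t' := IsSplitEpi.mk' ⟨s, hst⟩
  exact isQC_of_epi t' hE'

/-- a finite cover of the source of an equalizer induces a finite cover of the equalizer -/
theorem isQC_equalizer_of_cover {K X : ToposFin.Sh J} (a b : K ⟶ X) {κ : Type u} [Finite κ]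
    {M : κ → ToposFin.Sh J} (μ : ∀ p, M p ⟶ K) (hμ : JointlyEpi μ)
    (h : ∀ p, ToposFin.IsQC (equalizer (μ p ≫ a) (μ p ≫ b))) : ToposFin.IsQC (equalizer a b) := by
  choose t ht using fun p => exists_fork_map (μ p) a b (equalizer.ι a b)
    (equalizer.condition a b) (equalizerIsEqualizer a b)
    (equalizer.ι (μ p ≫ a) (μ p ≫ b)) (equalizer.condition _ _)
  have hsq : ∀ p, IsPullback (equalizer.ι (μ p ≫ a) (μ p ≫ b)) (t p) (μ p) (equalizer.ι a b) :=
    fun p => isPullback_fork_of_comp (μ p) a b _ _ (equalizerIsEqualizer a b) _ _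
      (equalizerIsEqualizer _ _) (t p) (ht p)
  exact isQC_of_finite_cover t (hμ.of_isPullback (equalizer.ι a b) _ t hsq) h

/-- if the composites of `g` with a jointly epimorphic family of quasi-compact morphisms are
quasi-separated, then `g` is quasi-separated -/
theorem isQSHom_of_jointlyEpi_comp {S : Set (ToposFin.Sh J)} (hqc : ∀ K ∈ S, ToposFin.IsQC K)
    (hgen : ToposFin.IsGenerating S) {Y Z : ToposFin.Sh J} (g : Y ⟶ Z) {ι : Type u}
    {X : ι → ToposFin.Sh J} (f : ∀ i, X i ⟶ Y) (hf : JointlyEpi f)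
    (hfqc : ∀ i, ToposFin.IsQCHom (f i)) (h : ∀ i, ToposFin.IsQSHom (f i ≫ g)) :
    ToposFin.IsQSHom g := by
  apply isQSHom_of_generating hgen
  intro K hK a b hab
  have hKqc := hqc K hK
  -- cover K by the K_i = X_i ×_Y K
  obtain ⟨s, hs⟩ := (isQC_iff K).mp hKqc ι _ _ (hf.pullback_snd a)
  refine isQC_equalizer_of_cover a b (fun i : s => pullback.snd (f i) a) hs (fun i => ?_)
  have hKi : ToposFin.IsQC (pullback (f i) a) := hfqc i K a hKqc
  -- W' = K_i ×_Y X_i via (σ b, f_i)
  have hW' : ToposFin.IsQC (pullback (f i) (pullback.snd (f i) a ≫ b)) :=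
    hfqc i _ _ hKi
  let u : pullback (f i) (pullback.snd (f i) a ≫ b) ⟶ X i :=
    pullback.snd (f i) (pullback.snd (f i) a ≫ b) ≫ pullback.fst (f i) a
  let v : pullback (f i) (pullback.snd (f i) a ≫ b) ⟶ X i :=
    pullback.fst (f i) (pullback.snd (f i) a ≫ b)
  have huv : u ≫ (f i ≫ g) = v ≫ (f i ≫ g) := by
    change (pullback.snd (f i) (pullback.snd (f i) a ≫ b) ≫ pullback.fst (f i) a) ≫ f i ≫ g =
      pullback.fst (f i) (pullback.snd (f i) a ≫ b) ≫ f i ≫ g
    rw [Category.assoc, pullback.condition_assoc, hab, ← Category.assoc (pullback.fst _ _),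
      pullback.condition, Category.assoc, Category.assoc]
  have hEuv : ToposFin.IsQC (equalizer u v) :=
    IsQSHom.isQC_fork (h i) hW' u v huv _ _ (equalizerIsEqualizer u v)
  -- t : Eq(u, v) → K_i
  have ht : (equalizer.ι u v ≫ pullback.snd (f i) (pullback.snd (f i) a ≫ b)) ≫
      (pullback.snd (f i) a ≫ a) =
      (equalizer.ι u v ≫ pullback.snd (f i) (pullback.snd (f i) a ≫ b)) ≫
      (pullback.snd (f i) a ≫ b) := by
    have h1 := equalizer.condition u v
    change equalizer.ι u v ≫ (pullback.snd (f i) (pullback.snd (f i) a ≫ b) ≫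
      pullback.fst (f i) a) = equalizer.ι u v ≫ pullback.fst (f i) (pullback.snd (f i) a ≫ b)
      at h1
    rw [Category.assoc, Category.assoc, ← pullback.condition (f := f i) (g := a),
      ← pullback.condition (f := f i) (g := pullback.snd (f i) a ≫ b), ← Category.assoc,
      ← Category.assoc, ← Category.assoc, ← h1]
    simp only [Category.assoc]
  -- s : Eq(σ a, σ b) → Eq(u, v)
  have hs1 : (equalizer.ι (pullback.snd (f i) a ≫ a) (pullback.snd (f i) a ≫ b) ≫
      pullback.fst (f i) a) ≫ f i =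
      equalizer.ι (pullback.snd (f i) a ≫ a) (pullback.snd (f i) a ≫ b) ≫
      (pullback.snd (f i) a ≫ b) := by
    rw [Category.assoc, pullback.condition, equalizer.condition]
  let s0 : equalizer (pullback.snd (f i) a ≫ a) (pullback.snd (f i) a ≫ b) ⟶
      pullback (f i) (pullback.snd (f i) a ≫ b) :=
    pullback.lift (equalizer.ι _ _ ≫ pullback.fst (f i) a) (equalizer.ι _ _) hs1
  have hs01 : s0 ≫ pullback.fst (f i) (pullback.snd (f i) a ≫ b) =
      equalizer.ι _ _ ≫ pullback.fst (f i) a := pullback.lift_fst _ _ _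
  have hs02 : s0 ≫ pullback.snd (f i) (pullback.snd (f i) a ≫ b) = equalizer.ι _ _ :=
    pullback.lift_snd _ _ _
  have hs0 : s0 ≫ u = s0 ≫ v := by
    change s0 ≫ (pullback.snd (f i) (pullback.snd (f i) a ≫ b) ≫ pullback.fst (f i) a) =
      s0 ≫ pullback.fst (f i) (pullback.snd (f i) a ≫ b)
    rw [← Category.assoc, hs02, hs01]
  refine isQC_equalizer_of_factor _ _ hEuv
    (equalizer.ι u v ≫ pullback.snd (f i) (pullback.snd (f i) a ≫ b)) ht
    (equalizer.lift s0 hs0) ?_
  rw [← Category.assoc, equalizer.lift_ι, hs02]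

end Groth.Agent.Lib.Helper28
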