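import Groth.Agent.Lib.Helper28.ToposFin6

/-!
# Finiteness conditions in a topos of sheaves: coproducts (helper28)
-/

set_option autoImplicit false
open CategoryTheory CategoryTheory.Limits Opposite
universe u

namespace Groth.Agent.Lib.Helper28

variable {C : Type u} [SmallCategory C] {J : GrothendieckTopology C}

/-- objects lying over two distinct summands of a coproduct are initial -/
theorem nonempty_iso_initial_of_cofan_ne {ι : Type u} {X : ι → ToposFin.Sh J} (c : Cofan X)
    (hc : IsColimit c) {i j : ι} (hij : i ≠ j) {T : ToposFin.Sh J} (x : T ⟶ X i) (y : T ⟶ X j)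
    (h : x ≫ c.inj i = y ≫ c.inj j) : Nonempty (T ≅ ⊥_ (ToposFin.Sh J)) := by
  have hpb := isPullback_initial_to_of_cofan_isVanKampen
    (isVanKampenColimit_discrete_sheaf J c hc) ⟨i⟩ ⟨j⟩ (by simpa using hij)
  let t : T ⟶ ⊥_ (ToposFin.Sh J) := hpb.lift x y h
  haveI : IsIso t := initialIsInitial.isIso_to t
  exact ⟨asIso t⟩

theorem isQC_of_iso_initial {T : ToposFin.Sh J} (h : Nonempty (T ≅ ⊥_ (ToposFin.Sh J))) :
    ToposFin.IsQC T := by
  obtain ⟨e⟩ := h
  exact isQC_of_isInitial (IsInitial.ofIso initialIsInitial e.symm)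

theorem hom_ext_of_iso_initial {T Z : ToposFin.Sh J} (h : Nonempty (T ≅ ⊥_ (ToposFin.Sh J)))
    (a b : T ⟶ Z) : a = b := by
  obtain ⟨e⟩ := h
  exact (IsInitial.ofIso initialIsInitial e.symm).hom_ext a b

/-- fibre products over a summand -/
theorem isQC_pullback_comp_mono {A B F G : ToposFin.Sh J} (α : A ⟶ F) (β : B ⟶ F) (m : F ⟶ G)
    [Mono m] (h : ToposFin.IsQC (pullback α β)) : ToposFin.IsQC (pullback (α ≫ m) (β ≫ m)) := by
  have hpb : IsPullback (pullback.fst α β) (pullback.snd α β) (α ≫ m) (β ≫ m) :=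
    IsPullback.of_isLimit (pullbackIsPullbackOfCompMono α β m)
  exact isQC_of_iso hpb.isoPullback h

/-- the summands of a quasi-compact object over a coproduct are quasi-compact -/
theorem isQC_pullback_inj {ι : Type u} {X : ι → ToposFin.Sh J} (c : Cofan X) (hc : IsColimit c)
    {A : ToposFin.Sh J} (a : A ⟶ c.pt) (hA : ToposFin.IsQC A) (i : ι) :
    ToposFin.IsQC (pullback (c.inj i) a) := by
  obtain ⟨hcol⟩ := cofan_universal c hc
    (Cofan.mk A (fun i => pullback.snd (c.inj i) a)) (fun i => pullback.fst (c.inj i) a) a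
    (fun i => (IsPullback.of_hasPullback (c.inj i) a).flip)
  exact isQC_of_summand _ hcol hA i

/-- a coproduct of quasi-separated objects is quasi-separated -/
theorem isQS_of_isColimit_cofan {ι : Type u} {X : ι → ToposFin.Sh J} (c : Cofan X)
    (hc : IsColimit c) (hX : ∀ i, ToposFin.IsQS (X i)) : ToposFin.IsQS c.pt := by
  classical
  have key : ∀ (i j : ι) (A' B' : ToposFin.Sh J) (α : A' ⟶ X i) (β : B' ⟶ X j),
      ToposFin.IsQC A' → ToposFin.IsQC B' →
      ToposFin.IsQC (pullback (α ≫ c.inj i) (β ≫ c.inj j)) := by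
    intro i j A' B' α β hA' hB'
    by_cases hij : i = j
    · subst hij
      haveI := mono_cofan_inj c hc i
      exact isQC_pullback_comp_mono α β (c.inj i) (hX i _ _ α β hA' hB')
    · apply isQC_of_iso_initial
      refine nonempty_iso_initial_of_cofan_ne c hc hij
        (pullback.fst (α ≫ c.inj i) (β ≫ c.inj j) ≫ α)
        (pullback.snd (α ≫ c.inj i) (β ≫ c.inj j) ≫ β) ?_
      rw [Category.assoc, Category.assoc, pullback.condition]
  intro A B a b hA hB
  have hcA := (JointlyEpi.of_isColimit c hc).pullback_snd a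
  have hcB := (JointlyEpi.of_isColimit c hc).pullback_snd b
  obtain ⟨s, hs⟩ := (isQC_iff A).mp hA ι _ _ hcA
  obtain ⟨s', hs'⟩ := (isQC_iff B).mp hB ι _ _ hcB
  refine isQC_pullback_of_covers a b (fun i : s => pullback.snd (c.inj i) a)
    (fun j : s' => pullback.snd (c.inj j) b) hs hs' (fun i j => ?_)
  refine isQC_of_iso (pullback.congrHom pullback.condition pullback.condition) ?_
  exact key i j _ _ _ _ (isQC_pullback_inj c hc a hA i) (isQC_pullback_inj c hc b hB j)

end Groth.Agent.Lib.Helper28
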