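import Groth.Agent.Lib.Helper79.TorCritC

/-!
# Tor amplitude of `C ⊗_B P` over `A` for `A → B → C` (helper28)
-/

set_option autoImplicit false
set_option linter.style.haveILetI false
universe u
open CategoryTheory CategoryTheory.Limits MonoidalCategory

namespace Groth.Agent.Lib.Helper28.TorAmpBC

open Groth.Agent.Lib.Helper28 Groth.Agent.Lib.Helper28.TensCx
open Groth.Agent.Lib.Helper6 Groth.Agent.Lib.Helper32 Groth.Agent.Lib.Helper26.KProjQ
open Groth.Agent.Helper19.KFlatExt Groth.Agent.Lib.Helper79.TorCrit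
open DerivedCategory

attribute [local instance] HasDerivedCategory.standard

section

variable {R R' : Type u} [CommRing R] [CommRing R'] (φ : R →+* R')

/-- helper19's comparison map, as an isomorphism of complexes:
`L|_R ⊗_R K ≅ (L ⊗_{R'} (R' ⊗_R K))|_R`. -/
noncomputable def θIso (L : DRing.Cx R') (K : DRing.Cx R) :
    resCx φ L ⊗ K ≅ resCx φ (L ⊗ extCx φ K) :=
  HomologicalComplex.Hom.isoOfComponents
    (fun n => (LinearEquiv.ofBijective (θ φ L K n).hom
      ⟨θ_injective φ L K n, fun z => θ_surjective φ L K n z⟩).toModuleIso)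
    (fun n n' (h : n + 1 = n') => by
      apply ModuleCat.hom_ext
      exact congrArg ModuleCat.Hom.hom (θ_d φ L K n n' h))

end

section

variable {A B C : Type u} [CommRing A] [CommRing B] [CommRing C] (ψ : A →+* B) (φ : B →+* C)

/-- `C`, as a complex of `B`-modules placed in degree `0`. -/
noncomputable abbrev unitRes : DRing.Cx B := resCx φ (𝟙_ (DRing.Cx C))

/-- `(C ⊗_B P)|_B ≅ C|_B ⊗_B P`. -/
noncomputable def resExtIso (P : DRing.Cx B) : resCx φ (extCx φ P) ≅ unitRes φ ⊗ P :=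
  ((ModuleCat.restrictScalars φ).mapHomologicalComplex (ComplexShape.up ℤ)).mapIso
      (λ_ (extCx φ P)).symm ≪≫ (θIso φ (𝟙_ (DRing.Cx C)) P).symm

/-- **tor amplitude of `C ⊗_B P` over `A`**, for `A → B → C`, `P` a K-flat complex of `B`-modules of
tor amplitude in `[c, d]` over `A`, and `C` of tor amplitude in `[a, b]` over `B`. -/
theorem TAmp_res_res_ext (P : DRing.Cx B) (hP : KFlat P) (a b c d : ℤ)
    (hC : DRing.HasTorAmplitudeIn B a b (DRing.toD (unitRes φ)))
    (hL : DRing.HasTorAmplitudeIn A c d (DRing.toD (resCx ψ P))) :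
    DRing.HasTorAmplitudeIn A (a + c) (b + d)
      (DRing.toD (resCx ψ (resCx φ (extCx φ P)))) := by
  obtain ⟨E, hv, hfl, ⟨e⟩⟩ := hC
  obtain ⟨P', g, hP', hg⟩ := LBC.hasKProjRes B E
  haveI := hP'
  haveI := hg
  haveI : IsIso (DerivedCategory.Q.map g) := by rw [isIso_Q_map_iff_quasiIso]; infer_instance
  obtain ⟨w, hw, -⟩ := LTCx.exists_quasiIso_of_iso P' (unitRes φ)
    (asIso (DerivedCategory.Q.map g) ≪≫ e)
  haveI := hw
  haveI : QuasiIso (w ▷ P) := quasiIso_whiskerRight_of_kflat w P hP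
  haveI : QuasiIso (g ▷ P) := quasiIso_whiskerRight_of_kflat g P hP
  haveI : IsIso (DerivedCategory.Q.map (w ▷ P)) := by
    rw [isIso_Q_map_iff_quasiIso]; infer_instance
  haveI : IsIso (DerivedCategory.Q.map (g ▷ P)) := by
    rw [isIso_Q_map_iff_quasiIso]; infer_instance
  let i1 : DRing.toD (unitRes φ ⊗ P) ≅ DRing.toD (E ⊗ P) :=
    (asIso (DerivedCategory.Q.map (w ▷ P))).symm ≪≫ asIso (DerivedCategory.Q.map (g ▷ P))
  let i2 : DRing.toD (resCx φ (extCx φ P)) ≅ DRing.toD (E ⊗ P) :=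
    DerivedCategory.Q.mapIso (resExtIso φ P) ≪≫ i1
  have h := TAmp_res_tensor ψ E P a b c d hv hfl hL
  let i3 : DRing.toD (resCx ψ (E ⊗ P)) ≅ DRing.toD (resCx ψ (resCx φ (extCx φ P))) :=
    ((ModuleCat.restrictScalars.{u} ψ).mapDerivedCategoryFactors.app (E ⊗ P)).symm ≪≫
      (DRing.restrictD ψ).mapIso i2.symm ≪≫
      (ModuleCat.restrictScalars.{u} ψ).mapDerivedCategoryFactors.app (resCx φ (extCx φ P))
  exact Groth.Agent.Lib.Helper35.TA.TAmp.of_iso h i3

end

end Groth.Agent.Lib.Helper28.TorAmpBC
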