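import Groth.Agent.Lib.Helper28.TorAmpBC
import Groth.Agent.Lib.Helper28.BiKFlatSymm

/-!
# Tor amplitude of `N ⊗_B P` over `A`, and the symmetry of the tensor product of complexes (helper28)
-/

set_option autoImplicit false
set_option linter.style.haveILetI false
universe u
open CategoryTheory CategoryTheory.Limits MonoidalCategory

namespace Groth.Agent.Lib.Helper28.TorAmpBC

open Groth.Agent.Lib.Helper28 Groth.Agent.Lib.Helper28.TensCx
open Groth.Agent.Lib.Helper6 Groth.Agent.Lib.Helper32 Groth.Agent.Lib.Helper26.KProjQ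
open Groth.Agent.Helper19.KFlatExt Groth.Agent.Lib.Helper79.TorCrit
open DerivedCategory

attribute [local instance] HasDerivedCategory.standard

/-- the symmetry of the tensor product of complexes of modules. -/
noncomputable def braidCx {R : Type u} [CommRing R] (K L : DRing.Cx R) : K ⊗ L ≅ L ⊗ K :=
  BiK.mapBifunctorNatIso (curriedTensor (ModuleCat.{u} R)) (curriedTensor (ModuleCat.{u} R)).flip
      (BraidedCategory.curriedBraidingNatIso (ModuleCat.{u} R)) K L (ComplexShape.up ℤ) ≪≫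
    HomologicalComplex.mapBifunctorFlipIso L K (curriedTensor (ModuleCat.{u} R))
      (ComplexShape.up ℤ)

variable {A B : Type u} [CommRing A] [CommRing B] (ψ : A →+* B)

/-- **tor amplitude of `N ⊗_B P` over `A`**, for `N` of tor amplitude in `[a, b]` over `B` and `P` a
K-flat complex of `B`-modules of tor amplitude in `[c, d]` over `A`. -/
theorem TAmp_res_tensor_kflat (N P : DRing.Cx B) (hP : KFlat P) (a b c d : ℤ)
    (hN : DRing.HasTorAmplitudeIn B a b (DRing.toD N))
    (hL : DRing.HasTorAmplitudeIn A c d (DRing.toD (resCx ψ P))) :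
    DRing.HasTorAmplitudeIn A (a + c) (b + d) (DRing.toD (resCx ψ (N ⊗ P))) := by
  obtain ⟨E, hv, hfl, ⟨e⟩⟩ := hN
  obtain ⟨P', g, hP', hg⟩ := LBC.hasKProjRes B E
  haveI := hP'
  haveI := hg
  haveI : IsIso (DerivedCategory.Q.map g) := by rw [isIso_Q_map_iff_quasiIso]; infer_instance
  obtain ⟨w, hw, -⟩ := LTCx.exists_quasiIso_of_iso P' N (asIso (DerivedCategory.Q.map g) ≪≫ e)
  haveI := hw
  haveI : QuasiIso (w ▷ P) := quasiIso_whiskerRight_of_kflat w P hP
  haveI : QuasiIso (g ▷ P) := quasiIso_whiskerRight_of_kflat g P hP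
  haveI : IsIso (DerivedCategory.Q.map (w ▷ P)) := by
    rw [isIso_Q_map_iff_quasiIso]; infer_instance
  haveI : IsIso (DerivedCategory.Q.map (g ▷ P)) := by
    rw [isIso_Q_map_iff_quasiIso]; infer_instance
  let i1 : DRing.toD (N ⊗ P) ≅ DRing.toD (E ⊗ P) :=
    (asIso (DerivedCategory.Q.map (w ▷ P))).symm ≪≫ asIso (DerivedCategory.Q.map (g ▷ P))
  have h := TAmp_res_tensor ψ E P a b c d hv hfl hL
  let i3 : DRing.toD (resCx ψ (E ⊗ P)) ≅ DRing.toD (resCx ψ (N ⊗ P)) :=
    ((ModuleCat.restrictScalars.{u} ψ).mapDerivedCategoryFactors.app (E ⊗ P)).symm ≪≫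
      (DRing.restrictD ψ).mapIso i1.symm ≪≫
      (ModuleCat.restrictScalars.{u} ψ).mapDerivedCategoryFactors.app (N ⊗ P)
  exact Groth.Agent.Lib.Helper35.TA.TAmp.of_iso h i3

variable {C : Type u} [CommRing C] (φ : B →+* C)

/-- `((C ⊗_B P) ⊗_C L)|_B ≅ L|_B ⊗_B P`. -/
noncomputable def resExtTensorIso (P : DRing.Cx B) (L : DRing.Cx C) :
    resCx φ (extCx φ P ⊗ L) ≅ resCx φ L ⊗ P :=
  ((ModuleCat.restrictScalars φ).mapHomologicalComplex (ComplexShape.up ℤ)).mapIso
      (braidCx (extCx φ P) L) ≪≫ (θIso φ L P).symm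

end Groth.Agent.Lib.Helper28.TorAmpBC
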